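import Cfsg.Agent.INV.H3.Def2
import Cfsg.Agent.S1347
import Cfsg.Agent.SIG.FStar
import Cfsg.Agent.SIG.Std

/-! S3140: the first reduction. -/

set_option autoImplicit false
set_option linter.unusedSectionVars false
open Subgroup

namespace CL.H3
open CL.HL
variable {G : Type*} [Group G] [Finite G]

namespace Red0
open Cfsg CL.MSS
variable {A : Subgroup G}

theorem ord2 {t : G} (t2 : t * t = 1) (t1 : t ≠ 1) : orderOf t = 2 :=
  orderOf_eq_prime ((sq _).trans t2) t1

theorem ex_inv {X : Subgroup G} (h : 2 ∣ Nat.card X) : ∃ t ∈ X, t * t = 1 ∧ t ≠ 1 := by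
  obtain ⟨t, ht⟩ := exists_prime_orderOf_dvd_card' 2 h
  refine ⟨t, t.2, by rw [← coe_mul, ← sq, ← ht, pow_orderOf_eq_one]; rfl, fun k => ?_⟩
  rw [OneMemClass.coe_eq_one.1 k, orderOf_one] at ht
  exact absurd ht (by decide)

theorem tight (hA : IsStandardSubgroup A) {t g : G} (ht : t ∈ centralizer (A : Set G))
    (t2 : t * t = 1) (t1 : t ≠ 1) (hg : g * t * g⁻¹ ∈ centralizer (A : Set G)) :
    g ∈ normalizer (A : Set G) := by
  rw [hA.2.2.2]
  by_contra n
  refine (hA.2.1.2 g n).not_two_dvd_nat ?_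
  rw [← ord2 t2 t1, ← (MulAut.conj g).orderOf_eq t]
  exact orderOf_dvd_natCard _ (mem_inf.2 ⟨hg, t, ht, rfl⟩)

theorem ncm (hA : IsStandardSubgroup A) (g : G) :
    ¬ ∀ l ∈ A, g * l * g⁻¹ ∈ centralizer (A : Set G) := by
  intro h
  have h1 : g •ᶜ A ≤ centralizer (A : Set G) := cj_le_iff_forall.2 h
  refine hA.2.2.1 g (fun e => ?_)
    (by rw [Subgroup.commutator_comm]; exact commutator_eq_bot_iff_le_centralizer.2 h1)
  have h2 : A ≤ centralizer (A : Set G) := e.ge.trans h1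
  exact hA.1.not_isMulCommutative ⟨⟨fun a b => Subtype.ext (h2 b.2 a a.2)⟩⟩

theorem std_of (hq : IsQuasisimple A) {t : G} (ht : t ∈ centralizer (A : Set G)) (t2 : t * t = 1)
    (t1 : t ≠ 1) (ti : ∀ t ∈ centralizer (A : Set G), t * t = 1 → t ≠ 1 → ∀ g,
      g * t * g⁻¹ ∈ centralizer (A : Set G) → g ∈ normalizer (A : Set G))
    (nc : ∀ g : G, ¬ ∀ l ∈ A, g * l * g⁻¹ ∈ centralizer (A : Set G)) : IsStandardSubgroup A := by
  refine ⟨hq, ⟨even_iff_two_dvd.2 (ord2 t2 t1 ▸ Subgroup.orderOf_dvd_natCard _ ht), fun g hg => ?_⟩,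
    fun g _ e => nc g fun l hl => ?_, le_antisymm (normalizer_le_normalizer_centralizer _) fun g hg =>
      ti t ht t2 t1 g ((mem_normalizer_iff.1 hg t).1 ht)⟩
  · by_contra c
    obtain ⟨_, ⟨h1, s, hs, rfl⟩, s2, s1⟩ := ex_inv (even_iff_two_dvd.1 (Nat.not_odd_iff_even.1 c))
    refine hg (normalizer_le_normalizer_centralizer _
      (ti s hs ?_ (fun k => s1 (by rw [k, map_one])) g h1))
    rw [← map_mul] at s2
    exact (MulAut.conj g).injective (s2.trans (map_one _).symm)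
  · rw [Subgroup.commutator_comm, commutator_eq_bot_iff_le_centralizer] at e
    exact e (conj_mem_cj hl)

theorem std_sub (hA : IsStandardSubgroup A) {H : Subgroup G} (hH : A ≤ H) {t : G}
    (ht : t ∈ centralizer (A : Set G)) (htH : t ∈ H) (t2 : t * t = 1) (t1 : t ≠ 1) :
    IsStandardSubgroup (A.subgroupOf H) := by
  have hc : ∀ x : H, x ∈ centralizer (A.subgroupOf H : Set H) ↔
      (x : G) ∈ centralizer (A : Set G) := fun x =>
    ⟨fun h a ha => congrArg Subtype.val (h ⟨a, hH ha⟩ ha), fun h a ha => Subtype.ext (h a ha)⟩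
  refine std_of (hA.1.of_mulEquiv (subgroupOfEquivOfLe hH).symm) (t := ⟨t, htH⟩) ((hc _).2 ht)
    (Subtype.ext t2) (fun e => t1 (congrArg Subtype.val e)) (fun s hs s2 s1 g hg => ?_)
    fun g h => ncm hA g fun l hl => (hc _).1 (h ⟨l, hH hl⟩ hl)
  have := tight hA ((hc s).1 hs) (congrArg Subtype.val s2) (fun e => s1 (Subtype.ext e))
    (g := g) ((hc _).1 hg)
  exact mem_normalizer_iff.2 fun a => mem_normalizer_iff.1 this a

theorem cen_layer (hO : oddCore G = ⊥) (hA : IsStandardSubgroup A)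
    (hn : ¬ A.Normal) (hle : A ≤ layer G) : centralizer (layer G : Set G) = ⊥ := by
  have h1 : fittingSubgroup G = ⊥ := by
    by_contra h
    have h2 : IsPGroup 2 (fittingSubgroup G) := by
      rw [fittingSubgroup_eq_pCore (p := 2) hO]; exact isPGroup_pCore 2 G
    refine hn (normalizer_eq_top_iff.1 (eq_top_iff.2 fun g _ => hA.2.2.2 ▸
      CL.Std.mem_norm_of_even hA.2.1 (dvd_card_of_isPGroup_le h2 h le_rfl)
        (CL.Comp.fittingSubgroup_le_centralizer_layer.trans (centralizer_le hle)) ?_))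
    rw [normalizer_eq_top]; trivial
  have h3 := CL.Comp.centralizer_fstar_le_fitting (G := G)
  rwa [generalizedFittingSubgroup, h1, sup_bot_eq, le_bot_iff] at h3

omit [Finite G] in
theorem ne_prod {X Y : Subgroup G} (h1 : ∀ a ∈ X, ∀ b ∈ Y, a * b = b * a) (h2 : X ⊓ Y = ⊥) :
    Nonempty (↥(X ⊔ Y) ≃* X × Y) := by
  let f : X × Y →* G := X.subtype.noncommCoprod Y.subtype fun a b => h1 a a.2 b b.2
  have hf : Function.Injective f := by
    rw [injective_iff_map_eq_one]
    rintro ⟨a, b⟩ h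
    have h3 : (a : G) = (b : G)⁻¹ := eq_inv_of_mul_eq_one_left h
    have h4 : (a : G) = 1 := mem_bot.1 (h2 ▸ mem_inf.2 ⟨a.2, h3 ▸ inv_mem b.2⟩)
    exact Prod.ext (Subtype.ext h4) (Subtype.ext (inv_eq_one.1 (h3 ▸ h4)))
  refine ⟨(MulEquiv.subgroupCongr ?_).trans (MonoidHom.ofInjective hf).symm⟩
  refine le_antisymm (sup_le (fun a ha => ⟨(⟨a, ha⟩, 1), mul_one a⟩)
    fun b hb => ⟨(1, ⟨b, hb⟩), one_mul b⟩) ?_
  rintro _ ⟨⟨a, b⟩, rfl⟩
  exact mul_mem_sup a.2 b.2

theorem cases (hO : oddCore G = ⊥) (hA : IsStandardSubgroup A) (hn : ¬ A.Normal) {t : G}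
    (o : orderOf t = 2) (ht : t ∈ centralizer (A : Set G)) :
    normalClosure (A : Set G) = layer G ∧ generalizedFittingSubgroup G = layer G ∧
      centralizer (layer G : Set G) = ⊥ ∧
      ((Nonempty (layer G ≃* A × A) ∧ centralizer (A : Set G) = zpowers t) ∨
        IsSimpleGroup (layer G)) := by
  have := Comp.layer_normal (G := G)
  have l1 : normalClosure (A : Set G) ≤ layer G := by
    have := Comp.layerOf_le_layer (H := normalClosure (A : Set G)) normalClosure_normal.isSubnormal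
    rwa [Comp.layerOf_def, Std.layer_normalClosure hA o ht
      (fun a _ y hy => by rw [mem_bot.1 (hO.le hy)]; simp),
      ← MonoidHom.range_eq_map, range_subtype] at this
  have l2 : A ≤ layer G := le_normalClosure.trans l1
  have hC := cen_layer hO hA hn l2
  have hF : generalizedFittingSubgroup G = layer G :=
    Comp.fstar_eq_layer_of_fitting_eq_bot
      (eq_bot_iff.2 (Comp.fittingSubgroup_le_centralizer_layer.trans hC.le))
  rcases (Cfsg.Agent.S1347.result A hA hO t o ht).resolve_left hn with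
    ⟨X, hX, -, ⟨f⟩, h1, h2, h3, h4⟩ | ⟨-, h1, -⟩
  · obtain ⟨φ⟩ := ne_prod h1 h2
    refine ⟨le_antisymm l1 ?_, hF, hC, .inl ⟨⟨(MulEquiv.subgroupCongr h3.symm).trans (φ.trans
      (MulEquiv.prodCongr f (((MulAut.conj t).subgroupMap X).symm.trans f)))⟩, h4⟩⟩
    generalize hM : normalClosure (A : Set G) = M at l1
    have : M.Normal := hM ▸ normalClosure_normal
    have k : t •ᶜ M = M := cj_eq_of_normal t M
    rcases (inferInstance : (M.subgroupOf X).Normal).eq_bot_or_eq_top with e | e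
    · have nX : layer G ≤ normalizer (X : Set G) := h3 ▸ sup_le le_normalizer
        fun b hb => centralizer_le_normalizer _ fun a ha => h1 a ha b hb
      have c : M ≤ centralizer (X : Set G) := commutator_eq_bot_iff_le_centralizer.1 (eq_bot_iff.2
        ((le_inf (commutator_le_left M X) (commutator_le_right_of_normalizes (l1.trans nX))).trans
          (subgroupOf_eq_bot.1 e).le_bot))
      have c' : M ≤ centralizer ((t •ᶜ X : Subgroup G) : Set G) := by
        rw [← cj_centralizer, ← k]; exact cj_mono t c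
      have : M ≤ centralizer (layer G : Set G) := le_centralizer_iff.1
        (h3 ▸ sup_le (le_centralizer_iff.1 c) (le_centralizer_iff.1 c'))
      exact absurd (eq_bot_iff.2 ((le_normalClosure.trans hM.le).trans (this.trans hC.le)))
        hA.1.ne_bot
    · exact h3 ▸ sup_le (subgroupOf_eq_top.1 e) (k ▸ cj_mono t (subgroupOf_eq_top.1 e))
  · exact ⟨le_antisymm l1 (subgroupOf_eq_top.1
      (normalClosure_normal.subgroupOf _ |>.eq_bot_or_eq_top.resolve_left fun e => hA.1.ne_bot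
        (eq_bot_iff.2 ((le_inf le_normalClosure l2).trans (subgroupOf_eq_bot.1 e).le_bot)))),
      hF, hC, .inr h1⟩

end Red0

open Red0 in
/-- `K = C(L)` has even order; take an involution `t ∈ K` and apply `S1347`. -/
theorem red0 (hO : Cfsg.oddCore G = ⊥) (L : Subgroup G) (hL : Cfsg.IsStandardSubgroup L)
    {F : Type*} [Field F] [Fintype F] (hF3 : Fintype.card F = 3)
    (hLX : Nonempty (↥L ≃* Matrix.ProjectiveSpecialLinearGroup (Fin 3) F)) :
    L.Normal ∨ (normalClosure (L : Set G) = Cfsg.generalizedFittingSubgroup G ∧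
      ((∃ (G0 : Subgroup G) (Y : St G0), Nonempty (Cfsg.generalizedFittingSubgroup G ≃* Y.X)) ∨
        (Nonempty (↥(Cfsg.generalizedFittingSubgroup G) ≃* ↥L × ↥L) ∧
          ∃ u : G, orderOf u = 2 ∧ centralizer (L : Set G) = zpowers u))) := by
  by_cases hn : L.Normal
  · exact .inl hn
  right
  obtain ⟨t, ht, t2, t1⟩ := ex_inv hL.2.1.1.two_dvd
  obtain ⟨h1, h2, hC, h3⟩ := cases hO hL hn (ord2 t2 t1) ht
  rw [h2]
  refine ⟨h1, h3.elim (fun h => .inr ⟨h.1, t, ord2 t2 t1, h.2⟩) fun hs => .inl ?_⟩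
  obtain ⟨e0⟩ := hLX
  let e : SL33 ≃* L := (e0.trans ((Graph.pslCongr
    (ZMod.ringEquivOfPrime F Nat.prime_three hF3).symm).trans RA.psl)).symm
  have nE := Comp.layer_normal (G := G)
  have hE : Comp.layerOf (Cfsg.layer G ⊔ zpowers t) = Cfsg.layer G :=
    Comp.layerOf_eq_layer_of_fstar_le (h2.le.trans le_sup_left)
  have l2 : L ≤ Cfsg.layer G := h1 ▸ le_normalClosure
  generalize Cfsg.layer G = E at h1 hC hs nE hE l2 ⊢
  have EG : E ≤ E ⊔ zpowers t := le_sup_left
  have tG : t ∈ E ⊔ zpowers t := mem_sup_right (mem_zpowers t)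
  have hd : ∀ g ∈ E ⊔ zpowers t, g ∈ E ∨ g * t ∈ E := fun g hg => by
    have hg' : g ∈ ((E ⊔ zpowers t : Subgroup G) : Set G) := hg
    rw [normal_mul] at hg'
    obtain ⟨x, hx, y, hy, rfl⟩ := hg'
    rcases CL.SFM.mem_zpowers_of_mul_self t2 hy with rfl | rfl
    · exact .inl (by simpa using hx)
    · exact .inr (by simpa [mul_assoc, t2] using hx)
  generalize E ⊔ zpowers t = H at hE EG tG hd
  let φ : SL33 →* H := (inclusion (l2.trans EG)).comp e.toMonoidHom
  have hφ : φ.range = L.subgroupOf H := by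
    ext x
    refine ⟨?_, fun hx => ⟨e.symm ⟨x, hx⟩, Subtype.ext (by simp [φ])⟩⟩
    rintro ⟨y, rfl⟩
    exact (e y).2
  have i := (subgroupOfEquivOfLe EG).symm
  have hi : Function.Injective φ := (inclusion_injective (l2.trans EG)).comp e.injective
  refine ⟨H, ⟨φ, hi, hφ ▸ std_sub hL (l2.trans EG) ht tG t2 t1,
    fun h => hn ?_, ⟨t, tG⟩, by rw [orderOf_mk]; exact ord2 t2 t1,
    fun x => Subtype.ext (ht _ (e x).2).symm, E.subgroupOf H, inferInstance, i.isSimpleGroup_congr.1 hs,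
    by rw [← Comp.layerOf_subgroupOf, hE], fun g => hd g g.2, fun x => l2 (e x).2,
    fun g hg => Subtype.ext (mem_bot.1 (hC.le fun x hx =>
      (congrArg Subtype.val (hg ⟨x, EG hx⟩ hx).eq).symm))⟩, ⟨i⟩⟩
  rw [hφ] at h
  have h4 : (L.subgroupOf E).Normal := ⟨fun a ha g =>
    h.conj_mem ⟨a, EG a.2⟩ ha ⟨g, EG g.2⟩⟩
  rcases h4.eq_bot_or_eq_top with e | e
  · exact absurd ((subgroupOf_eq_bot.1 e).eq_bot_of_le l2) hL.1.ne_bot
  · exact le_antisymm l2 (subgroupOf_eq_top.1 e) ▸ nE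

end CL.H3
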