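import Mathlib

/-! S3140, case `PSp₆(3)`: the affine model of the action of `N(U)` on `t A / B ≅ B = 2³`. -/

set_option autoImplicit false

namespace CL.H3.CAm

/-- coordinates `s ^ i z ^ j d ^ k` -/
abbrev V3 := Bool × Bool × Bool

def ad (u v : V3) : V3 := (xor u.1 v.1, xor u.2.1 v.2.1, xor u.2.2 v.2.2)
def sm (b : Bool) (v : V3) : V3 := (b && v.1, b && v.2.1, b && v.2.2)
def o0 : V3 := (false, false, false)
def s0 : V3 := (true, false, false)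
def z0 : V3 := (false, true, false)
def d0 : V3 := (false, false, true)

/-- translation part and the images of `s, z, d` -/
structure Af where
  b : V3
  s : V3
  z : V3
  d : V3
  deriving DecidableEq

namespace Af
def L (x : Af) (v : V3) : V3 := ad (sm v.1 x.s) (ad (sm v.2.1 x.z) (sm v.2.2 x.d))
def mul (x y : Af) : Af := ⟨ad y.b (y.L x.b), y.L x.s, y.L x.z, y.L x.d⟩
def inj (x : Af) : Prop := ∀ v, x.L v = o0 → v = o0
instance (x : Af) : Decidable x.inj := by unfold inj; infer_instance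
def good (x : Af) : Prop :=
  (x.b = o0 → x.s = s0 ∧ x.z.1 = false ∧ x.d.1 = false) ∧ (x.s = s0 → x.z = z0 → x.d = d0 → x.b = o0)
instance (x : Af) : Decidable x.good := by unfold good; infer_instance
end Af

def oA : Af := ⟨o0, s0, z0, d0⟩
def eA : Af := ⟨o0, s0, z0, ad d0 z0⟩
def rA : Af := ⟨o0, s0, d0, ad d0 z0⟩
def wA : Af := ⟨z0, ad s0 z0, z0, d0⟩
def nA : Af := ⟨ad s0 z0, s0, z0, ad d0 s0⟩

/-- words in `x, g, e, ρ` -/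
def ev (x g : Af) : List (Fin 4) → Af
  | [] => oA
  | c :: l => (match c with | 0 => x | 1 => g | 2 => eA | 3 => rA).mul (ev x g l)

theorem ev_mem {H : Af → Prop} (h1 : H oA) (he : H eA) (hr : H rA) (hm : ∀ x y, H x → H y → H (x.mul y))
    {x g : Af} (hx : H x) (hg : H g) : ∀ l, H (ev x g l)
  | [] => h1
  | c :: l => hm _ _ (by fin_cases c <;> assumption) (ev_mem h1 he hr hm hx hg l)

def W1 : List (List (Fin 4)) := [[0], [0, 0], [0, 0, 2], [0, 2], [0, 3, 0], [0, 3, 0, 3, 0, 3], [0, 3, 0, 2, 3, 0, 3, 0], [0, 3, 0, 3, 0, 2, 3, 0], [0, 2, 3, 0, 3, 3, 0, 3]]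
def W2 : List (List (Fin 4)) := [[0, 0], [0, 1, 0, 1], [1, 0], [1, 0, 0, 1], [0, 0, 1], [0, 1, 0], [1, 3, 0], [0, 3, 1], [0, 0, 0], [1, 3, 3, 0], [0, 3, 3, 1], [0, 3, 3, 1, 3, 0], [0, 3, 1, 3, 3, 0], [0, 3, 1, 0], [0, 1, 3, 0], [0, 3, 1, 3, 0], [0, 1]]
def W3 : List (List (Fin 4)) := [[0, 0], [0, 0, 0], [0, 1, 0, 1], [1, 0], [1, 0, 1], [1, 0, 0], [0, 1, 0, 0, 0], [0, 3, 1], [0, 3, 3, 1], [0, 1, 0, 0], [0, 0, 0, 1], [1, 0, 0, 0], [0, 0, 1, 0], [1, 0, 0, 0, 3, 0], [0, 0, 0, 3, 0, 1], [0, 0, 3, 1]]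

set_option synthInstance.maxSize 2048 in
theorem f1 : ∀ b s z d : V3, eA.mul ⟨b, s, z, d⟩ = Af.mul ⟨b, s, z, d⟩ eA → Af.inj ⟨b, s, z, d⟩ → b ≠ o0 →
    (∀ l ∈ W1, (ev ⟨b, s, z, d⟩ oA l).good) → ⟨b, s, z, d⟩ = wA ∨ Af.mul ⟨b, s, z, d⟩ eA = wA ∨
      ⟨b, s, z, d⟩ = nA ∨ Af.mul ⟨b, s, z, d⟩ eA = nA := by decide +kernel

theorem f2 : ∀ b s z d : V3, Af.inj ⟨b, s, z, d⟩ → (∀ l ∈ W2, (ev ⟨b, s, z, d⟩ nA l).good) → s = s0 := by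
  decide +kernel

theorem f3 : ∀ b s z d : V3, Af.inj ⟨b, s, z, d⟩ → (∀ l ∈ W3, (ev ⟨b, s, z, d⟩ wA l).good) →
    b.1 = false ∧ z.1 = false ∧ d.1 = false := by
  decide +kernel

/-- linear parts fixing `s` and `z` -/
theorem f4 : ∀ b d : V3, Af.inj ⟨b, s0, z0, d⟩ → d = d0 ∨ (Af.mul ⟨b, s0, z0, d⟩ eA).d = d0 ∨
    (Af.mul ⟨b, s0, z0, d⟩ nA).d = d0 ∨ ((Af.mul ⟨b, s0, z0, d⟩ nA).mul eA).d = d0 := by
  decide +kernel

theorem f5 : ∀ b d : V3, Af.inj ⟨b, s0, z0, d⟩ → (Af.mul ⟨b, s0, z0, d⟩ ⟨b, s0, z0, d⟩).d = d0 := by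
  decide +kernel

end CL.H3.CAm
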