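import Cfsg.Agent.INV.H3.CA1
import Cfsg.Agent.INV.H3.CAm

/-! S3140, case `PSp₆(3)`: `N(U)` in the affine model.  `x ^ g = g⁻¹ * x * g`. -/

set_option autoImplicit false
open Subgroup

namespace CL.H3.CA2
open CL.HL CL.HL.Fr CL.HL.Cu CL.H3.CAm
variable {G : Type*} [Group G] {F : Fr G}

def mdv (v : V3) : Md := ⟨false, v.1, v.2.2, bif v.2.1 then 4 else 0⟩
/-- `s ^ i z ^ j d ^ k` -/
def emb (F : Fr G) (v : V3) : G := F.w (mdv v)

theorem emb_ad (h : F.s ≠ 1) (u v : V3) : emb F (ad u v) = emb F u * emb F v := by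
  rw [emb, emb, emb, F.wm2 h]; exact congrArg _ (by revert u v; decide)
theorem emb_inj (h : F.s ≠ 1) {u v : V3} (e : emb F u = emb F v) : u = v := by
  have := F.w_inj (F.ok2 h _) (F.ok2 h _) e
  clear e; revert u v; decide
theorem emb_o : emb F o0 = 1 := F.w_one
theorem emb_s : emb F s0 = F.s := F.w_s
theorem emb_z : emb F z0 = F.z := F.w_z
theorem emb_d : emb F d0 = F.d := F.w_d
theorem emb_B (h : F.s ≠ 1) (v : V3) : emb F v ∈ F.B := F.mem_B'.2 ⟨_, F.ok2 h _, by revert v; decide, rfl⟩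
theorem of_B {b : G} (hb : b ∈ F.B) : ∃ v, emb F v = b := by
  obtain ⟨x, -, hx, rfl⟩ := F.mem_B'.1 hb
  obtain ⟨v, rfl⟩ : ∃ v, mdv v = x := by clear hb; revert x; decide
  exact ⟨v, rfl⟩
theorem emb_V (h : F.s ≠ 1) {v : V3} : emb F v ∈ F.V ↔ v.1 = false := by
  refine ⟨fun hv => ?_, fun hv => F.mem_V'.2 ⟨_, F.ok2 h _, by revert v; decide, rfl⟩⟩
  obtain ⟨x, -, hx, e⟩ := F.mem_V'.1 hv
  rw [F.w_inj (F.ok2 h _) (F.ok2 h _) e] at hx
  exact hx.2.1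
theorem emb_sm (b : Bool) (v : V3) : emb F (sm b v) = bp b (emb F v) := by
  cases b
  · exact emb_o
  · rfl
theorem cj_bp (n g : G) (b : Bool) : n⁻¹ * bp b g * n = bp b (n⁻¹ * g * n) := by cases b <;> simp [bp]

variable {D : T8 F} (C : Cu D)

/-- `n ∈ N(U)` induces the affine map `x` -/
structure R (n : G) (x : Af) : Prop where
  nU : n ∈ normalizer (D.U : Set G)
  s : n⁻¹ * F.s * n = emb F x.s
  z : n⁻¹ * F.z * n = emb F x.z
  d : n⁻¹ * F.d * n = emb F x.d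
  t : ∃ a ∈ C.A, n⁻¹ * F.t * n = F.t * a ∧ a * a = emb F x.b

theorem R.ex {n : G} (hn : n ∈ normalizer (D.U : Set G)) : ∃ x, R C n x := by
  obtain ⟨s, hs⟩ := of_B (C.nB hn F.s_B)
  obtain ⟨z, hz⟩ := of_B (C.nB hn (F.V_B F.z_V))
  obtain ⟨d, hd⟩ := of_B (C.nB hn (F.V_B F.d_V))
  obtain ⟨a, ha, e⟩ := C.ntA hn (one_mem _)
  obtain ⟨b, hb⟩ := of_B (C.hs a ha)
  exact ⟨⟨b, s, z, d⟩, hn, hs.symm, hz.symm, hd.symm, a, ha, by rwa [mul_one] at e, hb.symm⟩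

theorem R.one {u : G} (hu : u ∈ D.U) : R C u oA := by
  refine ⟨le_normalizer hu, cj_fix (D.cB u hu _ F.s_B) |>.trans emb_s.symm,
    cj_fix (D.cB u hu _ (F.V_B F.z_V)) |>.trans emb_z.symm,
    cj_fix (D.cB u hu _ (F.V_B F.d_V)) |>.trans emb_d.symm, ?_⟩
  have k : ∀ a ∈ C.A, ∃ b ∈ C.A, a⁻¹ * F.t * a = F.t * b ∧ b * b = emb F oA.b := fun a ha =>
    ⟨a * a, mul_mem ha ha, by rw [C.it ha, mul_assoc], (bb (C.hs a ha)).trans emb_o.symm⟩
  rcases C.decU hu with h | ⟨a, ha, rfl⟩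
  · exact k u h
  · rw [show (F.t * a)⁻¹ * F.t * (F.t * a) = a⁻¹ * F.t * a by group]; exact k a ha

theorem R.e : R C F.e eA := by
  refine ⟨D.eU, (cj_fix F.se).trans emb_s.symm, (cj_fix F.ze).trans emb_z.symm, ?_, 1, one_mem _,
    by rw [cj_fix F.te, mul_one], (mul_one _).trans emb_o.symm⟩
  rw [F.e_inv, F.ede]; exact ((emb_ad D.two _ _).trans (by rw [emb_d, emb_z])).symm

theorem R.r : R C F.ρ rA := by
  refine ⟨D.ρU, (cj_fix F.sρ).trans emb_s.symm, F.zρ'.trans emb_d.symm, ?_, 1, one_mem _,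
    by rw [cj_fix F.tρ, mul_one], (mul_one _).trans emb_o.symm⟩
  rw [F.dρ']; exact ((emb_ad D.two _ _).trans (by rw [emb_d, emb_z])).symm

variable {C}

theorem R.cj {n : G} {x : Af} (h : R C n x) (v : V3) : n⁻¹ * emb F v * n = emb F (x.L v) := by
  have : v = ad (sm v.1 s0) (ad (sm v.2.1 z0) (sm v.2.2 d0)) := by revert v; decide
  conv_lhs => rw [this]
  simp only [Af.L, emb_ad D.two, cj_mul, emb_sm, cj_bp, emb_s, emb_z, emb_d, h.s, h.z, h.d]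

theorem R.mul {n m : G} {x y : Af} (h : R C n x) (k : R C m y) : R C (n * m) (x.mul y) := by
  have c : ∀ g, (n * m)⁻¹ * g * (n * m) = m⁻¹ * (n⁻¹ * g * n) * m := fun g => by group
  obtain ⟨a, ha, e1, e2⟩ := h.t
  obtain ⟨b, hb, e3, e4⟩ := k.t
  refine ⟨mul_mem h.nU k.nU, by rw [c, h.s, k.cj]; rfl, by rw [c, h.z, k.cj]; rfl, by rw [c, h.d, k.cj]; rfl,
    b * (m⁻¹ * a * m), mul_mem hb (C.nA k.nU ha), by rw [c, e1, cj_mul, e3, mul_assoc], ?_⟩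
  rw [C.sqm hb (C.nA k.nU ha), ← cj_mul, e2, e4, k.cj]; exact (emb_ad D.two _ _).symm

theorem R.inj {n : G} {x : Af} (h : R C n x) : x.inj := fun v e => by
  have := h.cj v
  rw [e, emb_o, cj_eq_one] at this
  exact emb_inj D.two (this.trans emb_o.symm)

theorem R.uniq {n : G} {x y : Af} (h : R C n x) (k : R C n y) : x = y := by
  obtain ⟨a, -, e1, e2⟩ := h.t
  obtain ⟨b, -, e3, e4⟩ := k.t
  obtain rfl : a = b := mul_left_cancel (e1.symm.trans e3)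
  have h1 := emb_inj D.two (e2.symm.trans e4)
  have h2 := emb_inj D.two (h.s.symm.trans k.s)
  have h3 := emb_inj D.two (h.z.symm.trans k.z)
  have h4 := emb_inj D.two (h.d.symm.trans k.d)
  cases x; cases y; simp_all

theorem R.cB {n : G} {x : Af} (h : R C n x) (hs : x.s = s0) (hz : x.z = z0) (hd : x.d = d0) :
    ∀ b ∈ F.B, Commute b n := fun b hb => by
  obtain ⟨v, rfl⟩ := of_B hb
  refine comm_of_fix ((h.cj v).trans (congrArg _ ?_))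
  rw [Af.L, hs, hz, hd]; clear hb; revert v; decide

theorem R.fs {n : G} {x : Af} (h : R C n x) (c : Commute F.s n) : x.s = s0 :=
  emb_inj D.two (h.s.symm.trans ((cj_fix c).trans emb_s.symm))

theorem R.fz {n : G} {x : Af} (h : R C n x) (c : Commute F.z n) : x.z = z0 :=
  emb_inj D.two (h.z.symm.trans ((cj_fix c).trans emb_z.symm))

variable [Finite G]

theorem R.st {n : G} {x : Af} (h : R C n x) (e : x.b = o0) :
    n ∈ normalizer (F.E : Set G) ∧ Commute F.s n ∧ ∀ v ∈ F.V, n⁻¹ * v * n ∈ F.V := by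
  obtain ⟨a, ha, e1, e2⟩ := h.t
  rw [e, emb_o] at e2
  exact CA1.stb C h.nU (C.invB ha e2) e1

theorem R.good {n : G} {x : Af} (h : R C n x) : x.good := by
  refine ⟨fun e => ?_, fun hs hz hd => ?_⟩
  · obtain ⟨-, h1, h2⟩ := h.st e
    exact ⟨h.fs h1, (emb_V D.two).1 (h.z ▸ h2 _ F.z_V), (emb_V D.two).1 (h.d ▸ h2 _ F.d_V)⟩
  · obtain ⟨u, hu, o, -, ho, rfl⟩ := CA1.cenB C h.nU (h.cB hs hz hd)
    obtain ⟨a, -, e1, e2⟩ := h.t
    obtain ⟨b, hb, e3, e4⟩ := (R.one C hu).t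
    rw [show (u * o)⁻¹ * F.t * (u * o) = o⁻¹ * (u⁻¹ * F.t * u) * o by group, e3,
      cj_fix (ho _ (mul_mem (D.EU F.t_E) (C.hU hb))), mul_right_inj] at e1
    exact emb_inj D.two (e2.symm.trans (e1 ▸ e4))

theorem R.gd {n m : G} {x y : Af} (h : R C n x) (k : R C m y) (l : List (Fin 4)) : (ev x y l).good := by
  obtain ⟨_, h⟩ := ev_mem (H := fun x => ∃ n, R C n x) ⟨_, R.one C (one_mem _)⟩ ⟨_, R.e C⟩ ⟨_, R.r C⟩
    (fun _ _ ⟨_, h⟩ ⟨_, k⟩ => ⟨_, h.mul k⟩) ⟨_, h⟩ ⟨_, k⟩ l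
  exact h.good

omit [Finite G] in
theorem nU_of [Finite G] {S P : Subgroup G} (hC : S ⊓ centralizer (F.B : Set G) = D.U) (PS : P ≤ S) (UP : D.U ≤ P)
    {x : G} (hx : x ∈ normalizer (P : Set G)) (hB : x ∈ normalizer (F.B : Set G)) :
    x ∈ normalizer (D.U : Set G) := norm_of fun u hu => hC.le ⟨PS (norm_cj hx (UP hu)), fun b hb => by
      simpa [mul_assoc] using (comm_cj (D.cB u hu _ (norm_cj (inv_mem hB) hb)) x).eq⟩

theorem SU {S : Subgroup G} (hS : MSS.SylIn 2 S (normalizer (F.B : Set G))) (hT : D.TE ≤ S) (C : Cu D) :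
    S ≤ normalizer (D.U : Set G) := fun _ hx =>
  nU_of (Cu_syl C hS (D.U_TE.trans hT)).2 le_rfl (D.U_TE.trans hT) (le_normalizer hx) (hS.le hx)

theorem noN {S : Subgroup G} (hS : MSS.SylIn 2 S (normalizer (F.B : Set G))) (hT : D.TE ≤ S) {n : G} (nS : n ∈ S)
    (hn : R C n nA) : False := by
  have h2 := D.two
  obtain ⟨hS', hC⟩ := Cu_syl C hS (D.U_TE.trans hT)
  have su := SU hS hT C
  have fs : ∀ y ∈ normalizer (D.U : Set G), Commute F.s y := fun y hy => by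
    obtain ⟨x, hx⟩ := R.ex C hy
    exact comm_of_fix (hx.s.trans ((congrArg _ (f2 x.b x.s x.z x.d hx.inj fun l _ => hx.gd hn l)).trans emb_s))
  have g1 := (((R.r C).mul (R.r C)).mul hn).mul (R.r C)
  obtain ⟨k, hk⟩ : ∃ k, k⁻¹ * F.s * k = F.z := by
    have e : emb F (((rA.mul rA).mul nA).mul rA).z = F.s * F.z :=
      (emb_ad h2 s0 z0).trans (by rw [emb_s, emb_z])
    obtain ⟨k, hk⟩ := isConj_iff.1 ((F.cj_sV h2 F.z_V).trans (icj _ (g1.z.trans e)).symm)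
    exact ⟨k⁻¹, by rw [inv_inv, hk]⟩
  have g2 := g1.mul (R.e C)
  generalize F.ρ * F.ρ * n * F.ρ * F.e = g at g2
  have gd : (g * g)⁻¹ * F.d * (g * g) = F.d * F.s :=
    (g2.mul g2).d.trans ((emb_ad h2 d0 s0).trans (by rw [emb_s, emb_d]))
  have lt : S ⊓ centralizer {F.z} < S := by
    refine lt_of_le_not_ge inf_le_left fun hz => ?_
    obtain ⟨m, j, om, hm⟩ := exists_odd_pow g
    have gm := pow_mem g2.nU m
    obtain ⟨y, hy, le⟩ := (hS.of_le su fun y hy => norm_of fun b hb => C.nB hy hb).exists_conj_le (p2_zpowers hm)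
      (zpowers_le.2 gm)
    have hh : y * g ^ m * y⁻¹ ∈ S := le ⟨g ^ m, mem_zpowers _, rfl⟩
    obtain ⟨⟨b, s, z, d⟩, hx⟩ := R.ex C (su hh)
    obtain rfl : s = s0 := hx.fs (fs _ hx.nU)
    obtain rfl : z = z0 := hx.fz (mem_cen1.1 (hz hh).2)
    have c := comm_cj ((hx.mul hx).cB rfl rfl (f5 b d hx.inj) _ (C.nB (inv_mem hy) (F.V_B F.d_V))) y
    have p := pow_cj gd (fs _ (mul_mem g2.nU g2.nU)) m
    rw [show y⁻¹ * (y⁻¹⁻¹ * F.d * y⁻¹) * y = F.d by group,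
      show y⁻¹ * (y * g ^ m * y⁻¹ * (y * g ^ m * y⁻¹)) * y = g ^ m * g ^ m by group,
      ← (Commute.refl g).mul_pow] at c
    obtain ⟨i, rfl⟩ := om
    rw [cj_fix c, pow_succ, pow_mul, pow_two, F.ss, one_pow, one_mul, left_eq_mul] at p
    exact h2 p
  have pP : IsPGroup 2 ↥(S ⊓ centralizer {F.z}) := hS.pgroup.to_inf_left
  obtain ⟨Q, hQ, PQ, QC, hcj⟩ := exists_syl pP inf_le_right
  obtain ⟨k', -, le⟩ := hcj (cjs S k) (p2_cjs hS.pgroup k)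
    (cjs_ind fun y hy => mem_cen1.2 (hk ▸ comm_cj (fs y (su hy)) k))
  have c1 := card_le_of_le le
  rw [card_cjs, card_cjs] at c1
  have c2 := card_two_mul_le lt
  have c3 : 0 < Nat.card ↥(S ⊓ centralizer {F.z}) := Nat.card_pos
  obtain ⟨x, xQ, xP, xN⟩ := exists_norm hQ (lt_of_le_of_ne PQ fun e => by rw [← e] at c1; omega)
  have UP : D.U ≤ S ⊓ centralizer {F.z} := fun u hu =>
    ⟨hT (D.U_TE hu), mem_cen1.2 (D.cB u hu _ (F.V_B F.z_V))⟩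
  have xU := nU_of hC inf_le_left UP xN (CA1.NB C pP UP (inf_le_left.trans hS.le) xN)
  have key : ∀ p ∈ S ⊓ centralizer {F.z}, ∀ y, R C (x * p) y → y.s = s0 → y.z = z0 → y.d = d0 → False :=
    fun p hp y hy a b c => xP ((mul_mem_cancel_right hp).1 (UP (C.sylB (Y := Q ⊓ centralizer (F.B : Set G))
      hQ.to_inf_left (fun u hu => ⟨PQ (UP hu), D.cB u hu⟩) (fun y hy => hy.2)
      ⟨mul_mem xQ (PQ hp), hy.cB a b c⟩)))
  have eP : F.e ∈ S ⊓ centralizer {F.z} := ⟨hT D.e_TE, mem_cen1.2 F.ze⟩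
  have nP : n ∈ S ⊓ centralizer {F.z} := ⟨nS, mem_cen1.2 (comm_of_fix (hn.z.trans emb_z))⟩
  obtain ⟨⟨b, s, z, d⟩, hx⟩ := R.ex C xU
  obtain rfl : s = s0 := hx.fs (fs _ xU)
  obtain rfl : z = z0 := hx.fz (mem_cen1.1 (QC xQ))
  rcases f4 b d hx.inj with e | e | e | e
  · exact key 1 (one_mem _) _ (by rwa [mul_one]) rfl rfl e
  · exact key _ eP _ (hx.mul (R.e C)) rfl rfl e
  · exact key _ nP _ (hx.mul hn) rfl rfl e
  · exact key _ (mul_mem nP eP) _ (mul_assoc x n F.e ▸ (hx.mul hn).mul (R.e C)) rfl rfl e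

variable (C)

theorem exR {S : Subgroup G} (hS : MSS.SylIn 2 S (normalizer (F.B : Set G))) (hT : D.TE ≤ S) :
    ∃ w ∈ S, R C w wA := by
  obtain ⟨hS', hC⟩ := Cu_syl C hS (D.U_TE.trans hT)
  obtain ⟨n, nS, nT, hn⟩ := exists_norm hS.pgroup (lt_of_le_of_ne hT fun e => CA1.big C (e ▸ hS'))
  obtain ⟨x, hx⟩ := R.ex C (SU hS hT C nS)
  have hb : x.b ≠ o0 := fun e => nT (D.max_TE (Y := S ⊓ normalizer (F.E : Set G)) hS.pgroup.to_inf_left
    inf_le_right (le_inf hT D.TE_nE) ⟨nS, (hx.st e).1⟩)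
  have hc : eA.mul x = x.mul eA := by
    rcases D.dec_TE (norm_cj hn D.e_TE) with h | ⟨u, hu, h⟩
    · exact absurd (comm_of_cj (D.cB _ h _ (C.nB hx.nU (F.V_B F.d_V)))) F.not_de
    · have := hx.mul ((R.one C hu).mul (R.e C))
      rw [← h, show n * (n⁻¹ * F.e * n) = F.e * n by group] at this
      exact ((R.e C).mul hx).uniq this
  have ne := mul_mem nS (hT D.e_TE)
  rcases f1 x.b x.s x.z x.d hc hx.inj hb fun l _ => hx.gd (R.one C (one_mem _)) l with h | h | h | h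
  · exact ⟨n, nS, h ▸ hx⟩
  · exact ⟨_, ne, h ▸ hx.mul (R.e C)⟩
  · exact (noN hS hT nS ((show x = CAm.nA from h) ▸ hx)).elim
  · exact (noN hS hT ne (h ▸ hx.mul (R.e C))).elim

omit [Finite G] in
theorem wA_iff {w : G} : R C w wA ↔ w ∈ normalizer (D.U : Set G) ∧ w⁻¹ * F.s * w = F.s * F.z ∧ Commute F.z w ∧
    Commute F.d w ∧ ∃ a ∈ C.A, w⁻¹ * F.t * w = F.t * a ∧ a * a = F.z := by
  have e : emb F wA.s = F.s * F.z := (emb_ad D.two s0 z0).trans (by rw [emb_s, emb_z])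
  refine ⟨fun h => ⟨h.nU, h.s.trans e, comm_of_fix (h.z.trans emb_z), comm_of_fix (h.d.trans emb_d), ?_⟩,
    fun ⟨h1, h2, h3, h4, a, ha, h5, h6⟩ => ⟨h1, h2.trans e.symm, (cj_fix h3).trans emb_z.symm,
      (cj_fix h4).trans emb_d.symm, a, ha, h5, h6.trans emb_z.symm⟩⟩
  obtain ⟨a, ha, h5, h6⟩ := h.t
  exact ⟨a, ha, h5, h6.trans emb_z⟩

theorem omR {w : G} (hw : R C w wA) {n : G} (hn : n ∈ normalizer (D.U : Set G)) :
    (∀ v ∈ F.V, n⁻¹ * v * n ∈ F.V) ∧ ∃ a ∈ C.A, n⁻¹ * F.t * n = F.t * a ∧ a * a ∈ F.V := by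
  obtain ⟨x, hx⟩ := R.ex C hn
  obtain ⟨h1, h2, h3⟩ := f3 x.b x.s x.z x.d hx.inj fun l _ => hx.gd hw l
  obtain ⟨a, ha, e1, e2⟩ := hx.t
  have hz : n⁻¹ * F.z * n ∈ F.V := hx.z ▸ (emb_V D.two).2 h2
  have hd : n⁻¹ * F.d * n ∈ F.V := hx.d ▸ (emb_V D.two).2 h3
  refine ⟨fun v hv => ?_, a, ha, e1, e2 ▸ (emb_V D.two).2 h1⟩
  rcases F.mem_V.1 hv with rfl | rfl | rfl | rfl
  · simp
  · exact hz
  · exact hd
  · rw [cj_mul]; exact mul_mem hd hz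

theorem cw : Nonempty (Cw C) := by
  obtain ⟨S, hS, hT⟩ := MSS.exists_sylIn_ge (H := normalizer (F.B : Set G)) D.p2_TE
    fun y hy => norm_of fun b hb => C.nB (D.TE_nU hy) hb
  obtain ⟨hS', hC⟩ := Cu_syl C hS (D.U_TE.trans hT)
  obtain ⟨w, wS, hw⟩ := exR C hS hT
  obtain ⟨-, ws, wz, wd, wt⟩ := (wA_iff C).1 hw
  obtain ⟨m, mA, i, iA, mm, ii, mρ, em, ei, e1, hs⟩ := CA1.nf C
  exact ⟨⟨m, i, w, S, mA, iA, mm, ii, mρ, em, ei, e1, hs, hS', hT, SU hS hT C, hC, wS, ws, wz, wd,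
    fun n hn => norm_of (omR C hw hn).1, fun n hn => (omR C hw hn).2, wt⟩⟩

end CL.H3.CA2
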