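import Cfsg.Agent.INV.H3.Defs
import Cfsg.Agent.INV.HS8.Tl

/-! STUB (S3140, captain h73). Keep the statements verbatim. `x ^ g = g⁻¹ * x * g`,
`cjs Y g = g⁻¹ Y g`. Facts on conjugates of `t` (model `Md` of `HL/LocA`, `syl'`, `decide`), and
transfer. -/

set_option autoImplicit false
open Subgroup

namespace CL.H3
open CL.HL CL.MSS
variable {G : Type*} [Group G] [Finite G] (F : Fr G)

namespace L2x
open Fr Md

omit [Finite G] in
theorem bk {u : G} (hu : IsConj F.t u) : ∃ k, k⁻¹ * u * k = F.t := by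
  obtain ⟨c, rfl⟩ := isConj_iff.1 hu
  exact ⟨c, by group⟩

theorem into {u : G} (hu : IsConj F.t u) {Y : Subgroup G} (hY : IsPGroup 2 Y) (h : ∀ y ∈ Y, Commute u y) :
    ∃ k, ∀ y ∈ Y, ∃ x, ok F.tw x ∧ F.w x = k⁻¹ * y * k := by
  obtain ⟨k, e⟩ := bk F hu
  obtain ⟨l, -, h2⟩ := F.syl' (p2_cjs hY k) (cjs_ind fun y hy => e ▸ comm_cj (h y hy) k)
  refine ⟨k * l, fun y hy => ?_⟩
  obtain ⟨x, hx, -, e⟩ := F.mem_T'.1 (h2 (cj_cjs l (cj_cjs k hy)))
  exact ⟨x, hx, by rw [e]; group⟩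

omit [Finite G] in
theorem cjs_le {Y S : Subgroup G} {x : G} (h : x •ᶜ Y ≤ S) : cjs Y x⁻¹ ≤ S := by
  rwa [cjs, inv_inv]

omit [Finite G] in
theorem psi.{v} {G : Type v} [Group G] {S M : Subgroup G} (cm : ∀ g ∈ S, ∀ h ∈ S, g⁻¹ * h⁻¹ * g * h ∈ M) :
    ∃ (A : Type v) (_ : CommGroup A) (ψ : S →* A), ∀ g : S, ψ g = 1 ↔ g.1 ∈ M := by
  have hN : (M.subgroupOf S).Normal := ⟨fun n hn g => by
    have := mul_mem (show n.1 ∈ M from hn) (cm n n.2 g⁻¹ (inv_mem g.2))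
    change (g : G) * n * (g : G)⁻¹ ∈ M
    simpa [mul_assoc] using this⟩
  exact ⟨S ⧸ M.subgroupOf S, { QuotientGroup.Quotient.group _ with
    mul_comm := fun a b => QuotientGroup.induction_on a fun a => QuotientGroup.induction_on b fun b =>
      QuotientGroup.eq.2 (by
        change ((a * b)⁻¹ * (b * a) : S).1 ∈ M
        simpa [mul_assoc] using cm b b.2 a a.2) },
    QuotientGroup.mk' _, fun g => QuotientGroup.eq_one_iff g⟩

omit [Finite G] in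
theorem mul2 {S M : Subgroup G} {u : G} (uu : u * u = 1) (h : ∀ g ∈ S, g ∈ M ∨ g * u ∈ M) {a b : G} (ha : a ∈ S) (hb : b ∈ S)
    (a' : a ∉ M) (b' : b ∉ M) : a * b ∈ M := by
  have h1 := (h a ha).resolve_left a'
  have h2 := inv_mem ((h _ (inv_mem hb)).resolve_left fun k => b' (inv_mem_iff.1 k))
  have := mul_mem h1 h2
  simpa [mul_assoc] using this

omit [Finite G] in
theorem cm2 {S M : Subgroup G} {u : G} (uu : u * u = 1) (h : ∀ g ∈ S, g ∈ M ∨ g * u ∈ M) :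
    ∀ a ∈ S, ∀ b ∈ S, a⁻¹ * b⁻¹ * a * b ∈ M := fun a ha b hb => by
  by_cases a' : a ∈ M <;> by_cases b' : b ∈ M
  · exact mul_mem (mul_mem (mul_mem (inv_mem a') (inv_mem b')) a') b'
  · rw [mul_assoc, mul_assoc, ← mul_assoc b⁻¹]
    exact mul_mem (inv_mem a') (mul2 uu h (mul_mem (inv_mem hb) ha) hb
      (fun k => b' (inv_mem_iff.1 ((mul_mem_cancel_right a').1 k))) b')
  · exact mul_mem (mul2 uu h (mul_mem (inv_mem ha) (inv_mem hb)) ha
      (fun k => a' (inv_mem_iff.1 ((mul_mem_cancel_right (inv_mem b')).1 k))) a') b'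
  · rw [mul_assoc]
    exact mul_mem (mul2 uu h (inv_mem ha) (inv_mem hb) (fun k => a' (inv_mem_iff.1 k)) fun k => b' (inv_mem_iff.1 k))
      (mul2 uu h ha hb a' b')

end L2x
open L2x Fr

/-- `conjE'`, `card_E`. -/
theorem rkB {u : G} (hu : IsConj F.t u) {X : Subgroup G} (hX : ∀ x ∈ X, x * x = 1)
    (h : ∀ x ∈ X, Commute u x) : Nat.card X ≤ 2 * Nat.card F.B := by
  obtain ⟨k, e⟩ := bk F hu
  by_contra hlt
  obtain ⟨l, -, e'⟩ := F.conjE' (cjs X k) (cjs_ind (p := fun x => x * x = 1) fun x hx => sq_cj (hX x hx) k)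
    (cjs_ind fun y hy => e ▸ comm_cj (h y hy) k) (by rw [card_cjs]; omega)
  have := card_cjs (cjs X k) l
  rw [e', card_E, card_cjs] at this
  omega

/-- Conjugate `u` to `t` and `⟨g⟩` (replace `g` by an odd power) into `T`; the only involution
of `T` which is a square in `T` is `z`. -/
theorem sqz {u g : G} (hu : IsConj F.t u) (h : Commute u g) (h1 : g * g ≠ 1)
    (h2 : g * g * (g * g) = 1) : IsConj F.z (g * g) := by
  obtain ⟨k, hk⟩ := into F hu (p2_zpowers (g := g) (k := 2) (by rw [← h2]; simp [pow_succ, mul_assoc])) (by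
    rintro _ ⟨n, rfl⟩; exact h.zpow_right n)
  obtain ⟨x, hx, e⟩ := hk g (mem_zpowers g)
  have e2 : F.w (x * x) = k⁻¹ * (g * g) * k := by rw [F.w_mul _ hx, e, Fr.cj_mul]
  rcases (by decide : ∀ x : Md, x * x * (x * x) = 1 → x * x = 1 ∨ x * x = Md.mz) x
    ((F.w_sq (Md.ok_mul hx hx)).1 (by rw [e2]; exact sq_cj h2 k)) with h3 | h3
  · rw [h3, w_one] at e2
    exact absurd (cj_eq_one.1 e2.symm) h1
  · rw [h3, w_z] at e2
    exact (icj k e2.symm).symm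

/-- `s = 1`: an elementary subgroup of order 8 of `T` is `E` or `E ^ c` (`conjE0`), and is its own
centraliser in `T`. -/
theorem c8' (h1 : F.s = 1) {u : G} (hu : IsConj F.t u) {X Y : Subgroup G} (hX : ∀ x ∈ X, x * x = 1)
    (hc : Nat.card X = 8) (hm : u ∈ X) (hY : IsPGroup 2 Y) (h : ∀ y ∈ Y, ∀ x ∈ X, Commute x y) :
    Nat.card Y ≤ 8 := by
  obtain ⟨k, e⟩ := bk F hu
  have hB : Nat.card F.B = 4 := by rw [F.B_eq h1, card_V]
  obtain ⟨l, -, e'⟩ := F.conjE' (cjs X k) (cjs_ind (p := fun x => x * x = 1) fun x hx => sq_cj (hX x hx) k)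
    (cjs_ind fun y hy => e ▸ comm_cj (comm_of_el hX hm hy) k) (by rw [card_cjs]; omega)
  rw [← card_cjs Y k, ← card_cjs _ l]
  have hcc : ∀ y ∈ cjs (cjs Y k) l, ∀ x ∈ F.E, Commute x y := by
    rw [← e']
    exact cjs_ind (p := fun y => ∀ x ∈ cjs (cjs X k) l, Commute x y) <|
      cjs_ind (p := fun y => ∀ x ∈ cjs (cjs X k) l, Commute x (l⁻¹ * y * l)) fun y hy =>
      cjs_ind (p := fun x => Commute x (l⁻¹ * (k⁻¹ * y * k) * l)) <|
      cjs_ind (p := fun x => Commute (l⁻¹ * x * l) (l⁻¹ * (k⁻¹ * y * k) * l)) fun x hx => comm_cj (comm_cj (h y hy x hx) k) l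
  have hY' : IsPGroup 2 ↥(cjs (cjs Y k) l ⊔ F.E) := IsPGroup.to_sup_of_normal_right' (p2_cjs (p2_cjs hY k) l) F.p2_E
    fun y hy => norm_of_comm (hcc y hy)
  have hle : cjs (cjs Y k) l ≤ F.E := fun y hy => F.memE hY' le_sup_right (mem_sup_left hy)
    (hcc y hy _ F.t_E) (hcc y hy _ (F.B_E (F.V_B F.z_V))) (hcc y hy _ (F.B_E (F.V_B F.d_V)))
  have := card_le_of_le hle
  rw [card_E] at this
  omega

/-- `s = 1`: in `T = ⟨t⟩ × SD₁₆` no element of order 8 is inverted. -/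
theorem ninv8 (h1 : F.s = 1) {u g w : G} (hu : IsConj F.t u) (hg : Commute u g) (hw : Commute u w)
    (g8 : g ^ 8 = 1) (g4 : g ^ 4 ≠ 1) (ww : w * w = 1) (h : w * g * w = g⁻¹) : False := by
  have wi : w⁻¹ = w := inv_eq_of_mul_eq_one_right ww
  have hn : zpowers w ≤ normalizer (zpowers g : Set G) := zpowers_le.2 (norm_of (by
    rintro _ ⟨n, rfl⟩
    refine ⟨-n, ?_⟩
    have := congrArg (· ^ n) (show w * g * w⁻¹ = g⁻¹ by rw [wi, h])
    simp only [conj_zpow] at this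
    simp only [wi] at this
    simp only [wi, this, inv_zpow, zpow_neg]))
  obtain ⟨k, hk⟩ := into F hu (IsPGroup.to_sup_of_normal_right' (p2_zpowers (g := w) (k := 1) (by simpa [pow_two] using ww))
    (p2_zpowers (g := g) (k := 3) g8) hn) (comm_sup (by rintro _ ⟨n, rfl⟩; exact hw.zpow_right n)
      (by rintro _ ⟨n, rfl⟩; exact hg.zpow_right n))
  obtain ⟨x, hx, e⟩ := hk g (mem_sup_right (mem_zpowers g))
  obtain ⟨y, hy, e'⟩ := hk w (mem_sup_left (mem_zpowers w))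
  have tw : F.tw = false := by simp [Fr.tw, h1]
  have k1 := (F.w_sq hy).1 (by rw [e']; exact sq_cj ww k)
  have k2 : y * x * y = x⁻¹ := F.w_inj (Md.ok_mul (Md.ok_mul hy hx) hy) (Md.ok_inv hx) (by
    rw [F.w_mul _ hy, F.w_mul _ hx, F.w_inv hx, e, e', ← Fr.cj_mul, ← Fr.cj_mul, h]; group)
  have k3 := (F.w_sq (Md.ok_mul hx hx)).2 ((by decide +kernel : ∀ x y : Md, Md.ok false x → Md.ok false y → y * y = 1 →
    y * x * y = x⁻¹ → x * x * (x * x) = 1) x y (tw ▸ hx) (tw ▸ hy) k1 k2)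
  rw [F.w_mul _ hx, e, ← Fr.cj_mul, ← Fr.cj_mul, cj_eq_one] at k3
  exact g4 (by rw [← k3]; simp [pow_succ, mul_assoc])

/-- An extremal conjugate: `T ^ g ≤ S` (Sylow), and `C_S(t ^ g) = T ^ g` by `bT`, `card_T`. -/
theorem extr {S : Subgroup G} (hS : SylIn 2 S ⊤) :
    ∃ g, cjs F.T g = S ⊓ centralizer {g⁻¹ * F.t * g} := by
  obtain ⟨x, -, hx⟩ := hS.exists_conj_le F.p2_T le_top
  refine ⟨x⁻¹, eq_of_le_of_card_ge (le_inf (cjs_le hx) (cjs_ind fun y hy =>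
    mem_centralizer_singleton_iff.2 (comm_cj (F.t_T hy) x⁻¹).symm.eq)) ?_⟩
  rw [card_cjs, card_T]
  exact F.bT (icj x⁻¹ rfl) _ (hS.pgroup.to_le inf_le_left) fun y hy =>
    (show Commute y _ from mem_centralizer_singleton_iff.1 hy.2).symm

/-- An elementary abelian normal subgroup of `T` has order `< 2 |B|` (`conjE0`, `Cr.not_nE`). -/
theorem nrmT {X : Subgroup G} (hT : X ≤ F.T) (hX : ∀ x ∈ X, x * x = 1)
    (hn : F.T ≤ normalizer (X : Set G)) : Nat.card X < 2 * Nat.card F.B := by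
  by_contra hlt
  have hc := hn F.c_T
  have : X = F.E := by
    rcases F.conjE0 hT hX (by omega) with e | e
    · exact e
    · rwa [cjs_norm hc] at e
  exact F.cr.not_nE (this ▸ hc)

/-- Fusion in the centre of a weakly closed subgroup: `J` and `J ^ g` lie in `C(v)`; conjugate
both into one Sylow 2-subgroup of `C(v)` and then into `S`. -/
theorem ctrlZ {S J : Subgroup G} (hS : SylIn 2 S ⊤) (hJ : J ≤ S)
    (wc : ∀ g, cjs J g ≤ S → g ∈ normalizer (J : Set G)) {u v g : G}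
    (hu : ∀ j ∈ J, Commute u j) (hv : ∀ j ∈ J, Commute v j) (e : g⁻¹ * u * g = v) :
    ∃ n ∈ normalizer (J : Set G), n⁻¹ * u * n = v := by
  have pJ := hS.pgroup.to_le hJ
  obtain ⟨P, hP, JP⟩ := exists_sylIn_ge (H := centralizer {v}) pJ fun j hj => mem_centralizer_singleton_iff.2 (hv j hj).symm.eq
  obtain ⟨c, hc, h1⟩ := hP.exists_conj_le (p2_cjs pJ g) (cjs_ind fun j hj =>
    mem_centralizer_singleton_iff.2 (e ▸ comm_cj (hu j hj) g).symm.eq)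
  obtain ⟨x, -, h2⟩ := hS.exists_conj_le hP.pgroup le_top
  have n1 := wc x⁻¹ (cjs_le ((cj_mono x JP).trans h2))
  have n2 := wc (g * c⁻¹ * x⁻¹) (cjs_ind fun j hj => by
    have := h2 (conj_mem_cj (h1 (conj_mem_cj (cj_cjs g hj))))
    simpa [mul_assoc] using this)
  refine ⟨g * c⁻¹, by simpa using mul_mem n2 (inv_mem n1), ?_⟩
  calc _ = c * (g⁻¹ * u * g) * c⁻¹ := by group
    _ = _ := by rw [e, mem_centralizer_singleton_iff.1 hc, mul_inv_cancel_right]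

namespace Ex
variable {F} (E : Ex F)

/-- `|L| = 5616` divides `|X|`. -/
theorem dvd13 : 13 ∣ Nat.card E.X := by
  have h1 : E.φ.range ≤ E.X := by rintro _ ⟨x, rfl⟩; exact E.φX x
  refine Dvd.dvd.trans ?_ (card_dvd_of_le h1)
  rw [← Nat.card_congr (MonoidHom.ofInjective E.inj).toEquiv, RA.card_SL]
  norm_num

theorem memX : F.c ∈ E.X ∧ F.d ∈ E.X ∧ F.z ∈ E.X ∧ F.e ∈ E.X ∧ (∀ g, g * g ∈ E.X) ∧
    (∀ g h, g⁻¹ * h⁻¹ * g * h ∈ E.X) ∧ (∀ g, Odd (orderOf g) → g ∈ E.X) ∧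
    (∀ g h, g ∉ E.X → h ∉ E.X → g * h ∈ E.X) ∧ ⁅E.X, E.X⁆ = E.X ∧ ¬ IsMulCommutative E.X := by
  have hc : F.c ∈ E.X := E.φc ▸ E.φX _
  have hd : F.d ∈ E.X := E.φd ▸ E.φX _
  have he : F.e ∈ E.X := mul_mem hd (pow_mem hc 2)
  have m2 := fun g h => mul2 (S := ⊤) F.tt (fun g _ => E.Xd g) (mem_top g) (mem_top h)
  have sq : ∀ g, g * g ∈ E.X := fun g => by
    by_cases k : g ∈ E.X
    exacts [mul_mem k k, m2 g g k k]
  have nc : ¬ IsMulCommutative E.X := fun k =>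
    F.not_de (congrArg Subtype.val (k.is_comm.comm (⟨_, hd⟩ : E.X) ⟨_, he⟩))
  refine ⟨hc, hd, pow_mem hc 4, he, sq, fun g h => cm2 (S := ⊤) F.tt (fun g _ => E.Xd g) g trivial h trivial,
    fun g ⟨m, hm⟩ => ?_, m2, ?_, nc⟩
  · have : g = (g * g) ^ (m + 1) := by
      rw [← pow_two, ← pow_mul, show 2 * (m + 1) = orderOf g + 1 by omega, pow_succ, pow_orderOf_eq_one, one_mul]
    exact this ▸ pow_mem (sq g) _
  · have := E.simple
    rw [← map_subtype_commutator]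
    rcases this.eq_bot_or_eq_top_of_normal (commutator E.X) inferInstance with k | k
    · exact absurd ⟨⟨fun a b => commutatorElement_eq_one_iff_mul_comm.1
        (mem_bot.1 (k ▸ commutator_mem_commutator (mem_top a) (mem_top b)))⟩⟩ nc
    · rw [k, ← MonoidHom.range_eq_map, range_subtype]

/-- Thompson transfer with extremal conjugates (`HS8.tr_ext` for `S → S / M`, `hom_perfect`);
`H` is `⊤` or `X`. -/
theorem thom {H S M R : Subgroup G} (hH : E.X ≤ H) (hS : SylIn 2 S H) (hM : M ≤ S) {u : G}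
    (uu : u * u = 1) (uX : u ∈ E.X) (uS : u ∈ S) (uM : u ∉ M) (h : ∀ g ∈ S, g ∈ M ∨ g * u ∈ M)
    (hR : IsPGroup 2 R) (RH : R ≤ H) (Ru : ∀ r ∈ R, Commute r u) :
    ∃ g ∈ H, g⁻¹ * u * g ∈ M ∧ cjs R g ≤ S := by
  obtain ⟨A, _, ψ, hψ⟩ := psi (cm2 uu h)
  obtain ⟨V, hV⟩ := HS8.tr_ext hS ψ
  by_contra no
  have := hV u (hH uX) uu R hR RH Ru (ψ ⟨u, uS⟩) fun g hg h1 h2 => by
    have k : g * u * g⁻¹ ∉ M := fun k => no ⟨g⁻¹, inv_mem hg, by rwa [inv_inv], cjs_ind fun r hr => by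
      rw [inv_inv]; exact h2 r hr⟩
    rw [← mul_inv_eq_one, ← map_inv, ← map_mul, hψ]
    exact mul2 uu h h1 (inv_mem uS) k fun k => uM (inv_mem_iff.1 k)
  rw [HS8.hom_perfect V E.memX.2.2.2.2.2.2.2.2.1 hH uX] at this
  exact uM ((hψ _).1 this.symm)

/-- `thom` with `u = t`. -/
theorem tX {S M : Subgroup G} (hS : SylIn 2 S ⊤) (hM : M ≤ S) (tS : F.t ∈ S)
    (h : ∀ g ∈ S, g ∈ M ∨ g * F.t ∈ M) (no : ∀ g ∈ M, ¬ IsConj F.t g) : F.t ∉ E.X := fun tX => by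
  obtain ⟨g, -, hg, -⟩ := E.thom le_top hS hM F.tt tX tS (fun k => no _ k (IsConj.refl _)) h IsPGroup.of_bot bot_le
    fun r hr => mem_bot.1 hr ▸ Commute.one_left _
  exact no _ hg (icj g rfl)

include E in
/-- Transfer `V : G → S / M` (`HS8.tr_ext`): `V t = t M`, `V u = u M`; `V` is trivial on `X` and
`u ∈ X` or `u t ∈ X`. -/
theorem tr2 {S M R : Subgroup G} (hS : SylIn 2 S ⊤) (hM : M ≤ S)
    (cm : ∀ g ∈ S, ∀ h ∈ S, g⁻¹ * h⁻¹ * g * h ∈ M) (tS : F.t ∈ S) {u : G} (uS : u ∈ S)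
    (uu : u * u = 1) (u1 : u ∉ M) (u2 : u * F.t ∉ M)
    (ht : ∀ g, g⁻¹ * F.t * g ∈ S → g⁻¹ * F.t * g * F.t ∈ M) (hR : IsPGroup 2 R)
    (Ru : ∀ r ∈ R, Commute r u)
    (hu : ∀ g, g⁻¹ * u * g ∈ S → cjs R g ≤ S → g⁻¹ * u * g * u ∈ M) : False := by
  obtain ⟨A, _, ψ, hψ⟩ := psi cm
  obtain ⟨V, hV⟩ := HS8.tr_ext hS ψ
  have key : ∀ {x a : G} (ha : a ∈ S) (hx : x ∈ S), x * x = 1 → a * x ∈ M → ψ ⟨a, ha⟩ = ψ ⟨x, hx⟩ := fun ha hx xx k => by
    rw [← mul_inv_eq_one, ← map_inv, ← map_mul, hψ]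
    change _ * _⁻¹ ∈ M
    rwa [inv_eq_of_mul_eq_one_right xx]
  have e1 := hV F.t trivial F.tt ⊥ IsPGroup.of_bot bot_le (fun r hr => mem_bot.1 hr ▸ Commute.one_left _) (ψ ⟨_, tS⟩)
    fun g _ h1 _ => key h1 tS F.tt (by simpa using ht g⁻¹ (by simpa using h1))
  have e2 := hV u trivial uu R hR le_top Ru (ψ ⟨_, uS⟩) fun g _ h1 h2 => key h1 uS uu (by
    simpa using hu g⁻¹ (by simpa using h1) (cjs_ind fun r hr => by rw [inv_inv]; exact h2 r hr))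
  have pf := E.memX.2.2.2.2.2.2.2.2.1
  rcases E.Xd u with k | k
  · exact u1 ((hψ _).1 (e2.symm.trans (HS8.hom_perfect V pf le_top k)))
  · refine u2 ((hψ (⟨u, uS⟩ * ⟨_, tS⟩)).1 ?_)
    rw [map_mul, ← e1, ← e2, ← map_mul]
    exact HS8.hom_perfect V pf le_top k

end Ex

end CL.H3
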