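import Cfsg.Agent.INV.H3.Defs

/-! S3140: copies of landed proofs of `INV/HL` that keep more information.
`x ^ g = g⁻¹ * x * g`. -/

set_option autoImplicit false
set_option linter.style.haveILetI false
open Subgroup

namespace CL.H3
variable {G : Type*} [Group G] [Finite G]

namespace Spx
section
open CL.HL hiding cm
open CL.MSS CL.HL.Od CL.HL.Iv CL.HL.Ks
open CL.HL.Ob hiding K4_of T8_of N8_of caseA caseC

omit [Finite G] in
theorem sm1 {F : Fr G} {p : Fr G → Prop} (h : ∃ (ρ' : G) (h : F.Rr ρ'), p (F.withρ h)) :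
    ∃ F' : Fr G, Same F F' ∧ p F' :=
  let ⟨_, h, k⟩ := h; ⟨F.withρ h, ⟨rfl, rfl, rfl, Or.inl rfl⟩, k⟩

omit [Finite G] in
theorem sm2 {F : Fr G} (h2 : F.s ≠ 1) {p : Fr G → Prop}
    (h : ∃ (ρ' : G) (h : (swap F h2).Rr ρ'), p ((swap F h2).withρ h)) : ∃ F' : Fr G, Same F F' ∧ p F' :=
  let ⟨_, h, k⟩ := h; ⟨(swap F h2).withρ h, ⟨rfl, rfl, rfl, Or.inr ⟨h2, swap_s F h2, rfl⟩⟩, k⟩

variable (F : Fr G)

theorem K4_of (hΩ : ∀ x ∈ F.E, IsConj F.t x → ∃ v ∈ F.V, x = F.t * v) (hz : Tr F F.z) :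
    ∃ (ρ' : G) (h : F.Rr ρ'), Nonempty (K4 (F.withρ h)) := by
  have tr := hz.V F.z_V F.z1
  have horb : ∀ b ∈ F.B, IsConj F.t (F.t * b) → b ∈ F.V := fun b hb h => by
    obtain ⟨v, hv, e⟩ := hΩ _ (mul_mem F.t_E (F.B_E hb)) h
    exact mul_left_cancel e ▸ hv
  obtain ⟨ρ', h, D, h1, h2⟩ := mkC F (fun b hb h => by
    obtain ⟨v, hv, rfl⟩ := hΩ _ (F.B_E hb) h
    exact F.t_nB ((F.B.mul_mem_cancel_right (F.V_B hv)).1 hb)) fun b hb h => tr b (horb b hb h)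
  refine ⟨_, h, ⟨⟨D, h1, fun v hv => h2 v (tr v hv), horb, fun g hg _ _ => ?_⟩⟩⟩
  obtain ⟨v, hv, e⟩ := hΩ _ (cj' hg F.t_E) (icj g F.t)
  obtain ⟨k, k1, k2, k3⟩ := tr v hv
  have := (F.stab (mul_mem hg (inv_mem k1)) (xf (by rw [cc]; erw [e]; exact bk k3))).1
  change Commute F.s g
  simpa using this.mul_right (k2 _ F.s_B)

theorem T8_of (h2 : F.s ≠ 1) (hB : ∀ b ∈ F.B, ¬ IsConj F.t b) (hs : Tr F F.s) {v : G} (hv : v ∈ F.V)
    (v1 : v ≠ 1) (hz : Tr F v) : ∃ (ρ' : G) (h : F.Rr ρ'), Nonempty (T8 (F.withρ h)) := by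
  have tr : ∀ b ∈ F.B, Tr F b := fun b hb => by
    obtain ⟨w, hw, rfl | rfl⟩ := F.mem_B.1 hb
    exacts [hz.V hv v1 _ hw, hs.mul (F.V_B hw) (hz.V hv v1 _ hw)]
  obtain ⟨ρ', h, D, h1, h3⟩ := mkC F hB fun b hb _ => tr b hb
  exact ⟨_, h, ⟨⟨D, h2, h1, fun b hb => h3 b (tr b hb)⟩⟩⟩

theorem N8_of (h2 : F.s ≠ 1) (hB : ∀ b ∈ F.B, ¬ IsConj F.t b) {m g : G} (hm : m ∈ M F)
    (mt : m⁻¹ * F.t * m = F.t * F.s) (mz : Commute F.z m) (md : Commute F.d m) (hg : g ∈ M F)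
    (gt : g⁻¹ * F.t * g = F.t * F.z) (gz : Commute F.z g) (gd : g⁻¹ * F.d * g = F.d * F.s) :
    ∃ (ρ' : G) (h : F.Rr ρ'), Nonempty (N8 (F.withρ h)) := by
  have mB := cB_of F hm.2.1 mz md
  let P : G → Prop := fun b => ∃ k ∈ M F, k⁻¹ * F.t * k = F.t * b ∧ Commute b k
  have Ps : ∀ b ∈ F.B, P b → P (F.s * b) := by
    rintro b hb ⟨k, k1, k2, k3⟩
    exact ⟨k * m, mul_mem k1 hm, by rw [cc, k2, cm, mt, fx (mB b hb), mul_assoc],
      (k1.2.1.mul_left k3).mul_right (mB _ (mul_mem F.s_B hb))⟩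
  have Pρ : ∀ b, P b → P (F.ρ⁻¹ * b * F.ρ) := by
    rintro b ⟨k, k1, k2, k3⟩
    refine ⟨_, M_cj F F.ρ_nE F.tρ k1, ?_, xf ?_⟩
    · rw [cc, cc, fx F.tρ.inv_right, k2, cm, fx F.tρ]
    · rw [cc, cc, bk rfl, fx k3]
  have PV : ∀ v ∈ F.V, P v := fun v hv => by
    have z : P F.z := ⟨g, hg, gt, gz⟩
    have d : P F.d := F.zρ' ▸ Pρ _ z
    rcases F.mem_V.1 hv with rfl | rfl | rfl | rfl
    exacts [⟨1, one_mem _, by simp, Commute.one_right _⟩, z, d, F.dρ' ▸ Pρ _ d]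
  have PB : ∀ b ∈ F.B, P b := fun b hb => by
    obtain ⟨w, hw, rfl | rfl⟩ := F.mem_B.1 hb
    exacts [PV _ hw, Ps _ (F.V_B hw) (PV _ hw)]
  have tb : ∀ n ∈ normalizer (F.E : Set G), ∃ b ∈ F.B, n⁻¹ * F.t * n = F.t * b := fun n hn => by
    obtain ⟨b, hb, e | e⟩ := F.mem_E.1 (cj' hn F.t_E)
    exacts [absurd (e ▸ icj n F.t) (hB b hb), ⟨b, hb, e⟩]
  have sq : ∀ k ∈ M F, Commute F.t (k * k) := fun k hk => by
    obtain ⟨b, hb, e⟩ := tb k hk.1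
    obtain ⟨l, l1, l2, l3⟩ := PB b hb
    exact xf (by rw [cc, e, cm, e, M_eq F h2 hk l1 (e.trans l2.symm) (F.B_E hb), fx l3, mul_assoc,
      F.el_E (F.B_E hb), mul_one])
  obtain ⟨ρ', h, D, h1, h3⟩ := mkU F (M F) (fun k hk => hk.1)
    (fun g hg => ⟨centralizer_le_normalizer _ hg, hg _ (F.B_E F.s_B), fun b hb => Or.inl (fx (hg b (F.B_E hb)))⟩)
    (M_nm F F.e_nE F.te) (M_nm F F.ρ_nE F.tρ) (fun k hk => M_C F h2 (mul_mem hk hk) (sq k hk))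
    (fun k hk => M_C F h2 hk)
    (fun n hn => by
      obtain ⟨b, hb, e⟩ := tb n hn
      obtain ⟨l, l1, l2, -⟩ := PB b hb
      exact ⟨l, l1, l2.trans e.symm⟩) hB
  refine ⟨_, h, ⟨⟨D, h2, fun u hu => (h1 hu).2.2, fun u hu => (h1 hu).2.1,
    fun u hu => D.cU _ (mul_mem hu hu) (sq u (h1 hu)), fun b hb => ?_, ?_, ?_⟩⟩⟩
  · obtain ⟨l, l1, l2, -⟩ := PB b hb
    obtain ⟨u, hu, e⟩ := h3 l l1
    exact ⟨u, hu, (e _ F.t_E).trans l2⟩
  · obtain ⟨u, hu, e⟩ := h3 m hm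
    exact ⟨u, hu, (e _ F.t_E).trans mt, xf ((e _ (F.B_E (z_B F))).trans (fx mz)),
      xf ((e _ (F.B_E (d_B F))).trans (fx md))⟩
  · obtain ⟨u, hu, e⟩ := h3 _ (mul_mem hg hm)
    refine ⟨u, hu, (e _ F.t_E).trans ?_, xf ((e _ (F.B_E (z_B F))).trans (fx (gz.mul_right mz))),
      (e _ (F.B_E (d_B F))).trans ?_⟩
    · rw [cc, gt, cm, mt, fx mz, mul_assoc, F.sz.eq, ← mul_assoc]; rfl
    · rw [cc, gd, fx (md.mul_left hm.2.1)]; rfl

theorem caseA (h : IsConj F.t (F.t * F.z)) (hΩ : ∀ x ∈ F.E, IsConj F.t x → ∃ v ∈ F.V, x = F.t * v) :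
    ∃ F' : Fr G, Same F F' ∧ Nonempty (K4 F') := by
  have tV : ∀ v ∈ F.V, IsConj F.t (F.t * v) := fun v hv => by
    by_cases v1 : v = 1
    exacts [by rw [v1, mul_one], h.trans (F.cj_tV hv v1)]
  obtain ⟨g, hg, e⟩ := F.ctrl (mul_mem F.t_E (F.B_E (z_B F))) h
  obtain ⟨n, hn, nt, nz, nd⟩ := adjV F hg fun v hv => by
    obtain ⟨a, ha, ea⟩ := hΩ _ (cj hg F.t_E) (isConj_iff.2 ⟨g, rfl⟩)
    obtain ⟨b, hb, eb⟩ := hΩ _ (cj hg (mul_mem F.t_E (F.B_E (F.V_B hv)))) ((tV v hv).trans (isConj_iff.2 ⟨g, rfl⟩))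
    have : g * v * g⁻¹ = a⁻¹ * b := by
      calc _ = (g * F.t * g⁻¹)⁻¹ * (g * (F.t * v) * g⁻¹) := by group
        _ = _ := by rw [ea, eb]; group
    exact this ▸ mul_mem (inv_mem ha) hb
  rw [e] at nt
  by_cases h2 : F.s = 1
  · exact sm1 (K4_of F hΩ ⟨n, hn, cB_of F (h2 ▸ Commute.one_left n) nz nd, nt⟩)
  rcases T1 F h2 hn nt nz nd with k | k
  · exact sm1 (K4_of F hΩ ⟨n, hn, cB_of F (xf k) nz nd, nt⟩)
  · refine sm2 h2 (K4_of (swap F h2) (by rw [swap_E]; exact hΩ)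
      ⟨n, by rw [swap_E]; exact hn, cB_of _ (xf ?_) nz nd, nt⟩)
    change n⁻¹ * (F.t * F.s) * n = F.t * F.s
    rw [cm, nt, k, F.sz.eq, mul_assoc, ← mul_assoc F.z, F.zz, one_mul]

theorem caseC (h2 : F.s ≠ 1) (h : IsConj F.t (F.t * F.z)) (hs : ¬ IsConj F.t F.s)
    (hts : IsConj F.t (F.t * F.s)) : ∃ (ρ' : G) (h : F.Rr ρ'),
    Nonempty (T8 (F.withρ h)) ∨ Nonempty (N8 (F.withρ h)) := by
  have hB : ∀ b ∈ F.B, ¬ IsConj F.t b := fun b hb k => by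
    obtain ⟨w, hw, rfl | rfl⟩ := F.mem_B.1 hb
    exacts [F.nc_V hw k, hs (k.trans (F.cj_sV h2 hw).symm)]
  have nB : ∀ g ∈ normalizer (F.E : Set G), ∀ b ∈ F.B, g⁻¹ * b * g ∈ F.B := fun g hg b hb => by
    have k : ¬ IsConj F.t (g⁻¹ * b * g) := fun k => hB b hb (k.trans (icj g b).symm)
    obtain ⟨a, ha, e | e⟩ := F.mem_E.1 (cj' hg (F.B_E hb)) <;> rw [e] at k ⊢
    · exact ha
    · obtain ⟨w, hw, rfl | rfl⟩ := F.mem_B.1 ha
      · by_cases b1 : a = 1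
        exacts [absurd (by rw [b1, mul_one]) k, absurd (h.trans (F.cj_tV hw b1)) k]
      · exact absurd (hts.trans (F.cj_tsV h2 hw)) k
  have nB' : ∀ g ∈ normalizer (F.E : Set G), ∀ b ∈ F.B, g * b * g⁻¹ ∈ F.B := fun g hg b hb => by
    simpa using nB _ (inv_mem hg) b hb
  obtain ⟨n, hn, nt⟩ := F.ctrl (mul_mem F.t_E (F.B_E F.s_B)) hts
  have ns : Commute F.s n := by
    have k := fx (F.stab (g := n * F.ρ * n⁻¹) (mul_mem (mul_mem hn F.ρ_nE) (inv_mem hn))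
      (xf (by rw [cc, cc, nt, fx (F.tρ.mul_left F.sρ), bk nt]))).1
    rw [cc, cc] at k
    have k2 := bk k
    simp only [inv_inv] at k2
    rcases F.fix_ρ F.rr (nB n hn _ F.s_B) (xf k2.symm).symm with e | e
    exacts [absurd (inj (g := n) (by rw [e]; simp)) h2, xf e]
  obtain ⟨m, hm, mt⟩ := adjM F h2 hn ns (nB' n hn)
  rw [nt] at mt
  have mρ : ∀ x ∈ F.E, F.ρ⁻¹ * (m⁻¹ * x * m) * F.ρ = m⁻¹ * (F.ρ⁻¹ * x * F.ρ) * m := fun x hx => by
    rw [← M_eq F h2 (M_cj F F.ρ_nE F.tρ hm) hm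
      (by rw [cc, cc, fx F.tρ.inv_right, mt, fx (F.tρ.mul_left F.sρ)]) (cj' F.ρ_nE hx), cc, cc, bk rfl]
  have m1 := mρ _ (F.B_E (z_B F))
  have m2 := mρ _ (F.B_E (d_B F))
  rw [F.zρ'] at m1
  rw [F.dρ', cm m] at m2
  have mz : m⁻¹ * F.z * m = F.z := (hm.2.2 _ (z_B F)).resolve_right fun e => by
    rw [e, cm, F.zρ', fx F.sρ] at m1
    rw [← m1, e, cm, F.dρ', fx F.sρ, mul_assoc F.d F.s, ← mul_assoc F.s, F.sz.eq, mul_assoc F.z, F.ss, mul_one] at m2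
    exact h2 (by simpa using m2)
  rw [mz, F.zρ'] at m1
  have md := xf m1.symm
  have trs : Tr F F.s := ⟨m, hm.1, cB_of F hm.2.1 (xf mz) md, mt⟩
  obtain ⟨g, hg, gt⟩ := F.ctrl (mul_mem F.t_E (F.B_E (z_B F))) h
  by_cases gs : Commute F.s g
  · obtain ⟨y, hy, yt⟩ := adjM F h2 hg gs (nB' g hg)
    rw [gt] at yt
    have k := M_eq F h2 (M_cj F F.e_nE F.te hy) hy
      (by rw [cc, cc, fx F.te.inv_right, yt, fx (F.te.mul_left F.ze)]) (cj' F.e_nE (F.B_E (d_B F)))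
    rw [cc, cc, bk rfl, de, cm y] at k
    rcases hy.2.2 _ (d_B F) with e | e <;> rw [e] at k
    · rw [de] at k
      exact (T8_of F h2 hB trs F.z_V F.z1
        ⟨y, hy.1, cB_of F hy.2.1 (xf (mul_left_cancel k).symm) (xf e), yt⟩).imp fun _ k => k.imp fun _ => Or.inl
    · rw [cm, de, fx F.se, mul_assoc, ← F.sz.eq, ← mul_assoc] at k
      exact (N8_of F h2 hB hm mt (xf mz) md hy yt (xf (mul_left_cancel k).symm) e).imp fun _ k => k.imp fun _ => Or.inr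
  · have k := trs.conj hg (nB' g hg) (nB g hg) F.s_B
    obtain ⟨w, hw, e | e⟩ := F.mem_B.1 (nB g hg _ F.s_B) <;> rw [e] at k
    · exact (T8_of F h2 hB trs hw (fun w1 => h2 (inj (g := g) (by rw [e, w1]; simp))) k).imp fun _ k => k.imp fun _ => Or.inl
    · have := trs.mul (mul_mem F.s_B (F.V_B hw)) k
      rw [← mul_assoc, F.ss, one_mul] at this
      exact (T8_of F h2 hB trs hw (fun w1 => gs (xf (by rw [e, w1, mul_one]))) this).imp fun _ k => k.imp fun _ => Or.inl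

theorem orb (h : IsConj F.t (F.t * F.z)) :
    ∃ F' : Fr G, Same F F' ∧ (Nonempty (K4 F') ∨ Nonempty (T8 F') ∨ Nonempty (N8 F')) := by
  by_cases h2 : F.s = 1
  · refine (caseA F h fun x hx k => ?_).imp fun _ k => ⟨k.1, Or.inl k.2⟩
    obtain ⟨b, hb, rfl | rfl⟩ := F.mem_E.1 hx <;> rw [F.B_eq h2] at hb
    exacts [absurd k (F.nc_V hb), ⟨b, hb, rfl⟩]
  by_cases hs : IsConj F.t F.s <;> by_cases hts : IsConj F.t (F.t * F.s)
  · exact (caseB F h2 h hs hts).elim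
  · refine (sm2 (p := fun F' => Nonempty (T8 F') ∨ Nonempty (N8 F')) h2
      (caseC (swap F h2) (swap_s F h2) h hts ?_)).imp fun _ k => ⟨k.1, Or.inr k.2⟩
    change IsConj F.t (F.t * (F.t * F.s))
    rwa [← mul_assoc, F.tt, one_mul]
  · exact (sm1 (p := fun F' => Nonempty (T8 F') ∨ Nonempty (N8 F'))
      (caseC F h2 h hs hts)).imp fun _ k => ⟨k.1, Or.inr k.2⟩
  · refine (caseA F h fun x hx k => ?_).imp fun _ k => ⟨k.1, Or.inl k.2⟩
    obtain ⟨b, hb, rfl | rfl⟩ := F.mem_E.1 hx <;> obtain ⟨v, hv, rfl | rfl⟩ := F.mem_B.1 hb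
    exacts [absurd k (F.nc_V hv), absurd (k.trans (F.cj_sV h2 hv).symm) hs, ⟨b, hv, rfl⟩,
      absurd (k.trans (F.cj_tsV h2 hv).symm) hts]

variable {F}

theorem u3 (D : UD F) {u : G} (hu : u ∈ D.U) : F.ρ⁻¹ * (F.ρ⁻¹ * (F.ρ⁻¹ * u * F.ρ) * F.ρ) * F.ρ = u := by
  have := fx (F.odd_cent D.p2 D.EU D.cU F.rr.cube (pow_mem D.ρU 3) u hu).symm
  rwa [pow_three', cc, cc] at this
theorem u2 (D : UD F) {u : G} (hu : u ∈ D.U) :
    F.e⁻¹ * (F.ρ⁻¹ * u * F.ρ) * F.e = F.ρ⁻¹ * (F.ρ⁻¹ * (F.e⁻¹ * u * F.e) * F.ρ) * F.ρ := by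
  have := fx (F.odd_cent D.p2 D.EU D.cU F.rr.sq (pow_mem (mul_mem D.eU D.ρU) 2) _ (cj' D.eU hu)).symm
  rw [sq, cc, cc, cc, ← cc F.e F.e u, F.ee, inv_one, one_mul, mul_one] at this
  rw [← this, u3 D (cj' D.eU (cj' D.ρU hu))]

/-- product over the `ρ`-orbit -/
def pr (F : Fr G) (y : G) : G := y * (F.ρ⁻¹ * y * F.ρ) * (F.ρ⁻¹ * (F.ρ⁻¹ * y * F.ρ) * F.ρ)

omit [Finite G] in
theorem pr_mul (D : UD F) (cB : ∀ u ∈ D.U, ∀ b ∈ F.B, Commute b u) {y b : G} (hy : y ∈ D.U)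
    (hb : b ∈ F.B) : pr F (y * b) = pr F y * pr F b := by
  have h2 := cj' D.ρU hy
  have h3 := cj' D.ρU h2
  have b2 := F.ρ_nB hb
  unfold pr
  rw [cm F.ρ y b, cm F.ρ (F.ρ⁻¹ * y * F.ρ)]
  generalize F.ρ⁻¹ * (F.ρ⁻¹ * b * F.ρ) * F.ρ = b3 at *
  generalize F.ρ⁻¹ * (F.ρ⁻¹ * y * F.ρ) * F.ρ = y3 at *
  generalize F.ρ⁻¹ * b * F.ρ = b' at *
  generalize F.ρ⁻¹ * y * F.ρ = y2 at *
  calc _ = y * (b * y2) * (b' * y3) * b3 := by group
    _ = y * y2 * (b * y3) * b' * b3 := by rw [(cB _ h2 _ hb).eq, (cB _ h3 _ b2).eq]; group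
    _ = _ := by rw [(cB _ h3 _ hb).eq]; group

omit [Finite G] in
theorem pr_s : pr F F.s = F.s := by unfold pr; rw [fx F.sρ, fx F.sρ, F.ss, one_mul]
omit [Finite G] in
theorem pr_z : pr F F.z = 1 := by unfold pr; rw [F.zρ', F.dρ']; rw [← F.w_one]; hl_w
omit [Finite G] in
theorem pr_d : pr F F.d = 1 := by unfold pr; rw [F.dρ', cm, F.zρ', F.dρ']; rw [← F.w_one]; hl_w

/-- normalisation of `y` -/
theorem norm_y (D : UD F) (cB : ∀ u ∈ D.U, ∀ b ∈ F.B, Commute b u) {y b : G} (hy : y ∈ D.U)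
    (yy : y * y = 1) (hN : pr F y ∈ F.B) (hb : b ∈ F.B) (ey : F.e⁻¹ * y * F.e = y * b) :
    ∃ k ∈ F.B, pr F (y * k) = 1 ∧ Commute F.e (y * k) := by
  have BU : F.B ≤ D.U := F.B_E.trans D.EU
  have sq : ∀ k ∈ F.B, y * k * (y * k) = 1 := fun k hk => by
    rw [mul_assoc, ← mul_assoc k, (cB y hy k hk).eq, mul_assoc, F.el_E (F.B_E hk), mul_one, yy]
  obtain ⟨k, hk, ke, p1⟩ : ∃ k ∈ F.B, F.e⁻¹ * k * F.e = k ∧ pr F (y * k) = 1 := by
    rcases F.fix_ρ F.rr hN (xf (by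
      have c := (cB y hy _ hN).eq
      unfold pr at c ⊢
      rw [cm, cm, u3 D hy]
      rw [mul_assoc y, mul_assoc y] at c
      rw [mul_left_cancel c, mul_assoc y])).symm with e | e
    · exact ⟨1, one_mem _, by simp, by rwa [mul_one]⟩
    · exact ⟨F.s, F.s_B, fx F.se, by rw [pr_mul D cB hy F.s_B, e, pr_s, F.ss]⟩
  have hy' := mul_mem hy (BU hk)
  have ey' : F.e⁻¹ * (y * k) * F.e = y * k * b := by
    rw [cm, ey, ke, mul_assoc, (cBB F hb hk).eq, mul_assoc]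
  have yy' := sq k hk
  generalize hu : y * k = u at hy' ey' yy' p1
  have pb : pr F b = 1 := by
    have e1 := u2 D hy'
    have e2 := u2 D (cj' D.ρU hy')
    rw [e1, u3 D (cj' D.ρU (cj' D.eU hy'))] at e2
    have p2 := pr_mul D cB hy' hb
    rw [p1, one_mul, ← ey'] at p2
    have q2 : F.ρ⁻¹ * u * F.ρ * (F.ρ⁻¹ * u * F.ρ) = 1 := by rw [← cm, yy']; simp
    have q3 : F.ρ⁻¹ * (F.ρ⁻¹ * u * F.ρ) * F.ρ * (F.ρ⁻¹ * (F.ρ⁻¹ * u * F.ρ) * F.ρ) = 1 := by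
      rw [← cm, q2]; simp
    unfold pr at p1
    rw [← p2]
    unfold pr
    rw [← e1, ← e2, ← cm, ← cm, cj_eq_one]
    generalize F.ρ⁻¹ * (F.ρ⁻¹ * u * F.ρ) * F.ρ = u3 at *
    generalize F.ρ⁻¹ * u * F.ρ = u2 at *
    have : (u * u3 * u2)⁻¹ = u⁻¹ * (u * u2 * u3) * u := by
      rw [mul_inv_rev, mul_inv_rev, inv_eq_of_mul_eq_one_right q2, inv_eq_of_mul_eq_one_right q3]
      nth_rewrite 1 [inv_eq_of_mul_eq_one_right yy']
      group
    rwa [p1, mul_one, inv_mul_cancel, inv_eq_one] at this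
  have hb' := F.fix_e hb (xf (by
    have : F.e⁻¹ * (F.e⁻¹ * u * F.e) * F.e = u := by rw [← cc, F.ee]; group
    rw [ey', cm, ey', mul_assoc] at this
    rw [← inv_eq_of_mul_eq_one_right (mul_eq_left.1 this), inv_eq_of_mul_eq_one_right (F.el_E (F.B_E hb))])).symm
  have hb2 : b = 1 ∨ b = F.z := by
    rcases hb' with e | e | e | e
    · exact Or.inl e
    · exact Or.inr e
    · rw [e, pr_s] at pb; exact Or.inl (e.trans pb)
    · rw [e, pr_mul D cB (BU F.s_B) (z_B F), pr_s, pr_z, mul_one] at pb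
      exact Or.inr (by rw [e, pb, one_mul])
  rcases hb2 with rfl | rfl
  · exact ⟨k, hk, hu ▸ p1, hu ▸ (xf (by rw [ey', mul_one])).symm⟩
  · refine ⟨k * F.d, mul_mem hk (d_B F), ?_, ?_⟩ <;> rw [← mul_assoc, hu]
    · rw [pr_mul D cB hy' (d_B F), p1, pr_d, one_mul]
    · refine (xf ?_).symm
      rw [cm, ey', de, mul_assoc, ← mul_assoc F.z, F.zd.eq, mul_assoc F.d, F.zz, mul_one]

theorem la_of (D : UD F) (cB : ∀ u ∈ D.U, ∀ b ∈ F.B, Commute b u) {y b m : G} (hy : y ∈ D.U)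
    (yt : y⁻¹ * F.t * y = F.t * F.z) (yy : y * y = 1) (hN : pr F y ∈ F.B) (hb : b ∈ F.B)
    (ey : F.e⁻¹ * y * F.e = y * b) (hm : m ∈ D.U) (mm : m * m = 1) (my : Commute m y)
    (mρ : Commute m F.ρ) (em : Commute F.e m)
    (tm : (m = 1 ∧ (F.s ≠ 1 → ¬ IsConj F.t (F.t * F.s))) ∨ (F.s ≠ 1 ∧ F.t * m * F.t = m * F.s)) :
    Nonempty (La F) := by
  have BU : F.B ≤ D.U := F.B_E.trans D.EU
  obtain ⟨k, hk, p1, eu⟩ := norm_y D cB hy yy hN hb ey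
  have h1 := mul_mem hy (BU hk)
  have t1 : (y * k)⁻¹ * F.t * (y * k) = F.t * F.z := by
    rw [cc, yt, fx (F.comm_E (mul_mem F.t_E (F.B_E (z_B F))) (F.B_E hk))]
  have q1 : y * k * (y * k) = 1 := by
    rw [mul_assoc, ← mul_assoc k, (cB y hy k hk).eq, mul_assoc, F.el_E (F.B_E hk), mul_one, yy]
  have m1 : Commute m (y * k) := my.mul_right (cB m hm k hk).symm
  generalize y * k = u at h1 t1 q1 m1 p1 eu
  have h2 := cj' D.ρU h1
  have t2 : (F.ρ⁻¹ * u * F.ρ)⁻¹ * F.t * (F.ρ⁻¹ * u * F.ρ) = F.t * F.d := by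
    rw [cc, cc, fx F.tρ.inv_right, t1, cm, fx F.tρ, F.zρ']
  have q2 : F.ρ⁻¹ * u * F.ρ * (F.ρ⁻¹ * u * F.ρ) = 1 := by rw [← cm, q1]; simp
  have q3 : F.ρ⁻¹ * (F.ρ⁻¹ * u * F.ρ) * F.ρ * (F.ρ⁻¹ * (F.ρ⁻¹ * u * F.ρ) * F.ρ) = 1 := by
    rw [← cm, q2]; simp
  have m2 : Commute m (F.ρ⁻¹ * u * F.ρ) := (mρ.inv_right.mul_right m1).mul_right mρ
  have r3 : F.ρ⁻¹ * (F.ρ⁻¹ * u * F.ρ) * F.ρ = u * (F.ρ⁻¹ * u * F.ρ) := by
    unfold pr at p1
    rw [eq_inv_of_mul_eq_one_left p1, inv_eq_of_mul_eq_one_right q3]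
  have e2 := u2 D h1
  rw [fx eu.symm, r3, ei] at e2
  rw [r3] at q3
  obtain ⟨x, hx⟩ : ∃ x, x = F.ρ⁻¹ * u * F.ρ := ⟨_, rfl⟩
  rw [← hx] at h2 t2 q2 q3 m2 r3 e2
  have c12 : Commute u x := by
    have := inv_eq_of_mul_eq_one_right q3
    rw [mul_inv_rev, inv_eq_of_mul_eq_one_right q1, inv_eq_of_mul_eq_one_right q2] at this
    exact this.symm
  set A := closure ({F.s, m, F.z, F.d, u, x} : Set G) with hA
  have BA : F.B ≤ A := closure_mono (by rintro _ (rfl | rfl | rfl) <;> simp)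
  have AU : A ≤ D.U := (closure_le _).2 (by
    rintro _ (rfl | rfl | rfl | rfl | rfl | rfl)
    exacts [BU F.s_B, hm, BU (z_B F), BU (d_B F), h1, h2])
  have cg : ∀ g ∈ D.U, Commute m g → Commute u g → Commute x g → ∀ a ∈ A, Commute a g := fun g hg a1 a2 a3 a ha => by
    have : A ≤ centralizer {g} := (closure_le _).2 (by
      rintro _ (rfl | rfl | rfl | rfl | rfl | rfl) <;> refine mem_centralizer_singleton_iff.2 ?_
      exacts [cB g hg _ F.s_B, a1, cB g hg _ (z_B F), cB g hg _ (d_B F), a2, a3])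
    exact mem_centralizer_singleton_iff.1 (this ha)
  have cA : ∀ a ∈ A, ∀ a' ∈ A, Commute a a' := fun a ha a' ha' =>
    cg a' (AU ha') (cg m hm (Commute.refl _) m1.symm m2.symm a' ha').symm
      (cg u h1 m1 (Commute.refl _) c12.symm a' ha').symm (cg x h2 m2 c12 (Commute.refl _) a' ha').symm a ha
  have tA : F.t ∉ A := fun h =>
    F.z1 (mul_eq_left.1 (t1.symm.trans (fx (cg u h1 m1 (Commute.refl _) c12.symm _ h))))
  have ta : ∀ {a v}, a⁻¹ * F.t * a = F.t * v → v ∈ F.B → F.t * a * F.t = a * v := fun {a v} e hv => by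
    calc _ = a * (a⁻¹ * F.t * a) * F.t := by group
      _ = _ := by rw [e, (F.comm_E F.t_E (F.B_E hv)).eq, mul_assoc, mul_assoc, F.tt, mul_one]
  refine ⟨⟨A, m, u, x, rfl, fun a ha => ?_, tA, fun a ha ht => ?_, D.nB, ta t1 (z_B F), ta t2 (d_B F), tm,
    hx.symm, r3, mρ, eu, e2, em⟩⟩
  · induction ha using closure_induction with
    | mem x hx =>
      rcases hx with rfl | rfl | rfl | rfl | rfl | rfl
      exacts [F.ss, mm, F.zz, F.dd, q1, q2]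
    | one => simp
    | mul x y hx hy ex ey => rw [mul_assoc, ← mul_assoc y, (cA _ hy _ hx).eq, mul_assoc, ey, mul_one, ex]
    | inv x hx ex => rw [← mul_inv_rev, ex, inv_one]
  · obtain ⟨x, hx, rfl | rfl⟩ := F.mem_E.1 (D.cU a (AU ha) ht)
    exacts [hx, absurd ((A.mul_mem_cancel_right (BA hx)).1 ha) tA]

omit [Finite G] in
theorem fo_of (D : K4 F) {y1 : G} (h1 : y1 ∈ D.U) (t1 : y1⁻¹ * F.t * y1 = F.t * F.z)
    (hN : y1 * (F.ρ⁻¹ * y1 * F.ρ) * (F.ρ⁻¹ * (F.ρ⁻¹ * y1 * F.ρ) * F.ρ) ∈ F.B) (q1 : y1 * y1 = F.z) :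
    Nonempty (Fo D) := by
  have h2 := cj' D.ρU h1
  have h3 := cj' D.ρU h2
  have t2 : (F.ρ⁻¹ * y1 * F.ρ)⁻¹ * F.t * (F.ρ⁻¹ * y1 * F.ρ) = F.t * F.d := by
    rw [cc, cc, fx F.tρ.inv_right, t1, cm, fx F.tρ, F.zρ']
  have q2 := (cm F.ρ y1 y1).symm
  have q3 := (cm F.ρ (F.ρ⁻¹ * y1 * F.ρ) (F.ρ⁻¹ * y1 * F.ρ)).symm
  rw [q2] at q3
  generalize F.ρ⁻¹ * (F.ρ⁻¹ * y1 * F.ρ) * F.ρ = y3 at *
  generalize F.ρ⁻¹ * y1 * F.ρ = y2 at *
  have c12 : Commute y1 y2 := by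
    have a : y1 * y2 * (y1 * y2) * (y3 * y3) = 1 := by
      have c := (D.cB _ h3 _ hN).eq
      calc _ = y1 * y2 * (y1 * y2 * y3 * y3) := by group
        _ = _ := by rw [c, ← mul_assoc, F.el_E (F.B_E hN)]
    have : y1 * y1 * (y2 * y2) * (y3 * y3) = 1 := by
      rw [q2, q3]
      rw [q1, F.zρ', F.dρ']; rw [← F.w_one]; hl_w
    have := mul_right_cancel (this.trans a.symm)
    rw [mul_assoc, mul_assoc, ← mul_assoc y1 y2, ← mul_assoc y2 y1] at this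
    exact mul_right_cancel (mul_left_cancel this)
  set A := closure ((F.B : Set G) ∪ {y1, y2}) with hA
  have BA : F.B ≤ A := fun x hx => subset_closure (Or.inl hx)
  have a1 : y1 ∈ A := subset_closure (Or.inr (Or.inl rfl))
  have a2 : y2 ∈ A := subset_closure (Or.inr (Or.inr rfl))
  have AU : A ≤ D.U := (closure_le _).2 (by
    rintro x (hx | rfl | rfl); exacts [D.EU (F.B_E hx), h1, h2])
  have cA : ∀ x ∈ A, ∀ y ∈ A, Commute x y := fun x hx y hy => by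
    have : A ≤ centralizer (A : Set G) := (closure_le _).2 (by
      rw [hA, centralizer_closure]
      rintro u (hu | hu | hu) v (hv | hv | hv) <;> (try rw [hu]) <;> (try rw [hv])
      exacts [cBB F hv hu, (D.cB _ h1 _ hu).symm, (D.cB _ h2 _ hu).symm, D.cB _ h1 _ hv, c12.symm,
        D.cB _ h2 _ hv, c12])
    exact this hy x hx
  have trA : ∀ v ∈ F.V, ∃ a ∈ A, a⁻¹ * F.t * a = F.t * v := fun v hv => by
    rcases F.mem_V.1 hv with rfl | rfl | rfl | rfl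
    exacts [⟨1, one_mem _, by simp⟩, ⟨y1, a1, t1⟩, ⟨y2, a2, t2⟩,
      ⟨y1 * y2, mul_mem a1 a2, by rw [cc, t1, cm, t2, fx (D.cB _ h2 _ (z_B F)), mul_assoc]⟩]
  have ta : ∀ {a v}, a⁻¹ * F.t * a = F.t * v → v ∈ F.B → F.t * a * F.t = a * v := fun {a v} e hv => by
    calc _ = a * (a⁻¹ * F.t * a) * F.t := by group
      _ = _ := by rw [e, (F.comm_E F.t_E (F.B_E hv)).eq, mul_assoc, mul_assoc, F.tt, mul_one]
  rw [q1, F.zρ'] at q2
  refine ⟨⟨A, BA, AU, fun a ha => ?_, fun u hu => ?_, fun a ha => ?_, fun v hv => ?_⟩⟩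
  · induction ha using closure_induction with
    | mem x hx =>
      refine eq_inv_of_mul_eq_one_right ?_
      rcases hx with hx | rfl | rfl
      · rw [(F.comm_E F.t_E (F.B_E hx)).eq, mul_assoc x, F.tt, mul_one, F.el_E (F.B_E hx)]
      · rw [ta t1 (z_B F), ← mul_assoc, q1, F.zz]
      · rw [ta t2 (d_B F), ← mul_assoc, q2, F.dd]
    | one => simp [F.tt]
    | mul x y hx hy ex ey =>
      calc _ = F.t * x * (F.t * F.t) * y * F.t := by rw [F.tt]; group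
        _ = F.t * x * F.t * (F.t * y * F.t) := by group
        _ = _ := by rw [ex, ey, (cA _ hx _ hy).eq, mul_inv_rev]
    | inv x hx ex => nth_rewrite 2 [← ex]; rw [mul_inv_rev, mul_inv_rev, inv_eq_of_mul_eq_one_right F.tt, mul_assoc]
  · obtain ⟨v, hv, e⟩ := hv D hu
    obtain ⟨a, ha, f⟩ := trA v hv
    obtain ⟨x, hx, k | k⟩ := F.mem_E.1 (D.cU _ (mul_mem hu (inv_mem (AU ha))) (xf (by rw [cc, e, bk f]))) <;>
      rw [mul_inv_eq_iff_eq_mul.1 k]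
    · exact Or.inl (mul_mem (BA hx) ha)
    · exact Or.inr (by rw [← mul_assoc, ← mul_assoc, F.tt, one_mul]; exact mul_mem (BA hx) ha)
  · induction ha using closure_induction with
    | mem x hx =>
      rcases hx with hx | rfl | rfl
      exacts [F.el_E (F.B_E hx) ▸ one_mem _, q1 ▸ F.z_V, q2 ▸ F.d_V]
    | one => simp
    | mul x y hx hy ex ey =>
      rw [mul_assoc, ← mul_assoc y, (cA _ hy _ hx).eq, mul_assoc, ← mul_assoc]; exact mul_mem ex ey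
    | inv x hx ex => rw [← mul_inv_rev]; exact inv_mem ex
  · rcases F.mem_V.1 hv with rfl | rfl | rfl | rfl
    exacts [⟨1, one_mem _, one_mul _⟩, ⟨y1, a1, q1⟩, ⟨y2, a2, q2⟩, ⟨y2 * y1, mul_mem a2 a1, by
      rw [mul_assoc, ← mul_assoc y1, c12.eq, mul_assoc, ← mul_assoc, q1, q2]⟩]

theorem four (D : K4 F) (A : Subgroup G) (hB : F.B ≤ A) (hU : A ≤ D.U)
    (hi : ∀ a ∈ A, F.t * a * F.t = a⁻¹) (hd : ∀ u ∈ D.U, u ∈ A ∨ F.t * u ∈ A)
    (hs : ∀ a ∈ A, a * a ∈ F.V) (hs' : ∀ v ∈ F.V, ∃ a ∈ A, a * a = v) {P : Subgroup G}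
    (hP : SylIn 2 P (normalizer (F.B : Set G))) (UP : D.U ≤ P) (eP : F.e ∈ P) :
    SylIn 2 P ⊤ ∧ P ≤ normalizer (F.V : Set G) ∧
      (∀ p ∈ P, Commute F.z p) ∧ (F.s ≠ 1 → P ⊓ centralizer (F.B : Set G) = D.U) := by
  haveI := Fact.mk Nat.prime_two
  have cA : ∀ a ∈ A, ∀ b ∈ A, Commute a b := fun a ha b hb => by
    have : (a * b)⁻¹ = (b * a)⁻¹ := by
      calc _ = F.t * a * (F.t * F.t) * b * F.t := by rw [← hi _ (mul_mem ha hb), F.tt]; group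
        _ = F.t * a * F.t * (F.t * b * F.t) := by group
        _ = _ := by rw [hi a ha, hi b hb, mul_inv_rev]
    exact inv_injective this
  obtain ⟨az, haz, sz⟩ := hs' _ F.z_V
  obtain ⟨ad, had, sd⟩ := hs' _ F.d_V
  have inv : ∀ f ∈ D.U, f ∉ A → f * f = 1 ∧ ∀ a ∈ A, f⁻¹ * a * f = a⁻¹ := fun f hf hfA => by
    have k := (hd f hf).resolve_left hfA
    have e : f = F.t * (F.t * f) := by rw [← mul_assoc, F.tt, one_mul]
    generalize F.t * f = u at k e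
    subst e
    refine ⟨by rw [← mul_assoc, hi u k, inv_mul_cancel], fun a ha => ?_⟩
    rw [cc, inv_eq_of_mul_eq_one_right F.tt, hi a ha, fx (cA _ (inv_mem ha) _ k)]
  have tA : F.t ∉ A := fun h => F.z1 (by
    rw [← sz]; nth_rewrite 1 [← inv_inv az, ← hi az haz, (cA _ h _ haz).eq, mul_assoc, F.tt, mul_one]
    exact inv_mul_cancel _)
  have iB : ∀ a ∈ A, a * a = 1 → a ∈ F.B := fun a ha h => by
    have := hi a ha
    rw [inv_eq_of_mul_eq_one_right h] at this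
    obtain ⟨b, hb, rfl | rfl⟩ := F.mem_E.1 (D.cU a (hU ha)
      (xf (by rwa [inv_eq_of_mul_eq_one_right F.tt])).symm)
    exacts [hb, absurd ((A.mul_mem_cancel_right (hB hb)).1 ha) tA]
  have EP := D.EU.trans UP
  have nB : ∀ p ∈ P, ∀ b ∈ F.B, p⁻¹ * b * p ∈ F.B := fun p hp b hb => cj' (hP.le hp) hb
  have CU : F.s ≠ 1 → P ⊓ centralizer (F.B : Set G) = D.U := fun h2 => by
    obtain ⟨W0, pW0, -, cW0, -, mx, -, w3⟩ := D.cenB
    have s0 : SylIn 2 W0 (centralizer (F.B : Set G)) :=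
      ⟨fun w hw => cW0 w hw, pW0, fun Y pY h1 h2 => mx Y pY h1 fun y hy => h2 hy⟩
    refine (eq_of_le_of_card_ge (le_inf UP fun u hu => show u ∈ centralizer (F.B : Set G) from D.cB u hu) ?_).symm
    rw [cardU D, F.card_B h2]
    exact (s0.card_le hP.pgroup.to_inf_left inf_le_right).trans (w3 h2)
  have star : ∀ f ∈ P, (∀ v ∈ F.V, Commute v f) → (∃ c ∈ F.E, f⁻¹ * F.t * f = F.t * c) → f ∈ D.U := by
    rintro f hf hV ⟨c, hc, e⟩
    have hn : f ∈ normalizer (F.E : Set G) := Fr.norm_of fun x hx => by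
      obtain ⟨b, hb, rfl | rfl⟩ := F.mem_E.1 hx
      · exact F.B_E (nB f hf _ hb)
      · rw [cm, e]; exact mul_mem (mul_mem F.t_E hc) (F.B_E (nB f hf _ hb))
    refine (D.syl (P ⊓ normalizer (F.E : Set G)) hP.pgroup.to_inf_left inf_le_right (le_inf UP D.UN)
      ⟨eP, F.e_nE⟩ f ⟨hf, hn⟩).resolve_right fun k => F.not_de ?_
    simpa using (hV _ F.d_V).inv_right.mul_right (D.cB _ k _ (d_B F))
  have nUA : F.s ≠ 1 → (∀ p ∈ P, ∀ u ∈ D.U, p⁻¹ * u * p ∈ D.U) ∧ ∀ p ∈ P, ∀ a ∈ A, p⁻¹ * a * p ∈ A := fun h2 => by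
    have a : ∀ p ∈ P, ∀ u ∈ D.U, p⁻¹ * u * p ∈ D.U := fun p hp u hu => by
      rw [← CU h2]
      refine ⟨P.mul_mem (P.mul_mem (P.inv_mem hp) (UP hu)) hp, fun b hb => xf ?_⟩
      rw [cc, cc, fx (D.cB u hu _ (nB _ (inv_mem hp) b hb))]; group
    refine ⟨a, fun p hp u hu => by_contra fun k => k (hB (nB p hp u (iB u hu ?_)))⟩
    have := (inv _ (a p hp u (hU hu)) k).1
    rwa [← cm, cj_eq_one] at this
  have nV : ∀ p ∈ P, ∀ v ∈ F.V, p⁻¹ * v * p ∈ F.V := fun p hp v hv => by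
    by_cases h2 : F.s = 1
    · rw [← F.B_eq h2] at hv ⊢; exact nB p hp v hv
    · obtain ⟨a, ha, rfl⟩ := hs' v hv
      rw [cm]; exact hs _ ((nUA h2).2 p hp a ha)
  have cz : ∀ p ∈ P, Commute F.z p := by
    obtain ⟨⟨v, hv, hc⟩, v1⟩ := ne_bot_iff_exists_ne_one.1 (inf_centralizer_ne_bot hP.pgroup
      (F.p2_E.to_le (F.V_B.trans F.B_E)) (fun p hp => Fr.norm_of (nV p hp))
      fun e => F.z1 (mem_bot.1 (e ▸ F.z_V)))
    have := fx (Commute.symm (hc _ eP))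
    rcases F.mem_V.1 hv with rfl | rfl | rfl | rfl
    · exact absurd rfl v1
    · exact fun p hp => Commute.symm (hc p hp)
    · rw [de] at this; exact absurd (mul_eq_left.1 this) F.z1
    · rw [dze] at this; exact absurd (mul_eq_left.1 this.symm) F.z1
  have cd : ∀ p ∈ P, p⁻¹ * F.d * p = F.d ∨ p⁻¹ * F.d * p = F.d * F.z := fun p hp => by
    rcases F.mem_V.1 (nV p hp _ F.d_V) with e | e | e
    exacts [absurd (cj_eq_one.1 e) F.d1, absurd (inj (e.trans (fx (cz p hp)).symm)) F.d_ne_z, e]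
  have cv : ∀ p ∈ P, ∀ v ∈ F.V, p⁻¹ * v * p = v ∨ p⁻¹ * v * p = v * F.z := fun p hp v hv => by
    rcases F.mem_V.1 hv with rfl | rfl | rfl | rfl
    · exact Or.inl (by simp)
    · exact Or.inl (fx (cz p hp))
    · exact cd p hp
    · rw [cm, fx (cz p hp)]; exact (cd p hp).imp (fun e => by rw [e]) fun e => by rw [e]
  refine ⟨⟨le_top, hP.pgroup, fun S pS hS _ => by_contra fun hne => ?_⟩, fun p hp => Fr.norm_of (nV p hp), cz, CU⟩
  obtain ⟨x, ⟨xS, xP⟩, xn⟩ := SetLike.exists_of_lt (lt_inf_normalizer_of_lt pS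
    (lt_of_le_of_ne hS (Ne.symm hne)))
  refine xn ((hP.max (S ⊓ normalizer (F.B : Set G)) pS.to_inf_left (le_inf hS hP.le) inf_le_right).le
    ⟨xS, Fr.norm_of (H := F.B) ?_⟩)
  have nx : ∀ {H : Subgroup G}, (∀ p ∈ P, ∀ h ∈ H, p⁻¹ * h * p ∈ H) → ∀ p ∈ P, ∀ f ∈ cjs H x,
      p⁻¹ * f * p ∈ cjs H x := fun h p hp f hf => mem_cjs.2 (by
    have := h _ (cj xP hp) _ (mem_cjs.1 hf)
    rwa [show (x * p * x⁻¹)⁻¹ * (x * f * x⁻¹) * (x * p * x⁻¹) = x * (p⁻¹ * f * p) * x⁻¹ by group] at this)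
  have sqV : ∀ f, (∀ a ∈ A, ∃ c, c * c = 1 ∧ Commute a c ∧ f⁻¹ * a * f = a * c) → ∀ v ∈ F.V, Commute v f :=
    fun f h v hv => by
      obtain ⟨a, ha, rfl⟩ := hs' v hv
      obtain ⟨c, c1, c2, e⟩ := h a ha
      exact xf (by rw [cm, e, mul_assoc, ← mul_assoc c, ← c2.eq, mul_assoc, c1, mul_one])
  by_cases h2 : F.s = 1
  · intro v hv
    rw [F.B_eq h2] at hv
    have vP := cj' xP (EP (F.B_E (F.V_B hv)))
    have cζ : ∀ p ∈ P, Commute p (x⁻¹ * F.z * x) := fun p hp => by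
      simpa [mul_assoc] using comm_cj (cz _ (cj xP hp)).symm x
    have ζE := F.memE hP.pgroup EP (cj' xP (EP (F.B_E (z_B F)))) (cζ _ (EP F.t_E)) (cζ _ (EP (F.B_E (z_B F))))
      (cζ _ (EP (F.B_E (d_B F))))
    have vv := sq_cj (F.el_E (F.B_E (F.V_B hv))) x
    have k : ∀ p ∈ P, (x⁻¹ * v * x)⁻¹ * p * (x⁻¹ * v * x) = p ∨
        (x⁻¹ * v * x)⁻¹ * p * (x⁻¹ * v * x) = p * (x⁻¹ * F.z * x) := fun p hp => by
      have e : (x⁻¹ * v * x)⁻¹ * p * (x⁻¹ * v * x) =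
        p * (x⁻¹ * (((x * p * x⁻¹)⁻¹ * v * (x * p * x⁻¹))⁻¹ * v) * x) := by group
      rw [e]
      rcases cv _ (cj xP hp) v hv with f | f <;> rw [f]
      · exact Or.inl (by group)
      · exact Or.inr (by rw [mul_inv_rev, inv_mul_cancel_right, inv_eq_of_mul_eq_one_right F.zz])
    generalize x⁻¹ * v * x = f at *
    generalize x⁻¹ * F.z * x = ζ at *
    have fU := star f vP (sqV f fun a ha => (k a (UP (hU ha))).elim
      (fun e => ⟨1, one_mul _, Commute.one_right _, by rw [e, mul_one]⟩)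
      fun e => ⟨ζ, F.el_E ζE, cζ a (UP (hU ha)), e⟩)
      ((k _ (EP F.t_E)).elim (fun e => ⟨1, one_mem _, by rw [e, mul_one]⟩) fun e => ⟨ζ, ζE, e⟩)
    refine iB f (by_contra fun fA => ?_) vv
    have a : ∀ a ∈ A, a * a = 1 ∨ a * a * ζ = 1 := fun a ha =>
      (k a (UP (hU ha))).imp (fun e => by nth_rewrite 1 [← e]; rw [(inv f fU fA).2 a ha, inv_mul_cancel])
        fun e => by rw [mul_assoc, ← e, (inv f fU fA).2 a ha, mul_inv_cancel]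
    have a1 := a _ haz
    have a2 := a _ had
    rw [sz] at a1
    rw [sd] at a2
    exact F.d_ne_z (mul_right_cancel ((a2.resolve_left F.d1).trans (a1.resolve_left F.z1).symm))
  obtain ⟨nU, nA⟩ := nUA h2
  have BP : cjs F.B x ≤ P := cjs_ind fun b hb => cj' xP (EP (F.B_E hb))
  have el : ∀ f ∈ cjs F.B x, f * f = 1 := cjs_ind fun b hb => sq_cj (F.el_E (F.B_E hb)) x
  by_cases hI : ∀ f ∈ cjs F.B x, f ∈ D.U → f ∈ A
  · intro b hb
    have hf := cj_cjs x hb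
    generalize x⁻¹ * b * x = f at hf
    have cm1 : ∀ p ∈ P, p⁻¹ * (f⁻¹ * p * f) ∈ cjs F.B x := fun p hp => by
      simpa [mul_assoc] using mul_mem (nx nB p hp _ (inv_mem hf)) hf
    refine iB f (hI f hf (star f (BP hf) (sqV f fun a ha => ⟨_, el _ (cm1 a (UP (hU ha))),
      cA _ ha _ (mul_mem (inv_mem ha) (nA f (BP hf) a ha)), by group⟩) ⟨_, F.B_E (iB _ (hI _ (cm1 _ (EP F.t_E))
      (mul_mem (inv_mem (D.EU F.t_E)) (nU f (BP hf) _ (D.EU F.t_E)))) (el _ (cm1 _ (EP F.t_E)))), by group⟩)) (el f hf)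
  push Not at hI
  obtain ⟨f, hf, fU, fA⟩ := hI
  have fi := (inv f fU fA).2
  have VB : F.V ≤ cjs F.B x := fun v hv => by
    obtain ⟨a, ha, rfl⟩ := hs' v hv
    have := mul_mem (inv_mem hf) (nx nB a (UP (hU ha)) f hf)
    rwa [show f⁻¹ * (a⁻¹ * f * a) = f⁻¹ * a⁻¹ * f * a by group, fi _ (inv_mem ha), inv_inv] at this
  have cx : ∀ a ∈ cjs A x, ∀ b ∈ cjs F.B x, Commute b a :=
    cjs_ind fun a ha => cjs_ind fun b hb => comm_cj (D.cB a (hU ha) b hb) x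
  have ha := cj_cjs x haz
  have a1 : x⁻¹ * az * x * (x⁻¹ * az * x) ≠ 1 := by rw [← cm, sz, Ne, cj_eq_one]; exact F.z1
  have aP := cj' xP (UP (hU haz))
  generalize x⁻¹ * az * x = a at ha a1 aP
  have tf := (hd f fU).resolve_left fA
  have c1 : (F.t * f)⁻¹ * (a⁻¹ * (F.t * f) * a) ∈ A := mul_mem (inv_mem tf) (nA a aP _ tf)
  have c2 : (F.t * f)⁻¹ * (a⁻¹ * (F.t * f) * a) ∈ cjs A x := by
    simpa [mul_assoc] using mul_mem (nx nA _ (UP (hU tf)) _ (inv_mem ha)) ha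
  have c3 := fi _ c1
  rw [fx (cx _ c2 f hf).symm] at c3
  have c4 := iB _ c1 (by nth_rewrite 1 [c3]; exact inv_mul_cancel _)
  have aU := star a aP (fun v hv => cx a ha v (VB hv)) ⟨_, F.B_E (nB _ (inv_mem (UP fU)) _ c4), by
    have : a⁻¹ * F.t * a = a⁻¹ * (F.t * f) * a * f⁻¹ := by rw [cm, fx (cx a ha f hf)]; group
    rw [this]; group⟩
  by_cases aA : a ∈ A
  · exact absurd (by nth_rewrite 1 [← fx (cx a ha f hf).symm]; rw [fi a aA, inv_mul_cancel]) a1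
  · exact absurd (inv a aU aA).1 a1

end

section
open CL.HL CL.HL.Fr CL.HL.Cu
variable {F : Fr G}

theorem cube {D : T8 F} (C : Cu D) {P : Subgroup G} (hP : MSS.SylIn 2 P (normalizer (F.B : Set G)))
    (hUP : D.U ≤ P) : MSS.SylIn 2 P ⊤ ∧ P ⊓ centralizer (F.B : Set G) = D.U := by
  have hPN := hP.le
  have hC : P ⊓ centralizer (F.B : Set G) ≤ D.U :=
    C.sylB (hP.pgroup.to_le inf_le_left) (fun u hu => ⟨hUP hu, D.cB u hu⟩) fun y hy => hy.2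
  have PU : P ≤ normalizer (D.U : Set G) := fun p hp => norm_of fun u hu =>
    hC ⟨P.mul_mem (P.mul_mem (P.inv_mem hp) (hUP hu)) hp, fun b hb => by
      simpa [mul_assoc] using (comm_cj (D.cB u hu _ (norm_cj (inv_mem (hPN hp)) hb)) p).eq⟩
  refine ⟨⟨le_top, hP.pgroup, fun S hS hPS _ => by_contra fun hne => ?_⟩,
    le_antisymm hC fun u hu => ⟨hUP hu, D.cB u hu⟩⟩
  obtain ⟨x, hx, xn, hxP⟩ := exists_norm hS (lt_of_le_of_ne hPS (Ne.symm hne))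
  apply xn
  have nB' : ∀ p ∈ P, ∀ f ∈ cjs F.B x, p⁻¹ * f * p ∈ cjs F.B x := fun p hp f hf => by
    have := norm_cjs (hPN (norm_cj (inv_mem hxP) hp)) x
    exact norm_cj (by simpa [mul_assoc] using this) hf
  have el : ∀ f ∈ cjs F.B x, f * f = 1 :=
    cjs_ind (p := fun x => x * x = 1) fun b hb => sq_cj (bb hb) x
  have hle : cjs F.B x ≤ F.B := fun f hf => by
    have fP : f ∈ P := cjs_ind (p := fun f => f ∈ P)
      (fun b hb => norm_cj hxP (hUP (C.hU (C.hB hb)))) f hf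
    have cm : ∀ a ∈ C.A, a⁻¹ * (f⁻¹ * a * f) ∈ cjs F.B x := fun a ha => by
      have := mul_mem (nB' a (hUP (C.hU ha)) _ (inv_mem hf)) hf
      simpa [mul_assoc] using this
    have fU : f ∈ D.U := hC ⟨fP, fun b hb => by
      obtain ⟨a, ha, rfl⟩ := C.hs' b hb
      have h1 := el _ (cm a ha)
      rw [C.sqm (inv_mem ha) (C.nA (PU fP) ha), ← cj_mul, ← mul_inv_rev, inv_mul_eq_one] at h1
      exact (comm_of_fix h1.symm).eq⟩
    rcases C.decU fU with h | ⟨a0, h, rfl⟩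
    · exact C.invB h (el f hf)
    · have h1 : F.B ≤ cjs F.B x := fun b hb => by
        obtain ⟨a, ha, rfl⟩ := C.hs' b hb
        have := cm _ (inv_mem ha)
        have h2 : (F.t * a0)⁻¹ * a⁻¹ * (F.t * a0) = a := by
          rw [inv_eq_of_mul_eq_one_right (C.ta_sq h), mul_assoc, ← mul_assoc a⁻¹, C.it ha]
          calc _ = (F.t * a0 * F.t) * a * a0 := by group
            _ = _ := by rw [C.hi a0 h, cj_fix (C.ab ha h)]
        rwa [h2, inv_inv] at this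
      rw [← eq_of_le_of_card_ge h1 (by rw [card_cjs])] at hf
      exact hf
  have xB : x ∈ normalizer (F.B : Set G) := norm_of fun b hb => hle (cj_cjs x hb)
  exact (hP.max (S ⊓ normalizer (F.B : Set G)) hS.to_inf_left (le_inf hPS hPN) inf_le_right).le ⟨hx, xB⟩

end
end Spx

open CL.HL

/-- The orbit analysis, keeping track of the frame. -/
theorem orb' (F : Fr G) (h : IsConj F.t (F.t * F.z)) : ∃ F' : Fr G, Same F F' ∧
    (Nonempty (K4 F') ∨ Nonempty (T8 F') ∨ Nonempty (N8 F')) :=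
  Spx.orb F h

variable {F : Fr G}

/-- `K4.split` in coordinates. -/
theorem K4_split (D : K4 F) : Nonempty (La F) ∨ Nonempty (Fo D) := by
  obtain ⟨y1, h1, t1, hN, b, hb, ey⟩ := Ks.exists_y D
  rcases Ks.sq_y D h1 t1 hb ey with q | q
  · exact Or.inl (Spx.la_of D.toUD D.cB h1 t1 q hN hb ey (one_mem _) (one_mul _) (Commute.one_left _)
      (Commute.one_left _) (Commute.one_right _) (Or.inl ⟨rfl, Ks.nts D⟩))
  · exact Or.inr (Spx.fo_of D h1 t1 hN q)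

/-- `T8.split` in coordinates. -/
theorem T8_split (D : T8 F) : Nonempty (La F) ∨ Nonempty (Cu D) := by
  obtain ⟨m0, hm, y0, hy, f1, f2, f3, f4, f5, f6, f7, ⟨q1, q2⟩ | ⟨q1, q2⟩, -⟩ := D.exists_my
  · refine Or.inl (Spx.la_of D.toUD D.cB hy (by rw [cj_eq_cm, f2]) q2 f5 (one_mem _)
      (by rw [mul_one, Ob.fx f7.symm]) hm q1 f4 (Ob.xf f3) f6 (Or.inr ⟨D.two, ?_⟩))
    rw [← f1, ← D.cm_symm D.tU hm, ← cj_eq_cm, inv_eq_of_mul_eq_one_right F.tt]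
  obtain ⟨A, m, y, BA, AU, a1, a2, a3, e1, e2, e3, e4, e5, e6, tA, dec, sur, eA, h⟩ := D.exists_A
  have ta : ∀ a ∈ A, F.t * a * F.t = a * cm F.t a := fun a ha => by
    rw [← D.cm_symm D.tU (AU ha), ← cj_eq_cm, inv_eq_of_mul_eq_one_right F.tt]
  rcases h with h | ⟨h1, h2, h⟩
  · exfalso
    have k1 := (dec m0 hm).resolve_left fun k => D.two (q1.symm.trans (h _ k))
    have k2 := (dec y0 hy).resolve_left fun k => F.z1 (q2.symm.trans (h _ k))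
    have k := cm_eq_one.2 (comm_of_el h k1 k2)
    rw [D.cm_r (AU k1) D.tU hy, D.cm_l D.tU D.tU hm, D.cm_l hy D.tU hm, cm_eq_one.2 f4,
      cm_eq_one.2 (Commute.refl F.t), D.cm_symm D.tU hm, f1, f2, one_mul, mul_one] at k
    exact F.s_nV D.two (eq_inv_of_mul_eq_one_left k ▸ inv_mem F.z_V)
  · refine Or.inr ⟨⟨A, m, y, BA, AU, fun a ha => ?_, dec, fun a ha => D.sqB (AU ha),
      fun b hb => (sur b hb).imp fun a h' => ⟨h'.1, by rw [h a h'.1, h'.2]⟩, a1, a2, h1, h2, e4, e5,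
      e6⟩⟩
    rw [ta a ha, ← h a ha]
    apply eq_inv_of_mul_eq_one_left
    rw [← Cu.bb (D.sqB (AU ha))]; group

/-- The Sylow subgroup in the case `A ≅ 4² × ⟨s⟩`. -/
theorem Fo.syl {D : K4 F} (Q : Fo D) {P : Subgroup G} (hP : MSS.SylIn 2 P (normalizer (F.B : Set G)))
    (hU : D.U ≤ P) (he : F.e ∈ P) : MSS.SylIn 2 P ⊤ ∧ P ≤ normalizer (F.V : Set G) ∧
      (∀ p ∈ P, Commute F.z p) ∧ (F.s ≠ 1 → P ⊓ centralizer (F.B : Set G) = D.U) :=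
  Spx.four D Q.A Q.hB Q.hU Q.hi Q.hd Q.hs Q.hs' hP hU he

/-- The Sylow subgroup in the case `A ≅ 4³`. -/
theorem Cu_syl {D : T8 F} (C : Cu D) {P : Subgroup G} (hP : MSS.SylIn 2 P (normalizer (F.B : Set G)))
    (hU : D.U ≤ P) : MSS.SylIn 2 P ⊤ ∧ P ⊓ centralizer (F.B : Set G) = D.U :=
  Spx.cube C hP hU

end CL.H3
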