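import Cfsg.Agent.INV.H3.Def4
import Cfsg.Agent.INV.H3.Split
import Cfsg.Agent.INV.H3.Loc2
import Cfsg.Agent.INV.H3.CA2

/-! S3140, case `PSp₆(3)`: `A ≅ 4³`, the action of `N(U)`.  `x ^ g = g⁻¹ * x * g`.
For `n ∈ N(U)` write `t ^ n = t a` (`Cu.ntA`) and `β(n) = a²  ∈ B`; then `β(n n') = β(n) ^ n' * β(n')`, `β` is
constant on cosets of `U`, `β(e) = β(ρ) = 1`. -/

set_option autoImplicit false
open Subgroup

namespace CL.H3.CA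
open CL.HL
variable {G : Type*} [Group G] [Finite G] {F : Fr G} {D : T8 F} (C : Cu D)

/-- `r = ` conjugation by `ρ` has `r³ = 1` on `U` and `e r e = r⁻¹` (`Spx.u3`, `Spx.u2`); `N(a) = a · r a · r² a`
(`Spx.pr`) is a homomorphism of `A` to `C_A(ρ)` commuting with `e`.  `m = N(C.m)⁻¹`: `m² = N(s) = s`.
`y = C.y · N(C.y)` has `N(y) = N(C.y)⁴ = 1`, `y² = z N(z) = z`, `y ^ e = y`.  `i = s y`. -/
theorem nf : ∃ m ∈ C.A, ∃ i ∈ C.A, m * m = F.s ∧ i * i = F.z ∧ Commute m F.ρ ∧ Commute F.e m ∧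
    Commute F.e i ∧ F.e * (F.ρ⁻¹ * i * F.ρ) * F.e = F.ρ⁻¹ * (F.ρ⁻¹ * i * F.ρ) * F.ρ ∧
    F.ρ⁻¹ * i * F.ρ * (F.ρ⁻¹ * (F.ρ⁻¹ * i * F.ρ) * F.ρ) * i = F.s := by
  exact CA1.nf C

include C in
/-- the argument of `Spx.cube` / `Cu.bound`; `P ∩ C(B) = U` by `Cu.sylB` -/
theorem NB {P : Subgroup G} (hP : IsPGroup 2 P) (hU : D.U ≤ P) (hB : P ≤ normalizer (F.B : Set G)) {x : G}
    (hx : x ∈ normalizer (P : Set G)) : x ∈ normalizer (F.B : Set G) := by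
  exact CA1.NB C hP hU hB hx

include C in
/-- The 2-part of `n` lies in `U` (`sylB`); the odd part centralises `B = Ω₁(A)`, `A / B` (squaring), so `A`, and
`t ^ n = t a` gives `a ^ (order) = 1`. -/
theorem cenB {n : G} (hn : n ∈ normalizer (D.U : Set G)) (h : ∀ b ∈ F.B, Commute b n) :
    ∃ u ∈ D.U, ∃ o, Odd (orderOf o) ∧ (∀ x ∈ D.U, Commute x o) ∧ n = u * o := by
  exact CA1.cenB C hn h

include C in
/-- `β(n) = 1`: `t ^ n = t b = t ^ a`, `n a⁻¹ ∈ C(t) ∩ N(U)` normalises `E = C_U(t)`; `Fr.stab`. -/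
theorem stb {n b : G} (hn : n ∈ normalizer (D.U : Set G)) (hb : b ∈ F.B) (h : n⁻¹ * F.t * n = F.t * b) :
    n ∈ normalizer (F.E : Set G) ∧ Commute F.s n ∧ ∀ v ∈ F.V, n⁻¹ * v * n ∈ F.V := by
  exact CA1.stb C hn hb h

include C in
/-- By `Fr.extr` some conjugate `u ∈ TE` of `t` has `|C_TE(u)| = |T| = 64`.  `u ∉ A` (`invB`, `nB`), `u ≠ e a`
(`inv_e`); for `u = t a`: `C_U(u) = ⟨u⟩ B`, so `≤ 32`; for `u = t e a`: `C_A(u) = {a | a ^ e = a⁻¹}` has order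
`≤ 8` (squares in `⟨z⟩` by `inv_e`, `|C_B(e)| = 4`) and index `≤ 4`. -/
theorem big : ¬ MSS.SylIn 2 D.TE ⊤ := by
  exact CA1.big C

include C in
/-- `S ≤ N(U)` as `S ∩ C(B) = U` (`Cu_syl`), `S > TE` (`big`).  Take `n ∈ N_S(TE) \ TE`, `n² ∈ TE`, `b = β(n) ≠ 1`
(`stb`, `max_TE`).  `e n ∈ n e U` gives `b ^ e = b`, `n²` gives `b ^ n = b`; `n` commutes with `e` on `B`, fixes `z`
and normalises `⟨s, z⟩`.  Put `n₁ = n ^ ρ`.
(1) `s ^ n = s z`: then `b = z`.  If `d ^ n ∈ {d, d z}`, then `w = n` or `n e`.  If `d ^ n ∈ {d s, d s z}`, then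
`β(n₁ n) = d ^ n z ∈ s V#`, so `β(g) = s z` for a `ρ`-conjugate `g`; `β(g n) = β(g)`, so `β(g n g⁻¹) = 1`, but `n²`
induces `e ≠ 1`, `n⁴ = 1` on `B`, against `stb` (an element fixing `s` and `V` has order `≤ 3` on `B`).
(2) `s ^ n = s`: `d ^ n ∉ V` (else `n ∈ TE`), so `d ^ n = d s` after `n ↦ n e`; `b ≠ z` by `Cu.gam`.  `b = s`:
`β(n n₁) = 1` but `d ^ (n n₁) = d s`.  `b = s z`: `z ^ n₁ = z s ∼ s` (`cj_sV`).  `N(U) ∩ C(s)` induces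
`⟨n, n₁, e⟩ ≅ D₈` on `B`, so `1024 ∣ |C(s)| = |C(z)|`; `P = TE ⟨n⟩ ≤ C(z)` has order `≤ 512`; take a 2-group
`P ⟨x⟩ > P` in `C(z) ∩ N(P)`; `x ∈ N(B)` (`NB`), `x ∈ N(U)`; `P ⟨x⟩ / U` has order 8, fixes `z`, so it is the
centraliser of `e` in `Aut B` and contains `w : s ↦ s z, d ↦ d`; `β(w) = z` as in (1); `β(n w) = s z = β(n)`, so
`β(n w n⁻¹) = 1`, but it moves `s`. -/
theorem exw {S : Subgroup G} (hS : MSS.SylIn 2 S (normalizer (F.B : Set G))) (hT : D.TE ≤ S) :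
    ∃ w ∈ normalizer (D.U : Set G), w⁻¹ * F.s * w = F.s * F.z ∧ Commute F.z w ∧ Commute F.d w ∧
      ∃ a ∈ C.A, w⁻¹ * F.t * w = F.t * a ∧ a * a = F.z := by
  obtain ⟨w, -, hw⟩ := CA2.exR C hS hT
  exact ⟨w, (CA2.wA_iff C).1 hw⟩

/-- `w₃ = w`, `w₁ = w ^ ρ`, `w₂ = w₁ ^ ρ` have `β = z, d, d z` and `β(g w_k) = β(g)` if `β(g) ∈ s V`.  Then
`g w₃ g⁻¹`, `g w₁ g⁻¹` satisfy `stb` and induce two different commuting involutions on `V`, impossible.  So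
`β(n) = β(w')`, `w' ∈ {1, w₁, w₂, w₃}`, and `stb` applies to `n w'⁻¹`. -/
theorem om {w : G} (hw : w ∈ normalizer (D.U : Set G)) (ws : w⁻¹ * F.s * w = F.s * F.z) (wz : Commute F.z w)
    (wd : Commute F.d w) {a : G} (ha : a ∈ C.A) (wt : w⁻¹ * F.t * w = F.t * a) (aa : a * a = F.z) {n : G}
    (hn : n ∈ normalizer (D.U : Set G)) : (∀ v ∈ F.V, n⁻¹ * v * n ∈ F.V) ∧
      ∃ a ∈ C.A, n⁻¹ * F.t * n = F.t * a ∧ a * a ∈ F.V := by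
  exact CA2.omR C ((CA2.wA_iff C).2 ⟨hw, ws, wz, wd, a, ha, wt, aa⟩) hn

/-- `S` Sylow in `N(B)` over `TE`.  `N₁ = N(U) ∩ C(V)` is normal in `N(U)` (`om`), so `S ∩ N₁` is Sylow in it and
covers its 2-quotient `N₁ / (N₁ ∩ C(B))`: `w` can be taken in `S` (`β` is unchanged, `cenB`). -/
theorem cw : Nonempty (Cw C) := by
  exact CA2.cw C

end CL.H3.CA
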