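import Cfsg.Agent.INV.H3.Def4
import Cfsg.Agent.INV.H3.Split
import Cfsg.Agent.INV.H3.Loc2

/-! S3140, case `PSp₆(3)`: `A ≅ 4³`, first part.  `x ^ g = g⁻¹ * x * g`. -/

set_option autoImplicit false
open Subgroup

namespace CL.H3.CA1
open CL.HL CL.HL.Fr CL.HL.Cu CL.H3.Spx
variable {G : Type*} [Group G] [Finite G] {F : Fr G} {D : T8 F} (C : Cu D)

omit [Finite G] in
theorem rA {a : G} (ha : a ∈ C.A) : F.ρ⁻¹ * a * F.ρ ∈ C.A := C.nA D.ρU ha

omit [Finite G] in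
theorem prA {a : G} (ha : a ∈ C.A) : pr F a ∈ C.A :=
  mul_mem (mul_mem ha (rA C ha)) (rA C (rA C ha))

omit [Finite G] in
theorem pr_mul' {a b : G} (ha : a ∈ C.A) (hb : b ∈ C.A) : pr F (a * b) = pr F a * pr F b := by
  have a2 := rA C ha
  have a3 := rA C a2
  have b2 := rA C hb
  unfold pr
  rw [Ob.cm F.ρ a b, Ob.cm F.ρ (F.ρ⁻¹ * a * F.ρ)]
  generalize F.ρ⁻¹ * (F.ρ⁻¹ * b * F.ρ) * F.ρ = b3 at *
  generalize F.ρ⁻¹ * (F.ρ⁻¹ * a * F.ρ) * F.ρ = y3 at *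
  generalize F.ρ⁻¹ * b * F.ρ = b' at *
  generalize F.ρ⁻¹ * a * F.ρ = y2 at *
  calc _ = a * (b * y2) * (b' * y3) * b3 := by group
    _ = a * y2 * (b * y3) * b' * b3 := by rw [(C.ab hb a2).eq, (C.ab b2 a3).eq]; group
    _ = _ := by rw [(C.ab hb a3).eq]; group

theorem pr_rot {a : G} (ha : a ∈ C.A) :
    F.ρ⁻¹ * a * F.ρ * (F.ρ⁻¹ * (F.ρ⁻¹ * a * F.ρ) * F.ρ) * a = pr F a := by
  rw [← (C.ab ha (mul_mem (rA C ha) (rA C (rA C ha)))).eq, pr, mul_assoc a]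

theorem pr_fix {a : G} (ha : a ∈ C.A) : F.ρ⁻¹ * pr F a * F.ρ = pr F a := by
  conv_rhs => rw [← pr_rot C ha]
  unfold pr
  rw [Ob.cm, Ob.cm, u3 D.toUD (C.hU ha)]

theorem e_r {a : G} (ha : a ∈ C.A) (h : Commute F.e a) :
    F.e⁻¹ * (F.ρ⁻¹ * a * F.ρ) * F.e = F.ρ⁻¹ * (F.ρ⁻¹ * a * F.ρ) * F.ρ := by
  rw [u2 D.toUD (C.hU ha), Ob.fx h.symm]

theorem pr_e {a : G} (ha : a ∈ C.A) (h : Commute F.e a) : Commute F.e (pr F a) := by
  refine (Ob.xf ?_).symm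
  unfold pr
  rw [Ob.cm, Ob.cm, u2 D.toUD (C.hU (rA C ha)), e_r C ha h, Ob.fx h.symm,
    u3 D.toUD (C.hU (rA C ha)), mul_assoc a, mul_assoc a, (C.ab (rA C ha) (rA C (rA C ha))).eq]

theorem nf : ∃ m ∈ C.A, ∃ i ∈ C.A, m * m = F.s ∧ i * i = F.z ∧ Commute m F.ρ ∧ Commute F.e m ∧
    Commute F.e i ∧ F.e * (F.ρ⁻¹ * i * F.ρ) * F.e = F.ρ⁻¹ * (F.ρ⁻¹ * i * F.ρ) * F.ρ ∧
    F.ρ⁻¹ * i * F.ρ * (F.ρ⁻¹ * (F.ρ⁻¹ * i * F.ρ) * F.ρ) * i = F.s := by
  have hn := prA C C.hy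
  have sA := C.hB F.s_B
  have nn : pr F C.y * pr F C.y = 1 := by rw [← pr_mul' C C.hy C.hy, C.yy, pr_z]
  have pn : pr F (pr F C.y) = pr F C.y := by
    conv_lhs => rw [pr, pr_fix C C.hy, pr_fix C C.hy, nn, one_mul]
  have hy := mul_mem C.hy hn
  have hi := mul_mem sA hy
  have ei : Commute F.e (F.s * (C.y * pr F C.y)) :=
    F.se.symm.mul_right (C.ey.mul_right (pr_e C C.hy C.ey))
  refine ⟨_, prA C C.hm, _, hi, ?_, ?_, Ob.xf (pr_fix C C.hm), pr_e C C.hm C.em, ei, ?_, ?_⟩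
  · rw [← pr_mul' C C.hm C.hm, C.mm, pr_s]
  · rw [C.sqm sA hy, C.sqm C.hy hn, nn, F.ss, C.yy, one_mul, mul_one]
  · rw [← e_r C hi ei, F.e_inv]
  · rw [pr_rot C hi, pr_mul' C sA hy, pr_mul' C C.hy hn, pn, nn, pr_s, mul_one]

include C in
theorem NB {P : Subgroup G} (hP : IsPGroup 2 P) (hU : D.U ≤ P) (hB : P ≤ normalizer (F.B : Set G)) {x : G}
    (hx : x ∈ normalizer (P : Set G)) : x ∈ normalizer (F.B : Set G) := by
  have hC : P ⊓ centralizer (F.B : Set G) ≤ D.U :=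
    C.sylB (hP.to_le inf_le_left) (fun u hu => ⟨hU hu, D.cB u hu⟩) fun y hy => hy.2
  have PU : P ≤ normalizer (D.U : Set G) := fun p hp => norm_of fun u hu =>
    hC ⟨P.mul_mem (P.mul_mem (P.inv_mem hp) (hU hu)) hp, fun b hb => by
      simpa [mul_assoc] using (comm_cj (D.cB u hu _ (norm_cj (inv_mem (hB hp)) hb)) p).eq⟩
  have nB' : ∀ p ∈ P, ∀ f ∈ cjs F.B x, p⁻¹ * f * p ∈ cjs F.B x := fun p hp f hf => by
    have := norm_cjs (hB (norm_cj (inv_mem hx) hp)) x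
    exact norm_cj (by simpa [mul_assoc] using this) hf
  have el : ∀ f ∈ cjs F.B x, f * f = 1 :=
    cjs_ind (p := fun x => x * x = 1) fun b hb => sq_cj (bb hb) x
  have hle : cjs F.B x ≤ F.B := fun f hf => by
    have fP : f ∈ P := cjs_ind (p := fun f => f ∈ P)
      (fun b hb => norm_cj hx (hU (C.hU (C.hB hb)))) f hf
    have cm : ∀ a ∈ C.A, a⁻¹ * (f⁻¹ * a * f) ∈ cjs F.B x := fun a ha => by
      have := mul_mem (nB' a (hU (C.hU ha)) _ (inv_mem hf)) hf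
      simpa [mul_assoc] using this
    have fU : f ∈ D.U := hC ⟨fP, fun b hb => by
      obtain ⟨a, ha, rfl⟩ := C.hs' b hb
      have h1 := el _ (cm a ha)
      rw [C.sqm (inv_mem ha) (C.nA (PU fP) ha), ← cj_mul, ← mul_inv_rev, inv_mul_eq_one] at h1
      exact (comm_of_fix h1.symm).eq⟩
    rcases C.decU fU with h | ⟨a0, h, rfl⟩
    · exact C.invB h (el f hf)
    · have h1 : F.B ≤ cjs F.B x := fun b hb => by
        obtain ⟨a, ha, rfl⟩ := C.hs' b hb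
        have := cm _ (inv_mem ha)
        have h2 : (F.t * a0)⁻¹ * a⁻¹ * (F.t * a0) = a := by
          rw [inv_eq_of_mul_eq_one_right (C.ta_sq h), mul_assoc, ← mul_assoc a⁻¹, C.it ha]
          calc _ = (F.t * a0 * F.t) * a * a0 := by group
            _ = _ := by rw [C.hi a0 h, cj_fix (C.ab ha h)]
        rwa [h2, inv_inv] at this
      rw [← eq_of_le_of_card_ge h1 (by rw [card_cjs])] at hf
      exact hf
  exact norm_of fun b hb => hle (cj_cjs x hb)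

/-- an element of odd order that shifts `x` by a 2-element which it centralises fixes `x` -/
theorem odd_fix {g x v : G} (hg : Odd (orderOf g)) (h : g⁻¹ * x * g = x * v) (hv : Commute v g)
    (v4 : v ^ 4 = 1) : Commute x g := by
  have h1 := pow_cj h hv (orderOf g)
  rw [pow_orderOf_eq_one, inv_one, one_mul, mul_one, left_eq_mul] at h1
  have h2 : orderOf v ∣ Nat.gcd (orderOf g) 4 :=
    Nat.dvd_gcd (orderOf_dvd_of_pow_eq_one h1) (orderOf_dvd_of_pow_eq_one v4)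
  rw [(Nat.Coprime.pow_right 2 hg.coprime_two_right : Nat.gcd (orderOf g) 4 = 1), Nat.dvd_one,
    orderOf_eq_one_iff] at h2
  exact Ob.xf (by rw [h, h2, mul_one])

include C in
theorem cenB {n : G} (hn : n ∈ normalizer (D.U : Set G)) (h : ∀ b ∈ F.B, Commute b n) :
    ∃ u ∈ D.U, ∃ o, Odd (orderOf o) ∧ (∀ x ∈ D.U, Commute x o) ∧ n = u * o := by
  obtain ⟨k, m, hm, e⟩ := Nat.exists_eq_two_pow_mul_odd (orderOf_pos n).ne'
  have h1 : n ^ m ∈ D.U := C.sylB (p2_sup_zp D.p2 (k := k)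
      (by rw [← pow_mul, mul_comm, ← e, pow_orderOf_eq_one]) (pow_mem hn m)) le_sup_left
    (fun y hy b hb => comm_sup (fun u hu => D.cB u hu b hb)
      (fun w hw => by obtain ⟨j, rfl⟩ := hw; exact ((h b hb).pow_right m).zpow_right j) y hy)
    (mem_sup_right (mem_zpowers _))
  have h2 : Odd (orderOf (n ^ 2 ^ k)) := Odd.of_dvd_nat hm (orderOf_dvd_of_pow_eq_one
    (by rw [← pow_mul, ← e, pow_orderOf_eq_one]))
  have gn := pow_mem hn (2 ^ k)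
  have gB : ∀ b ∈ F.B, Commute b (n ^ 2 ^ k) := fun b hb => (h b hb).pow_right _
  have q4 : ∀ a ∈ C.A, a ^ 4 = 1 := fun a ha => by
    rw [← bb (C.hs a ha)]; simp only [pow_succ, pow_zero, one_mul, mul_assoc]
  have gA : ∀ a ∈ C.A, Commute a (n ^ 2 ^ k) := fun a ha => by
    obtain ⟨b, hb, e'⟩ := C.sq_eq (C.nA gn ha) ha (C.cjsq gB ha)
    exact odd_fix h2 e' (gB b hb) (q4 b (C.hB hb))
  have gt : Commute F.t (n ^ 2 ^ k) := by
    obtain ⟨a, ha, e'⟩ := C.ntA gn (one_mem _)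
    rw [mul_one] at e'
    exact odd_fix h2 e' (gA a ha) (q4 a ha)
  have co : Nat.gcd m (2 ^ k) = 1 := Nat.Coprime.pow_right k hm.coprime_two_right
  have bz := Nat.gcd_eq_gcd_ab m (2 ^ k)
  refine ⟨(n ^ m) ^ Nat.gcdA m (2 ^ k), zpow_mem h1 _, (n ^ 2 ^ k) ^ Nat.gcdB m (2 ^ k),
    Odd.of_dvd_nat h2 (orderOf_dvd_of_mem_zpowers (zpow_mem_zpowers _ _)), fun x hx => ?_, ?_⟩
  · rcases C.decU hx with hx | ⟨a, ha, rfl⟩
    · exact (gA x hx).zpow_right _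
    · exact (gt.mul_left (gA a ha)).zpow_right _
  · rw [← zpow_natCast, ← zpow_natCast, ← zpow_mul, ← zpow_mul, ← zpow_add, ← bz, co]
    simp

include C in
theorem stb {n b : G} (hn : n ∈ normalizer (D.U : Set G)) (hb : b ∈ F.B) (h : n⁻¹ * F.t * n = F.t * b) :
    n ∈ normalizer (F.E : Set G) ∧ Commute F.s n ∧ ∀ v ∈ F.V, n⁻¹ * v * n ∈ F.V := by
  obtain ⟨a, ha, rfl⟩ := C.hs' b hb
  have aU := C.hU ha
  have gt : Commute F.t (n * a⁻¹) := Ob.xf (by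
    rw [Ob.cc, h, inv_inv, ← mul_assoc, C.at' ha]; group)
  have gE : n * a⁻¹ ∈ normalizer (F.E : Set G) := norm_of fun x hx =>
    D.cU _ (norm_cj (mul_mem hn (inv_mem (le_normalizer aU))) (D.EU hx)) (by
      have := comm_cj (comm_of_el (fun y hy => F.el_E hy) F.t_E hx) (n * a⁻¹)
      rwa [Ob.fx gt] at this)
  obtain ⟨h1, h2⟩ := F.stab gE gt
  refine ⟨by simpa using mul_mem gE (D.UN aU), by simpa using h1.mul_right (D.cB a aU _ F.s_B),
    fun v hv => ?_⟩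
  have h3 := h2 v hv
  have := Ob.fx (D.cB a aU _ (F.V_B h3))
  rw [← Ob.cc, inv_mul_cancel_right] at this
  rwa [this]

theorem le2 {X Y : Subgroup G} (h : ∀ a ∈ Y, ∀ b ∈ Y, a ∉ X → b ∉ X → a⁻¹ * b ∈ X) :
    Nat.card Y ≤ 2 * Nat.card ↥(Y ⊓ X) := by
  classical
  by_cases hX : Y ≤ X
  · rw [inf_of_le_left hX]; omega
  obtain ⟨a, ha, haX⟩ := SetLike.not_le_iff_exists.1 hX
  have := Nat.card_le_card_of_injective (β := ↥(Y ⊓ X) ⊕ ↥(Y ⊓ X))
    (fun y : Y => if hy : y.1 ∈ X then Sum.inl ⟨y.1, y.2, hy⟩ else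
      Sum.inr ⟨a⁻¹ * y.1, Y.mul_mem (Y.inv_mem ha) y.2, h a ha y.1 y.2 haX hy⟩) fun y y' e => by
    by_cases h1 : y.1 ∈ X <;> by_cases h2 : y'.1 ∈ X <;>
      simp only [h1, h2, dite_true, dite_false, Sum.inl.injEq, Sum.inr.injEq, reduceCtorEq] at e
    · exact Subtype.ext (Subtype.mk.inj e)
    · exact Subtype.ext (mul_left_cancel (Subtype.mk.inj e))
  rw [Nat.card_sum] at this
  omega

include C in
theorem big : ¬ MSS.SylIn 2 D.TE ⊤ := by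
  intro hS
  obtain ⟨g, hg⟩ := extr F hS
  have hu : g⁻¹ * F.t * g ∈ D.TE ⊓ centralizer {g⁻¹ * F.t * g} :=
    hg ▸ cj_cjs g (subset_closure (by simp))
  have hc : Nat.card ↥(D.TE ⊓ centralizer {g⁻¹ * F.t * g}) = 64 := by
    rw [← hg, card_cjs, F.card_T, F.card_B D.two]
  have uu := sq_cj F.tt g
  have hj := Ob.icj g F.t
  generalize g⁻¹ * F.t * g = u at hu hc uu hj
  have k1 := le2 (X := D.U) (Y := D.TE ⊓ centralizer {u}) fun a ha b hb a' b' => by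
    obtain ⟨v, hv, rfl⟩ := (D.dec_TE ha.1).resolve_left a'
    obtain ⟨w, hw, rfl⟩ := (D.dec_TE hb.1).resolve_left b'
    simpa [mul_assoc] using norm_cj D.eU (mul_mem (inv_mem hv) hw)
  have k2 := le2 (X := C.A) (Y := D.TE ⊓ centralizer {u} ⊓ D.U) fun a ha b hb a' b' => by
    obtain ⟨v, hv, rfl⟩ := (C.decU ha.2).resolve_left a'
    obtain ⟨w, hw, rfl⟩ := (C.decU hb.2).resolve_left b'
    simpa [mul_assoc] using mul_mem (inv_mem hv) hw
  have hB := F.card_B D.two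
  suffices Nat.card ↥(D.TE ⊓ centralizer {u} ⊓ D.U ⊓ C.A) ≤ 8 by omega
  have hW : ∀ x ∈ D.TE ⊓ centralizer {u} ⊓ D.U ⊓ C.A, x ∈ C.A ∧ Commute u x := fun x hx =>
    ⟨hx.2, mem_cen1.1 hx.1.1.2⟩
  generalize D.TE ⊓ centralizer {u} ⊓ D.U ⊓ C.A = W at hW
  rcases D.dec_TE hu.1 with h | ⟨v, hv, rfl⟩
  · rcases C.decU h with h | ⟨a, ha, rfl⟩
    · exact absurd hj (D.nB _ (C.invB h uu))
    · refine hB ▸ card_le_of_le fun x hx => C.invB (hW x hx).1 ?_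
      have := C.cj_ta ha (hW x hx).1
      rw [Ob.fx (hW x hx).2] at this
      simpa using this.symm
  rcases C.decU hv with h | ⟨a, ha, rfl⟩
  · refine absurd (hj.trans (isConj_iff.2 ⟨F.e, by group⟩)) (C.inv_e h ?_).2
    exact eq_inv_of_mul_eq_one_right (by rw [← uu]; group)
  have hi : ∀ x ∈ W, F.e * x * F.e = x⁻¹ := fun x hx => by
    obtain ⟨xA, hx⟩ := hW x hx
    have h1 := Ob.fx hx.symm
    rw [Ob.cc, Ob.cc, inv_eq_of_mul_eq_one_right F.tt, C.hi x xA, Ob.fx (C.ab (inv_mem xA) ha),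
      F.e_inv] at h1
    conv_lhs => rw [← h1]
    exact e_e _
  have k3 := le2 (X := F.B) (Y := W) fun x hx y hy x' y' => by
    have x2 := (C.inv_e (hW x hx).1 (hi x hx)).1.resolve_left fun e => x' (C.invB (hW x hx).1 e)
    have y2 := (C.inv_e (hW y hy).1 (hi y hy)).1.resolve_left fun e => y' (C.invB (hW y hy).1 e)
    refine C.invB (mul_mem (inv_mem (hW x hx).1) (hW y hy).1) ?_
    rw [C.sqm (inv_mem (hW x hx).1) (hW y hy).1, ← mul_inv_rev, x2, y2, inv_mul_cancel]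
  have k4 := card_two_mul_le (X := W ⊓ F.B) (Y := F.B) (lt_of_le_of_ne inf_le_right fun e => by
    have hd : F.d ∈ W ⊓ F.B := e.symm ▸ F.V_B F.d_V
    have := hi _ hd.1
    rw [inv_eq_of_mul_eq_one_right F.dd] at this
    exact de_nc (e_comm this).symm)
  omega

end CL.H3.CA1
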