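import Cfsg.Agent.INV.H3.CA1

/-! S3140, case `PSp₆(3)`: `A ≅ 4³`, the orbit of `t` under `N(U)`.  `x ^ g = g⁻¹ * x * g`. -/

set_option autoImplicit false
open Subgroup

namespace CL.H3.CA3
open CL.HL CL.HL.Fr CL.HL.Cu
variable {G : Type*} [Group G] [Finite G] {F : Fr G} {D : T8 F} (C : Cu D)

/-- `β(n) = b` -/
def Be (n b : G) : Prop := ∃ a ∈ C.A, n⁻¹ * F.t * n = F.t * a ∧ a * a = b

omit [Finite G] in
theorem Be.ex {n : G} (hn : n ∈ normalizer (D.U : Set G)) : ∃ b ∈ F.B, Be C n b := by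
  obtain ⟨a, ha, e⟩ := C.ntA hn (one_mem _)
  exact ⟨_, C.hs a ha, a, ha, by rwa [mul_one] at e, rfl⟩

variable {C}

omit [Finite G] in
theorem Be.mem {n b : G} (h : Be C n b) : b ∈ F.B := let ⟨a, ha, _, e⟩ := h; e ▸ C.hs a ha

omit [Finite G] in
theorem Be.mul {n n' b b' : G} (h : Be C n b) (h' : Be C n' b') (hn : n' ∈ normalizer (D.U : Set G)) :
    Be C (n * n') (b' * (n'⁻¹ * b * n')) := by
  obtain ⟨a, ha, e, rfl⟩ := h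
  obtain ⟨a', ha', e', rfl⟩ := h'
  exact ⟨_, mul_mem ha' (C.nA hn ha), by rw [Ob.cc, e, Ob.cm, e', mul_assoc],
    by rw [C.sqm ha' (C.nA hn ha), Ob.cm]⟩

omit [Finite G] in
theorem Be.inv {n b : G} (h : Be C n b) (hn : n ∈ normalizer (D.U : Set G)) :
    Be C n⁻¹ (n⁻¹⁻¹ * b * n⁻¹) := by
  obtain ⟨a, ha, e, rfl⟩ := h
  refine ⟨_, C.nA (inv_mem hn) (inv_mem ha), ?_, ?_⟩
  · conv_rhs => rw [← Ob.bk e, ← Ob.cm, mul_inv_cancel_right]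
  · rw [← Ob.cm, ← mul_inv_rev, inv_eq_of_mul_eq_one_right (bb (C.hs a ha))]

theorem Be.stb {n : G} (h : Be C n 1) (hn : n ∈ normalizer (D.U : Set G)) :
    n ∈ normalizer (F.E : Set G) ∧ Commute F.s n ∧ ∀ v ∈ F.V, n⁻¹ * v * n ∈ F.V :=
  let ⟨_, ha, e, q⟩ := h; CA1.stb C hn (C.invB ha q) e

/-- two elements with the same `β` -/
theorem Be.same {n n' b : G} (h : Be C n b) (h' : Be C n' b) (hn : n ∈ normalizer (D.U : Set G))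
    (hn' : n' ∈ normalizer (D.U : Set G)) : n * n'⁻¹ ∈ normalizer (F.E : Set G) ∧
      Commute F.s (n * n'⁻¹) ∧ ∀ v ∈ F.V, (n * n'⁻¹)⁻¹ * v * (n * n'⁻¹) ∈ F.V := by
  have := h.mul (h'.inv hn') (inv_mem hn')
  rw [sq_cj (bb h.mem)] at this
  exact this.stb (mul_mem hn (inv_mem hn'))

variable (C)

/-- `w` induces the transvection `s ↦ s v` and `β(w) = v` -/
structure Tw (w v : G) : Prop where
  n : w ∈ normalizer (D.U : Set G)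
  s : w⁻¹ * F.s * w = F.s * v
  z : Commute F.z w
  d : Commute F.d w
  be : Be C w v

variable {C}

omit [Finite G] in
theorem Tw.ρ {w v : G} (h : Tw C w v) : Tw C (F.ρ⁻¹ * w * F.ρ) (F.ρ⁻¹ * v * F.ρ) := by
  have d' : Commute F.d (F.ρ⁻¹ * w * F.ρ) := F.zρ' ▸ comm_cj h.z F.ρ
  have dz : Commute (F.d * F.z) (F.ρ⁻¹ * w * F.ρ) := F.dρ' ▸ comm_cj h.d F.ρ
  obtain ⟨a, ha, e, q⟩ := h.be
  refine ⟨mul_mem (mul_mem (inv_mem D.ρU) h.n) D.ρU, ?_, by simpa using d'.inv_left.mul_left dz, d',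
    _, C.nA D.ρU ha, ?_, by rw [← Ob.cm, q]⟩
  · rw [Ob.cc, Ob.cc, Ob.fx F.sρ.inv_right, h.s, Ob.cm, Ob.fx F.sρ]
  · rw [Ob.cc, Ob.cc, Ob.fx F.tρ.inv_right, e, Ob.cm, Ob.fx F.tρ]

omit [Finite G] in
theorem Tw.all {w : G} (h : Tw C w F.z) {v : G} (hv : v ∈ F.V) : ∃ w', Tw C w' v := by
  have d := h.ρ
  rw [F.zρ'] at d
  have dz := d.ρ
  rw [F.dρ'] at dz
  rcases F.mem_V.1 hv with rfl | rfl | rfl | rfl
  exacts [⟨1, one_mem _, by simp, Commute.one_right _, Commute.one_right _, 1, one_mem _, by simp,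
    one_mul _⟩, ⟨_, h⟩, ⟨_, d⟩, ⟨_, dz⟩]

omit [Finite G] in
theorem Tw.cV {w v x : G} (h : Tw C w v) (hx : x ∈ F.V) : w⁻¹ * x * w = x :=
  Ob.fx (Ob.cV_of F h.z h.d x hx)

omit [Finite G] in
theorem Tw.sV {w v x : G} (h : Tw C w v) (hv : v ∈ F.V) (hx : x ∈ F.V) :
    w⁻¹ * (F.s * x) * w = F.s * x * v := by
  rw [Ob.cm, h.s, h.cV hx, mul_assoc, mul_assoc, (Ob.cBB F (F.V_B hv) (F.V_B hx)).eq]

theorem Be.V {w : G} (hw : Tw C w F.z) {n b : G} (hn : n ∈ normalizer (D.U : Set G)) (h : Be C n b) :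
    b ∈ F.V := by
  obtain ⟨v, hv, rfl | rfl⟩ := F.mem_B.1 h.mem
  · exact hv
  exfalso
  have key : ∀ w' v', v' ∈ F.V → Tw C w' v' → Commute F.s (n * w' * n⁻¹) ∧
      ∀ x ∈ F.V, (n * w' * n⁻¹)⁻¹ * x * (n * w' * n⁻¹) ∈ F.V := fun w' v' hv' k => by
    have := h.mul k.be k.n
    rw [k.sV hv' hv, ← mul_assoc, (Ob.cBB F (F.V_B hv') h.mem).eq, mul_assoc, bb (F.V_B hv'),
      mul_one] at this
    exact (this.same h (mul_mem hn k.n) hn).2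
  have s1 : n⁻¹ * F.s * n ∈ F.V := by
    obtain ⟨x, hx, e | e⟩ := F.mem_B.1 (C.nB hn F.s_B)
    · exact e ▸ hx
    · have h1 := Ob.fx (key w _ F.z_V hw).1
      rw [Ob.cc, Ob.cc, e, hw.sV F.z_V hx, ← e, Ob.cm, Ob.bk rfl, mul_eq_left, cj_eq_one] at h1
      exact absurd h1 F.z1
  by_cases hV : ∀ x ∈ F.V, n⁻¹ * x * n ∈ F.V
  · have := norm_cj (inv_mem (norm_of hV)) s1
    rw [Ob.bk rfl] at this
    exact F.s_nV D.two this
  push Not at hV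
  obtain ⟨x, hx, hx'⟩ := hV
  obtain ⟨y, hy, e | e⟩ := F.mem_B.1 (C.nB hn (F.V_B hx))
  · exact hx' (e ▸ hy)
  obtain ⟨w', k⟩ := hw.all s1
  have h1 := (key w' _ s1 k).2 x hx
  rw [Ob.cc, Ob.cc, e, k.sV s1 hy, ← e, Ob.cm, Ob.bk rfl, Ob.bk rfl] at h1
  exact F.s_nV D.two ((F.V.mul_mem_cancel_left hx).1 h1)

variable (C)

theorem om {w : G} (hw : w ∈ normalizer (D.U : Set G)) (ws : w⁻¹ * F.s * w = F.s * F.z) (wz : Commute F.z w)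
    (wd : Commute F.d w) {a : G} (ha : a ∈ C.A) (wt : w⁻¹ * F.t * w = F.t * a) (aa : a * a = F.z) {n : G}
    (hn : n ∈ normalizer (D.U : Set G)) : (∀ v ∈ F.V, n⁻¹ * v * n ∈ F.V) ∧
      ∃ a ∈ C.A, n⁻¹ * F.t * n = F.t * a ∧ a * a ∈ F.V := by
  have k : Tw C w F.z := ⟨hw, ws, wz, wd, a, ha, wt, aa⟩
  obtain ⟨b, -, h⟩ := Be.ex C hn
  have hb := h.V k hn
  obtain ⟨w', k'⟩ := k.all hb
  refine ⟨fun v hv => ?_, ?_⟩
  · have h1 := (h.same k'.be hn k'.n).2.2 v hv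
    have h2 := k'.cV h1
    rw [← Ob.cc, inv_mul_cancel_right] at h2
    rwa [h2]
  · obtain ⟨a', ha', e, q⟩ := h
    exact ⟨a', ha', e, q ▸ hb⟩

end CL.H3.CA3
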