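import Cfsg.Agent.INV.H3.CA3

/-! S3140, case `PSp₆(3)`: `A ≅ 4³`, the transvection inside the Sylow subgroup. -/

set_option autoImplicit false
open Subgroup

namespace CL.H3.CA4
open CL.HL CL.HL.Fr CL.HL.Cu CL.H3.CA3
variable {G : Type*} [Group G] [Finite G] {F : Fr G} {D : T8 F} {C : Cu D}

omit [Finite G] in
theorem tmul {w v w' v' : G} (h : Tw C w v) (h' : Tw C w' v') (hv : v ∈ F.V) :
    Tw C (w * w') (v' * v) :=
  ⟨mul_mem h.n h'.n, by rw [Ob.cc, h.s, Ob.cm, h'.s, h'.cV hv, mul_assoc], h.z.mul_right h'.z,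
    h.d.mul_right h'.d, h'.cV hv ▸ h.be.mul h'.be h'.n⟩

omit [Finite G] in
theorem tpow {w : G} (h : Tw C w F.z) (j : ℕ) : Tw C (w ^ (2 * j + 1)) F.z := by
  induction j with
  | zero => simpa using h
  | succ j ih =>
    have := tmul (tmul ih h F.z_V) h (mul_mem F.z_V F.z_V)
    rwa [F.zz, mul_one, ← pow_succ, ← pow_succ] at this

theorem tcj {w0 w v k : G} (h0 : Tw C w0 F.z) (h : Tw C w v) (hv : v ∈ F.V)
    (hk : k ∈ normalizer (D.U : Set G)) : Tw C (k⁻¹ * w * k) (k⁻¹ * v * k) := by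
  obtain ⟨a, ha, e, q⟩ := h0.be
  have hV := fun {n : G} (hn : n ∈ normalizer (D.U : Set G)) =>
    (om C h0.n h0.s h0.z h0.d ha e q hn).1
  have cV : ∀ x ∈ F.V, Commute x (k⁻¹ * w * k) := fun x hx => Ob.xf (by
    rw [Ob.cc, Ob.cc, h.cV (hV (inv_mem hk) x hx), ← Ob.cc, inv_mul_cancel]; simp)
  obtain ⟨b, hb, hk'⟩ := Be.ex C hk
  have bV := hk'.V h0 hk
  refine ⟨mul_mem (mul_mem (inv_mem hk) h.n) hk, ?_, cV _ F.z_V, cV _ F.d_V, ?_⟩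
  · obtain ⟨x, hx, e' | e'⟩ := F.mem_B.1 (C.nB (inv_mem hk) F.s_B)
    · have := hV hk x hx
      rw [← e', ← Ob.cc, inv_mul_cancel] at this
      exact absurd (by simpa using this) (F.s_nV D.two)
    · rw [Ob.cc, Ob.cc, e', h.sV hv hx, ← e', Ob.cm, ← Ob.cc k⁻¹, inv_mul_cancel]; simp
  · have := ((hk'.inv hk).mul h.be h.n).mul hk' hk
    rw [h.cV (hV (inv_mem hk) b bV), Ob.cm, ← Ob.cc k⁻¹, inv_mul_cancel, inv_one, one_mul, mul_one,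
      (Ob.cBB F (F.V_B (hV hk v hv)) hb).eq, ← mul_assoc, bb hb, one_mul] at this
    exact this

variable (C)

theorem cw (exw : ∀ S : Subgroup G, MSS.SylIn 2 S (normalizer (F.B : Set G)) → D.TE ≤ S →
    ∃ w ∈ normalizer (D.U : Set G), w⁻¹ * F.s * w = F.s * F.z ∧ Commute F.z w ∧ Commute F.d w ∧
      ∃ a ∈ C.A, w⁻¹ * F.t * w = F.t * a ∧ a * a = F.z) : Nonempty (Cw C) := by
  have := Fact.mk Nat.prime_two
  have UB : normalizer (D.U : Set G) ≤ normalizer (F.B : Set G) := fun n hn =>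
    norm_of fun b hb => C.nB hn hb
  obtain ⟨S, hS, TS⟩ := MSS.exists_sylIn_ge D.p2_TE (D.TE_nU.trans UB)
  obtain ⟨w0, n0, s0, z0, d0, a, ha, e, q⟩ := exw S hS TS
  have h0 : Tw C w0 F.z := ⟨n0, s0, z0, d0, a, ha, e, q⟩
  have US := D.U_TE.trans TS
  obtain ⟨syl, SB⟩ := Cu_syl C hS US
  have SN : S ≤ normalizer (D.U : Set G) := fun p hp => norm_of fun u hu =>
    SB.le ⟨S.mul_mem (S.mul_mem (S.inv_mem hp) (US hu)) hp, fun b hb => by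
      simpa [mul_assoc] using (comm_cj (D.cB u hu _ (norm_cj (inv_mem (hS.le hp)) hb)) p).eq⟩
  obtain ⟨_, k, ⟨j, rfl⟩, hk⟩ := exists_odd_pow w0
  have h1 := tpow h0 j
  obtain ⟨x, hx, hx'⟩ := (hS.of_le SN UB).exists_conj_le (p2_zpowers hk) (zpowers_le.2 h1.n)
  have h2 := tcj h0 h1 F.z_V (inv_mem hx)
  have m2 : x⁻¹⁻¹ * w0 ^ (2 * j + 1) * x⁻¹ ∈ S := L2x.cjs_le hx' (cj_cjs _ (mem_zpowers _))
  have hv := (om C n0 s0 z0 d0 ha e q (inv_mem hx)).1 _ F.z_V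
  have v1 : x⁻¹⁻¹ * F.z * x⁻¹ ≠ 1 := fun h => F.z1 (cj_eq_one.1 h)
  generalize x⁻¹⁻¹ * w0 ^ (2 * j + 1) * x⁻¹ = w at h2 m2
  generalize x⁻¹⁻¹ * F.z * x⁻¹ = v at h2 hv v1
  obtain ⟨w', m', h'⟩ : ∃ w' ∈ S, Tw C w' F.z := by
    have eS := TS D.e_TE
    have h3 := tmul h2 (tcj h0 h2 hv D.eU) hv
    have m3 := mul_mem m2 (mul_mem (mul_mem (inv_mem eS) m2) eS)
    rcases F.mem_V.1 hv with rfl | rfl | rfl | rfl
    · exact absurd rfl v1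
    · exact ⟨w, m2, h2⟩
    · refine ⟨_, m3, ?_⟩
      rwa [Ob.de, ← F.zd.eq, mul_assoc F.z, F.dd, mul_one] at h3
    · refine ⟨_, m3, ?_⟩
      rwa [Ob.dze, ← mul_assoc F.d, F.dd, one_mul] at h3
  obtain ⟨m, mA, i, iA, f1, f2, f3, f4, f5, f6, f7⟩ := CA1.nf C
  exact ⟨⟨m, i, w', S, mA, iA, f1, f2, f3, f4, f5, f6, f7, syl, TS, SN, SB, m', h'.s, h'.z, h'.d,
    fun n hn => norm_of (om C n0 s0 z0 d0 ha e q hn).1, fun n hn => (om C n0 s0 z0 d0 ha e q hn).2,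
    h'.be⟩⟩

end CL.H3.CA4
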