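import Cfsg.Agent.INV.H3.CBc

/-! S3140, case `PSp₆(3)`: the relations.  `x ^ g = g⁻¹ * x * g`, `R₁ = C_S(V)`, `i₃ = i`, `i₁ = i ^ ρ`,
`i₂ = i₁ ^ ρ`, `A0 = {a ∈ A | a² ∈ V} = ⟨i₁, i₂, i₃⟩`, `A = ⟨m⟩ A0`. -/

set_option autoImplicit false
set_option linter.unusedSectionVars false
open Subgroup

namespace CL.H3.CBc
open CL.HL
variable {G : Type*} [Group G] [Finite G] {F : Fr G} {D : T8 F} {C : Cu D}

/-- the element `r` of `Cw.exr` -/
structure Rd (W : Cw C) where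
  r : G
  tr : Commute F.t r
  or : Odd (orderOf r)
  rU : ∀ u ∈ D.U, r⁻¹ * u * r = F.ρ⁻¹ * u * F.ρ
  rN : r ∈ normalizer (W.R1 : Set G)
  r3 : ∀ x ∈ W.R1, Commute x (r ^ 3)
  er : ∀ x ∈ W.R1, Commute x (F.e * r * F.e * r)
  dS : ∀ n ∈ W.S, n ∈ W.R1 ∨ n * F.e ∈ W.R1
  dR : ∀ x ∈ W.R1, ∃ u ∈ D.U, x = u ∨ x = u * W.w ∨ x = u * (r⁻¹ * W.w * r) ∨
      x = u * (r⁻¹ * (r⁻¹ * W.w * r) * r)

namespace Rd
variable {W : Cw C} (R : Rd W)

theorem cU {u : G} (hu : u ∈ D.U) : cj R.r u = cj F.ρ u := R.rU u hu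
theorem nU {u : G} (hu : u ∈ D.U) : cj R.r u ∈ D.U := by rw [R.cU hu]; exact norm_cj D.ρU hu
theorem nA {a : G} (ha : a ∈ C.A) : cj R.r a ∈ C.A := by rw [R.cU (C.hU ha)]; exact C.nA D.ρU ha
theorem nV {v : G} (hv : v ∈ F.V) : cj R.r v ∈ F.V := by rw [R.cU (C.hU (vA hv))]; exact F.ρ_nV hv
theorem nR {x : G} (hx : x ∈ W.R1) : cj R.r x ∈ W.R1 := norm_cj R.rN hx
theorem zr : cj R.r F.z = F.d := by rw [R.cU (C.hU (vA F.z_V))]; exact F.zρ'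
theorem dr : cj R.r F.d = F.d * F.z := by rw [R.cU (C.hU (vA F.d_V))]; exact F.dρ'
theorem dzr : cj R.r (F.d * F.z) = F.z := by
  rw [R.cU (C.hU (vA (mul_mem F.d_V F.z_V)))]; exact F.dzρ
theorem sr : cj R.r F.s = F.s := by rw [R.cU (C.hU (C.hB F.s_B))]; exact fx F.sρ
theorem mr : cj R.r W.m = W.m := by rw [R.cU (C.hU W.mA)]; exact fx W.mρ
theorem c3 {x : G} (hx : x ∈ W.R1) : cj R.r (cj R.r (cj R.r x)) = x := by
  rw [← cj_c, ← cj_c, ← pow_three]; exact fx (R.r3 x hx)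
theorem ce {x : G} (hx : x ∈ W.R1) : cj F.e (cj R.r x) = cj R.r (cj R.r (cj F.e x)) := by
  have h := fx (R.er _ (e_R1 W hx))
  have e : cj F.e (cj F.e x) = x := by rw [ecj, ecj, Cu.e_e]
  rw [cj_c, cj_c, cj_c, e] at h
  rw [← h, R.c3 (e_R1 W (R.nR hx))]
theorem nE {g : G} (hg : g ∈ E0 W) : cj R.r g ∈ E0 W := by
  obtain ⟨h, v, hv, e⟩ := hg
  have f : cj R.r (F.t * W.m) = F.t * W.m := by rw [cj_m, fx R.tr, R.mr]
  refine ⟨R.nR h, cj R.r v, R.nV hv, ?_⟩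
  nth_rewrite 1 [← f]
  rw [cj_cc, e, cj_m, f]
theorem hs : cj R.r W.i * cj R.r (cj R.r W.i) * W.i = F.s := by
  rw [R.cU (R.nU (C.hU W.iA)), R.cU (C.hU W.iA)]; exact W.hs
theorem ii1 : cj R.r W.i * cj R.r W.i = F.d := by rw [← cj_m, W.ii, R.zr]
theorem ii2 : cj R.r (cj R.r W.i) * cj R.r (cj R.r W.i) = F.d * F.z := by rw [← cj_m, R.ii1, R.dr]
theorem i3 : cj R.r (cj R.r (cj R.r W.i)) = W.i := R.c3 (U_R1 W (C.hU W.iA))

variable {g : G}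

theorem t1 (h : Good W g) : cj (cj R.r g) F.t = F.t * cj R.r W.i := by
  nth_rewrite 1 [← fx R.tr]; rw [cj_cc, h.t, cj_m, fx R.tr]
theorem t2 (h : Good W g) : cj (cj R.r (cj R.r g)) F.t = F.t * cj R.r (cj R.r W.i) := by
  nth_rewrite 1 [← fx R.tr]; rw [cj_cc, R.t1 h, cj_m, fx R.tr]
theorem s1 (h : Good W g) : cj (cj R.r g) F.s = F.s * F.d := by
  nth_rewrite 1 [← R.sr]; rw [cj_cc, h.s, cj_m, R.sr, R.zr]
theorem s2 (h : Good W g) : cj (cj R.r (cj R.r g)) F.s = F.s * (F.d * F.z) := by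
  nth_rewrite 1 [← R.sr]; rw [cj_cc, R.s1 h, cj_m, R.sr, R.dr]

theorem kap (h : Good W g) : cj g (cj R.r W.i) = cj R.r W.i ∧
    cj g (cj R.r (cj R.r W.i)) = cj R.r (cj R.r W.i) := by
  have A1 := R.nA W.iA
  have A2 := R.nA A1
  obtain ⟨p, hp, e1⟩ := act' W h.E.1 A1 (by rw [R.ii1]; exact F.d_V)
  obtain ⟨q, hq, e2⟩ := act' W h.E.1 A2 (by rw [R.ii2]; exact mul_mem F.d_V F.z_V)
  have h1 := h.s
  rw [← R.hs, cj_m, cj_m, e1, e2, h.inv] at h1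
  obtain rfl : p = q := congrArg Subtype.val (ab3 (H := C.A) ⟨_, W.iA⟩ ⟨_, A1⟩ ⟨_, A2⟩ ⟨_, vA hp⟩ ⟨_, vA hq⟩
    ⟨_, vA F.z_V⟩ (Subtype.ext W.ii) (Subtype.ext F.zz) (Subtype.ext (vv hq)) (Subtype.ext h1))
  have e3 : cj (cj R.r g) W.i = W.i * cj R.r p := by
    nth_rewrite 1 [← R.i3]; rw [cj_cc, e2, cj_m, R.i3]
  have e4 : cj (cj R.r g) (cj R.r W.i) = (cj R.r W.i)⁻¹ := by rw [cj_cc, h.inv, cj_i]
  have h2 := (key W (mul_mem (R.nE h.E) h.E) (mul_mem W.iA (mul_mem A1 (vA hp)))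
    (by rw [cj_c, R.t1 h, cj_m, h.t, e1, mul_assoc])).1
  simp only [cj_c, cj_m, cj_i, e3, e4, fV W (R.nR h.E.1) hp, h.inv, e1, fV W h.E.1 hp,
    fV W h.E.1 (R.nV hp)] at h2
  have h3 : cj R.r p = p := congrArg Subtype.val (ab4 (H := C.A) ⟨_, W.iA⟩ ⟨_, A1⟩ ⟨_, vA hp⟩
    ⟨_, vA (R.nV hp)⟩ (Subtype.ext (vv hp)) (Subtype.ext h2))
  rw [R.cU (C.hU (vA hp))] at h3
  rcases F.fix_ρ F.rr (F.V_B hp) (cm h3).symm with rfl | rfl
  · rw [mul_one] at e1 e2; exact ⟨e1, e2⟩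
  · exact absurd hp (F.s_nV D.two)

theorem k1 (h : Good W g) : cj (cj R.r g) W.i = W.i := by
  nth_rewrite 1 [← R.i3]; rw [cj_cc, (R.kap h).2, R.i3]
theorem k2 (h : Good W g) : cj (cj R.r (cj R.r g)) W.i = W.i := by
  nth_rewrite 1 [← R.i3]; rw [cj_cc, cj_cc, (R.kap h).1, R.i3]
theorem k3 (h : Good W g) : cj (cj R.r (cj R.r g)) (cj R.r W.i) = cj R.r W.i := by
  rw [cj_cc, R.k1 h]

theorem prod (h : Good W g) : ∃ b ∈ F.B, g * cj R.r g * cj R.r (cj R.r g) = F.t * (W.m * b) := by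
  have E1 := R.nE h.E
  have E2 := R.nE E1
  have A1 := R.nA W.iA
  have A2 := R.nA A1
  have hU := inU W (mul_mem (mul_mem h.E E1) E2).1 (by
    rw [cj_c, cj_c, h.s, cj_m, R.s1 h, fV W E1.1 F.z_V, mul_assoc, cj_m, R.s2 h,
      fV W E2.1 (mul_mem F.d_V F.z_V), mul_assoc, vv (mul_mem F.d_V F.z_V), mul_one])
  have hi : cj (g * cj R.r g * cj R.r (cj R.r g)) W.i = W.i⁻¹ := by
    rw [cj_c, cj_c, h.inv, cj_i, R.k1 h, cj_i, R.k2 h]
  have ht : cj (g * cj R.r g * cj R.r (cj R.r g)) F.t = F.t * F.s := by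
    rw [cj_c, cj_c, h.t, cj_m, R.t1 h, R.k1 h, cj_m, cj_m, R.t2 h, R.k3 h, R.k2 h, ← R.hs,
      (C.ab A1 A2).eq]; group
  rcases C.decU hU with hA | ⟨a, ha, e⟩
  · exact absurd (fx (C.ab W.iA hA)) (not_inv W hi)
  · have h1 := C.cj_ta (one_mem _) ha
    rw [e, cj_c, fx (Commute.refl _)] at ht
    rw [mul_one, one_mul, show a⁻¹ * F.t * a = _ from ht, mul_right_inj] at h1
    obtain ⟨b, hb, f⟩ := C.sq_eq ha W.mA (by rw [← h1, W.mm])
    exact ⟨b, hb, by rw [e, f]⟩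

theorem sw {x y u : G} (h : cj y x = x * u) (uu : u * u = 1) : cj x y = y * u := by
  unfold cj at h ⊢
  have e : u = x⁻¹ * (y⁻¹ * x * y) := by rw [h]; group
  have f : u⁻¹ = u := inv_eq_of_mul_eq_one_right uu
  rw [← f, e]; group

theorem lam (h : Good W g) : cj g (cj R.r g) = cj R.r g ∨ cj g (cj R.r g) = cj R.r g * (F.d * F.z) := by
  have E1 := R.nE h.E
  have E2 := R.nE E1
  obtain ⟨l, hl, e1⟩ := cmV W h.E E1
  have hl2 := R.nV (R.nV hl)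
  have e2 : cj g (cj R.r (cj R.r g)) = cj R.r (cj R.r g) * cj R.r (cj R.r l) := by
    refine sw ?_ (vv hl2)
    have := congrArg (fun x => cj R.r (cj R.r x)) e1
    simpa only [← cj_cc R.r g, ← cj_cc R.r (cj R.r g), cj_m, R.c3 h.E.1] using this
  obtain ⟨b, hb, e3⟩ := R.prod h
  obtain ⟨v, hv, e4⟩ := h.tm
  have hv' : v ∈ F.V := by rcases hv with rfl | rfl; exacts [one_mem _, F.z_V]
  obtain ⟨u, hu, e5⟩ : ∃ u, (u = 1 ∨ u = F.z) ∧ cj g b = b * u := by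
    obtain ⟨y, hy, rfl | rfl⟩ := F.mem_B.1 hb
    · exact ⟨1, Or.inl rfl, by rw [fV W h.E.1 hy, mul_one]⟩
    · exact ⟨_, Or.inr rfl, by
        rw [cj_m, h.s, fV W h.E.1 hy, mul_assoc, mul_assoc, (C.ab (vA F.z_V) (vA hy)).eq]⟩
  have e6 := congrArg (cj g) e3
  rw [cj_m, cj_m, e1, e2, fx (Commute.refl g), ← mul_assoc F.t, cj_m, e4, e5, mul_assoc _ v, ← mul_assoc v,
    (C.ab (vA hv') (C.hB hb)).eq, ← mul_assoc g, mul_assoc _ l, ← mul_assoc l,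
    (((mem_R1 W).1 E2.1).2 l hl).eq, mul_assoc _ l, ← mul_assoc _ (cj R.r (cj R.r g)), e3, mul_assoc b,
    ← mul_assoc _ b, mul_assoc F.t W.m b, mul_right_inj] at e6
  have e7 : l * cj R.r (cj R.r l) = 1 ∨ l * cj R.r (cj R.r l) = F.z := by
    rw [e6]
    rcases hv with rfl | rfl <;> rcases hu with rfl | rfl <;> simp [F.zz]
  rcases F.mem_V.1 hl with rfl | rfl | rfl | rfl
  · left; rw [e1, mul_one]
  · exfalso
    rw [R.zr, R.dr, ← F.zd.eq, ← mul_assoc, F.zz, one_mul] at e7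
    exact e7.elim F.d1 F.d_ne_z
  · exfalso
    rw [R.dr, R.dzr] at e7
    rcases e7 with e | e
    · exact F.d_ne_z (mul_right_cancel (e.trans F.zz.symm))
    · exact F.d1 (mul_eq_right.1 e)
  · exact Or.inr e1

include R in
theorem ex1 : ∃ g, Good W g ∧ Commute g (cj R.r g) := by
  obtain ⟨g, h⟩ := exists_good W
  rcases R.lam h with e | e
  · exact ⟨g, h, (cm e).symm⟩
  · refine ⟨_, h.mul F.s_B, (cm ?_).symm⟩
    have f := sw (R.s1 h) F.dd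
    have sU := U_R1 W (C.hU (C.hB F.s_B))
    rw [cj_m R.r, R.sr, cj_c, cj_m g, e, h.s, cj_m F.s, cj_m F.s (cj R.r g), f,
      fV W sU (mul_mem F.d_V F.z_V), fx ((Commute.refl _).mul_left F.sz.symm), mul_assoc, mul_assoc,
      mul_right_inj]
    hl_w2 D.two

theorem c2 {x : G} (hx : x ∈ W.R1) (c : Commute x (cj R.r x)) : Commute x (cj R.r (cj R.r x)) := by
  have := ccj (ccj c R.r) R.r
  rw [R.c3 hx] at this; exact this.symm

include R in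
theorem ex2 : ∃ g, Good W g ∧ Commute g (cj R.r g) ∧ Commute F.e g := by
  obtain ⟨g, h, c⟩ := R.ex1
  obtain ⟨b, hb, e⟩ := h.exb
  have E1 := R.nE h.E
  have E2 := R.nE E1
  have ee : ∀ x, cj F.e (cj F.e x) = x := fun x => by rw [ecj, ecj, Cu.e_e]
  have hbe : Commute F.e b := by
    have := congrArg (cj F.e) e
    rw [ee, cj_m, e, ← mul_assoc, eq_comm, mul_eq_right, mul_eq_one_iff_eq_inv,
      inv_eq_of_mul_eq_one_right (Cu.bb hb)] at this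
    exact (cm this).symm
  have no : ∀ v ∈ F.V, b ≠ F.s * v := by
    rintro v hv rfl
    have c1 := fx (ccj c F.e)
    have hv2 := R.nV (R.nV hv)
    have gv := mul_mem (B_E0 W hb) (mul_mem h.E (B_E0 W (F.V_B F.z_V)))
    rw [R.ce h.E.1, e, cj_m R.r, cj_m R.r, cj_m R.r, cj_m R.r, R.sr, R.sr, cj_c, cj_c, cj_m F.s,
      fx (C.ab (C.hB hb) (C.hB F.s_B)), sw h.s F.zz, fx (((mem_R1 W).1 gv.1).2 _ hv2).symm, cj_m, cj_m, cj_m,
      R.s2 h, fV W E2.1 hv, fV W E2.1 F.z_V, fx (R.c2 h.E.1 c), ← (((mem_R1 W).1 h.E.1).2 _ F.z_V).eq,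
      ← mul_assoc, mul_left_inj, mul_assoc _ v, ← (C.ab (vA F.z_V) (vA hv)).eq, ← mul_assoc, mul_left_inj,
      mul_assoc, mul_eq_left, mul_assoc, F.zz, mul_one] at c1
    exact F.d1 c1
  rcases F.fix_e hb hbe with rfl | rfl | rfl | rfl
  · exact ⟨g, h, c, (cm (by rw [e, one_mul])).symm⟩
  · have dV := F.V_B F.d_V
    refine ⟨_, h.mul dV, ?_, (cm ?_).symm⟩
    · rw [cj_m, R.dr]
      have hv := mul_mem F.d_V F.z_V
      exact (c.mul_right (((mem_R1 W).1 h.E.1).2 _ hv).symm).mul_left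
        ((((mem_R1 W).1 E1.1).2 _ F.d_V).mul_right ((Commute.refl _).mul_right F.zd.symm))
    · rw [cj_m, e, ecj F.d, F.ede, (((mem_R1 W).1 h.E.1).2 _ F.z_V).eq, mul_assoc, mul_right_inj]
      hl_w
  · exact absurd (mul_one _).symm (no 1 (one_mem _))
  · exact absurd rfl (no _ F.z_V)

theorem gen (h : Good W g) (he : Commute F.e g) :
    W.S = closure {W.i, g, R.r⁻¹ * W.i * R.r, R.r⁻¹ * g * R.r, F.e, F.t} := by
  have A1 := R.nA W.iA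
  have A2 := R.nA A1
  have AS : C.A ≤ W.S := fun a ha => (U_R1 W (C.hU ha)).1
  refine le_antisymm ?_ ((closure_le _).2 ?_)
  swap
  · rintro x (rfl | rfl | rfl | rfl | rfl | rfl)
    exacts [AS W.iA, h.E.1.1, AS A1, (R.nR h.E.1).1, W.TS D.e_TE, (U_R1 W (D.EU F.t_E)).1]
  generalize hK : closure {W.i, g, R.r⁻¹ * W.i * R.r, R.r⁻¹ * g * R.r, F.e, F.t} = K
  have k1 : W.i ∈ K := hK ▸ subset_closure (by simp)
  have k2 : g ∈ K := hK ▸ subset_closure (by simp)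
  have k3 : cj R.r W.i ∈ K := hK ▸ subset_closure (by simp [cj])
  have k4 : cj R.r g ∈ K := hK ▸ subset_closure (by simp [cj])
  have k5 : F.e ∈ K := hK ▸ subset_closure (by simp)
  have k6 : F.t ∈ K := hK ▸ subset_closure (by simp)
  have k7 : ∀ x ∈ W.R1, Commute F.e x → cj R.r x ∈ K → cj R.r (cj R.r x) ∈ K := fun x hx c k => by
    have := R.ce hx
    rw [fx c.symm] at this
    rw [← this]; exact mul_mem (mul_mem (inv_mem k5) k) k5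
  have k8 := k7 _ (U_R1 W (C.hU W.iA)) W.ei k3
  have k9 := k7 _ h.E.1 he k4
  have kB : F.B ≤ K := (closure_le _).2 (by
    rintro x (rfl | rfl | rfl)
    · rw [← R.hs]; exact mul_mem (mul_mem k3 k8) k1
    · rw [← W.ii]; exact mul_mem k1 k1
    · rw [← R.ii1]; exact mul_mem k3 k3)
  have km : W.m ∈ K := by
    obtain ⟨b, hb, e⟩ := R.prod h
    have := mul_mem (mul_mem k2 k4) k9
    rwa [e, mul_mem_cancel_left k6, mul_mem_cancel_right (kB hb)] at this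
  have kA : C.A ≤ K := by
    have a0 : ∀ v ∈ F.V, ∃ x ∈ C.A, x ∈ K ∧ x * x = v := fun v hv => by
      rcases F.mem_V.1 hv with rfl | rfl | rfl | rfl
      exacts [⟨1, one_mem _, one_mem _, mul_one _⟩, ⟨_, W.iA, k1, W.ii⟩, ⟨_, A1, k3, R.ii1⟩,
        ⟨_, A2, k8, R.ii2⟩]
    intro a ha
    obtain ⟨v, hv, e⟩ := F.mem_B.1 (C.hs a ha)
    obtain ⟨x, hx, xK, xx⟩ := a0 v hv
    rcases e with e | e
    · obtain ⟨b, hb, rfl⟩ := C.sq_eq ha hx (by rw [e, xx])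
      exact mul_mem xK (kB hb)
    · obtain ⟨b, hb, rfl⟩ := C.sq_eq ha (mul_mem W.mA hx) (by rw [e, C.sqm W.mA hx, xx, W.mm])
      exact mul_mem (mul_mem km xK) (kB hb)
  have kU : D.U ≤ K := fun u hu => by
    rcases C.decU hu with h | ⟨a, ha, rfl⟩
    exacts [kA h, mul_mem k6 (kA ha)]
  have kR : W.R1 ≤ K := fun x hx => by
    obtain ⟨u, hu, e⟩ := h.u
    rw [e] at k2 k4 k9
    rw [cj_m] at k4 k9
    rw [cj_m] at k9
    obtain ⟨y, hy, rfl | rfl | rfl | rfl⟩ := R.dR x hx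
    exacts [kU hy, mul_mem (kU hy) ((mul_mem_cancel_right (kU hu)).1 k2),
      mul_mem (kU hy) ((mul_mem_cancel_right (kU (R.nU hu))).1 k4),
      mul_mem (kU hy) ((mul_mem_cancel_right (kU (R.nU (R.nU hu)))).1 k9)]
  intro x hx
  rcases R.dS x hx with h | h
  exacts [kR h, (mul_mem_cancel_right k5).1 (kR h)]

include R in
theorem cr : ∃ ε, Nonempty (Cr F ε) := by
  obtain ⟨g, h, c, he⟩ := R.ex2
  have iR := U_R1 W (C.hU W.iA)
  have e1 : ∀ x ∈ W.R1, Commute F.e x → F.e * (R.r⁻¹ * x * R.r) * F.e = R.r⁻¹ * (R.r⁻¹ * x * R.r) * R.r :=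
    fun x hx c => by
      have := R.ce hx
      rwa [fx c.symm, ecj] at this
  have tw : F.t * g * F.t = W.i * g := by
    have h1 := h.t
    have h2 := h.inv
    unfold cj at h1 h2
    calc _ = g * (g⁻¹ * F.t * g) * F.t := by group
      _ = g * (F.t * W.i * F.t) := by rw [h1]; group
      _ = _ := by rw [C.hi _ W.iA, ← h2]; group
  obtain ⟨ε, hε⟩ : ∃ ε : Bool, g * g = if ε then F.z else 1 := by
    rcases fixV (sqV W h.E) (he.mul_right he) D.two with e | e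
    exacts [⟨false, e⟩, ⟨true, e⟩]
  exact ⟨ε, ⟨⟨D.two, W.i, g, R.r, W.S, W.syl, R.gen h he, R.tr, R.or, R.zr, R.dr, R.r3 _ iR, R.r3 _ h.E.1,
    W.ii, hε, h.inv, C.ab W.iA (R.nA W.iA), cm (R.k1 h), (cm (R.kap h).1).symm, c, W.ei, he,
    e1 _ iR W.ei, e1 _ h.E.1 he, C.hi _ W.iA, tw, R.hs⟩⟩⟩

end Rd
end CL.H3.CBc

namespace CL.H3.Cw
open CL.HL
variable {G : Type*} [Group G] [Finite G] {F : Fr G} {D : T8 F} {C : Cu D} (W : Cw C)

include W in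
/-- The relations of the Sylow 2-subgroup. -/
theorem cr : ∃ ε, Nonempty (Cr F ε) := by
  obtain ⟨r, h1, h2, h3, h4, h5, h6, h7, h8⟩ := W.exr
  exact CBc.Rd.cr (W := W) ⟨r, h1, h2, h3, h4, h5, h6, h7, h8⟩

end CL.H3.Cw
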