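import Cfsg.Agent.INV.H3.CA
import Cfsg.Agent.TECH.FourAct

/-! S3140, case `PSp₆(3)`: the element `r` of odd order normalising `R₁ = C_S(V)`. -/

set_option autoImplicit false
open Subgroup

namespace CL.H3.Cw
open CL.HL
variable {G : Type*} [Group G] [Finite G] {F : Fr G} {D : T8 F} {C : Cu D} (W : Cw C)

/-- `R₁` -/
def R1 : Subgroup G := W.S ⊓ centralizer (F.V : Set G)

namespace CBa

omit [Finite G] in
theorem cj {H : Subgroup G} {g x : G} (hg : g ∈ normalizer (H : Set G)) (hx : x ∈ H) : g⁻¹ * x * g ∈ H :=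
  (mem_normalizer_iff''.1 hg x).1 hx

omit [Finite G] in
theorem cV {x : G} : x ∈ centralizer (F.V : Set G) ↔ ∀ v ∈ F.V, Commute v x := mem_centralizer_iff

omit [Finite G] in
theorem cV_of {x : G} (hz : Commute F.z x) (hd : Commute F.d x) : x ∈ centralizer (F.V : Set G) :=
  cV.2 fun v hv => by
    rcases F.mem_V.1 hv with rfl | rfl | rfl | rfl
    exacts [Commute.one_left _, hz, hd, hd.mul_left hz]

omit [Finite G] in
theorem cB_of {x : G} (hs : Commute F.s x) (hV : x ∈ centralizer (F.V : Set G)) : ∀ b ∈ F.B, Commute b x :=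
  fun b hb => by
    obtain ⟨v, hv, rfl | rfl⟩ := F.mem_B.1 hb
    exacts [cV.1 hV _ hv, hs.mul_left (cV.1 hV _ hv)]

omit [Finite G] in
theorem US : D.U ≤ W.S := D.U_TE.trans W.TS

omit [Finite G] in
theorem UR : D.U ≤ W.R1 := fun u hu => ⟨US W hu, cV.2 fun v hv => D.cB u hu v (F.V_B hv)⟩

omit [Finite G] in
theorem memU {x : G} (hx : x ∈ W.S) (h : ∀ b ∈ F.B, Commute b x) : x ∈ D.U :=
  W.SB ▸ (⟨hx, mem_centralizer_iff.2 h⟩ : x ∈ W.S ⊓ centralizer (F.B : Set G))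

omit [Finite G] in
include W in
/-- `s ^ n ∈ s V` -/
theorem sn {n : G} (hn : n ∈ normalizer (D.U : Set G)) : ∃ v ∈ F.V, n⁻¹ * F.s * n = F.s * v := by
  obtain ⟨v, hv, e | e⟩ := F.mem_B.1 (C.nB hn F.s_B)
  · exact absurd ((mem_normalizer_iff''.1 (W.nV hn) _).2 (e ▸ hv)) (F.s_nV D.two)
  · exact ⟨v, hv, e⟩

include W in
theorem nC {n : G} (hn : n ∈ normalizer (D.U : Set G)) : n ∈ normalizer (centralizer (F.V : Set G) : Set G) :=
  Fr.norm_of fun x hx => cV.2 fun v hv => by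
    have h := (cV.1 hx _ ((mem_normalizer_iff.1 (W.nV hn) v).1 hv)).eq
    have : n⁻¹ * (n * v * n⁻¹ * x) * n = n⁻¹ * (x * (n * v * n⁻¹)) * n := by rw [h]
    show v * (n⁻¹ * x * n) = n⁻¹ * x * n * v
    calc _ = n⁻¹ * (n * v * n⁻¹ * x) * n := by group
      _ = _ := by rw [this]; group

theorem SR {n : G} (hn : n ∈ W.S) : n ∈ normalizer (W.R1 : Set G) :=
  Fr.norm_of fun _ hx => ⟨W.S.mul_mem (W.S.mul_mem (W.S.inv_mem hn) hx.1) hn, cj (nC W (W.SN hn)) hx.2⟩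

theorem syl1 : MSS.SylIn 2 W.R1 (normalizer (D.U : Set G) ⊓ centralizer (F.V : Set G)) :=
  (W.syl.of_le W.SN le_top).inf_normal fun _ hn => nC W hn

omit [Finite G] in
/-- an element of odd order that normalises `R₁` and centralises `U` -/
theorem odd {o : G} (ho : Odd (orderOf o)) (hn : o ∈ normalizer (W.R1 : Set G)) (hc : ∀ u ∈ D.U, Commute u o)
    {x : G} (hx : x ∈ W.R1) : Commute x o := by
  have hu : o⁻¹ * x * o * x⁻¹ ∈ D.U := by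
    refine memU W (mul_mem (cj hn hx).1 (inv_mem hx.1)) fun b hb => ?_
    have h1 := (hc b (D.BU hb)).eq
    have h2 := (hc _ (D.BU (C.nB (W.SN hx.1) hb))).eq
    show b * _ = _ * b
    calc b * (o⁻¹ * x * o * x⁻¹) = o⁻¹ * (o * b) * (o⁻¹ * x * o * x⁻¹) := by group
      _ = o⁻¹ * x * (x⁻¹ * b * x * o) * x⁻¹ := by rw [← h1]; group
      _ = _ := by rw [h2]; group
  set u := o⁻¹ * x * o * x⁻¹ with hdef
  have key : ∀ k : ℕ, (o ^ k)⁻¹ * x * o ^ k = u ^ k * x := fun k => by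
    induction k with
    | zero => simp
    | succ k ih =>
      have h1 := (hc _ (pow_mem hu k)).eq
      calc (o ^ (k + 1))⁻¹ * x * o ^ (k + 1) = o⁻¹ * ((o ^ k)⁻¹ * x * o ^ k) * o := by rw [pow_succ]; group
        _ = o⁻¹ * (u ^ k * o) * (o⁻¹ * x * o * x⁻¹) * x := by rw [ih]; group
        _ = _ := by rw [h1, ← hdef, pow_succ]; group
  have h1 := key (orderOf o)
  rw [pow_orderOf_eq_one, inv_one, one_mul, mul_one, eq_comm, mul_eq_right] at h1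
  obtain ⟨k, hk⟩ := D.p2 ⟨u, hu⟩
  have hk' : u ^ 2 ^ k = 1 := congrArg Subtype.val hk
  have h2 : u = 1 := (pow_eq_one_iff_of_coprime (Nat.Coprime.pow_right k (Nat.coprime_two_right.2 ho))).1 ⟨h1, hk'⟩
  exact Fr.comm_of_fix (mul_inv_eq_one.1 (hdef ▸ h2))

/-- `R₁` covers `N₁ / (N₁ ∩ C(B))` -/
theorem cover {n : G} (hn : n ∈ normalizer (D.U : Set G) ⊓ centralizer (F.V : Set G)) :
    ∃ x ∈ W.R1, x⁻¹ * F.s * x = n⁻¹ * F.s * n := by
  obtain ⟨v, hv, e⟩ := sn W hn.1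
  obtain ⟨j, k, ⟨j, rfl⟩, hk⟩ := exists_odd_pow n
  have vv : v * v = 1 := Cu.bb (F.V_B hv)
  have c2 : Commute F.s (n ^ 2) := Fr.comm_of_fix (by
    calc (n ^ 2)⁻¹ * F.s * n ^ 2 = n⁻¹ * (n⁻¹ * F.s * n) * n := by rw [pow_two]; group
      _ = F.s * v * v := by rw [e, Fr.cj_mul, e, Fr.cj_fix (cV.1 hn.2 v hv)]
      _ = _ := by rw [mul_assoc, vv, mul_one])
  have e1 : (n ^ (2 * j + 1))⁻¹ * F.s * n ^ (2 * j + 1) = F.s * v := by
    rw [← e, pow_succ, pow_mul]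
    calc _ = n⁻¹ * (((n ^ 2) ^ j)⁻¹ * F.s * (n ^ 2) ^ j) * n := by group
      _ = _ := by rw [Fr.cj_fix (c2.pow_right j)]
  have hm := pow_mem hn (2 * j + 1)
  generalize n ^ (2 * j + 1) = n' at hk e1 hm
  have hp : IsPGroup 2 (zpowers n') := by
    obtain ⟨l, -, hl⟩ := (Nat.dvd_prime_pow Nat.prime_two).1 (orderOf_dvd_of_pow_eq_one hk)
    exact IsPGroup.of_card (by rw [Nat.card_zpowers, hl])
  obtain ⟨g, hg, le⟩ := (syl1 W).exists_conj_le hp (zpowers_le.2 hm)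
  refine ⟨g * n' * g⁻¹, le ⟨n', mem_zpowers _, rfl⟩, ?_⟩
  obtain ⟨v', hv', e'⟩ := sn W hg.1
  have h1 := (cV.1 hg.2 v hv).eq
  have h2 : Commute v v' := F.comm_E (F.B_E (F.V_B hv)) (F.B_E (F.V_B hv'))
  calc _ = g * (n'⁻¹ * (g⁻¹ * F.s * g) * n') * g⁻¹ := by group
    _ = g * (F.s * v' * v) * g⁻¹ := by
      rw [e', Fr.cj_mul, e1, Fr.cj_fix (cV.1 hm.2 v' hv'), mul_assoc F.s, h2.eq, mul_assoc F.s]
    _ = F.s * (g * v) * g⁻¹ := by rw [← e']; group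
    _ = _ := by rw [← h1, e]; group

/-- `N₁ = C(U) R₁` -/
theorem dec {n : G} (hn : n ∈ normalizer (D.U : Set G) ⊓ centralizer (F.V : Set G)) :
    ∃ o, (∀ u ∈ D.U, Commute u o) ∧ ∃ x ∈ W.R1, n = o * x := by
  obtain ⟨x, hx, e⟩ := cover W hn
  obtain ⟨u, hu, o, -, hc, e'⟩ := CA.cenB C (mul_mem hn.1 (inv_mem (W.SN hx.1)))
    (cB_of (Fr.comm_of_fix (by
      calc (n * x⁻¹)⁻¹ * F.s * (n * x⁻¹) = x * (n⁻¹ * F.s * n) * x⁻¹ := by group
        _ = _ := by rw [← e]; group)) (mul_mem hn.2 (inv_mem hx.2)))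
  refine ⟨o, hc, u * x, mul_mem (UR W hu) hx, ?_⟩
  rw [← mul_assoc, ← (hc u hu).eq, ← e', inv_mul_cancel_right]

theorem ex0 : ∃ r, Odd (orderOf r) ∧ (∀ u ∈ D.U, r⁻¹ * u * r = F.ρ⁻¹ * u * F.ρ) ∧
    r ∈ normalizer (W.R1 : Set G) := by
  have hρ : F.ρ ∈ normalizer ((normalizer (D.U : Set G) ⊓ centralizer (F.V : Set G) : Subgroup G) : Set G) :=
    Fr.norm_of fun x hx => ⟨Subgroup.mul_mem _ (Subgroup.mul_mem _ (Subgroup.inv_mem _ D.ρU) hx.1) D.ρU, cj (nC W D.ρU) hx.2⟩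
  obtain ⟨n, hn, y, hy, e⟩ := (syl1 W).frattini hρ
  obtain ⟨o, hc, x, hx, rfl⟩ := dec W hn
  have hr := mul_mem (le_normalizer hx) hy
  rw [mul_assoc o] at e
  generalize x * y = r at e hr
  have e1 : ∀ u ∈ D.U, r⁻¹ * u * r = F.ρ⁻¹ * u * F.ρ := fun u hu => by
    rw [e]
    calc _ = r⁻¹ * (o⁻¹ * u * o) * r := by rw [Fr.cj_fix (hc u hu)]
      _ = _ := by group
  have e3 : ∀ u ∈ D.U, Commute u (r ^ 3) := fun u hu => Fr.comm_of_fix (by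
    calc (r ^ 3)⁻¹ * u * r ^ 3 = r⁻¹ * (r⁻¹ * (r⁻¹ * u * r) * r) * r := by rw [pow_succ, pow_two]; group
      _ = _ := by rw [e1 u hu, e1 _ (cj D.ρU hu), e1 _ (cj D.ρU (cj D.ρU hu)), Spx.u3 D.toUD hu])
  obtain ⟨j, k, hj, hk⟩ := exists_odd_pow r
  obtain ⟨q, hq⟩ : ∃ q, 4 ^ k = 3 * q + 1 := ⟨4 ^ k / 3, by
    have : 4 ^ k % 3 = 1 := by simp [Nat.pow_mod]
    omega⟩
  refine ⟨r ^ 4 ^ k, Odd.of_dvd_nat hj (orderOf_dvd_of_pow_eq_one ?_), fun u hu => ?_, pow_mem hr _⟩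
  · have : 4 ^ k * j = j * 2 ^ k * 2 ^ k := by rw [show 4 = 2 * 2 from rfl, mul_pow]; ring
    rw [← pow_mul, this, pow_mul, pow_mul, hk, one_pow]
  · rw [hq, pow_succ, pow_mul, ← e1 u hu]
    calc _ = r⁻¹ * (((r ^ 3) ^ q)⁻¹ * u * (r ^ 3) ^ q) * r := by group
      _ = _ := by rw [Fr.cj_fix ((e3 u hu).pow_right q)]

omit [Finite G] in
theorem χ_odd {o : G} (ho : Odd (orderOf o)) (ht : Commute F.t o) : F.χ o = 0 := by
  have two : ∀ a : ZMod 2 × ZMod 2, a + a = 0 := by decide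
  have key : ∀ k : ℕ, F.χ (o ^ (2 * k + 1)) = F.χ o := fun k => by
    rw [pow_succ, F.χmul _ _ (ht.pow_right _) ht, two_mul, pow_add, F.χmul _ _ (ht.pow_right _) (ht.pow_right _),
      two, zero_add]
  obtain ⟨k, hk⟩ := ho
  rw [← key k, ← hk, pow_orderOf_eq_one, F.χ_one]

theorem zS {n : G} (hn : n ∈ W.S) : Commute F.z n := by
  obtain ⟨v, hv, v1, h⟩ := JC.Four.exists_fixed (W := F.V) ⟨F.card_V, fun _ h => Cu.bb (F.V_B h)⟩ W.syl.pgroup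
    (W.SN.trans W.nV)
  have he : Commute v F.e := (h _ (W.TS D.e_TE)).symm
  rcases F.mem_V.1 hv with rfl | rfl | rfl | rfl
  · exact absurd rfl v1
  · exact (h n hn).symm
  · exact absurd he F.not_de
  · exact absurd (by simpa using he.mul_left F.ze.inv_left) F.not_de

end CBa

open CBa in
/-- `R₁` is Sylow in `N₁ = N(U) ∩ C(V) ⊴ N(U)` and `N₁ = R₁ C(U)` (`CA.cenB`).  Frattini: `ρ = c r₀`, `c ∈ C(U)`,
`r₀ ∈ N(R₁)`; `r = r₀ ^ 4 ^ k` has odd order.  An element of odd order normalising `R₁` and centralising `U`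
centralises `R₁` (it is trivial on `R₁ / U ↪ Hom(B / V, V)`).  `(e r)² = u o` (`cenB`) with `u ∈ Z(U) ≤ B`;
`χ((e r)²) = 0` gives `u ∈ V`.  `S` acts on `V` as `⟨e⟩`. -/
theorem exr : ∃ r, Commute F.t r ∧ Odd (orderOf r) ∧ (∀ u ∈ D.U, r⁻¹ * u * r = F.ρ⁻¹ * u * F.ρ) ∧
    r ∈ normalizer (W.R1 : Set G) ∧ (∀ x ∈ W.R1, Commute x (r ^ 3)) ∧
    (∀ x ∈ W.R1, Commute x (F.e * r * F.e * r)) ∧ (∀ n ∈ W.S, n ∈ W.R1 ∨ n * F.e ∈ W.R1) ∧
    ∀ x ∈ W.R1, ∃ u ∈ D.U, x = u ∨ x = u * W.w ∨ x = u * (r⁻¹ * W.w * r) ∨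
      x = u * (r⁻¹ * (r⁻¹ * W.w * r) * r) := by
  obtain ⟨r, ho, e1, hr⟩ := ex0 W
  have tr : Commute F.t r := Fr.comm_of_fix (by rw [e1 _ D.tU, Fr.cj_fix F.tρ])
  have rU : r ∈ normalizer (D.U : Set G) := Fr.norm_of fun u hu => e1 u hu ▸ cj D.ρU hu
  have eS := W.TS D.e_TE
  refine ⟨r, tr, ho, e1, hr, fun x hx => ?_, fun x hx => ?_, fun n hn => ?_, fun x hx => ?_⟩
  · refine odd W (Odd.of_dvd_nat ho (orderOf_pow_dvd 3)) (pow_mem hr 3) (fun u hu => Fr.comm_of_fix ?_) hx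
    calc (r ^ 3)⁻¹ * u * r ^ 3 = r⁻¹ * (r⁻¹ * (r⁻¹ * u * r) * r) * r := by rw [pow_succ, pow_two]; group
      _ = _ := by rw [e1 u hu, e1 _ (cj D.ρU hu), e1 _ (cj D.ρU (cj D.ρU hu)), Spx.u3 D.toUD hu]
  · have gU : ∀ u ∈ D.U, Commute u (F.e * r * F.e * r) := fun u hu => Fr.comm_of_fix (by
      have h1 := cj D.eU hu
      have h2 : F.e⁻¹ * (F.e⁻¹ * u * F.e) * F.e = u := by rw [F.e_inv]; exact Cu.e_e u
      calc _ = r⁻¹ * (F.e⁻¹ * (r⁻¹ * (F.e⁻¹ * u * F.e) * r) * F.e) * r := by group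
        _ = _ := by rw [e1 _ h1, Spx.u2 D.toUD h1, h2, e1 _ (cj D.ρU (cj D.ρU hu)), Spx.u3 D.toUD hu])
    have gR : F.e * r * F.e * r ∈ normalizer (W.R1 : Set G) :=
      mul_mem (mul_mem (mul_mem (SR W eS) hr) (SR W eS)) hr
    have gχ : F.χ (F.e * r * F.e * r) = 0 := by
      have two : ∀ a : ZMod 2 × ZMod 2, a + a = 0 := by decide
      rw [mul_assoc, F.χmul _ _ (F.te.mul_right tr) (F.te.mul_right tr), two]
    obtain ⟨u, hu, o, oo, hc, e⟩ := CA.cenB C (mul_mem (mul_mem (mul_mem D.eU rU) D.eU) rU)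
      fun b hb => gU b (D.BU hb)
    generalize F.e * r * F.e * r = g at gU gR gχ e
    have uc : ∀ y ∈ D.U, Commute y u := fun y hy => by
      rw [eq_mul_inv_of_mul_eq e.symm]
      exact (gU y hy).mul_right (hc y hy).inv_right
    have uB : u ∈ F.B := by
      obtain ⟨b, hb, h | h⟩ := F.mem_E.1 (D.cU u hu (uc _ D.tU))
      · exact h ▸ hb
      · exfalso
        have h1 : Commute C.m F.t := by
          rw [eq_mul_inv_of_mul_eq h.symm]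
          exact (uc _ (C.hU C.hm)).mul_right (D.cB _ (C.hU C.hm) b hb).symm.inv_right
        have h2 := C.hi _ C.hm
        rw [← h1.eq, mul_assoc, F.tt, mul_one] at h2
        exact D.two (by rw [← C.mm]; exact mul_eq_one_iff_eq_inv.2 h2)
    have uχ : F.χ u = 0 := by
      rw [e, F.χmul _ _ (uc _ D.tU) (hc _ D.tU), χ_odd oo (hc _ D.tU), add_zero] at gχ
      exact gχ
    have uV : u ∈ F.V := by
      obtain ⟨v, hv, h | h⟩ := F.mem_B.1 uB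
      · exact h ▸ hv
      · rw [h, F.χmul _ _ F.ts (F.comm_E F.t_E (F.B_E (F.V_B hv))), F.χ_V hv, F.χ_s D.two] at uχ
        exact absurd uχ (by decide)
    have oR : o ∈ normalizer (W.R1 : Set G) := by
      rw [eq_inv_mul_of_mul_eq e.symm]
      exact mul_mem (inv_mem (le_normalizer (UR W hu))) gR
    rw [e]
    exact (cV.1 hx.2 u uV).symm.mul_right (odd W oo oR hc hx)
  · have hz := zS W hn
    rcases F.mem_V.1 (cj (W.nV (W.SN hn)) F.d_V) with h | h | h | h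
    · exact absurd (by simpa [mul_assoc, inv_mul_eq_one] using h) F.d1
    · rw [← Fr.cj_fix hz, mul_left_inj, mul_right_inj] at h
      exact absurd h F.d_ne_z
    · exact Or.inl ⟨hn, cV_of hz (Fr.comm_of_fix h)⟩
    · refine Or.inr ⟨mul_mem hn eS, cV_of (hz.mul_right F.ze) (Fr.comm_of_fix ?_)⟩
      calc _ = F.e⁻¹ * (n⁻¹ * F.d * n) * F.e := by group
        _ = _ := by rw [h, Fr.cj_mul, Fr.cj_fix F.ze, F.e_inv, F.ede, mul_assoc, F.zz, mul_one]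
  · have sr : r⁻¹ * F.s * r = F.s := by rw [e1 _ (D.BU F.s_B), Fr.cj_fix F.sρ]
    have nxt : ∀ y v, y⁻¹ * F.s * y = F.s * v → v ∈ F.V →
        (r⁻¹ * y * r)⁻¹ * F.s * (r⁻¹ * y * r) = F.s * (F.ρ⁻¹ * v * F.ρ) := fun y v h hv => by
      calc _ = r⁻¹ * (y⁻¹ * (r * (r⁻¹ * F.s * r) * r⁻¹) * y) * r := by rw [sr]; group
        _ = r⁻¹ * (y⁻¹ * F.s * y) * r := by group
        _ = _ := by rw [h, Fr.cj_mul, sr, e1 _ (D.BU (F.V_B hv))]
    have fin : ∀ y ∈ W.R1, y⁻¹ * F.s * y = x⁻¹ * F.s * x → ∃ u ∈ D.U, x = u * y := fun y hy h =>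
      ⟨x * y⁻¹, memU W (mul_mem hx.1 (inv_mem hy.1)) (cB_of (Fr.comm_of_fix (by
        calc _ = y * (x⁻¹ * F.s * x) * y⁻¹ := by group
          _ = _ := by rw [← h]; group)) (mul_mem hx.2 (inv_mem hy.2))), by group⟩
    have w0 : W.w ∈ W.R1 := ⟨W.wS, cV_of W.wz W.wd⟩
    have s1 := nxt _ _ W.ws F.z_V
    rw [F.zρ'] at s1
    have s2 := nxt _ _ s1 F.d_V
    rw [F.dρ'] at s2
    obtain ⟨v, hv, e⟩ := sn W (W.SN hx.1)
    rcases F.mem_V.1 hv with rfl | rfl | rfl | rfl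
    · obtain ⟨u, hu, h⟩ := fin 1 (one_mem _) (by rw [e]; group)
      exact ⟨u, hu, Or.inl (by rw [h, mul_one])⟩
    · obtain ⟨u, hu, h⟩ := fin _ w0 (W.ws.trans e.symm)
      exact ⟨u, hu, Or.inr (Or.inl h)⟩
    · obtain ⟨u, hu, h⟩ := fin _ (cj hr w0) (s1.trans e.symm)
      exact ⟨u, hu, Or.inr (Or.inr (Or.inl h))⟩
    · obtain ⟨u, hu, h⟩ := fin _ (cj hr (cj hr w0)) (s2.trans e.symm)
      exact ⟨u, hu, Or.inr (Or.inr (Or.inr h))⟩

end CL.H3.Cw
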