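import Cfsg.Agent.INV.H3.CA

/-! S3140, case `PSp₆(3)`: the action of `N(U) ∩ C(V)` on `A0`. -/

set_option autoImplicit false
set_option linter.unusedSectionVars false
open Subgroup

namespace CL.H3.Cw
open CL.HL Fr
variable {G : Type*} [Group G] [Finite G] {F : Fr G} {D : T8 F} {C : Cu D} (W : Cw C)

/-- `N(U) ∩ C(B)` acts on `A` as `± 1` -/
theorem act_pm (C : Cu D) {k a : G} (hk : k ∈ normalizer (D.U : Set G)) (h : ∀ b ∈ F.B, Commute b k) (ha : a ∈ C.A) :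
    k⁻¹ * a * k = a ∨ k⁻¹ * a * k = a⁻¹ := by
  obtain ⟨u, hu, o, -, ho, rfl⟩ := CA.cenB C hk h
  rw [show (u * o)⁻¹ * a * (u * o) = o⁻¹ * (u⁻¹ * a * u) * o by group,
    cj_fix (ho _ (mul_mem (mul_mem (inv_mem hu) (C.hU ha)) hu))]
  rcases C.decU hu with c | ⟨b, c, rfl⟩
  · exact .inl (cj_fix (C.ab ha c))
  · refine .inr ?_
    rw [mul_inv_rev, inv_eq_of_mul_eq_one_right F.tt, show b⁻¹ * F.t * a * (F.t * b) = b⁻¹ * (F.t * a * F.t) * b by group,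
      C.hi a ha, cj_fix (C.ab (inv_mem ha) c)]

include W in
/-- For `n ∈ N₁ = N(U) ∩ C(V)` let `s ^ n = s v₀`.  `n²` acts on `A` as `± 1`.  If `a ^ n ∈ a s V`, then
`a ^ n² = a v₀`, so `a² = v₀`; the elements of `A0` with `a² ≠ v₀` generate `A0`. -/
theorem act {n a : G} (hn : n ∈ normalizer (D.U : Set G)) (hz : Commute F.z n) (hd : Commute F.d n)
    (ha : a ∈ C.A) (aa : a * a ∈ F.V) : a⁻¹ * (n⁻¹ * a * n) ∈ F.V := by
  have cV : ∀ v ∈ F.V, Commute v n := fun v hv => by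
    rcases F.mem_V.1 hv with rfl | rfl | rfl | rfl
    exacts [Commute.one_left _, hz, hd, hd.mul_left hz]
  have cB : ∀ {k}, (∀ v ∈ F.V, Commute v k) → Commute F.s k → ∀ b ∈ F.B, Commute b k := fun h1 h2 b hb => by
    obtain ⟨v, hv, rfl | rfl⟩ := F.mem_B.1 hb
    exacts [h1 _ hv, h2.mul_left (h1 _ hv)]
  obtain ⟨v, hv, e⟩ : ∃ v ∈ F.V, n⁻¹ * F.s * n = F.s * v := by
    obtain ⟨v, hv, e | e⟩ := F.mem_B.1 (C.nB hn F.s_B)
    · refine absurd ?_ (F.s_nV D.two)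
      rwa [mul_left_cancel (mul_right_cancel (e.trans (cj_fix (cV v hv)).symm))]
    · exact ⟨v, hv, e⟩
  have vv : ∀ {x}, x ∈ F.V → x * x = 1 := fun h => Cu.bb (F.V_B h)
  by_cases v1 : v = 1
  · rcases act_pm C hn (cB cV (comm_of_fix (by rw [e, v1, mul_one]))) ha with h | h <;> rw [h]
    · simp
    · rw [← mul_inv_rev]; exact inv_mem aa
  have key : ∀ a ∈ C.A, a * a ∈ F.V → a * a ≠ v → a⁻¹ * (n⁻¹ * a * n) ∈ F.V := fun a ha aa ne => by
    obtain ⟨b, hb, h⟩ := C.sq_eq (C.nA hn ha) ha (by rw [← cj_mul, cj_fix (cV _ aa)])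
    obtain ⟨x, hx, rfl | rfl⟩ := F.mem_B.1 hb
    · rwa [h, inv_mul_cancel_left]
    have h2 : (n * n)⁻¹ * a * (n * n) = a * v := by
      rw [show (n * n)⁻¹ * a * (n * n) = n⁻¹ * (n⁻¹ * a * n) * n by group, h, cj_mul, cj_mul, h, e, cj_fix (cV x hx),
        mul_assoc a, mul_assoc F.s v, (F.comm_E (F.B_E (F.V_B hv)) (F.B_E (F.V_B hx))).eq, ← mul_assoc F.s,
        ← mul_assoc (F.s * x), Cu.bb hb, one_mul]
    rcases act_pm C (mul_mem hn hn) (cB (fun x hx => (cV x hx).mul_right (cV x hx)) (comm_of_fix (by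
      rw [show (n * n)⁻¹ * F.s * (n * n) = n⁻¹ * (n⁻¹ * F.s * n) * n by group, e, cj_mul, e, cj_fix (cV v hv),
        mul_assoc, vv hv, mul_one]))) ha with c | c <;> rw [h2] at c
    · exact absurd (by simpa using c) v1
    · exact absurd (by rw [← inv_eq_of_mul_eq_one_right (vv hv), eq_inv_iff_mul_eq_one, mul_assoc, c, mul_inv_cancel]) ne
  by_cases c : a * a = v
  swap
  · exact key a ha aa c
  obtain ⟨x, hx, x1, xv⟩ : ∃ x ∈ F.V, x ≠ 1 ∧ x ≠ v := by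
    by_cases c : v = F.z
    exacts [⟨_, F.d_V, F.d1, c ▸ F.d_ne_z⟩, ⟨_, F.z_V, F.z1, Ne.symm c⟩]
  obtain ⟨y, hy, rfl⟩ := C.hs' x (F.V_B hx)
  have h1 := key _ (mul_mem ha hy) (C.sqm ha hy ▸ mul_mem aa hx) (by rw [C.sqm ha hy, c]; simpa using x1)
  have h2 := mul_mem h1 (inv_mem (key y hy hx xv))
  have k := C.nA hn ha
  convert h2 using 1
  rw [cj_mul, (C.ab ha hy).eq]
  generalize n⁻¹ * a * n = p at k
  calc _ = a⁻¹ * y⁻¹ * (y * p) := by group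
    _ = _ := by rw [← (C.ab k hy).eq]; group

end CL.H3.Cw
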