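import Cfsg.Agent.INV.H3.CBa
import Cfsg.Agent.INV.H3.CBb

/-! S3140, case `PSp₆(3)`: the subgroup `E0` and good elements `w₃`. -/

set_option autoImplicit false
set_option linter.unusedSectionVars false
open Subgroup

namespace CL.H3.CBc
open CL.HL

section cj
variable {G : Type*} [Group G]

/-- `x ^ g` -/
def cj (g x : G) : G := g⁻¹ * x * g
theorem cj_m (g x y : G) : cj g (x * y) = cj g x * cj g y := by unfold cj; group
theorem cj_i (g x : G) : cj g x⁻¹ = (cj g x)⁻¹ := by unfold cj; group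
theorem cj_c (g h x : G) : cj (g * h) x = cj h (cj g x) := by unfold cj; group
theorem cj_cc (r g x : G) : cj (cj r g) (cj r x) = cj r (cj g x) := by unfold cj; group
theorem cj_b {g x y : G} (h : cj g x = y) : cj g⁻¹ y = x := by rw [← h]; unfold cj; group
theorem fx {g x : G} (h : Commute x g) : cj g x = x := Fr.cj_fix h
theorem cm {g x : G} (h : cj g x = x) : Commute x g := by
  show x * g = g * x
  nth_rewrite 2 [← h]; unfold cj; group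
theorem ccj {x y : G} (h : Commute x y) (g : G) : Commute (cj g x) (cj g y) := comm_cj h g

theorem ab1 {H : Type*} [CommGroup H] (t m a v : H) (h : a * t = m * v) : t = m * (a⁻¹ * v) := by
  rw [mul_left_comm, ← h, inv_mul_cancel_left]
theorem ab2 {H : Type*} [CommGroup H] (m a a' v : H) (hv : v * v = 1)
    (h : m * (a⁻¹ * v) * (a'⁻¹ * v) = m) : a' = a⁻¹ := by
  rw [mul_assoc, mul_eq_left, mul_mul_mul_comm, hv, mul_one, ← mul_inv, inv_eq_one] at h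
  exact eq_inv_of_mul_eq_one_right h
theorem ab3 {H : Type*} [CommGroup H] (i j k p q z : H) (hz : i * i = z) (zz : z * z = 1) (qq : q * q = 1)
    (h : j * p * (k * q) * i⁻¹ = j * k * i * z) : p = q := by
  have e : i * z = i⁻¹ := eq_inv_of_mul_eq_one_left (by rw [mul_right_comm, hz, zz])
  rw [mul_assoc (j * k), e, mul_left_inj, mul_mul_mul_comm, mul_eq_left, ← qq] at h
  exact mul_right_cancel h
theorem ab4 {H : Type*} [CommGroup H] (i j p q : H) (pp : p * p = 1)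
    (h : i⁻¹ * q * ((j * p)⁻¹ * p) = (i * (j * p))⁻¹) : q = p := by
  rw [mul_inv i, mul_assoc, mul_right_inj, mul_left_comm, mul_eq_left, ← pp] at h
  exact mul_right_cancel h
end cj

variable {G : Type*} [Group G] [Finite G] {F : Fr G} {D : T8 F} {C : Cu D}

instance cgA (C : Cu D) : CommGroup C.A :=
  { (inferInstance : Group C.A) with mul_comm := fun a b => Subtype.ext (C.ab a.2 b.2).eq }

variable (W : Cw C)

theorem vv {v : G} (hv : v ∈ F.V) : v * v = 1 := Cu.bb (F.V_B hv)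
theorem vA {v : G} (hv : v ∈ F.V) : v ∈ C.A := C.hB (F.V_B hv)
theorem mem_R1 {x : G} : x ∈ W.R1 ↔ x ∈ W.S ∧ ∀ v ∈ F.V, Commute v x :=
  ⟨fun h => ⟨h.1, fun v hv => mem_centralizer_iff.1 h.2 v hv⟩,
    fun h => ⟨h.1, mem_centralizer_iff.2 fun v hv => h.2 v hv⟩⟩
theorem U_R1 : D.U ≤ W.R1 := fun u hu =>
  (mem_R1 W).2 ⟨W.TS (D.U_TE hu), fun v hv => D.cB u hu v (F.V_B hv)⟩
theorem w_R1 : W.w ∈ W.R1 := (mem_R1 W).2 ⟨W.wS, fun v hv => by
  rcases F.mem_V.1 hv with rfl | rfl | rfl | rfl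
  exacts [Commute.one_left _, W.wz, W.wd, W.wd.mul_left W.wz]⟩
theorem fV {g v : G} (hg : g ∈ W.R1) (hv : v ∈ F.V) : cj g v = v := fx (((mem_R1 W).1 hg).2 v hv)
theorem ecj (x : G) : cj F.e x = F.e * x * F.e := by unfold cj; rw [F.e_inv]
theorem e_R1 {x : G} (hx : x ∈ W.R1) : cj F.e x ∈ W.R1 := by
  have he := W.TS D.e_TE
  refine (mem_R1 W).2 ⟨mul_mem (mul_mem (inv_mem he) hx.1) he, fun v hv => ?_⟩
  have := ccj (((mem_R1 W).1 hx).2 _ (F.e_nV hv)) F.e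
  rwa [ecj, Cu.e_e] at this
theorem inU {g : G} (hg : g ∈ W.R1) (hs : cj g F.s = F.s) : g ∈ D.U := by
  rw [← W.SB]
  refine ⟨hg.1, mem_centralizer_iff.2 fun b hb => ?_⟩
  obtain ⟨v, hv, rfl | rfl⟩ := F.mem_B.1 hb
  · exact ((mem_R1 W).1 hg).2 _ hv
  · exact (cm hs).mul_left (((mem_R1 W).1 hg).2 _ hv)
theorem act' {g a : G} (hg : g ∈ W.R1) (ha : a ∈ C.A) (aa : a * a ∈ F.V) : ∃ v ∈ F.V, cj g a = a * v :=
  ⟨_, W.act (W.SN hg.1) (((mem_R1 W).1 hg).2 _ F.z_V) (((mem_R1 W).1 hg).2 _ F.d_V) ha aa,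
    by unfold cj; group⟩
theorem tinv {a : G} (ha : a ∈ C.A) : cj F.t a = a⁻¹ := by
  unfold cj; rw [inv_eq_of_mul_eq_one_right F.tt, C.hi a ha]
theorem not_inv {g : G} (h : cj g W.i = W.i⁻¹) : cj g W.i ≠ W.i := fun h' =>
  F.z1 (by rw [← W.ii]; nth_rewrite 1 [← h', h]; exact inv_mul_cancel _)

/-- `E0 = {g ∈ R₁ | (t m) ^ g ∈ t m V}` -/
def E0 : Subgroup G where
  carrier := {g | g ∈ W.R1 ∧ ∃ v ∈ F.V, cj g (F.t * W.m) = F.t * W.m * v}
  one_mem' := ⟨one_mem _, 1, one_mem _, by simp [cj]⟩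
  mul_mem' := by
    rintro a b ⟨ha, v, hv, e⟩ ⟨hb, u, hu, f⟩
    exact ⟨mul_mem ha hb, u * v, mul_mem hu hv, by rw [cj_c, e, cj_m, f, fV W hb hv, mul_assoc]⟩
  inv_mem' := by
    rintro a ⟨ha, v, hv, e⟩
    refine ⟨inv_mem ha, v⁻¹, inv_mem hv, ?_⟩
    have := cj_b e
    rw [cj_m, fV W (inv_mem ha) hv] at this
    exact eq_mul_inv_of_mul_eq this

theorem A0_E0 {a : G} (ha : a ∈ C.A) (aa : a * a ∈ F.V) : a ∈ E0 W :=
  ⟨U_R1 W (C.hU ha), a * a, aa, by unfold cj; rw [C.cj_ta W.mA ha, mul_assoc]⟩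
theorem B_E0 {b : G} (hb : b ∈ F.B) : b ∈ E0 W := A0_E0 W (C.hB hb) (by rw [Cu.bb hb]; exact one_mem _)
theorem t_E0 : F.t ∉ E0 W := by
  rintro ⟨-, v, hv, e⟩
  rw [cj_m, fx (Commute.refl _), tinv W.mA, mul_assoc, mul_right_inj] at e
  refine F.s_nV D.two ?_
  have : F.s * v = 1 := by rw [← W.mm, mul_assoc, ← e, mul_inv_cancel]
  rw [eq_inv_of_mul_eq_one_left this]; exact inv_mem hv
theorem e_E0 {g : G} (hg : g ∈ E0 W) : cj F.e g ∈ E0 W := by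
  obtain ⟨h, v, hv, e⟩ := hg
  have f : cj F.e (F.t * W.m) = F.t * W.m := fx (F.te.mul_left W.em.symm)
  refine ⟨e_R1 W h, cj F.e v, by rw [ecj]; exact F.e_nV hv, ?_⟩
  nth_rewrite 1 [← f]
  rw [cj_cc, e, cj_m, f]

theorem key {g a : G} (hg : g ∈ E0 W) (ha : a ∈ C.A) (ht : cj g F.t = F.t * a) :
    cj g a = a⁻¹ ∧ g * g ∈ F.V := by
  obtain ⟨gR, v, hv, hm⟩ := hg
  have c2 : ∀ x ∈ C.A, x * x ∈ F.V → cj (g * g) x = x := fun x hx xx => by
    obtain ⟨u, hu, e⟩ := act' W gR hx xx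
    rw [cj_c, e, cj_m, e, fV W gR hu, mul_assoc, vv hu, mul_one]
  have gU : g * g ∈ D.U := inU W (mul_mem gR gR) (c2 _ (C.hB F.s_B) (by rw [F.ss]; exact one_mem _))
  have gA : g * g ∈ C.A := by
    refine (C.decU gU).resolve_right ?_
    rintro ⟨x, hx, e⟩
    refine not_inv W (g := g * g) ?_ (c2 _ W.iA (by rw [W.ii]; exact F.z_V))
    rw [e, cj_c, tinv W.iA, fx (C.ab (inv_mem W.iA) hx)]
  have gN := W.SN gR.1
  have mA : cj g W.m ∈ C.A := C.nA gN W.mA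
  have aA : cj g a ∈ C.A := C.nA gN ha
  have h1 : cj g W.m = W.m * (a⁻¹ * v) := by
    rw [cj_m, ht, mul_assoc, mul_assoc, mul_right_inj] at hm
    exact congrArg Subtype.val (ab1 (H := C.A) ⟨_, mA⟩ ⟨_, W.mA⟩ ⟨_, ha⟩ ⟨_, vA hv⟩ (Subtype.ext hm))
  have h2 := fx (C.ab W.mA gA)
  rw [cj_c, h1, cj_m, h1, cj_m, cj_i, fV W gR hv] at h2
  have h3 : cj g a = a⁻¹ := congrArg Subtype.val (ab2 (H := C.A) ⟨_, W.mA⟩ ⟨_, ha⟩ ⟨_, aA⟩ ⟨_, vA hv⟩
    (Subtype.ext (vv hv)) (Subtype.ext h2))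
  refine ⟨h3, ?_⟩
  have h4 : cj (g * g) F.t = F.t := by rw [cj_c, ht, cj_m, ht, h3, mul_inv_cancel_right]
  have h5 := tinv gA
  rw [fx (cm h4).symm] at h5
  obtain ⟨u, hu, e | e⟩ := F.mem_B.1 (C.invB gA (mul_eq_one_iff_eq_inv.2 h5))
  · rw [e]; exact hu
  · have h6 : cj g (g * g) = g * g := fx ((Commute.refl g).mul_left (Commute.refl g))
    rw [e, cj_m, fV W gR hu, mul_left_inj] at h6
    rcases C.decU (inU W gR h6) with h | ⟨x, hx, rfl⟩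
    · unfold cj at hm
      rw [C.cj_ta W.mA h, mul_assoc, mul_right_inj, mul_right_inj] at hm
      rw [hm]; exact hv
    · rw [C.ta_sq hx]; exact one_mem _

theorem sqV {g : G} (hg : g ∈ E0 W) : g * g ∈ F.V := by
  obtain ⟨a, ha, e, -⟩ := W.om g (W.SN hg.1.1)
  exact (key W hg ha e).2

theorem cmV {g h : G} (hg : g ∈ E0 W) (hh : h ∈ E0 W) : ∃ v ∈ F.V, cj g h = h * v := by
  refine ⟨h⁻¹ * cj g h, ?_, by group⟩
  have h1 := mul_mem (mul_mem (inv_mem (sqV W hh)) (sqV W (mul_mem hh (inv_mem hg)))) (sqV W hg)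
  have h2 := fV W (inv_mem hh.1) (mul_mem (inv_mem (sqV W hh)) (sqV W (mul_mem hh (inv_mem hg))))
  have h3 : h⁻¹ * cj g h = (h * h)⁻¹ * (h * g⁻¹ * (h * g⁻¹)) * (g * g) := by unfold cj; group
  rw [h3]; exact h1

/-- the candidates for `w₃` -/
structure Good (g : G) : Prop where
  E : g ∈ E0 W
  s : cj g F.s = F.s * F.z
  t : cj g F.t = F.t * W.i
  u : ∃ u ∈ D.U, g = W.w * u

theorem Good.mul {W : Cw C} {g b : G} (h : Good W g) (hb : b ∈ F.B) : Good W (g * b) := by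
  obtain ⟨u, hu, e⟩ := h.u
  refine ⟨mul_mem h.E (B_E0 W hb), ?_, ?_, u * b, mul_mem hu (C.hU (C.hB hb)), by rw [e, mul_assoc]⟩
  · rw [cj_c, h.s, fx (C.ab (mul_mem (C.hB F.s_B) (vA F.z_V)) (C.hB hb))]
  · rw [cj_c, h.t, fx ((F.comm_E F.t_E (F.B_E hb)).mul_left (C.ab W.iA (C.hB hb)))]

theorem ab5 {H : Type*} [CommGroup H] (m i n s z : H) (mm : m * m = s) (ii : i * i = z)
    (nn : n * n = s * z) (zz : z * z = 1) : m⁻¹ * (i * n) * (m⁻¹ * (i * n)) = 1 := by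
  rw [mul_mul_mul_comm, mul_mul_mul_comm i, ← mul_inv, mm, ii, nn, mul_left_comm z, zz, mul_one,
    inv_mul_cancel]
theorem ab6 {H : Type*} [CommGroup H] (m i v s : H) (mm : m * m = s) (ss : s * s = 1) :
    (m * (s * v))⁻¹ * (i * i) = m * (v⁻¹ * (i * i)) := by
  have e : m * s = m⁻¹ := eq_inv_of_mul_eq_one_left (by rw [mul_right_comm, mm, ss])
  rw [← mul_assoc m s, e, mul_inv, inv_inv, mul_assoc]

theorem exists_good : ∃ g, Good W g := by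
  obtain ⟨a, ha, wt, aa⟩ := W.wt
  obtain ⟨b, hb, e⟩ := C.sq_eq W.iA ha (by rw [aa, W.ii])
  obtain ⟨x, hx, xx⟩ := C.hs' b hb
  have sA := C.hB F.s_B
  have zA : F.z ∈ C.A := vA F.z_V
  have gR : W.w * x ∈ W.R1 := mul_mem (w_R1 W) (U_R1 W (C.hU hx))
  have gs : cj (W.w * x) F.s = F.s * F.z := by
    rw [cj_c, show cj W.w F.s = _ from W.ws, fx (C.ab (mul_mem sA zA) hx)]
  have gt : cj (W.w * x) F.t = F.t * W.i := by
    rw [cj_c, show cj W.w F.t = _ from wt]; unfold cj; rw [C.cj_ta ha hx, xx, ← e]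
  have nA : cj (W.w * x) W.m ∈ C.A := C.nA (W.SN gR.1) W.mA
  have hc : W.m⁻¹ * (W.i * cj (W.w * x) W.m) ∈ F.B :=
    C.invB (mul_mem (inv_mem W.mA) (mul_mem W.iA nA)) (congrArg Subtype.val (ab5 (H := C.A) ⟨_, W.mA⟩
      ⟨_, W.iA⟩ ⟨_, nA⟩ ⟨_, sA⟩ ⟨_, zA⟩ (Subtype.ext W.mm) (Subtype.ext W.ii)
      (Subtype.ext (by show _ * _ = F.s * F.z; rw [← cj_m, W.mm, gs])) (Subtype.ext F.zz)))
  have gm : cj (W.w * x) (F.t * W.m) = F.t * W.m * (W.m⁻¹ * (W.i * cj (W.w * x) W.m)) := by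
    rw [cj_m, gt]; group
  obtain ⟨v, hv, f | f⟩ := F.mem_B.1 hc
  · exact ⟨_, ⟨gR, v, hv, by rw [gm, f]⟩, gs, gt, x, C.hU hx, rfl⟩
  · have tU : F.t * W.i ∈ D.U := mul_mem (D.EU F.t_E) (C.hU W.iA)
    refine ⟨W.w * x * (F.t * W.i), ⟨mul_mem gR (U_R1 W tU), v⁻¹ * (W.i * W.i),
      mul_mem (inv_mem hv) (by rw [W.ii]; exact F.z_V), ?_⟩, ?_, ?_, _, mul_mem (C.hU hx) tU, mul_assoc _ _ _⟩
    · have hA := mul_mem W.mA (mul_mem sA (vA hv))
      rw [cj_c, gm, f, cj_c, mul_assoc, cj_m, fx (Commute.refl _), tinv hA]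
      unfold cj
      rw [C.cj_ta (inv_mem hA) W.iA, mul_assoc, mul_right_inj]
      exact congrArg Subtype.val (ab6 (H := C.A) ⟨_, W.mA⟩ ⟨_, W.iA⟩ ⟨_, vA hv⟩ ⟨_, sA⟩ (Subtype.ext W.mm)
        (Subtype.ext F.ss))
    · rw [cj_c, gs, fx (D.cB _ tU _ (mul_mem F.s_B (F.V_B F.z_V)))]
    · rw [cj_c, gt, fx (Commute.refl _)]

theorem Good.inv {W : Cw C} {g : G} (h : Good W g) : cj g W.i = W.i⁻¹ := (key W h.E W.iA h.t).1

theorem Good.exb {W : Cw C} {g : G} (h : Good W g) : ∃ b ∈ F.B, cj F.e g = b * g := by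
  have hn := mul_mem (e_E0 W h.E) (inv_mem h.E)
  have h1 : cj (cj F.e g * g⁻¹) F.t = F.t := by
    rw [cj_c]; refine cj_b ?_
    nth_rewrite 2 [← fx F.te]
    rw [cj_cc, h.t, fx (F.te.mul_left W.ei.symm)]
  have h2 : cj (cj F.e g * g⁻¹) F.s = F.s := by
    rw [cj_c]; refine cj_b ?_
    nth_rewrite 2 [← fx F.se]
    rw [cj_cc, h.s, fx (F.se.mul_left F.ze)]
  obtain ⟨b, hb, e | e⟩ := F.mem_E.1 (D.cU _ (inU W hn.1 h2) (cm h1))
  · exact ⟨b, hb, by rw [← e, inv_mul_cancel_right]⟩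
  · rw [e] at hn
    exact absurd ((mul_mem_cancel_right (B_E0 W hb)).1 hn) (t_E0 W)

theorem fixV {v : G} (hv : v ∈ F.V) (h : Commute F.e v) (two : F.s ≠ 1) : v = 1 ∨ v = F.z := by
  rcases F.fix_e (F.V_B hv) h with e | e | e | e
  · exact Or.inl e
  · exact Or.inr e
  · exact absurd (e ▸ hv) (F.s_nV two)
  · exact absurd ((mul_mem_cancel_right F.z_V).1 (e ▸ hv)) (F.s_nV two)

theorem Good.tm {W : Cw C} {g : G} (h : Good W g) :
    ∃ v, (v = 1 ∨ v = F.z) ∧ cj g (F.t * W.m) = F.t * W.m * v := by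
  obtain ⟨gR, v, hv, e⟩ := h.E
  obtain ⟨b, hb, f⟩ := h.exb
  refine ⟨v, fixV hv (cm ?_).symm D.two, e⟩
  have f1 : cj F.e (F.t * W.m) = F.t * W.m := fx (F.te.mul_left W.em.symm)
  have f2 := cj_cc F.e g (F.t * W.m)
  rw [f, f1, cj_c, fx ((F.comm_E F.t_E (F.B_E hb)).mul_left (C.ab W.mA (C.hB hb))), e, cj_m, f1,
    mul_right_inj] at f2
  exact f2.symm

end CL.H3.CBc
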