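import Cfsg.Agent.INV.H3.Def4
import Cfsg.Agent.S2092
import Cfsg.Agent.S0766
import Cfsg.Agent.S0269
import Cfsg.Agent.S0246
import Cfsg.Agent.CLAS.SpForm
import Cfsg.Agent.CLAS.SpCenter
import Cfsg.Agent.FGS.SchurCover

/-! S3140, case `PSp₆(3)`: facts on `Sp₄(3)` and `SL₂(3)`.  `x ^ g = g⁻¹ * x * g`. -/

set_option autoImplicit false
open Subgroup MatrixGroups

namespace CL.H3.CS

open Matrix

local notation "V4" => Fin 2 ⊕ Fin 2 → ZMod 3
local notation "M4" => Matrix (Fin 2 ⊕ Fin 2) (Fin 2 ⊕ Fin 2) (ZMod 3)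

/-- the product of the two embeddings -/
theorem e01 (a b : SL(2, ZMod 3)) : (emb0 a * emb1 b).1 = fromBlocks !![a.1 0 0, 0; 0, b.1 0 0] !![a.1 0 1, 0; 0, b.1 0 1]
    !![a.1 1 0, 0; 0, b.1 1 0] !![a.1 1 1, 0; 0, b.1 1 1] := by
  ext (i | i) (j | j) <;> fin_cases i <;> fin_cases j <;>
    simp [emb0, emb1, Matrix.mul_apply, Fintype.sum_sum_type, Fin.sum_univ_two]

theorem two : ∀ x : ZMod 3, -x = x ↔ x = 0 := by decide

theorem two' : ∀ x : ZMod 3, x = -x ↔ x = 0 := by decide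

theorem D1 : (emb0 (-1)).1 = diagonal (Sum.elim ![-1, 1] ![-1, 1]) := by decide +kernel

theorem comm01 (a b : SL(2, ZMod 3)) : Commute (emb0 a) (emb1 b) := Subtype.ext (by
  ext (i | i) (j | j) <;> fin_cases i <;> fin_cases j <;>
    simp [emb0, emb1, Matrix.mul_apply, Fintype.sum_sum_type, Fin.sum_univ_two])

theorem inj01 {a b : SL(2, ZMod 3)} (h : emb0 a * emb1 b = 1) : a = 1 ∧ b = 1 := by
  have p := fun i j => congrFun (congrFun ((e01 a b).symm.trans (congrArg Subtype.val h)) i) j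
  simp [Fin.forall_fin_two, Matrix.one_apply] at p
  constructor <;> ext i j <;> fin_cases i <;> fin_cases j <;> simp [p]

/-- `emb0 (-1) * emb1 (-1) = -1` -/
theorem cen4 {g : Sp4} : g ∈ center Sp4 ↔ g = 1 ∨ g = emb0 (-1) * emb1 (-1) := by
  rw [CL.SpCenter.mem_center_iff, Subtype.ext_iff, Subtype.ext_iff,
    show (emb0 (-1) * emb1 (-1)).1 = -1 by decide +kernel]
  rfl

/-- the off-diagonal blocks vanish -/
theorem cD {g : Sp4} : Commute (emb0 (-1)) g ↔ ∃ a b, g = emb0 a * emb1 b := by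
  refine ⟨fun h => ?_, ?_⟩
  · have p := fun i j => congrFun (congrFun (congrArg Subtype.val h.eq) i) j
    have r := fun i j => congrFun (congrFun (SymplecticGroup.mem_iff'.1 g.2) i) j
    simp [D1, two, two', Fin.forall_fin_two] at p
    have r0 := r (.inr 0) (.inl 0)
    have r1 := r (.inr 1) (.inl 1)
    simp [J, Matrix.mul_apply, Fintype.sum_sum_type, Fin.sum_univ_two, Matrix.one_apply, p] at r0 r1
    refine ⟨⟨!![g.1 (.inl 0) (.inl 0), g.1 (.inl 0) (.inr 0); g.1 (.inr 0) (.inl 0), g.1 (.inr 0) (.inr 0)], ?_⟩,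
      ⟨!![g.1 (.inl 1) (.inl 1), g.1 (.inl 1) (.inr 1); g.1 (.inr 1) (.inl 1), g.1 (.inr 1) (.inr 1)], ?_⟩,
      Subtype.ext (Eq.trans ?_ (e01 _ _).symm)⟩
    · rw [det_fin_two_of]; linear_combination r0
    · rw [det_fin_two_of]; linear_combination r1
    · ext (i | i) (j | j) <;> fin_cases i <;> fin_cases j <;> simp [p]
  · rintro ⟨a, b, rfl⟩
    exact (Commute.map (Commute.neg_one_left a) emb0).mul_right (comm01 _ _)

/-- The fibre product `Γ` of `Y` and `Sp₄(3)` over `PSp₄(3)`: `Y` and `Sp₄(3)` are perfect, `Γ'` is perfect and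
maps onto both, `Γ' → PSp₄(3)` is a stem extension, so its kernel has order at most 2 (`S2092`; move `Y` to
`Type` first) and both projections are bijective. -/
theorem cover {Y : Type*} [Group Y] [Finite Y] (π : Y →* Cfsg.PSp 2 (ZMod 3)) (sj : Function.Surjective π)
    {z : Y} (z1 : z ≠ 1) (ker : ∀ y, π y = 1 ↔ y = 1 ∨ y = z) (cm : z ∈ commutator Y) :
    Nonempty (Sp4 ≃* Y) := by
  have hm := Cfsg.Agent.S2092.result (F := ZMod 3) (q := 3) (by simp) 2 le_rfl (fun _ => le_rfl) (by simp)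
  have cm2 : Nat.card (Schur.Mult (Cfsg.PSp 2 (ZMod 3))) = 2 := by rw [← Schur.card_multiplier_eq hm]; simp
  have pf : commutator Sp4 = ⊤ := Cfsg.Agent.S0269.result 2 (.inr (.inl ⟨rfl, by simp⟩))
  have c1 : Schur.IsCover (QuotientGroup.mk' (center Sp4)) := ⟨⟨QuotientGroup.mk'_surjective _, (QuotientGroup.ker_mk' _).le,
    pf ▸ le_top⟩, by rw [cm2, QuotientGroup.ker_mk', Cfsg.Agent.S0246.result (F := ZMod 3) (q := 3) (by simp) 2 one_le_two]; rfl⟩
  have pz : π z = 1 := (ker z).2 (.inr rfl)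
  have c2 : Schur.IsCover π := ⟨⟨sj, fun y hy => ((ker y).1 hy).elim (fun e => e ▸ one_mem _) fun e => e ▸
      mem_center_iff.2 fun g => mul_inv_eq_iff_eq_mul.1 (((ker (g * z * g⁻¹)).1 (by simp [pz])).resolve_left (by simpa using z1)),
    fun y hy => ((ker y).1 hy).elim (fun e => e ▸ one_mem _) fun e => e ▸ cm⟩, by
      rw [cm2]
      exact (Nat.card_congr (Equiv.subtypeEquivRight ker)).trans (Set.ncard_pair z1.symm)⟩
  have : Group.IsPerfect Sp4 := ⟨pf⟩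
  obtain ⟨η, hη⟩ := c1.exists_lift_of_perfect (Group.IsPerfect.ofSurjective c1.stem.1) (MonoidHom.id _) c2.central
  exact ⟨MulEquiv.ofBijective η (c1.bijective_of_over c2 η hη)⟩

/-- the elements of the Lie algebra that anticommute with `emb0 (-1)` -/
def NN (a b c e : ZMod 3) : M4 := fromBlocks !![0, a; b, 0] !![0, c; c, 0] !![0, e; e, 0] !![0, -b; -a, 0]

set_option synthInstance.maxSize 100000 in
set_option maxRecDepth 100000 in
theorem tab : ∀ a b c e : ZMod 3, NN a b c e * NN a b c e * NN a b c e = 0 → NN a b c e ≠ 0 → ∃ x y : SL(2, ZMod 3),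
    (1 + NN a b c e - NN a b c e * NN a b c e) * (emb0 x * emb1 y).1 = (emb0 x * emb1 y * α0).1 := by
  decide +kernel

theorem norm1 {α : Sp4} (a3 : α ^ 3 = 1) (a1 : α ≠ 1) (h : emb0 (-1) * α * emb0 (-1) = α⁻¹) :
    ∃ x y, α * (emb0 x * emb1 y) = emb0 x * emb1 y * α0 := by
  obtain ⟨n, hn⟩ : ∃ n : M4, α.1 = 1 + n := ⟨α.1 - 1, by abel⟩
  have t3 : ∀ m : M4, m + m + m = 0 := fun m => by
    ext i j; exact (by decide : ∀ x : ZMod 3, x + x + x = 0) _
  have e3 : α.1 * α.1 * α.1 = 1 := by simpa [pow_succ] using congrArg Subtype.val a3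
  have n3 : n * n * n = 0 := by
    rw [hn] at e3
    calc n * n * n = (1 + n) * (1 + n) * (1 + n) - 1 - (n + n + n) - (n * n + n * n + n * n) := by noncomm_ring
      _ = 0 := by rw [e3, t3, t3]; simp
  have ai : (α⁻¹).1 = α.1 * α.1 := congrArg Subtype.val
    (inv_eq_of_mul_eq_one_left (by rw [← pow_three', a3]) : α⁻¹ = α * α)
  obtain ⟨N, hN⟩ : ∃ N : M4, N = (α⁻¹).1 - α.1 := ⟨_, rfl⟩
  have e1 : N = n + n * n := by rw [hN, ai, hn]; noncomm_ring
  have e2 : N * N = n * n := by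
    calc N * N = n * n + (n * n * n + n * n * n + n * n * n * n) := by rw [e1]; noncomm_ring
      _ = n * n := by simp [n3]
  have e4 : α.1 = 1 + N - N * N := by rw [e2, e1, hn]; abel
  have DD : emb0 (-1) * emb0 (-1) = 1 := by rw [← map_mul]; simp
  have d1 : (emb0 (-1)).1 * N * (emb0 (-1)).1 = -N := by
    have h' : emb0 (-1) * α⁻¹ * emb0 (-1) = α := by
      rw [← h, ← mul_assoc, ← mul_assoc, DD, one_mul, mul_assoc, DD, mul_one]
    rw [hN, mul_sub, sub_mul, neg_sub]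
    exact congrArg₂ (· - ·) (congrArg Subtype.val h') (congrArg Subtype.val h)
  have d2 : N * J _ _ = -(J _ _ * Nᵀ) := by
    have q : ∀ β : Sp4, (β⁻¹).1 * J _ _ = J _ _ * β.1ᵀ := fun β => by
      rw [SymplecticGroup.coe_inv, mul_assoc, J_squared]; simp
    have q' := q α⁻¹
    rw [inv_inv] at q'
    rw [hN, sub_mul, q, q', transpose_sub, mul_sub, neg_sub]
  have d3 : N = NN (N (.inl 0) (.inl 1)) (N (.inl 1) (.inl 0)) (N (.inl 0) (.inr 1)) (N (.inr 0) (.inl 1)) := by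
    have p := fun i j => congrFun (congrFun d1 i) j
    have r := fun i j => congrFun (congrFun d2 i) j
    simp [D1, two, two', Fin.forall_fin_two] at p
    have r1 := r (.inl 1) (.inl 0)
    have r2 := r (.inr 1) (.inr 0)
    have r3 := r (.inr 0) (.inl 1)
    have r4 := r (.inr 1) (.inl 0)
    simp [J, Matrix.mul_apply, Fintype.sum_sum_type, Fin.sum_univ_two, Matrix.one_apply] at r1 r2 r3 r4
    ext (i | i) (j | j) <;> fin_cases i <;> fin_cases j <;> simp [NN, p, r1, r2, r3, r4]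
  obtain ⟨x, y, e⟩ := tab _ _ _ _ (by rw [← d3, e2, e1, mul_add, n3, ← mul_assoc, n3]; simp) (by
    rw [← d3]; exact fun q => a1 (Subtype.ext (by simpa [q] using e4)))
  exact ⟨x, y, Subtype.ext (by rw [← e, ← d3, ← e4]; rfl)⟩

theorem norm0 {D : Sp4} (DD : D * D = 1) (hD : D ∉ center Sp4) : ∃ g : Sp4, g⁻¹ * D * g = emb0 (-1) := by
  have dd : ∀ v : V4, D.1 *ᵥ D.1 *ᵥ v = v := fun v => by
    rw [mulVec_mulVec, show D.1 * D.1 = 1 from congrArg Subtype.val DD, one_mulVec]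
  obtain ⟨x, hx⟩ : ∃ x : V4, x - D.1 *ᵥ x ≠ 0 := by
    by_contra! q
    exact hD (cen4.2 (.inl (Subtype.ext (Matrix.ext_of_mulVec_single fun i => by
      rw [← sub_eq_zero.1 (q _)]; exact (one_mulVec _).symm))))
  have ng : ∀ x : V4, D.1 *ᵥ (x - D.1 *ᵥ x) = -(x - D.1 *ᵥ x) := fun x => by rw [mulVec_sub, dd, neg_sub]
  have hu := ng x
  generalize x - D.1 *ᵥ x = u at hx hu
  obtain ⟨y, hy⟩ := (by decide +kernel : ∀ u : V4, u ≠ 0 → ∃ y, Cfsg.sympForm 2 (ZMod 3) u y = -1) u hx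
  obtain ⟨A, -, h1, h2⟩ := Cfsg.Agent.S0766.result 2 (Pi.single (.inr 0) 1) (Pi.single (.inl 0) 1) u (y - D.1 *ᵥ y)
    (by decide +kernel) (by
      have := CL.Sp.mem_symplecticGroup_iff.1 D.2 u (D.1 *ᵥ y)
      rw [hu, dd] at this
      simp only [Cfsg.sympForm, neg_dotProduct, mulVec_sub, dotProduct_sub] at this hy ⊢
      rw [← this, hy]; decide)
  have c : ∀ e : V4, D.1 *ᵥ A.1 *ᵥ e = -(A.1 *ᵥ e) → (A⁻¹ * D * A).1 *ᵥ e = -e := fun e q => by
    rw [Submonoid.coe_mul, Submonoid.coe_mul, ← mulVec_mulVec, ← mulVec_mulVec, q, mulVec_neg, mulVec_mulVec,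
      show (A⁻¹).1 * A.1 = 1 from congrArg Subtype.val (inv_mul_cancel A), one_mulVec]
  have c1 := congrFun (c _ (h1 ▸ hu))
  have c2 := congrFun (c _ (h2 ▸ ng y))
  refine ⟨A, ?_⟩
  have nc : A⁻¹ * D * A ∉ center Sp4 := fun q => hD (by simpa [mul_assoc] using (normal_of_characteristic _).conj_mem _ q A)
  have sq : A⁻¹ * D * A * (A⁻¹ * D * A) = 1 := by simp [mul_assoc, ← mul_assoc D, DD]
  generalize A⁻¹ * D * A = E at c1 c2 nc sq
  have r := fun i j => congrFun (congrFun (SymplecticGroup.mem_iff'.1 E.2) i) j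
  simp [Fin.forall_fin_two] at c1 c2
  simp [J, Matrix.mul_apply, Fintype.sum_sum_type, Fin.sum_univ_two, Fin.forall_fin_two, Matrix.one_apply, c1, c2] at r
  obtain ⟨a, b, rfl⟩ := cD.1 (show Commute (emb0 (-1)) E from Subtype.ext (by
    ext (i | i) (j | j) <;> fin_cases i <;> fin_cases j <;> simp [D1, c1, c2, r]))
  obtain rfl : a = -1 := by
    simp only [e01] at c1 c2
    ext i j; fin_cases i <;> fin_cases j <;> simp_all
  rw [(comm01 _ _).symm.mul_mul_mul_comm, ← map_mul, ← map_mul] at sq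
  rcases (by decide +kernel : ∀ q : SL(2, ZMod 3), q * q = 1 → q = 1 ∨ q = -1) b (inj01 sq).2 with rfl | rfl
  · simp
  · exact absurd (cen4.2 (.inr rfl)) nc

/-- A noncentral involution has two orthogonal eigenplanes, so it is conjugate to `D₁ = emb0 (-1)`.  For
`D = D₁` put `N = α⁻¹ - α`: `α = 1 + N + 2 N²`, `N³ = 0`, `N ∈ 𝔰𝔭₄`, `D N D = -N`; so `N` is given by one `2 × 2`
block `B` (plane 2 → plane 1), `N² = ± det B`, hence `B = u ⊗ v` has rank one, and `SL₂ × SL₂` is transitive on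
the 32 such `B`. -/
theorem norm4 {D α : Sp4} (DD : D * D = 1) (hD : D ∉ center Sp4) (a3 : α ^ 3 = 1) (a1 : α ≠ 1)
    (h : D * α * D = α⁻¹) : ∃ g : Sp4, g⁻¹ * D * g = emb0 (-1) ∧ g⁻¹ * α * g = α0 := by
  obtain ⟨g, hg⟩ := norm0 DD hD
  obtain ⟨x, y, e⟩ := norm1 (α := g⁻¹ * α * g) (by rw [← inv_inv g, inv_inv g⁻¹, conj_pow, a3]; simp) (fun q => a1 (by simpa [mul_assoc] using congrArg (fun x => g * x * g⁻¹) q))
    (by rw [← hg, show g⁻¹ * D * g * (g⁻¹ * α * g) * (g⁻¹ * D * g) = g⁻¹ * (D * α * D) * g by group, h]; group)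
  refine ⟨g * (emb0 x * emb1 y), ?_, ?_⟩
  · rw [_root_.mul_inv_rev, mul_assoc _ g⁻¹, ← mul_assoc _ g, mul_assoc _ _ g, hg, mul_assoc, (cD.2 ⟨x, y, rfl⟩).eq,
      inv_mul_cancel_left]
  · rw [_root_.mul_inv_rev, mul_assoc _ g⁻¹, ← mul_assoc _ g, mul_assoc _ _ g, mul_assoc, e, inv_mul_cancel_left]

/-- all root elements are conjugates of `α0` by the two planes (or uniqueness in `S3713`, `n = 2`) -/
theorem gen4 : Subgroup.closure (Set.range emb0 ∪ Set.range emb1 ∪ {α0}) = ⊤ := by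
  generalize hH : Subgroup.closure (Set.range emb0 ∪ Set.range emb1 ∪ {α0}) = H
  have m0 : ∀ x, emb0 x ∈ H := fun x => hH ▸ Subgroup.subset_closure (.inl (.inl ⟨x, rfl⟩))
  have m1 : ∀ x, emb1 x ∈ H := fun x => hH ▸ Subgroup.subset_closure (.inl (.inr ⟨x, rfl⟩))
  have ma : α0 ∈ H := hH ▸ Subgroup.subset_closure (.inr rfl)
  let P : V4 → Prop := fun v => ∀ c, (⟨_, CL.Sp.sympTransvection_mem v c⟩ : Sp4) ∈ H
  have st : ∀ g ∈ H, ∀ v, P v → P (g.1 *ᵥ v) := fun g hg v h c => by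
    convert mul_mem (mul_mem hg (h c)) (inv_mem hg) using 1
    refine eq_mul_inv_of_mul_eq (Subtype.ext ?_)
    have := SymplecticGroup.mem_iff'.1 g.2
    simp only [Submonoid.coe_mul, Cfsg.sympTransvection, add_mul, mul_add, one_mul, mul_one, smul_mul_assoc,
      mul_smul_comm, mul_vecMulVec, vecMulVec_mul]
    rw [← mulVec_transpose, mulVec_mulVec, mulVec_mulVec, this]
  have tr : ∀ u w : Fin 2 → ZMod 3, u ≠ 0 → w ≠ 0 → ∃ x : SL(2, ZMod 3), x.1 *ᵥ u = w := by decide +kernel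
  have s0 : ∀ {p r : ZMod 3} (a b q s : ZMod 3), ![p, r] ≠ 0 → ![a, b] ≠ 0 → P (Sum.elim ![p, q] ![r, s]) →
      P (Sum.elim ![a, q] ![b, s]) := fun a b q s h1 h2 h => by
    obtain ⟨x, e⟩ := tr _ _ h1 h2
    have e0 := congrFun e 0
    have e1 := congrFun e 1
    simp [mulVec, dotProduct] at e0 e1
    convert st _ (m0 x) _ h using 1
    ext (i | i) <;> fin_cases i <;> simp [emb0, mulVec, dotProduct, e0, e1]
  have s1 : ∀ {q s : ZMod 3} (a b p r : ZMod 3), ![q, s] ≠ 0 → ![a, b] ≠ 0 → P (Sum.elim ![p, q] ![r, s]) →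
      P (Sum.elim ![p, a] ![r, b]) := fun a b p r h1 h2 h => by
    obtain ⟨x, e⟩ := tr _ _ h1 h2
    have e0 := congrFun e 0
    have e1 := congrFun e 1
    simp [mulVec, dotProduct] at e0 e1
    convert st _ (m1 x) _ h using 1
    ext (i | i) <;> fin_cases i <;> simp [emb1, mulVec, dotProduct, e0, e1]
  have b0 : P (Sum.elim ![0, 0] ![1, 0]) := fun c => by
    convert m0 ⟨!![1, 0; -c, 1], by simp⟩ using 1
    refine Subtype.ext ?_
    revert c; decide +kernel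
  have b1 : P (Sum.elim ![0, 0] ![1, -1]) := by
    convert st _ ma _ b0 using 1; decide +kernel
  have b2 : P (Sum.elim ![0, 1] ![0, 0]) := by
    convert st _ (inv_mem ma) _ (s0 1 0 1 0 (by decide) (by decide) (s1 1 0 0 1 (by decide) (by decide) b1)) using 1
    decide +kernel
  refine CL.Sp.eq_top_of_sympTransvection_mem fun v => ?_
  obtain ⟨p, q, r, s, rfl⟩ : ∃ p q r s, v = Sum.elim ![p, q] ![r, s] :=
    ⟨v (.inl 0), v (.inl 1), v (.inr 0), v (.inr 1), by ext (i | i) <;> fin_cases i <;> rfl⟩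
  by_cases h0 : ![p, r] = 0 <;> by_cases h1 : ![q, s] = 0
  · obtain ⟨rfl, rfl⟩ : p = 0 ∧ r = 0 := by simpa using h0
    obtain ⟨rfl, rfl⟩ : q = 0 ∧ s = 0 := by simpa using h1
    intro c
    convert one_mem H using 1
    refine Subtype.ext ?_
    revert c; decide +kernel
  · obtain ⟨rfl, rfl⟩ : p = 0 ∧ r = 0 := by simpa using h0
    exact s1 _ _ _ _ (by decide) h1 b2
  · obtain ⟨rfl, rfl⟩ : q = 0 ∧ s = 0 := by simpa using h1
    exact s0 _ _ _ _ (by decide) h0 b0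
  · exact s0 _ _ _ _ (by decide) h0 (s1 _ _ _ _ (by decide) h1 b1)

/-- an element of order three -/
def δ0 : SL(2, ZMod 3) := ⟨!![1, 1; 0, 1], by decide⟩

set_option synthInstance.maxSize 100000 in
theorem sl23 : ∃ δ : SL(2, ZMod 3), δ ^ 3 = 1 ∧
    (∀ q, q * q = -1 → δ⁻¹ * q * δ ≠ q ∧ δ⁻¹ * q * δ ≠ q⁻¹) ∧ (∀ q : SL(2, ZMod 3), q * q = 1 → q = 1 ∨ q = -1) ∧
    ∀ a b : SL(2, ZMod 3), a * a = -1 → b * b = -1 → ¬ Commute a b →
      (∀ x, Commute a x → Commute b x → x = 1 ∨ x = -1) ∧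
      ∀ x, ∃ k : ℕ, ∃ q ∈ Subgroup.closure {a, b}, x = q * δ ^ k := by
  have s2 : ∀ a : SL(2, ZMod 3), a * a = -1 → ∀ b : SL(2, ZMod 3), b * b = -1 → ¬ a * b = b * a → ∀ x,
      (a * x = x * a → b * x = x * b → x = 1 ∨ x = -1) ∧
      (x * x = 1 ∨ x * x = -1 → ∃ i : Fin 4, ∃ j : Fin 2, x = a ^ i.1 * b ^ j.1) := by decide +kernel
  have s3 : ∀ x : SL(2, ZMod 3), ∃ k : Fin 3, ∃ q, (q * q = 1 ∨ q * q = -1) ∧
      x = q * δ0 ^ k.1 := by decide +kernel
  refine ⟨δ0, by decide +kernel, by decide +kernel, by decide +kernel, fun a b ha hb n =>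
    ⟨fun x => (s2 a ha b hb n x).1, fun x => ?_⟩⟩
  obtain ⟨k, q, hq, e⟩ := s3 x
  obtain ⟨i, j, rfl⟩ := (s2 a ha b hb n q).2 hq
  exact ⟨k, _, mul_mem (pow_mem (Subgroup.subset_closure (by simp)) _) (pow_mem (Subgroup.subset_closure (by simp)) _), e⟩

end CL.H3.CS
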