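import Cfsg.Agent.INV.H3.Def5
import Cfsg.Agent.TECH.SylIn

/-! S3140, case `PSp₆(3)`: weak closure of `E0` in `C(V)`, the dihedral case. -/

set_option autoImplicit false
open Subgroup

namespace CL.H3.CT2
open CL.HL Qm CL.MSS SemidirectProduct
variable {G : Type*} [Group G] {F : Fr G} {ε : Bool} (C : Cm F ε)

/-- central in `Qm` -/
def cen (x : Qm ε) : Prop := x = 1 ∨ x = Z

instance (x : Qm ε) : Decidable (cen x) := inferInstanceAs (Decidable (_ ∨ _))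

/-- central in `N3` -/
def cen3 (q : N3 ε) : Prop := cen q.1 ∧ cen q.2.1 ∧ cen q.2.2

theorem cen_mul : ∀ a b : Qm ε, cen a → cen b → cen (a * b) := by cases ε <;> decide +kernel
theorem cen_inv : ∀ a : Qm ε, cen a → cen a⁻¹ := by cases ε <;> decide +kernel
theorem cen_cm : ∀ a b : Qm ε, cen (a⁻¹ * b⁻¹ * a * b) := by cases ε <;> decide +kernel
theorem cen_cj : ∀ a r : Qm ε, cen a → cen (r * a * r⁻¹) ∧ cen (r * τ a * r⁻¹) := by
  cases ε <;> decide +kernel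
theorem cen_t : ∀ a r c : Qm ε, cen c → (r * τ a * r⁻¹ = a * c ∨ r * τ a * r⁻¹ = a * c * Z) →
    a.b = false := by cases ε <;> decide +kernel
theorem cm_b : ∀ a b : Qm ε, a.b = false → b.b = false → a * b = b * a := by
  cases ε <;> decide +kernel
theorem Z_ne : (Z : Qm ε) ≠ 1 := by cases ε <;> decide +kernel

theorem cm3 (a b : N3 ε) : cen3 (a⁻¹ * b⁻¹ * a * b) := ⟨cen_cm _ _, cen_cm _ _, cen_cm _ _⟩

theorem g_eq {p q : N3 ε} : C.g p = C.g q ↔ p = q ∨ p = q * (Z, Z, Z) := by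
  rw [C.g_def, C.g_def, C.f_eq, ← map_mul, inl_inj, inl_inj]

theorem gz : C.g (1, 1, Z) = F.z := C.fz
theorem gd : C.g (Z, 1, 1) = F.d := C.fd
theorem gdz : C.g (1, Z, 1) = F.d * F.z := by
  rw [← gz C, ← gd C, ← map_mul, g_eq]
  exact Or.inr (by cases ε <;> decide +kernel)

theorem mem_V {v : G} : v ∈ F.V ↔ ∃ c, cen3 c ∧ C.g c = v := by
  let K : Subgroup (N3 ε) :=
    { carrier := {c | cen3 c}
      one_mem' := ⟨Or.inl rfl, Or.inl rfl, Or.inl rfl⟩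
      mul_mem' := fun a b => ⟨cen_mul _ _ a.1 b.1, cen_mul _ _ a.2.1 b.2.1, cen_mul _ _ a.2.2 b.2.2⟩
      inv_mem' := fun a => ⟨cen_inv _ a.1, cen_inv _ a.2.1, cen_inv _ a.2.2⟩ }
  have hz : F.z ∈ F.V := subset_closure (by simp)
  have hd : F.d ∈ F.V := subset_closure (by simp)
  refine ⟨fun h => (closure_le (K.map C.g)).2 ?_ h, ?_⟩
  · rintro _ (rfl | rfl)
    exacts [⟨_, ⟨Or.inl rfl, Or.inl rfl, Or.inr rfl⟩, gz C⟩, ⟨_, ⟨Or.inr rfl, Or.inl rfl, Or.inl rfl⟩, gd C⟩]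
  · rintro ⟨⟨a, b, c⟩, ⟨ha, hb, hc⟩, rfl⟩
    rw [show ((a, b, c) : N3 ε) = (a, 1, 1) * (1, b, 1) * (1, 1, c) by simp, map_mul, map_mul]
    refine mul_mem (mul_mem ?_ ?_) ?_
    · rcases ha with rfl | rfl
      exacts [(map_one C.g).symm ▸ one_mem _, gd C ▸ hd]
    · rcases hb with rfl | rfl
      exacts [(map_one C.g).symm ▸ one_mem _, gdz C ▸ mul_mem hd hz]
    · rcases hc with rfl | rfl
      exacts [(map_one C.g).symm ▸ one_mem _, gz C ▸ hz]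

theorem cV {x v : G} (hz : Commute F.z x) (hd : Commute F.d x) (hv : v ∈ F.V) : x⁻¹ * v * x = v := by
  have : v ∈ centralizer ({x} : Set G) := (closure_le _).2 (by
    rintro _ (rfl | rfl)
    exacts [mem_centralizer_singleton_iff.2 hz.eq, mem_centralizer_singleton_iff.2 hd.eq]) hv
  rw [mul_assoc, mem_centralizer_singleton_iff.1 this, inv_mul_cancel_left]

theorem mem_cV {x : G} : x ∈ centralizer (F.V : Set G) ↔ Commute F.z x ∧ Commute F.d x :=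
  ⟨fun h => ⟨h _ (subset_closure (by simp)), h _ (subset_closure (by simp))⟩, fun h v hv => by
    have := cV h.1 h.2 hv
    rwa [mul_assoc, inv_mul_eq_iff_eq_mul] at this⟩

theorem g_cV (q : N3 ε) : C.g q ∈ centralizer (F.V : Set G) := by
  have : ∀ a : Qm ε, Z * a = a * Z := by cases ε <;> decide +kernel
  rw [mem_cV, ← gz C, ← gd C]
  exact ⟨Commute.map (show (1, 1, Z) * q = q * (1, 1, Z) by ext1; simp; ext1; simp; exact this _) _,
    Commute.map (show (Z, 1, 1) * q = q * (Z, 1, 1) by ext1; exact this _; ext1 <;> simp) _⟩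

theorem f_cj (y : SM ε) (b : N3 ε) :
    C.f y * C.g b * (C.f y)⁻¹ = C.g (y.left * act3 y.right b * y.left⁻¹) := by
  rw [C.g_def, C.g_def, ← map_inv, ← map_mul, ← map_mul]
  congr 1
  conv_lhs => rw [← inl_left_mul_inr_right y]
  rw [map_mul, map_mul, show act3 y.right b = φ3 y.right b from rfl, inl_aut, map_inv, map_inv]
  group

theorem key {n : G} (hn : n ∈ normalizer (C.E0 : Set G)) {a δ q : N3 ε}
    (hδ : ∀ r, a⁻¹ * r⁻¹ * a * r = 1 ∨ a⁻¹ * r⁻¹ * a * r = δ) (hc : Commute (C.g δ) n)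
    (e : n⁻¹ * C.g a * n = C.g q) (y : N3 ε) :
    (q⁻¹ * y⁻¹ * q * y = 1 ∨ q⁻¹ * y⁻¹ * q * y = 1 * (Z, Z, Z)) ∨
      (q⁻¹ * y⁻¹ * q * y = δ ∨ q⁻¹ * y⁻¹ * q * y = δ * (Z, Z, Z)) := by
  obtain ⟨r, hr⟩ : n * C.g y * n⁻¹ ∈ C.E0 := (mem_normalizer_iff.1 hn _).1 ⟨y, rfl⟩
  have h1 : C.g (q⁻¹ * y⁻¹ * q * y) = n⁻¹ * C.g (a⁻¹ * r⁻¹ * a * r) * n := by
    simp only [map_mul, map_inv]
    rw [← e, hr]; group
  rw [← g_eq C, ← g_eq C, h1]
  refine (hδ r).imp (fun h => by rw [h, map_one]; group) fun h => ?_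
  rw [h, mul_assoc, hc.eq, inv_mul_cancel_left]

theorem nE {n : G} (hn : n ∈ normalizer (C.E0 : Set G)) (hz : Commute F.z n) (hd : Commute F.d n) (p : Qm ε) :
    (∃ p', ∃ v ∈ F.V, n⁻¹ * C.g (p, 1, 1) * n = C.g (p', 1, 1) * v) ∧
    (∃ p', ∃ v ∈ F.V, n⁻¹ * C.g (1, p, 1) * n = C.g (1, p', 1) * v) ∧
    (∃ p', ∃ v ∈ F.V, n⁻¹ * C.g (1, 1, p) * n = C.g (1, 1, p') * v) := by
  have ex : ∀ a, ∃ q, n⁻¹ * C.g a * n = C.g q := fun a => by
    obtain ⟨q, hq⟩ : n⁻¹ * C.g a * n ∈ C.E0 := (mem_normalizer_iff''.1 hn _).1 ⟨a, rfl⟩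
    exact ⟨q, hq.symm⟩
  have c : ∀ a : Qm ε, a⁻¹ * I⁻¹ * a * I = 1 → a⁻¹ * W⁻¹ * a * W = 1 → cen a := by
    cases ε <;> decide +kernel
  have o : cen (1 : Qm ε) := Or.inl rfl
  have zz : (Z : Qm ε) * Z = 1 := by cases ε <;> decide +kernel
  have n1 := Z_ne (ε := ε)
  have n2 := n1.symm
  refine ⟨?_, ?_, ?_⟩
  · obtain ⟨⟨a, b, d⟩, e⟩ := ex (p, 1, 1)
    have k := key C hn (δ := (Z, 1, 1)) (fun r => (cen_cm p r.1).imp
      (fun h => by ext1; exact h; ext1 <;> simp) fun h => by ext1; exact h; ext1 <;> simp)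
      (gd C ▸ hd) e
    refine ⟨a, _, (mem_V C).2 ⟨(1, b, d), ⟨o, c b ?_ ?_, c d ?_ ?_⟩, rfl⟩, by rw [e, ← map_mul]; simp⟩
    · simpa [n1, n2, zz] using k (1, I, 1)
    · simpa [n1, n2, zz] using k (1, W, 1)
    · simpa [n1, n2, zz] using k (1, 1, I)
    · simpa [n1, n2, zz] using k (1, 1, W)
  · obtain ⟨⟨a, b, d⟩, e⟩ := ex (1, p, 1)
    have k := key C hn (δ := (1, Z, 1)) (fun r => (cen_cm p r.2.1).imp
      (fun h => by ext1; simp; ext1; exact h; simp) fun h => by ext1; simp; ext1; exact h; simp)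
      (gdz C ▸ hd.mul_left hz) e
    refine ⟨b, _, (mem_V C).2 ⟨(a, 1, d), ⟨c a ?_ ?_, o, c d ?_ ?_⟩, rfl⟩, by rw [e, ← map_mul]; simp⟩
    · simpa [n1, n2, zz] using k (I, 1, 1)
    · simpa [n1, n2, zz] using k (W, 1, 1)
    · simpa [n1, n2, zz] using k (1, 1, I)
    · simpa [n1, n2, zz] using k (1, 1, W)
  · obtain ⟨⟨a, b, d⟩, e⟩ := ex (1, 1, p)
    have k := key C hn (δ := (1, 1, Z)) (fun r => (cen_cm p r.2.2).imp
      (fun h => by ext1; simp; ext1; simp; exact h) fun h => by ext1; simp; ext1; simp; exact h)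
      (gz C ▸ hz) e
    refine ⟨d, _, (mem_V C).2 ⟨(a, b, 1), ⟨c a ?_ ?_, c b ?_ ?_, o⟩, rfl⟩, by rw [e, ← map_mul]; simp⟩
    · simpa [n1, n2, zz] using k (I, 1, 1)
    · simpa [n1, n2, zz] using k (W, 1, 1)
    · simpa [n1, n2, zz] using k (1, I, 1)
    · simpa [n1, n2, zz] using k (1, W, 1)

theorem shape {y : SM ε} (h : Commute F.d (C.f y)) : C.f y ∈ C.E0 ∨ y.right = ⟨false, true⟩ := by
  have e := f_cj C y (Z, 1, 1)
  rw [gd C, ← h.eq, mul_inv_cancel_right, ← gd C, eq_comm, g_eq] at e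
  obtain ⟨⟨a, b, c⟩, ⟨_ | _, _ | _⟩⟩ := y
  · exact Or.inl ⟨(a, b, c), rfl⟩
  · exact Or.inr rfl
  · rcases e with e | e
    · exact absurd (by simpa [act3] using congrArg Prod.fst e) (Z_ne (ε := ε)).symm
    · exact absurd (by simpa [act3] using congrArg (fun q => q.2.2) e) (Z_ne (ε := ε)).symm
  · rcases e with e | e
    · exact absurd (by simpa [act3] using congrArg Prod.fst e) (Z_ne (ε := ε)).symm
    · exact absurd (by simpa [act3] using congrArg (fun q => q.2.2) e) (Z_ne (ε := ε)).symm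

variable [Finite G]

theorem wc0 {x : G} (hz : Commute F.z x) (hd : Commute F.d x) (h : ∀ q, x⁻¹ * C.g q * x ∈ C.f.range) :
    x ∈ normalizer (C.E0 : Set G) := by
  have sh : ∀ q, x⁻¹ * C.g q * x ∉ C.E0 →
      ∃ r : N3 ε, C.f ⟨r, ⟨false, true⟩⟩ = x⁻¹ * C.g q * x := fun q hq => by
    obtain ⟨y, hy⟩ := h q
    have := shape C (y := y)
      (hy ▸ (hd.inv_right.mul_right (mem_cV.1 (g_cV C q)).2).mul_right hd)
    rw [hy, or_iff_right hq] at this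
    exact ⟨y.left, this ▸ hy⟩
  have two : ∀ a b, x⁻¹ * C.g a * x ∉ C.E0 → x⁻¹ * C.g b * x ∉ C.E0 →
      x⁻¹ * C.g (a * b) * x ∈ C.E0 := fun a b ha hb => by
    obtain ⟨r, hr⟩ := sh a ha
    obtain ⟨s, hs⟩ := sh b hb
    refine ⟨(⟨r, ⟨false, true⟩⟩ * ⟨s, ⟨false, true⟩⟩ : SM ε).left, ?_⟩
    rw [show x⁻¹ * C.g (a * b) * x = x⁻¹ * C.g a * x * (x⁻¹ * C.g b * x) by rw [map_mul]; group,
      ← hr, ← hs, ← map_mul]
    rfl
  have all : ∀ q, x⁻¹ * C.g q * x ∈ C.E0 := by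
    by_contra hn
    obtain ⟨q0, h0⟩ := not_forall.1 hn
    obtain ⟨r, hr⟩ := sh q0 h0
    have bf : ∀ a a', C.g a' = x⁻¹ * C.g a * x → a'.1.b = false ∧ a'.2.1.b = false ∧ a'.2.2.b = false := by
      intro a a' e
      have hv := (mem_V C).2 ⟨_, cm3 a q0⁻¹, rfl⟩
      obtain ⟨c, hc, ec⟩ := (mem_V C).1 hv
      have e1 := f_cj C ⟨r, ⟨false, true⟩⟩ a'
      have e2 : C.f ⟨r, ⟨false, true⟩⟩ * C.g a' * (C.f ⟨r, ⟨false, true⟩⟩)⁻¹ = C.g (a' * c) := by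
        rw [map_mul, ec, ← cV hz hd hv, hr, e]
        simp only [map_mul, map_inv]; group
      rw [e2, eq_comm, g_eq] at e1
      exact ⟨cen_t _ _ _ hc.1 (e1.imp (congrArg Prod.fst) (congrArg Prod.fst)),
        cen_t _ _ _ hc.2.1 (e1.imp (congrArg fun q : N3 ε => q.2.1) (congrArg fun q : N3 ε => q.2.1)),
        cen_t _ _ _ hc.2.2 (e1.imp (congrArg fun q : N3 ε => q.2.2) (congrArg fun q : N3 ε => q.2.2))⟩
    have cm : ∀ a b, x⁻¹ * C.g a * x ∈ C.E0 → x⁻¹ * C.g b * x ∈ C.E0 →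
        a * b = b * a ∨ a * b = b * a * (Z, Z, Z) := by
      rintro a b ⟨a', ea⟩ ⟨b', eb⟩
      obtain ⟨a1, a2, a3⟩ := bf a a' ea
      obtain ⟨b1, b2, b3⟩ := bf b b' eb
      have : a' * b' = b' * a' :=
        Prod.ext (cm_b _ _ a1 b1) (Prod.ext (cm_b _ _ a2 b2) (cm_b _ _ a3 b3))
      have := congrArg (fun q => x * C.g q * x⁻¹) this
      simp only [map_mul, ea, eb] at this
      rw [← g_eq C, map_mul, map_mul]
      calc _ = x * (x⁻¹ * C.g a * x * (x⁻¹ * C.g b * x)) * x⁻¹ := by group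
        _ = _ := by rw [this]; group
    have cor : ∀ a : Qm ε, x⁻¹ * C.g (a, 1, 1) * x ∉ C.E0 → a = I ∨ a = W → False := by
      intro a ha ha'
      by_cases h1 : x⁻¹ * C.g (1, I, 1) * x ∈ C.E0 <;> by_cases h2 : x⁻¹ * C.g (1, W, 1) * x ∈ C.E0
      · exact absurd (cm _ _ h1 h2) (by cases ε <;> decide +kernel)
      · exact absurd (cm _ _ h1 (two _ _ ha h2))
          (by rcases ha' with rfl | rfl <;> cases ε <;> decide +kernel)
      · exact absurd (cm _ _ (two _ _ ha h1) h2)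
          (by rcases ha' with rfl | rfl <;> cases ε <;> decide +kernel)
      · exact absurd (cm _ _ (two _ _ ha h1) (two _ _ ha h2))
          (by rcases ha' with rfl | rfl <;> cases ε <;> decide +kernel)
    exact absurd (cm _ _ (by_contra fun e => cor I e (Or.inl rfl)) (by_contra fun e => cor W e (Or.inr rfl)))
      (by cases ε <;> decide +kernel)
  refine inv_mem_iff.1 (mem_normalizer_of_cj_le (cj_le_iff_forall.2 ?_))
  rintro _ ⟨q, rfl⟩
  rw [inv_inv]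
  exact all q

theorem ctrl {x : G} (hz : Commute F.z x) (hd : Commute F.d x) {u v : N3 ε} (h : x⁻¹ * C.g u * x = C.g v) :
    ∃ n ∈ normalizer (C.E0 : Set G), Commute F.z n ∧ Commute F.d n ∧
      ∃ v0 ∈ F.V, n⁻¹ * C.g u * n = C.g v * v0 := by
  have cv : ∀ {k w : G}, k ∈ centralizer (F.V : Set G) → w ∈ F.V → k⁻¹ * w * k = w :=
    fun hk hw => cV (mem_cV.1 hk).1 (mem_cV.1 hk).2 hw
  let K : Subgroup G :=
    { carrier := {k | k ∈ centralizer (F.V : Set G) ∧ (C.g v)⁻¹ * (k⁻¹ * C.g v * k) ∈ F.V}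
      one_mem' := ⟨one_mem _, by simp⟩
      mul_mem' := fun {a b} ha hb => ⟨mul_mem ha.1 hb.1, by
        have := mul_mem hb.2 ha.2
        rw [← cv hb.1 ha.2] at this
        convert this using 1; group⟩
      inv_mem' := fun {a} ha => ⟨inv_mem ha.1, by
        have := inv_mem ha.2
        rw [← cv (inv_mem ha.1) this] at this
        convert this using 1; group⟩ }
  have hx : x ∈ centralizer (F.V : Set G) := mem_cV.2 ⟨hz, hd⟩
  have ES : C.E0 ≤ C.f.range := by rintro _ ⟨q, rfl⟩; exact ⟨_, rfl⟩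
  have pE : IsPGroup 2 C.E0 := C.syl.pgroup.to_le ES
  have h1 : C.E0 ≤ K := by
    rintro _ ⟨q, rfl⟩
    exact ⟨g_cV C q, (mem_V C).2 ⟨_, cm3 v q, by simp only [map_mul, map_inv]; group⟩⟩
  have h2 : x⁻¹ •ᶜ C.E0 ≤ K := cj_le_iff_forall.2 (by
    rintro _ ⟨q, rfl⟩
    refine ⟨mul_mem (mul_mem (inv_mem hx) (g_cV C q)) (inv_mem (inv_mem hx)), ?_⟩
    have := (mem_V C).2 ⟨_, cm3 u q, rfl⟩
    rw [← cv hx this] at this
    rw [← h]
    convert this using 1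
    simp only [map_mul, map_inv]; group)
  obtain ⟨T, hT, ET⟩ := exists_sylIn_ge pE h1
  obtain ⟨k, hk, hkT⟩ := hT.exists_conj_le (isPGroup_cj _ pE) h2
  have SN : C.f.range ≤ normalizer (F.V : Set G) := le_normalizer_of_cj_le (by
    rintro _ ⟨y, rfl⟩
    refine cj_le_iff_forall.2 fun w hw => ?_
    obtain ⟨c, hc, rfl⟩ := (mem_V C).1 hw
    refine (mem_V C).2 ⟨_, ?_, (f_cj C y c).symm⟩
    obtain ⟨r, ⟨_ | _, _ | _⟩⟩ := y
    exacts [⟨(cen_cj _ _ hc.1).1, (cen_cj _ _ hc.2.1).1, (cen_cj _ _ hc.2.2).1⟩,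
      ⟨(cen_cj _ _ hc.1).2, (cen_cj _ _ hc.2.1).2, (cen_cj _ _ hc.2.2).2⟩,
      ⟨(cen_cj _ _ hc.2.1).1, (cen_cj _ _ hc.1).1, (cen_cj _ _ hc.2.2).1⟩,
      ⟨(cen_cj _ _ hc.2.1).2, (cen_cj _ _ hc.1).2, (cen_cj _ _ hc.2.2).2⟩])
  have sR := (C.syl.of_le SN le_top).inf_normal_of_le (normalizer_le_normalizer_centralizer F.V)
    (centralizer_le_normalizer _)
  obtain ⟨l, hl, hlT⟩ := sR.exists_conj_le hT.pgroup fun a ha => (hT.le ha).1
  have w : ∀ m ∈ centralizer (F.V : Set G), m •ᶜ C.E0 ≤ T → m⁻¹ * l⁻¹ ∈ normalizer (C.E0 : Set G) := by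
    intro m hm e
    have c := mem_cV.1 (mul_mem (inv_mem hm) (inv_mem hl))
    refine wc0 C c.1 c.2 fun q => ?_
    have : l * (m * C.g q * m⁻¹) * l⁻¹ ∈ C.f.range :=
      (hlT (conj_mem_cj (e (conj_mem_cj ⟨q, rfl⟩)))).1
    convert this using 1; group
  have n1 := w 1 (one_mem _) (by rwa [cj_one])
  have n2 := w (k * x⁻¹) (mul_mem hk.1 (inv_mem hx)) (by rwa [cj_mul])
  have c := mem_cV.1 (mul_mem hx (inv_mem hk.1))
  refine ⟨x * k⁻¹, ?_, c.1, c.2, _, (K.inv_mem hk).2, by rw [← h]; group⟩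
  convert mul_mem n2 (inv_mem n1) using 1; group

/-- `eps` from the data of `pp` -/
theorem eps (C : Cm F false) {θ : G} (hd : Commute F.d θ) (hi : Commute (C.g (1, 1, I)) θ) {q : N3 false}
    (e : θ⁻¹ * C.g (I, I⁻¹, 1) * θ = C.g q) (hb : q.1.b = true) : False := by
  have hz : Commute F.z θ := by
    rw [← gz C, show ((1, 1, Z) : N3 false) = (1, 1, I) * (1, 1, I) by decide +kernel, map_mul]
    exact hi.mul_left hi
  obtain ⟨n, hn, nz, nd, v0, hv0, e0⟩ := ctrl C hz hd e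
  obtain ⟨p1, v1, hv1, e1⟩ := (nE C hn nz nd I).1
  obtain ⟨p2, v2, hv2, e2⟩ := (nE C hn nz nd I⁻¹).2.1
  obtain ⟨c0, h0, rfl⟩ := (mem_V C).1 hv0
  obtain ⟨c1, h1, rfl⟩ := (mem_V C).1 hv1
  obtain ⟨c2, h2, rfl⟩ := (mem_V C).1 hv2
  have s1 : C.g ((p1, 1, 1) * c1 * ((p1, 1, 1) * c1)) = C.g (Z, 1, 1) := by
    rw [map_mul, map_mul, ← e1, gd C, ← inv_mul_cancel_left n F.d, ← nd.eq, ← gd C,
      show ((Z, 1, 1) : N3 false) = (I, 1, 1) * (I, 1, 1) by decide +kernel, map_mul]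
    group
  have s2 : C.g ((p1, 1, 1) * c1 * ((1, p2, 1) * c2)) = C.g (q * c0) := by
    rw [map_mul, map_mul, map_mul, map_mul, ← e1, ← e2, ← e0,
      show ((I, I⁻¹, 1) : N3 false) = (I, 1, 1) * (1, I⁻¹, 1) by decide +kernel, map_mul]
    group
  rw [g_eq] at s1 s2
  have a1 : ∀ p c : Qm false, cen c → p * c * (p * c) = Z → p.b = false := by decide +kernel
  have a2 : ∀ c : Qm false, cen c → 1 * c * (1 * c) ≠ 1 * Z := by decide +kernel
  have a3 : ∀ p c : Qm false, cen c → (p * c).b = p.b := by decide +kernel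
  have a4 := a1 _ _ h1.1 (congrArg Prod.fst
    (s1.resolve_right fun k => a2 _ h1.2.1 (congrArg (fun q : N3 false => q.2.1) k)))
  have a5 : (p1 * c1.1 * (1 * c2.1)).b = false := by rw [one_mul, a3 _ _ h2.1, a3 _ _ h1.1, a4]
  rcases s2 with k | k
  · rw [show p1 * c1.1 * (1 * c2.1) = q.1 * c0.1 from congrArg Prod.fst k, a3 _ _ h0.1, hb] at a5
    exact absurd a5 (by decide)
  · rw [show p1 * c1.1 * (1 * c2.1) = q.1 * c0.1 * Z from congrArg Prod.fst k, a3 _ _ (Or.inr rfl),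
      a3 _ _ h0.1, hb] at a5
    exact absurd a5 (by decide)

end CL.H3.CT2
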