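import Cfsg.Agent.INV.H3.CS
import Cfsg.Agent.S3713
import Cfsg.Agent.S0270
import Cfsg.Agent.CLAS.SpCenter

/-! S3140, case `PSp₆(3)`: the amalgam.  `x ^ g = g⁻¹ * x * g`. -/

set_option autoImplicit false
open Subgroup MatrixGroups

namespace CL.H3.CS

namespace CPx

open Matrix CL.Chev CL.Chev.SpAm CL.Chev.Cl CL.Witt

abbrev F3 := ZMod 3
abbrev Sp6 := Matrix.symplecticGroup (Fin 3) F3

/-- the planes `0, 1` and the plane `2` -/
def ix : Fin 3 ⊕ Fin 3 ≃ (Fin 2 ⊕ Fin 2) ⊕ Fin 2 where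
  toFun := Sum.elim ![.inl (.inl 0), .inl (.inl 1), .inr 0] ![.inl (.inr 0), .inl (.inr 1), .inr 1]
  invFun := Sum.elim (Sum.elim ![.inl 0, .inl 1] ![.inr 0, .inr 1]) ![.inl 2, .inr 2]
  left_inv := by decide
  right_inv := by decide

def im (a : Matrix (Fin 2 ⊕ Fin 2) (Fin 2 ⊕ Fin 2) F3) (b : Matrix (Fin 2) (Fin 2) F3) :
    Matrix (Fin 3 ⊕ Fin 3) (Fin 3 ⊕ Fin 3) F3 := (fromBlocks a 0 0 b).submatrix ix ix

theorem im_mul (a a' b b') : im a b * im a' b' = im (a * a') (b * b') := by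
  simp [im, submatrix_mul_equiv, fromBlocks_multiply]

theorem im_tr (a b) : (im a b)ᵀ = im aᵀ bᵀ := by simp [im, fromBlocks_transpose]

theorem im_J : J (Fin 3) F3 = im (J (Fin 2) F3) !![0, -1; 1, 0] := by decide +kernel

theorem im_one : im 1 1 = 1 := by simp [im]

theorem im_inj {a a' b b'} (h : im a b = im a' b') : a = a' ∧ b = b' := by
  have := congrArg (fun M => M.submatrix ix.symm ix.symm) h
  simp only [im, submatrix_submatrix, Equiv.self_comp_symm, submatrix_id_id] at this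
  exact ⟨(fromBlocks_inj.1 this).1, (fromBlocks_inj.1 this).2.2.2⟩

def io : Sp4 →* Sp6 := MonoidHom.mk' (fun y => ⟨im y.1 1, by
    rw [SymplecticGroup.mem_iff, im_J, im_tr, im_mul, im_mul, SymplecticGroup.mem_iff.1 y.2]; simp⟩)
  fun a b => Subtype.ext (by simp [im_mul])

def Pm : Sp6 := ⟨fromBlocks !![0, 0, 1; 0, 1, 0; 1, 0, 0] 0 0 !![0, 0, 1; 0, 1, 0; 1, 0, 0], by
  rw [SymplecticGroup.mem_iff]; decide +kernel⟩

theorem PP : Pm * Pm = 1 := Subtype.ext (by decide +kernel)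

theorem Pi' : Pm⁻¹ = Pm := inv_eq_of_mul_eq_one_right PP

theorem P1 (a : SL(2, F3)) : Commute Pm (io (emb1 a)) := Subtype.ext ((by decide +kernel : ∀ p q r s : F3,
  Pm.1 * im (fromBlocks !![1, 0; 0, p] !![0, 0; 0, q] !![0, 0; 0, r] !![1, 0; 0, s]) 1 =
    im (fromBlocks !![1, 0; 0, p] !![0, 0; 0, q] !![0, 0; 0, r] !![1, 0; 0, s]) 1 * Pm.1) _ _ _ _)

theorem P0 (a : SL(2, F3)) : (Pm⁻¹ * io (emb0 a) * Pm).1 = im 1 a.1 := by
  rw [Pi', eta_fin_two a.1]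
  exact (by decide +kernel : ∀ p q r s : F3,
    Pm.1 * im (fromBlocks !![p, 0; 0, 1] !![q, 0; 0, 0] !![r, 0; 0, 0] !![s, 0; 0, 1]) 1 * Pm.1 =
      im 1 !![p, q; r, s]) _ _ _ _

theorem P2 (a : SL(2, F3)) (y : Sp4) : Commute (Pm⁻¹ * io (emb0 a) * Pm) (io y) := Subtype.ext (by
  show (Pm⁻¹ * io (emb0 a) * Pm).1 * im y.1 1 = im y.1 1 * (Pm⁻¹ * io (emb0 a) * Pm).1
  rw [P0, im_mul, im_mul]; simp)

theorem P3 : Commute (io α0) (Pm⁻¹ * io α0 * Pm) := by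
  rw [Pi']; exact Subtype.ext (by decide +kernel)

theorem P4 {a : SL(2, F3)} {y : Sp4} (h : io y * (Pm⁻¹ * io (emb0 a) * Pm) = 1) : y = 1 ∧ a = 1 := by
  have : im y.1 1 * (Pm⁻¹ * io (emb0 a) * Pm).1 = 1 := congrArg Subtype.val h
  rw [P0, im_mul, ← im_one, Matrix.mul_one, Matrix.one_mul] at this
  exact ⟨Subtype.ext (im_inj this).1, Subtype.ext (im_inj this).2⟩

theorem P5 : (io (emb0 (-1)) * io (emb1 (-1)) * (Pm⁻¹ * io (emb0 (-1)) * Pm)).1 = -1 := by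
  rw [Pi']; decide +kernel

def mM (a b c : F3) : Matrix (Fin 2 ⊕ Fin 2) (Fin 2 ⊕ Fin 2) F3 := fromBlocks 1 !![a, c; c, b] 0 1

theorem mM_mem : ∀ a b c, mM a b c * J (Fin 2) F3 * (mM a b c)ᵀ = J (Fin 2) F3 := by decide +kernel

theorem mM_mul : ∀ a b c a' b' c', mM (a + a') (b + b') (c + c') = mM a b c * mM a' b' c' := by
  intros; simp [mM, fromBlocks_multiply, add_comm]

/-- the symmetric matrices -/
def mm : Multiplicative (F3 × F3 × F3) →* Sp4 := MonoidHom.mk'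
  (fun p => ⟨mM p.toAdd.1 p.toAdd.2.1 p.toAdd.2.2, SymplecticGroup.mem_iff.2 (mM_mem _ _ _)⟩)
  fun _ _ => Subtype.ext (mM_mul _ _ _ _ _ _)

def uu (c : F3) : SL(2, F3) := ⟨!![1, c; 0, 1], by simp [det_fin_two]⟩
def ll (c : F3) : SL(2, F3) := ⟨!![1, 0; c, 1], by simp [det_fin_two]⟩
def ww : SL(2, F3) := ⟨!![0, -1; 1, 0], by simp [det_fin_two]⟩

theorem mm_b : mm (.ofAdd (0, 0, 1)) = emb1 ww * α0 * (emb1 ww)⁻¹ := by
  rw [eq_mul_inv_iff_mul_eq, Subtype.ext_iff]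
  decide +kernel

theorem mm_eq (p : Multiplicative (F3 × F3 × F3)) :
    mm p = emb0 (uu p.toAdd.1) * emb1 (uu p.toAdd.2.1) * mm (.ofAdd (0, 0, 1)) ^ p.toAdd.2.2.val := by
  rw [← map_pow, Subtype.ext_iff]
  revert p
  decide +kernel

theorem mm_u (b : F3) : mm (.ofAdd (0, b, 0)) = emb1 (uu b) := by
  rw [Subtype.ext_iff]; revert b; decide +kernel

theorem P6 {p q : Multiplicative (F3 × F3 × F3)} (h : io (mm p) * (Pm⁻¹ * io (mm q) * Pm) = 1) :
    ∃ b, q = .ofAdd (0, b, 0) ∧ p * q = 1 := by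
  rw [Pi'] at h
  have h' : im (mm p).1 1 * (Pm.1 * im (mm q).1 1 * Pm.1) = 1 := congrArg Subtype.val h
  have e : ∀ a b c : F3, Pm.1 * im (mM a b c) 1 * Pm.1 = fromBlocks 1 !![0, 0, 0; 0, b, c; 0, c, a] 0 1 := by
    decide +kernel
  have e' : ∀ a b c : F3, im (mM a b c) 1 = fromBlocks 1 !![a, c, 0; c, b, 0; 0, 0, 0] 0 1 := by decide +kernel
  obtain ⟨a, b, c⟩ := p
  obtain ⟨a', b', c'⟩ := q
  change im (mM a b c) 1 * (Pm.1 * im (mM a' b' c') 1 * Pm.1) = 1 at h'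
  rw [e, e', fromBlocks_multiply, ← fromBlocks_one] at h'
  have k := (fromBlocks_inj.1 h').2.1
  have k0 : a = 0 := by simpa using congrFun (congrFun k 0) 0
  have k1 : c = 0 := by simpa using congrFun (congrFun k 0) 1
  have k2 : b' + b = 0 := by simpa using congrFun (congrFun k 1) 1
  have k3 : c' = 0 := by simpa using congrFun (congrFun k 1) 2
  have k4 : a' = 0 := by simpa using congrFun (congrFun k 2) 2
  subst k0 k1 k3 k4
  exact ⟨b', rfl, Prod.ext (add_zero _) (Prod.ext ((add_comm _ _).trans k2) (add_zero _))⟩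

theorem mcomm {X : Type*} [Group X] (ψ : Sp4 →* X) (ω : X) (ωω : ω * ω = 1)
    (h1 : ∀ a, Commute ω (ψ (emb1 a))) (h2 : ∀ a y, Commute (ω⁻¹ * ψ (emb0 a) * ω) (ψ y))
    (h3 : Commute (ψ α0) (ω⁻¹ * ψ α0 * ω)) (p q) : Commute (ψ (mm p)) (ω⁻¹ * ψ (mm q) * ω) := by
  have i : ω⁻¹ = ω := inv_eq_of_mul_eq_one_right ωω
  let c : X →* X := MonoidHom.mk' (fun x => ω⁻¹ * x * ω) fun x y => by group
  have cc : ∀ x, c (c x) = x := fun x => by
    show ω⁻¹ * (ω⁻¹ * x * ω) * ω = x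
    rw [i, mul_assoc, mul_assoc, ωω, mul_one, ← mul_assoc, ωω, one_mul]
  have c1 : ∀ a, c (ψ (emb1 a)) = ψ (emb1 a) := fun a => by
    show ω⁻¹ * ψ (emb1 a) * ω = _
    rw [mul_assoc, ← (h1 a).eq, inv_mul_cancel_left]
  have k0 : ∀ a y, Commute (ψ y) (c (ψ (emb0 a))) := fun a y => (h2 a y).symm
  have k1 : ∀ b p, Commute (ψ (mm p)) (c (ψ (emb1 (uu b)))) := fun b p => by
    rw [c1, ← mm_u]; exact ((Commute.all _ _).map mm).map ψ
  have k2 : ∀ p, Commute (ψ (mm p)) (c (ψ (mm (.ofAdd (0, 0, 1))))) := fun p => by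
    rw [mm_eq p, map_mul, map_mul, map_pow]
    refine Commute.mul_left (Commute.mul_left ?_ ?_) (Commute.pow_left ?_ _)
    · have := (k0 (uu p.toAdd.1) (mm (.ofAdd (0, 0, 1)))).map c
      rw [cc] at this
      exact this.symm
    · have := (k1 p.toAdd.2.1 (.ofAdd (0, 0, 1))).map c
      rw [cc] at this
      exact this.symm
    · rw [mm_b, map_mul, map_mul, map_inv, map_mul, map_mul, map_inv, c1]
      exact (show Commute (ψ α0) (c (ψ α0)) from h3).conj _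
  show Commute _ (c (ψ (mm q)))
  rw [mm_eq q, map_mul, map_mul, map_pow, map_mul, map_mul, map_pow]
  exact ((k0 _ _).mul_right (k1 _ _)).mul_right ((k2 _).pow_right _)

theorem inj_sup {A B Γ W : Type*} [Group A] [Group B] [Group Γ] [AddCommGroup W] [Module F3 W] {θ : Γ →* (W ≃ₗ[F3] W)}
    (f : A →* Γ) (g : B →* Γ) (cm : ∀ a b, Commute (f a) (g b)) (h : ∀ a b, θ (f a * g b) = 1 → f a * g b = 1) :
    Inj θ (f.range ⊔ g.range) := by
  rw [← MonoidHom.noncommCoprod_range f g cm]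
  rintro _ ⟨⟨a, b⟩, rfl⟩
  exact h a b

theorem tvE (g : Sp6) (i : Fin 3) (c : F3) (h : g.1 = 1 + single (.inl i) (.inr i) (-c)) :
    spAct F3 3 g = (Sp.spForm 3 F3).tv (vE (spFrame F3 3) i) c := LinearEquiv.ext fun x => by
  rw [spAct_apply, Form.tv_apply, h, add_mulVec, one_mulVec, single_mulVec]
  show _ = x + (c * (Sp.spForm 3 F3).B (Pi.single (.inl i) 1) x) • Pi.single (.inl i) 1
  rw [Sp.spForm_B_single_inl, ← Pi.single_smul]
  simp [Pi.single]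

theorem tvF (g : Sp6) (i : Fin 3) (c : F3) (h : g.1 = 1 + single (.inr i) (.inl i) c) :
    spAct F3 3 g = (Sp.spForm 3 F3).tv (vF (spFrame F3 3) i) c := LinearEquiv.ext fun x => by
  rw [spAct_apply, Form.tv_apply, h, add_mulVec, one_mulVec, single_mulVec]
  show _ = x + (c * (Sp.spForm 3 F3).B (Pi.single (.inr i) (-1)) x) • Pi.single (.inr i) (-1)
  rw [Sp.spForm_B_single_inr, ← Pi.single_smul]
  simp [Pi.single]

theorem sTE (g : Sp6) (i j : Fin 3) (t : F3)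
    (h : g.1 = 1 + single (.inl j) (.inr i) (-t) + single (.inl i) (.inr j) (-t)) :
    spAct F3 3 g = sT (Sp.spForm 3 F3) (vE (spFrame F3 3) i) (t • vE (spFrame F3 3) j) := LinearEquiv.ext fun x => by
  rw [spAct_apply, sT_apply (by rw [map_smul, B_EE, smul_zero]), h, add_mulVec, add_mulVec, one_mulVec, single_mulVec,
    single_mulVec]
  show _ = x + (Sp.spForm 3 F3).B (Pi.single (.inl i) 1) x • t • Pi.single (.inl j) 1 +
    (Sp.spForm 3 F3).B (t • Pi.single (.inl j) 1) x • Pi.single (.inl i) 1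
  rw [← Pi.single_smul, Sp.spForm_B_single_inl, Sp.spForm_B_single_inl, ← Pi.single_smul, ← Pi.single_smul]
  simp [Pi.single, mul_comm]

theorem hS (e : SL(2, F3) →* Sp6) (i : Fin 3)
    (h : ∀ a, (e a).1 = 1 + single (.inl i) (.inl i) (a.1 0 0 - 1) + single (.inl i) (.inr i) (a.1 0 1) +
      single (.inr i) (.inl i) (a.1 1 0) + single (.inr i) (.inr i) (a.1 1 1 - 1)) :
    e.range.map (spAct F3 3) = (Sp.spForm 3 F3).fix (spH (spFrame F3 3) (· = i)) := by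
  refine le_antisymm ?_ (fix_S_le (spFrame_spans F3 3) (Sp.spForm_nondeg _ _) (fun c => ?_) fun c => ?_)
  · rintro _ ⟨_, ⟨a, rfl⟩, rfl⟩
    refine mem_fix_sp _ (Sp.spEquiv 3 F3 _).2 ?_
    rintro (_ | k | k) hk
    · exact spAct_none _
    · have hk : ¬ i = k := fun e => hk e.symm
      rw [spAct_inl, h]; simp only [add_mulVec, single_mulVec, one_mulVec]; simp [Pi.single_apply, hk]
    · have hk : ¬ i = k := fun e => hk e.symm
      rw [spAct_inr, h]; simp only [add_mulVec, single_mulVec, one_mulVec]; simp [Pi.single_apply, hk]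
  · exact ⟨_, ⟨uu (-c), rfl⟩, tvE _ i c (by rw [h]; simp [uu])⟩
  · exact ⟨_, ⟨ll c, rfl⟩, tvF _ i c (by rw [h]; simp [ll])⟩

theorem hM (e : Multiplicative (F3 × F3 × F3) →* Sp6) {i j k l : Fin 3} (hij : i ≠ j)
    (hk : (k = i ∧ l = j) ∨ (k = j ∧ l = i))
    (h : ∀ a b c, (e (.ofAdd (a, b, c))).1 = 1 + single (.inl k) (.inr k) a + single (.inl l) (.inr l) b +
      single (.inl j) (.inr i) c + single (.inl i) (.inr j) c) :
    e.range.map (spAct F3 3) = (Sp.spForm 3 F3).fix (spM (spFrame F3 3) i j) := by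
  have t1 : ∀ c, (Sp.spForm 3 F3).tv (vE (spFrame F3 3) k) c ∈ e.range.map (spAct F3 3) := fun c =>
    ⟨_, ⟨.ofAdd (-c, 0, 0), rfl⟩, tvE _ k c (by rw [h]; simp)⟩
  have t2 : ∀ c, (Sp.spForm 3 F3).tv (vE (spFrame F3 3) l) c ∈ e.range.map (spAct F3 3) := fun c =>
    ⟨_, ⟨.ofAdd (0, -c, 0), rfl⟩, tvE _ l c (by rw [h]; simp)⟩
  refine le_antisymm ?_ (fix_M_le (spFrame_spans F3 3) hij (fun c => ?_) (fun c => ?_) fun c => ?_)
  · rintro _ ⟨_, ⟨⟨a, b, c⟩, rfl⟩, rfl⟩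
    refine mem_fix_sp _ (Sp.spEquiv 3 F3 _).2 ?_
    rintro (_ | m | m) hm
    · exact spAct_none _
    · exact (spAct_inl _ _).2 (by erw [h]; simp only [add_mulVec, single_mulVec, one_mulVec]; simp)
    · have h1 : ¬ i = m := fun e => hm.1 (e ▸ rfl)
      have h2 : ¬ j = m := fun e => hm.2 (e ▸ rfl)
      refine (spAct_inr _ _).2 ?_
      erw [h]
      simp only [add_mulVec, single_mulVec, one_mulVec]
      rcases hk with ⟨rfl, rfl⟩ | ⟨rfl, rfl⟩ <;> simp [Pi.single_apply, h1, h2]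
  · rcases hk with ⟨rfl, rfl⟩ | ⟨rfl, rfl⟩
    exacts [t1 c, t2 c]
  · rcases hk with ⟨rfl, rfl⟩ | ⟨rfl, rfl⟩
    exacts [t2 c, t1 c]
  · exact ⟨_, ⟨.ofAdd (0, 0, -c), rfl⟩, sTE _ i j c (by rw [h]; simp)⟩

theorem E0 : ∀ p q r s : F3, im (fromBlocks !![p, 0; 0, 1] !![q, 0; 0, 0] !![r, 0; 0, 0] !![s, 0; 0, 1]) 1 =
    1 + single (.inl 0) (.inl 0) (p - 1) + single (.inl 0) (.inr 0) q + single (.inr 0) (.inl 0) r +
      single (.inr 0) (.inr 0) (s - 1) := by decide +kernel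

theorem E1 : ∀ p q r s : F3, im (fromBlocks !![1, 0; 0, p] !![0, 0; 0, q] !![0, 0; 0, r] !![1, 0; 0, s]) 1 =
    1 + single (.inl 1) (.inl 1) (p - 1) + single (.inl 1) (.inr 1) q + single (.inr 1) (.inl 1) r +
      single (.inr 1) (.inr 1) (s - 1) := by decide +kernel

theorem E2 : ∀ p q r s : F3, im 1 !![p, q; r, s] =
    1 + single (.inl 2) (.inl 2) (p - 1) + single (.inl 2) (.inr 2) q + single (.inr 2) (.inl 2) r +
      single (.inr 2) (.inr 2) (s - 1) := by decide +kernel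

theorem E3 : ∀ a b c : F3, im (mM a b c) 1 = 1 + single (.inl 0) (.inr 0) a + single (.inl 1) (.inr 1) b +
    single (.inl 1) (.inr 0) c + single (.inl 0) (.inr 1) c := by decide +kernel

theorem E4 : ∀ a b c : F3, Pm.1 * im (mM a b c) 1 * Pm.1 = 1 + single (.inl 2) (.inr 2) a + single (.inl 1) (.inr 1) b +
    single (.inl 2) (.inr 1) c + single (.inl 1) (.inr 2) c := by decide +kernel

end CPx

/-- `S3713` (or `CL.Chev.SpAm.sp_amalgam`), `n = 3`.  Let `ι : Sp₄ → Sp₆` be the planes `0, 1` and `ι'` the planes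
`2, 1` (`ι'` = `ι` followed by the permutation `0 ↔ 2`).  `σ₀, σ₁, μ₀` are `ψ ∘ ι⁻¹`; `σ₂, μ₁` are `ψ ^ ω ∘ ι'⁻¹`,
which agrees with `σ₁` on `S₁` by `h1`.  The pairs inside `ι(Sp₄)` or `ι'(Sp₄)` are clear; `(S₀, S₂)`, `(M₀, S₂)`
and `(M₁, S₀)` generate direct products (`h2` and its conjugate by `ω`).  `M₀ M₁` is elementary abelian with basis
`x_{2e₀}, x_{2e₁}, x_{2e₂}, x_{e₀+e₁}, x_{e₁+e₂}`, whose images commute: `x_{e₀+e₁}(±1) = α0 ^ emb1 J`, so the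
last pair is `h3` conjugated by `ψ (emb1 J)`.  `Φ ∘ ι = ψ` by `gen4`.  `Φ (-1) = 1` by `h4`; the kernel is a proper
normal subgroup (`h5`), so it is the centre (`PSp₆(3)` is simple, `Sp₆(3)` perfect). -/
theorem sp6 {X : Type*} [Group X] (ψ : Sp4 →* X) (ω : X) (ωω : ω * ω = 1)
    (h1 : ∀ a, Commute ω (ψ (emb1 a))) (h2 : ∀ a y, Commute (ω⁻¹ * ψ (emb0 a) * ω) (ψ y))
    (h3 : Commute (ψ α0) (ω⁻¹ * ψ α0 * ω))
    (h4 : ψ (emb0 (-1)) * ψ (emb1 (-1)) * (ω⁻¹ * ψ (emb0 (-1)) * ω) = 1) (h5 : ψ (emb0 (-1)) ≠ 1) :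
    ∃ P : Subgroup X, Nonempty (P ≃* Cfsg.PSp 3 (ZMod 3)) ∧ (∀ y, ψ y ∈ P) ∧
      (∀ y, ω⁻¹ * ψ y * ω ∈ P) ∧
      ∀ Q : Subgroup X, (∀ y, ψ y ∈ Q) → (∀ y, ω⁻¹ * ψ y * ω ∈ Q) → P ≤ Q := by
  open CPx CL.Chev CL.Chev.SpAm CL.Chev.Cl in
  let θ := (spAct F3 3).comp (MonoidHom.fst Sp6 X)
  let t : Sp6 × X := (Pm, ω)
  let j : Sp4 →* Sp6 × X := io.prod ψ
  let c : Sp6 × X →* Sp6 × X := MonoidHom.mk' (fun x => t⁻¹ * x * t) fun x y => by group
  let j' : Sp4 →* Sp6 × X := c.comp j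
  have tt : t * t = 1 := Prod.ext PP ωω
  have ti : t⁻¹ = t := inv_eq_of_mul_eq_one_right tt
  have cc : ∀ x, c (c x) = x := fun x => by
    show t⁻¹ * (t⁻¹ * x * t) * t = x
    rw [ti, mul_assoc, mul_assoc, tt, mul_one, ← mul_assoc, tt, one_mul]
  have g1 : ∀ a, Commute t (j (emb1 a)) := fun a => Prod.ext (P1 a) (h1 a)
  have g2 : ∀ a y, Commute (t⁻¹ * j (emb0 a) * t) (j y) := fun a y => Prod.ext (P2 a y) (h2 a y)
  have g3 : Commute (j α0) (t⁻¹ * j α0 * t) := Prod.ext P3 h3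
  have c1 : ∀ a, j' (emb1 a) = j (emb1 a) := fun a => by
    show t⁻¹ * j (emb1 a) * t = _
    rw [mul_assoc, ← (g1 a).eq, inv_mul_cancel_left]
  have th : ∀ g, θ g = 1 → g.1 = 1 := fun g e => (injective_iff_map_eq_one _).1 (spAct_injective F3 3) _ e
  have I1 : Inj θ (j.range ⊔ (j'.comp emb0).range) := inj_sup _ _ (fun y a => (g2 a y).symm) fun y a e => by
    obtain ⟨rfl, rfl⟩ := P4 (th _ e)
    simp
  have I2 : Inj θ (j'.range ⊔ (j.comp emb0).range) := inj_sup _ _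
    (fun y a => by
      have := (g2 a y).symm.map c
      rwa [show c (t⁻¹ * j (emb0 a) * t) = j (emb0 a) from cc _] at this) fun y a e => by
    have : (c (j' y * j (emb0 a))).1 = 1 := by
      show Pm⁻¹ * (j' y * j (emb0 a)).1 * Pm = 1
      rw [show (j' y * j (emb0 a)).1 = 1 from th _ e, mul_one, inv_mul_cancel]
    rw [map_mul, show c (j' y) = j y from cc _] at this
    obtain ⟨rfl, rfl⟩ := P4 this
    simp
  have I3 : Inj θ ((j.comp mm).range ⊔ (j'.comp mm).range) := inj_sup _ _ (mcomm j t tt g1 g2 g3) fun p q e => by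
    obtain ⟨b, rfl, e'⟩ := P6 (th _ e)
    show j (mm p) * j' (mm _) = 1
    rw [mm_u, c1, ← mm_u, ← map_mul, ← map_mul, e', map_one, map_one]
  have rl : ∀ {A : Type} [Group A] (f : Sp4 →* Sp6 × X) (e : A →* Sp4), (f.comp e).range ≤ f.range :=
    fun f e => by rintro _ ⟨a, rfl⟩; exact ⟨_, rfl⟩
  let S : Fin 3 → Subgroup (Sp6 × X) := ![(j.comp emb0).range, (j.comp emb1).range, (j'.comp emb0).range]
  let M : Fin 3 → Subgroup (Sp6 × X) := ![(j.comp mm).range, (j'.comp mm).range, ⊥]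
  have s1 : ∀ i, S i ≤ j.range ⊔ (j'.comp emb0).range := fun i => by
    fin_cases i
    exacts [(rl j _).trans le_sup_left, (rl j _).trans le_sup_left, le_sup_right]
  have s2 : ∀ i, S i ≤ j'.range ⊔ (j.comp emb0).range := fun i => by
    fin_cases i
    · exact le_sup_right
    · rintro _ ⟨a, rfl⟩
      exact mem_sup_left ⟨_, c1 a⟩
    · exact (rl j' _).trans le_sup_left
  have mp : ∀ {A : Type} [Group A] (f : A →* Sp6 × X),
      f.range.map θ = ((MonoidHom.fst Sp6 X).comp f).range.map (spAct F3 3) := fun f => by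
    rw [← MonoidHom.map_range, map_map]
  let A : Am θ (spFrame F3 3) :=
    { S := S
      M := M
      hS := fun i => by
        fin_cases i
        · exact (mp _).trans (hS _ 0 fun a => E0 _ _ _ _)
        · exact (mp _).trans (hS _ 1 fun a => E1 _ _ _ _)
        · exact (mp _).trans (hS _ 2 fun a => (P0 a).trans ((congrArg (im 1) (Matrix.eta_fin_two a.1)).trans (E2 _ _ _ _)))
      hM := fun i k h => by
        fin_cases i <;> fin_cases k <;> simp at h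
        · exact (mp _).trans (hM _ (i := 0) (j := 1) (by decide) (.inl ⟨rfl, rfl⟩) E3)
        · refine (mp _).trans (hM _ (i := 1) (j := 2) (by decide) (.inr ⟨rfl, rfl⟩) fun a b c => ?_)
          show (Pm⁻¹ * io (mm _) * Pm).1 = _
          rw [Pi']
          exact E4 a b c
      SS := fun i l => I1.mono (sup_le (s1 i) (s1 l))
      MM := fun i l h h' => by
        fin_cases i <;> fin_cases l <;> simp at h h'
        exacts [I3.mono (sup_le le_sup_left le_sup_left), I3, I3.mono (sup_le le_sup_right le_sup_left),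
          I3.mono (sup_le le_sup_right le_sup_right)]
      MS := fun i l h => by
        fin_cases i <;> simp at h
        exacts [I1.mono (sup_le ((rl j _).trans le_sup_left) (s1 l)), I2.mono (sup_le ((rl j' _).trans le_sup_left) (s2 l))]
      big := ⟨2, by decide, by decide⟩ }
  obtain ⟨m1, m2⟩ := A.main (spFrame_spans F3 3) (Sp.spForm_nondeg _ _)
  have m3 : ∀ g, ∃ γ ∈ A.G 0, γ.1 = g := fun g => by
    obtain ⟨γ, hγ, e⟩ := m2.ge (Sp.spEquiv 3 F3 g).2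
    exact ⟨γ, hγ, spAct_injective F3 3 e⟩
  obtain ⟨Φ, hΦ⟩ := exists_hom_of_bij (fun g hg e => m1 g hg (by
    rw [MonoidHom.comp_apply, MonoidHom.coe_fst, e, map_one])) m3
  have gn : ∀ f : Sp4 →* Sp6 × X, (∀ a, f (emb0 a) ∈ A.G 0) → (∀ a, f (emb1 a) ∈ A.G 0) → (∀ a, f (mm a) ∈ A.G 0) →
      ∀ y, f y ∈ A.G 0 := fun f k0 k1 k2 y => by
    refine (gen4.ge.trans ((closure_le ((A.G 0).comap f)).2 ?_)) (mem_top y)
    rintro _ ((⟨a, rfl⟩ | ⟨a, rfl⟩) | rfl)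
    · exact k0 a
    · exact k1 a
    · have : α0 = emb1 ww⁻¹ * mm (.ofAdd (0, 0, 1)) * emb1 ww := by rw [mm_b, map_inv]; group
      show f α0 ∈ A.G 0
      rw [this, map_mul, map_mul]
      exact mul_mem (mul_mem (k1 _) (k2 _)) (k1 _)
  have z := Nat.zero_le
  have j1 := gn j (fun a => A.S_le_G (j := 0) (z _) ⟨a, rfl⟩) (fun a => A.S_le_G (j := 1) (z _) ⟨a, rfl⟩)
    fun a => A.M_le_G (i := 0) (j := 1) (z _) rfl ⟨a, rfl⟩
  have j2 := gn j' (fun a => A.S_le_G (j := 2) (z _) ⟨a, rfl⟩) (fun a => A.S_le_G (j := 1) (z _) ⟨a, (c1 a).symm⟩)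
    fun a => A.M_le_G (i := 1) (j := 2) (z _) rfl ⟨a, rfl⟩
  have f1 : ∀ y, Φ (io y) = ψ y := fun y => hΦ _ (j1 y)
  have f2 : ∀ y, Φ (Pm⁻¹ * io y * Pm) = ω⁻¹ * ψ y * ω := fun y => hΦ _ (j2 y)
  have cen : center Sp6 ≤ Φ.ker := fun g hg => by
    rcases CL.SpCenter.mem_center_iff.1 hg with e | e
    · rw [show g = 1 from Subtype.ext e]; exact one_mem _
    · rw [show g = _ from Subtype.ext (e.trans P5.symm), MonoidHom.mem_ker, map_mul, map_mul, f1, f1, f2, h4]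
  let Ψ : Cfsg.PSp 3 (ZMod 3) →* X := QuotientGroup.lift _ Φ cen
  have sm : IsSimpleGroup (Cfsg.PSp 3 (ZMod 3)) := Cfsg.Agent.S0270.result 3 (by norm_num) (by norm_num)
  have inj : Function.Injective Ψ := (MonoidHom.ker_eq_bot_iff _).1 ((sm.eq_bot_or_eq_top_of_normal _
    inferInstance).resolve_right fun e => h5 ((f1 _).symm.trans
      (e.ge (mem_top (QuotientGroup.mk (io (emb0 (-1))) : Cfsg.PSp 3 (ZMod 3))))))
  refine ⟨Ψ.range, ⟨(MonoidHom.ofInjective inj).symm⟩, fun y => ⟨QuotientGroup.mk (io y), f1 y⟩,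
    fun y => ⟨QuotientGroup.mk (Pm⁻¹ * io y * Pm), f2 y⟩, fun Q q1 q2 => ?_⟩
  rintro _ ⟨g, rfl⟩
  obtain ⟨g, rfl⟩ := QuotientGroup.mk_surjective g
  obtain ⟨γ, hγ, rfl⟩ := m3 g
  show Φ γ.1 ∈ Q
  rw [hΦ γ hγ]
  have r1 : j.range ≤ Q.comap (MonoidHom.snd Sp6 X) := by rintro _ ⟨y, rfl⟩; exact q1 y
  have r2 : j'.range ≤ Q.comap (MonoidHom.snd Sp6 X) := by rintro _ ⟨y, rfl⟩; exact q2 y
  refine A.G_le (K := Q.comap (MonoidHom.snd Sp6 X)) (fun i _ => (s1 i).trans (sup_le r1 ((rl j' _).trans r2)))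
    (fun i k _ h => ?_) hγ
  fin_cases i
  exacts [(rl j _).trans r1, (rl j' _).trans r2, bot_le]

end CL.H3.CS
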