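import Cfsg.Agent.INV.H3.Defs
import Cfsg.Agent.INV.R2.SwapP1
import Cfsg.Agent.SOLV.OddOrderCor
import Cfsg.Agent.SOLV.Fitting
import Cfsg.Agent.TECH.SylIn

/-! S3140, case `PSp₆(3)`: the general lemma `gq3`. -/

set_option autoImplicit false
open Subgroup

namespace CL.H3.CG3
open CL.MSS
variable {H : Type*} [Group H] [Finite H]

/-- Involutions with product of odd order are conjugate by a power of the product. -/
theorem conj_odd {d e : H} (dd : d * d = 1) (ee : e * e = 1) (h : Odd (orderOf (d * e))) :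
    ∃ o ∈ zpowers (d * e), o * d * o⁻¹ = e := by
  obtain ⟨m, hm⟩ := h
  have di : d⁻¹ = d := inv_eq_of_mul_eq_one_right dd
  have ei : e⁻¹ = e := inv_eq_of_mul_eq_one_right ee
  have h1 : d * (d * e)⁻¹ * d⁻¹ = d * e := by
    rw [mul_inv_rev, di, ei, mul_assoc, mul_assoc, dd, mul_one]
  have h2 : d * ((d * e) ^ m)⁻¹ * d⁻¹ = (d * e) ^ m := by
    rw [← inv_pow, ← conj_pow, h1]
  have h3 := pow_orderOf_eq_one (d * e)
  rw [hm, pow_succ, two_mul, pow_add] at h3
  refine ⟨(d * e) ^ m, npow_mem_zpowers _ m, ?_⟩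
  calc (d * e) ^ m * d * ((d * e) ^ m)⁻¹ = (d * e) ^ m * (d * ((d * e) ^ m)⁻¹ * d⁻¹) * d := by group
    _ = (d * e) ^ m * (d * e) ^ m * (d * e) * e⁻¹ * d⁻¹ * d := by rw [h2]; group
    _ = e := by rw [h3, ei]; group

/-- A solvable normal subgroup with abelian Sylow 2-subgroup `A`: `A O(H)` is normal. -/
theorem normal_of_solv {K A : Subgroup H} [K.Normal] (hs : Group.IsSolvable K) (hA : SylIn 2 A K)
    (ab : ∀ a ∈ A, ∀ b ∈ A, a * b = b * a) : (A ⊔ Cfsg.oddCore H).Normal := by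
  have : Fact (Nat.Prime 2) := ⟨Nat.prime_two⟩
  set π := QuotientGroup.mk' (Cfsg.oddCore H) with hπ
  have hn : (K.map π).Normal := Normal.map inferInstance _ (QuotientGroup.mk'_surjective _)
  have hs' : Group.IsSolvable (K.map π) := CL.isSolvable_map K π
  have h0 : Cfsg.pPrimeCore 2 (K.map π) = ⊥ :=
    CL.pPrimeCore_eq_bot_of_isSubnormal hn.isSubnormal (CL.pPrimeCore_quotient_pPrimeCore 2 H)
  have hc := CL.centralizer_pCore_le_of_isSolvable h0
  have hP := hA.map π
  set Q := (Cfsg.pCore 2 (K.map π)).map (K.map π).subtype with hQ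
  have hQn : Q.Normal := inferInstance
  have h1 : Q ≤ A.map π := hP.le_of_normalized ((CL.isPGroup_pCore 2 _).map _) (map_subtype_le _)
    (by rw [normalizer_eq_top]; exact le_top)
  have h2 : A.map π ≤ Q := fun y hy => by
    refine ⟨⟨y, hP.le hy⟩, hc fun w hw => Subtype.ext ?_, rfl⟩
    obtain ⟨a, ha, rfl⟩ := hy
    obtain ⟨b, hb, e⟩ := h1 ⟨w, hw, rfl⟩
    change (w : H ⧸ Cfsg.oddCore H) * π a = π a * w
    rw [← show π b = w from e, ← map_mul, ← map_mul, ab b hb a ha]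
  have h3 : (A.map π).Normal := le_antisymm h1 h2 ▸ hQn
  have h4 := h3.comap π
  rwa [comap_map_eq, QuotientGroup.ker_mk'] at h4

/-- `K = ⟨A ^ H⟩`, `L = K ⟨d⟩`; `d` is isolated in `L`, `Z*` makes `L = O(L) C_L(d)` solvable. -/
theorem gq3 {S A : Subgroup H} (hS : MSS.SylIn 2 S ⊤) (el : ∀ a ∈ A, a * a = 1)
    (hK : S ⊓ normalClosure (A : Set H) = A) {d : H} (dS : d ∈ S) (dA : d ∉ A) (dd : d * d = 1)
    (cd : ∀ a ∈ A, Commute d a) (nc : ∀ a ∈ A, a ≠ 1 → ¬ IsConj d (d * a))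
    (sv : Group.IsSolvable (centralizer ({d} : Set H))) : (A ⊔ Cfsg.oddCore H).Normal := by
  have : Fact (Nat.Prime 2) := ⟨Nat.prime_two⟩
  set K := normalClosure (A : Set H) with hKd
  have hA : SylIn 2 A K := by
    have := hS.inf_normal_of_le (N := K) (by rw [normalizer_eq_top]) le_top
    rwa [hK] at this
  have di : d⁻¹ = d := inv_eq_of_mul_eq_one_right dd
  have hmod : ∀ c ∈ K ⊔ zpowers d, d * (c * d * c⁻¹) ∈ K := fun c hc => by
    obtain ⟨k, hk, w, ⟨n, rfl⟩, rfl⟩ := mem_sup_of_normal_left.1 hc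
    have h1 : d * (k * d ^ n * d * (k * d ^ n)⁻¹) = d * k * d⁻¹ * (d * d) * k⁻¹ := by group
    change d * (k * d ^ n * d * (k * d ^ n)⁻¹) ∈ K
    rw [h1, dd, mul_one]
    exact K.mul_mem ((inferInstance : K.Normal).conj_mem k hk d) (K.inv_mem hk)
  have hsq : ∀ c : H, c * d * c⁻¹ * (c * d * c⁻¹) = 1 := fun c => by
    calc _ = c * (d * d) * c⁻¹ := by group
      _ = 1 := by rw [dd]; group
  obtain ⟨O, -, hO, hOn, hOc⟩ := CL.R2.zstar_sub (K ⊔ zpowers d) (mem_sup_right (mem_zpowers d)) dd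
    fun c hc hcm => by
      set e := c * d * c⁻¹ with he
      have hAC : SylIn 2 A (K ⊓ centralizer ({d} : Set H)) :=
        hA.inf_of_le fun a ha => mem_centralizer_singleton_iff.2 (cd a ha).symm.eq
      have hu : (d * e) ^ 2 = 1 := by
        rw [hcm.mul_pow, sq, sq, dd, hsq c, one_mul]
      obtain ⟨g, hg, hle⟩ := hAC.exists_conj_le (R := zpowers (d * e))
        (by
          rintro ⟨_, n, rfl⟩
          refine ⟨1, Subtype.ext ?_⟩
          change ((d * e) ^ n) ^ 2 ^ 1 = 1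
          rw [pow_one, ← zpow_natCast, ← zpow_mul, mul_comm, zpow_mul, zpow_natCast, hu, one_zpow])
        (zpowers_le.2 ⟨hmod c hc,
          mem_centralizer_singleton_iff.2 ((Commute.refl d).mul_right hcm).symm.eq⟩)
      have ha := hle (conj_mem_cj (mem_zpowers (d * e)))
      have gd : g * d * g⁻¹ = d := by rw [mem_centralizer_singleton_iff.1 hg.2, mul_inv_cancel_right]
      by_contra hne
      refine nc _ ha (fun e1 => hne ?_) (isConj_iff.2 ⟨g * c, ?_⟩)
      · have h1 : d * e = 1 := by simpa [mul_assoc] using congrArg (fun y => g⁻¹ * y * g) e1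
        rw [← di]
        exact (inv_eq_of_mul_eq_one_right h1).symm
      · calc g * c * d * (g * c)⁻¹ = g * (d * d) * e * g⁻¹ := by rw [dd, he]; group
          _ = g * d * g⁻¹ * (g * (d * e) * g⁻¹) := by group
          _ = _ := by rw [gd]
  have hle : K ≤ ((K ⊔ zpowers d) ⊓ centralizer ({d} : Set H)) ⊔ O := fun c hc => by
    have hcL : c ∈ K ⊔ zpowers d := mem_sup_left hc
    have h1 : d * (c * d * c⁻¹) ∈ O := by
      have := hOc c hcL
      rw [di] at this
      simpa [mul_assoc] using this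
    obtain ⟨o, ho, e⟩ := conj_odd dd (hsq c) (hO.of_dvd_nat (O.orderOf_dvd_natCard h1))
    have hoK : o ∈ K := zpowers_le.2 (hmod c hcL) ho
    have hoO : o ∈ O := zpowers_le.2 h1 ho
    have h2 : o⁻¹ * c ∈ (K ⊔ zpowers d) ⊓ centralizer ({d} : Set H) := by
      refine ⟨mem_sup_left (K.mul_mem (K.inv_mem hoK) hc), mem_centralizer_singleton_iff.2 ?_⟩
      calc o⁻¹ * c * d = o⁻¹ * (c * d * c⁻¹) * c := by group
        _ = d * (o⁻¹ * c) := by rw [← e]; group
    simpa using Subgroup.mul_mem _ (mem_sup_right hoO) (mem_sup_left h2)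
  have hsK : Group.IsSolvable K := CL.isSolvable_of_le hle (CL.isSolvable_sup_of_le_normalizer
    (fun c hc => mem_normalizer_fintype (hOn c hc.1)) (CL.isSolvable_of_le inf_le_right sv)
    (CL.isSolvable_of_odd O hO))
  refine normal_of_solv hsK hA fun a ha b hb => ?_
  calc a * b = (a * b)⁻¹ := (inv_eq_of_mul_eq_one_right (el _ (A.mul_mem ha hb))).symm
    _ = b * a := by
      rw [mul_inv_rev, inv_eq_of_mul_eq_one_right (el a ha), inv_eq_of_mul_eq_one_right (el b hb)]

end CL.H3.CG3
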