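import Cfsg.Agent.INV.H3.Def4

/-! S3140, case `PSp₆(3)`: from the relations to the model. -/

set_option autoImplicit false
open Subgroup

namespace CL.H3
open CL.HL
variable {G : Type*} [Group G] [Finite G] {F : Fr G} {ε : Bool}

namespace CMx
open Qm

omit [Finite G] in
theorem ext {f g : Qm ε →* G} (h1 : f I = g I) (h2 : f W = g W) (x : Qm ε) : f x = g x := by
  rw [eq_pow x, map_mul, map_mul, map_pow, map_pow, map_pow, map_pow, h1, h2]

omit [Finite G] in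
theorem ind {f : Qm ε →* G} {S : Subgroup G} (h1 : f I ∈ S) (h2 : f W ∈ S) (x : Qm ε) : f x ∈ S := by
  rw [eq_pow x, map_mul, map_pow, map_pow]
  exact mul_mem (pow_mem h1 _) (pow_mem h2 _)

omit [Finite G] in
theorem exQ {i w : G} (h4 : i ^ 4 = 1) (ww : w * w = if ε then i * i else 1) (wi : w⁻¹ * i * w = i⁻¹) :
    ∃ f : Qm ε →* G, f I = i ∧ f W = w := by
  let j : ZMod 4 → G := fun a => i ^ a.val
  have ja : ∀ a b, j (a + b) = j a * j b := fun a b => by
    simp only [j]; rw [ZMod.val_add, ← pow_eq_pow_mod _ h4, pow_add]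
  have j0 : j 0 = 1 := pow_zero i
  have jn : ∀ a, j (-a) = (j a)⁻¹ := fun a => eq_inv_of_mul_eq_one_left (by rw [← ja, neg_add_cancel, j0])
  have wj : ∀ a, w * j a = j (-a) * w := fun a => by
    have e : w * i * w⁻¹ = i⁻¹ := by
      calc _ = (w * i⁻¹ * w⁻¹)⁻¹ := by group
        _ = _ := by rw [show w * i⁻¹ * w⁻¹ = i by rw [← wi]; group]
    rw [jn, ← mul_inv_eq_iff_eq_mul, ← inv_pow, ← e, conj_pow]
  have j2 : j (if ε then 2 else 0) = w * w := by
    rw [ww]; cases ε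
    · exact j0
    · exact pow_two i
  refine ⟨MonoidHom.mk' (fun x => j x.a * w ^ x.b.toNat) ?_, ?_, ?_⟩
  · rintro ⟨a, _ | _⟩ ⟨b, _ | _⟩
    · change j (a + b + (if ε && false && false then 2 else 0)) * w ^ 0 = j a * w ^ 0 * (j b * w ^ 0)
      simp [ja]
    · change j (a + b + (if ε && false && true then 2 else 0)) * w ^ 1 = j a * w ^ 0 * (j b * w ^ 1)
      simp [ja, mul_assoc]
    · change j (a + -b + (if ε && true && false then 2 else 0)) * w ^ 1 = j a * w ^ 1 * (j b * w ^ 0)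
      simp [ja, mul_assoc, wj]
    · change j (a + -b + (if ε && true && true then 2 else 0)) * w ^ 0 = j a * w ^ 1 * (j b * w ^ 1)
      rw [Bool.and_true, Bool.and_true, ja, ja, j2, pow_zero, pow_one, mul_one, mul_assoc _ w, ← mul_assoc w, wj]
      group
  · change i ^ 1 * w ^ 0 = i
    simp
  · change i ^ 0 * w ^ 1 = w
    simp

theorem f1 : ∀ x : Qm ε, x = 1 ∨ x = Z ∨ x * x = Z ∨ x * I * x⁻¹ * I⁻¹ = Z := by cases ε <;> decide +kernel
theorem f2 : ∀ x : Qm ε, x * I = I * x → x * W = W * x → x = 1 ∨ x = Z := by cases ε <;> decide +kernel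
theorem f3 : (I * I : Qm ε) = Z ∧ (Z * Z : Qm ε) = 1 ∧ τ (I : Qm ε) = I⁻¹ ∧ τ (W : Qm ε) = I * W := by
  cases ε <;> decide +kernel
theorem f4 : ∀ x : Qm ε, x * 1 * (Z * x)⁻¹ ≠ 1 ∧ x * 1 * (1 * x)⁻¹ ≠ Z ∧ x * τ 1 * (Z * x)⁻¹ ≠ 1 ∧
    x * τ 1 * (1 * x)⁻¹ ≠ Z ∧ x * τ W * (W * x)⁻¹ ≠ 1 ∧ x * τ W * (W * x)⁻¹ ≠ Z := by cases ε <;> decide +kernel

end CMx

open CMx Qm SemidirectProduct in
/-- `ι₃ : Qm ε →* G`, `⟨a, b⟩ ↦ i ^ a.val * w ^ b`, is injective (`z ≠ 1`); `ι₁ = ι₃ ^ r`, `ι₂ = ι₁ ^ r`,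
`ι₃ = ι₂ ^ r`; the three images commute (`c1`-`c4` and their conjugates by `r`), `MonoidHom.noncommCoprod`,
`SemidirectProduct.lift`.  Kernel: `z₁ = d`, `z₂ = d z`, `z₃ = z`.  If `f (q, k) = 1`, then `k.e = false`
(action on `d`), `k.t = false` (`t` moves `w` modulo `⟨z⟩`, the `ι_k` do not), and `p₁ q₂ u₃ = 1` makes each
factor central, so in `{1, Z}`; `d, d z, z` are distinct involutions with product 1.  The range is `S`. -/
theorem Cr.cm (R : Cr F ε) : Nonempty (Cm F ε) := by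
  obtain ⟨ι, ιI, ιW⟩ := exQ (ε := ε) (i := R.i) (w := R.w)
    (by rw [show 4 = 2 * 2 from rfl, pow_mul, pow_two R.i, R.ii, pow_two, F.zz]) (by rw [R.ii, R.ww]) R.wi
  have ιZ : ι Z = F.z := by rw [← f3.1, map_mul, ιI, R.ii]
  have inj : Function.Injective ι := (injective_iff_map_eq_one ι).2 fun x hx => by
    rcases f1 x with e | e | e | e
    · exact e
    all_goals exact (F.z1 (by rw [← ιZ, ← e]; simp [hx])).elim
  let c : G →* G := (MulAut.conj R.r).symm.toMonoidHom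
  have cd : ∀ x, c x = R.r⁻¹ * x * R.r := fun _ => rfl
  have c3 : ∀ x, c (c (c (ι x))) = ι x := ext (f := c.comp (c.comp (c.comp ι))) (by
      change c (c (c (ι I))) = _
      rw [ιI, cd, cd, cd]
      calc _ = (R.r ^ 3)⁻¹ * (R.i * R.r ^ 3) := by simp only [pow_three, mul_inv_rev, mul_assoc]
        _ = _ := by rw [R.i3.eq]; group) (by
      change c (c (c (ι W))) = _
      rw [ιW, cd, cd, cd]
      calc _ = (R.r ^ 3)⁻¹ * (R.w * R.r ^ 3) := by simp only [pow_three, mul_inv_rev, mul_assoc]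
        _ = _ := by rw [R.w3.eq]; group)
  have h31 : ∀ x y, Commute (ι x) (c (ι y)) := fun x y => mem_centralizer_singleton_iff.1
    (ind (S := centralizer {c (ι y)})
      (mem_centralizer_singleton_iff.2 (mem_centralizer_singleton_iff.1 (ind (f := c.comp ι) (S := centralizer {ι I})
        (mem_centralizer_singleton_iff.2 (by change c (ι I) * _ = _ * c (ι I); rw [ιI]; exact R.c1.symm))
        (mem_centralizer_singleton_iff.2 (by change c (ι W) * _ = _ * c (ι W); rw [ιI, ιW]; exact R.c2.symm)) y)).symm)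
      (mem_centralizer_singleton_iff.2 (mem_centralizer_singleton_iff.1 (ind (f := c.comp ι) (S := centralizer {ι W})
        (mem_centralizer_singleton_iff.2 (by change c (ι I) * _ = _ * c (ι I); rw [ιI, ιW]; exact R.c3.symm))
        (mem_centralizer_singleton_iff.2 (by change c (ι W) * _ = _ * c (ι W); rw [ιW]; exact R.c4.symm)) y)).symm) x)
  have h12 : ∀ x y, Commute (c (ι x)) (c (c (ι y))) := fun x y => (h31 x y).map c
  have h23 : ∀ x y, Commute (c (c (ι x))) (ι y) := fun x y => c3 y ▸ (h12 x y).map c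
  let g : N3 ε →* G := (c.comp ι).noncommCoprod ((c.comp (c.comp ι)).noncommCoprod ι h23)
    fun p q => (h12 p q.1).mul_right (h31 q.2 p).symm
  have gd : ∀ p q u, g (p, q, u) = c (ι p) * (c (c (ι q)) * ι u) := fun _ _ _ => rfl
  have rot : ∀ p q u, c (g (p, q, u)) = g (u, p, q) := fun p q u => by
    rw [gd, gd, map_mul, map_mul, c3, ← mul_assoc, ((h12 u p).mul_right (h31 q u).symm).eq]
  have gz : g (1, 1, Z) = F.z := by simp [gd, ιZ]
  have g0 : g (Z, Z, Z) = 1 := by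
    rw [gd, ιZ, cd F.z, R.zr, cd, R.dr, mul_assoc, F.zz, mul_one, F.dd]
  have cen : ∀ p q u, g (p, q, u) = 1 → u = 1 ∨ u = Z := fun p q u h => by
    have e : ι u = (c (ι p) * c (c (ι q)))⁻¹ := eq_inv_of_mul_eq_one_right (by rw [mul_assoc, ← gd, h])
    have k : ∀ y, u * y = y * u := fun y => inj (by
      rw [map_mul, map_mul, e]; exact ((h31 y p).symm.mul_left (h23 q y)).inv_left)
    exact f2 u (k _) (k _)
  have rot1 : ∀ {p q u}, g (p, q, u) = 1 → g (u, p, q) = 1 := fun h => by rw [← rot, h, map_one]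
  have kg : ∀ n, g n = 1 → n = 1 ∨ n = (Z, Z, Z) := by
    rintro ⟨p, q, u⟩ h
    have n1 : g (1, 1, Z) ≠ 1 := gz ▸ F.z1
    have n2 : g (Z, Z, 1) ≠ 1 := fun k => n1 (by
      rw [show ((1, 1, Z) : N3 ε) = (Z, Z, 1) * (Z, Z, Z) by simp [f3.2.1], map_mul, k, g0, mul_one])
    rcases cen _ _ _ h with rfl | rfl <;> rcases cen _ _ _ (rot1 h) with rfl | rfl <;>
      rcases cen _ _ _ (rot1 (rot1 h)) with rfl | rfl
    exacts [.inl rfl, (n1 (rot1 (rot1 h))).elim, (n1 (rot1 h)).elim, (n2 h).elim, (n1 h).elim, (n2 (rot1 h)).elim,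
      (n2 (rot1 (rot1 h))).elim, .inr rfl]
  have ti : F.t⁻¹ = F.t := inv_eq_of_mul_eq_one_right F.tt
  have ei : F.e⁻¹ = F.e := inv_eq_of_mul_eq_one_right F.ee
  let T : G →* G := (MulAut.conj F.t).toMonoidHom
  let E : G →* G := (MulAut.conj F.e).toMonoidHom
  have Td : ∀ x, T x = F.t * x * F.t := fun x => congrArg (F.t * x * ·) ti
  have Ed : ∀ x, E x = F.e * x * F.e := fun x => congrArg (F.e * x * ·) ei
  have Tι : ∀ x, T (ι x) = ι (τ x) := ext (f := T.comp ι) (g := ι.comp τ)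
    (by change T (ι I) = ι (τ I); rw [f3.2.2.1, map_inv, ιI, Td, R.ti])
    (by change T (ι W) = ι (τ W); rw [f3.2.2.2, map_mul, ιI, ιW, Td, R.tw])
  have Tc : ∀ x, T (c x) = c (T x) := fun x => by
    rw [Td, Td, cd, cd]
    calc _ = (F.t * R.r⁻¹) * x * (R.r * F.t) := by group
      _ = _ := by rw [R.tr.inv_right.eq, ← R.tr.eq]; group
  have E3 : ∀ x, E (ι x) = ι x := ext (f := E.comp ι)
    (by change E (ι I) = ι I; rw [ιI, Ed, R.ei.eq, mul_assoc, F.ee, mul_one])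
    (by change E (ι W) = ι W; rw [ιW, Ed, R.ew.eq, mul_assoc, F.ee, mul_one])
  have E1 : ∀ x, E (c (ι x)) = c (c (ι x)) := ext (f := E.comp (c.comp ι)) (g := c.comp (c.comp ι))
    (by change E (c (ι I)) = c (c (ι I)); rw [ιI, Ed]; exact R.e1)
    (by change E (c (ι W)) = c (c (ι W)); rw [ιW, Ed]; exact R.e2)
  have E2 : ∀ x, E (c (c (ι x))) = c (ι x) := fun x => by
    rw [← E1, Ed, Ed]
    calc _ = F.e * F.e * c (ι x) * (F.e * F.e) := by group
      _ = _ := by rw [F.ee, one_mul, mul_one]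
  have Tg : ∀ p q u, T (g (p, q, u)) = g (τ p, τ q, τ u) := fun p q u => by
    rw [gd, gd, map_mul, map_mul, Tc, Tc, Tc, Tι, Tι, Tι]
  have Eg : ∀ p q u, E (g (p, q, u)) = g (q, p, u) := fun p q u => by
    rw [gd, gd, map_mul, map_mul, E1, E2, E3, ← mul_assoc, ← (h12 q p).eq, mul_assoc]
  let κ : Kb →* G := MonoidHom.mk' (fun k => Fr.bp k.e F.e * Fr.bp k.t F.t) fun k l => by
    change Fr.bp (xor k.e l.e) F.e * Fr.bp (xor k.t l.t) F.t = _
    rw [Fr.bp_xor F.ee, Fr.bp_xor F.tt, mul_assoc, mul_assoc, ← mul_assoc (Fr.bp l.e F.e), ← Fr.bp_comm F.te,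
      mul_assoc]
  have cp : ∀ k, g.comp (φ3 k).toMonoidHom = (MulAut.conj (κ k)).toMonoidHom.comp g := by
    rintro ⟨_ | _, _ | _⟩ <;> refine MonoidHom.ext fun ⟨p, q, u⟩ => ?_
    · change g (p, q, u) = 1 * 1 * g (p, q, u) * (1 * 1)⁻¹
      group
    · change g (τ p, τ q, τ u) = 1 * F.t * g (p, q, u) * (1 * F.t)⁻¹
      rw [← Tg, one_mul, ti, Td]
    · change g (q, p, u) = F.e * 1 * g (p, q, u) * (F.e * 1)⁻¹
      rw [← Eg, mul_one, ei, Ed]
    · change g (τ q, τ p, τ u) = F.e * F.t * g (p, q, u) * (F.e * F.t)⁻¹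
      rw [← Eg, ← Tg, mul_inv_rev, ti, ei, Ed, Td]
      group
  let f : SM ε →* G := SemidirectProduct.lift g κ cp
  have fl : ∀ n, f (inl n) = g n := lift_inl g κ cp
  have ft : f tM = F.t := (lift_inr g κ cp _).trans (one_mul _)
  have fe : f eM = F.e := (lift_inr g κ cp _).trans (mul_one _)
  refine ⟨⟨R.two, f, fun x => ⟨fun h => ?_, ?_⟩, ?_, ft, fe, (fl _).trans gz, ?_, ?_, R.r, R.tr, R.or, fun p q u => ?_⟩⟩
  · obtain ⟨⟨p, q, u⟩, k⟩ := x
    have key : ∀ m, (p, q, u) * act3 k m * (m * (p, q, u))⁻¹ = 1 ∨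
        (p, q, u) * act3 k m * (m * (p, q, u))⁻¹ = (Z, Z, Z) := fun m => kg _ (by
      have : f (⟨(p, q, u), k⟩ * inl m) = f (inl m * ⟨(p, q, u), k⟩) := by rw [map_mul, map_mul, h, one_mul, mul_one]
      change g ((p, q, u) * act3 k m) * κ (k * 1) = g (m * (p, q, u)) * κ (1 * k) at this
      rw [mul_one, one_mul] at this
      rw [map_mul, map_inv, mul_inv_eq_one, mul_right_cancel this])
    obtain ⟨_ | _, _ | _⟩ := k
    · have : g (p, q, u) = 1 := (fl _).symm.trans h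
      exact (kg _ this).imp (fun e => by rw [e]; rfl) fun e => by rw [e]; rfl
    · exact ((key (1, 1, W)).elim (fun e => (f4 u).2.2.2.2.1 (congrArg (·.2.2) e))
        fun e => (f4 u).2.2.2.2.2 (congrArg (·.2.2) e)).elim
    · exact ((key (Z, 1, 1)).elim (fun e => (f4 p).1 (congrArg (·.1) e)) fun e => (f4 u).2.1 (congrArg (·.2.2) e)).elim
    · exact ((key (Z, 1, 1)).elim (fun e => (f4 p).2.2.1 (congrArg (·.1) e))
        fun e => (f4 u).2.2.2.1 (congrArg (·.2.2) e)).elim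
  · rintro (rfl | rfl)
    exacts [map_one f, (fl _).trans g0]
  · have m : ∀ x ∈ ({R.i, R.w, R.r⁻¹ * R.i * R.r, R.r⁻¹ * R.w * R.r, F.e, F.t} : Set G), x ∈ R.S := fun x hx =>
      R.hS ▸ subset_closure hx
    have eS : F.e ∈ R.S := m _ (by simp)
    have tS : F.t ∈ R.S := m _ (by simp)
    have s1 : ∀ x, c (ι x) ∈ R.S := ind (f := c.comp ι) (by change c (ι I) ∈ _; rw [ιI, cd]; exact m _ (by simp))
      (by change c (ι W) ∈ _; rw [ιW, cd]; exact m _ (by simp))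
    have : f.range = R.S := le_antisymm (by
      rintro _ ⟨⟨⟨p, q, u⟩, k⟩, rfl⟩
      refine mul_mem (mul_mem (s1 p) (mul_mem ?_ (ind (ιI ▸ m _ (by simp)) (ιW ▸ m _ (by simp)) u))) (mul_mem ?_ ?_)
      · change c (c (ι q)) ∈ _
        rw [← E1, Ed]
        exact mul_mem (mul_mem eS (s1 q)) eS
      · cases k.e
        exacts [one_mem _, eS]
      · cases k.t
        exacts [one_mem _, tS]) (R.hS ▸ (closure_le _).2 (by
      rintro _ (rfl | rfl | rfl | rfl | rfl | rfl)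
      · exact ⟨inl (1, 1, I), by simp [fl, gd, ιI]⟩
      · exact ⟨inl (1, 1, W), by simp [fl, gd, ιW]⟩
      · exact ⟨inl (I, 1, 1), by simp [fl, gd, ιI, cd]⟩
      · exact ⟨inl (W, 1, 1), by simp [fl, gd, ιW, cd]⟩
      exacts [⟨_, fe⟩, ⟨_, ft⟩]))
    exact this ▸ R.syl
  · rw [fl, ← rot, gz, cd, R.zr]
  · rw [fl, gd, ιI, ← mul_assoc]; exact R.hs
  · rw [fl, fl, ← rot p q u, cd]

end CL.H3
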