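import Cfsg.Agent.INV.H3.Def4

/-! S3140, case `PSp₆(3)`: generators of `Sp₄(3)`, and the normal form of a pair `D, α`. -/

set_option autoImplicit false
open Subgroup MatrixGroups Matrix Sum

namespace CL.H3.CS2

abbrev V := Fin 2 ⊕ Fin 2 → ZMod 3

/-- coordinates `x₀ x₁ y₀ y₁` -/
def vv (a b c d : ZMod 3) : V := Sum.elim ![a, b] ![c, d]

theorem eta (v : V) : v = vv (v (inl 0)) (v (inl 1)) (v (inr 0)) (v (inr 1)) := by
  ext (i | i) <;> fin_cases i <;> rfl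

theorem vv_inj {a b c d a' b' c' d' : ZMod 3} (h : vv a b c d = vv a' b' c' d') :
    a = a' ∧ b = b' ∧ c = c' ∧ d = d' :=
  ⟨congrFun h (inl 0), congrFun h (inl 1), congrFun h (inr 0), congrFun h (inr 1)⟩

theorem mv (g : Matrix (Fin 2 ⊕ Fin 2) (Fin 2 ⊕ Fin 2) (ZMod 3)) (a b c d : ZMod 3) : g *ᵥ vv a b c d =
    vv (g (inl 0) (inl 0) * a + g (inl 0) (inl 1) * b + g (inl 0) (inr 0) * c + g (inl 0) (inr 1) * d)
      (g (inl 1) (inl 0) * a + g (inl 1) (inl 1) * b + g (inl 1) (inr 0) * c + g (inl 1) (inr 1) * d)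
      (g (inr 0) (inl 0) * a + g (inr 0) (inl 1) * b + g (inr 0) (inr 0) * c + g (inr 0) (inr 1) * d)
      (g (inr 1) (inl 0) * a + g (inr 1) (inl 1) * b + g (inr 1) (inr 0) * c + g (inr 1) (inr 1) * d) := by
  ext (i | i) <;> fin_cases i <;>
    simp [vv, mulVec, dotProduct, Fintype.sum_sum_type, Fin.sum_univ_two, add_assoc]

theorem e0_val (a : SL(2, ZMod 3)) : (emb0 a).1 =
    fromBlocks !![a.1 0 0, 0; 0, 1] !![a.1 0 1, 0; 0, 0] !![a.1 1 0, 0; 0, 0] !![a.1 1 1, 0; 0, 1] := rfl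

theorem e1_val (a : SL(2, ZMod 3)) : (emb1 a).1 =
    fromBlocks !![1, 0; 0, a.1 0 0] !![0, 0; 0, a.1 0 1] !![0, 0; 0, a.1 1 0] !![1, 0; 0, a.1 1 1] := rfl

theorem α_val : α0.1 = fromBlocks !![1, 1; 0, 1] 0 0 !![1, 0; -1, 1] := rfl

theorem e0_mv (s : SL(2, ZMod 3)) (a b c d : ZMod 3) :
    (emb0 s).1 *ᵥ vv a b c d = vv (s.1 0 0 * a + s.1 0 1 * c) b (s.1 1 0 * a + s.1 1 1 * c) d := by
  rw [mv, e0_val]; simp

theorem e1_mv (s : SL(2, ZMod 3)) (a b c d : ZMod 3) :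
    (emb1 s).1 *ᵥ vv a b c d = vv a (s.1 0 0 * b + s.1 0 1 * d) c (s.1 1 0 * b + s.1 1 1 * d) := by
  rw [mv, e1_val]; simp

theorem α_mv (a b c d : ZMod 3) : α0.1 *ᵥ vv a b c d = vv (a + b) b c (-c + d) := by
  rw [mv, α_val]; simp

theorem mul_mv (g h : Sp4) (v : V) : (g * h).1 *ᵥ v = g.1 *ᵥ (h.1 *ᵥ v) := by
  rw [mulVec_mulVec]; rfl

theorem one_mv (v : V) : (1 : Sp4).1 *ᵥ v = v := one_mulVec v

/-- a matrix of determinant one -/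
def mk (a b c d : ZMod 3) (h : a * d - b * c = 1) : SL(2, ZMod 3) := ⟨!![a, b; c, d], by simp [det_fin_two, h]⟩

theorem move (x y p q : ZMod 3) (h : ¬ (x = 0 ∧ y = 0)) (h' : ¬ (p = 0 ∧ q = 0)) :
    ∃ s : SL(2, ZMod 3), s.1 0 0 * x + s.1 0 1 * y = p ∧ s.1 1 0 * x + s.1 1 1 * y = q := by
  have : ∀ x y p q : ZMod 3, ¬ (x = 0 ∧ y = 0) → ¬ (p = 0 ∧ q = 0) →
      ∃ a b : ZMod 3, a * x + b * y = p ∧ ∃ c d : ZMod 3, c * x + d * y = q ∧ a * d - b * c = 1 := by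
    decide +kernel
  obtain ⟨a, b, h1, c, d, h2, h3⟩ := this x y p q h h'
  exact ⟨mk a b c d h3, h1, h2⟩

/-- the group generated by the two planes and `α0` -/
def K : Subgroup Sp4 := Subgroup.closure (Set.range emb0 ∪ Set.range emb1 ∪ {α0})

theorem K0 (s : SL(2, ZMod 3)) : emb0 s ∈ K := subset_closure (.inl (.inl ⟨s, rfl⟩))
theorem K1 (s : SL(2, ZMod 3)) : emb1 s ∈ K := subset_closure (.inl (.inr ⟨s, rfl⟩))
theorem Kα : α0 ∈ K := subset_closure (.inr rfl)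

theorem t1a {a b c d : ZMod 3} (h : ¬ (a = 0 ∧ c = 0)) : ∃ k ∈ K, k.1 *ᵥ vv a b c d = vv 1 0 0 0 := by
  by_cases h' : b = 0 ∧ d = 0
  · obtain ⟨s, h1, h2⟩ := move a c 1 0 h (by decide)
    exact ⟨emb0 s, K0 s, by rw [e0_mv, h1, h2, h'.1, h'.2]⟩
  · obtain ⟨s, h1, h2⟩ := move a c 0 1 h (by decide)
    obtain ⟨t, h3, h4⟩ := move b d 0 1 h' (by decide)
    obtain ⟨u, h5, h6⟩ := move (0 + 0) 1 1 0 (by decide) (by decide)
    refine ⟨emb0 u * (α0 * (emb1 t * emb0 s)), mul_mem (K0 u) (mul_mem Kα (mul_mem (K1 t) (K0 s))), ?_⟩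
    rw [mul_mv, mul_mv, mul_mv, e0_mv, h1, h2, e1_mv, h3, h4, α_mv, e0_mv, h5, h6, neg_add_cancel]

theorem t1 {v : V} (h : v ≠ 0) : ∃ k ∈ K, k.1 *ᵥ v = vv 1 0 0 0 := by
  rw [eta v] at h ⊢
  generalize v (inl 0) = a, v (inl 1) = b, v (inr 0) = c, v (inr 1) = d at h ⊢
  by_cases h0 : a = 0 ∧ c = 0
  · obtain ⟨rfl, rfl⟩ := h0
    have h' : ¬ (b = 0 ∧ d = 0) := by
      rintro ⟨rfl, rfl⟩
      exact h (eta 0).symm
    obtain ⟨t, h3, h4⟩ := move b d 1 0 h' (by decide)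
    obtain ⟨k, hk, e⟩ := t1a (a := 0 + 1) (b := 1) (c := 0) (d := -0 + 0) (by decide)
    exact ⟨k * (α0 * emb1 t), mul_mem hk (mul_mem Kα (K1 t)), by rw [mul_mv, mul_mv, e1_mv, h3, h4, α_mv, e]⟩
  · exact t1a h0

theorem t2a (a : ZMod 3) : ∃ k ∈ K, k.1 *ᵥ vv 1 0 0 0 = vv 1 0 0 0 ∧ k.1 *ᵥ vv a 0 1 0 = vv 0 0 1 0 :=
  ⟨emb0 (mk 1 (-a) 0 1 (by simp)), K0 _, by rw [e0_mv]; simp [mk], by rw [e0_mv]; simp [mk]⟩

theorem t2 (a b d : ZMod 3) : ∃ k ∈ K, k.1 *ᵥ vv 1 0 0 0 = vv 1 0 0 0 ∧ k.1 *ᵥ vv a b 1 d = vv 0 0 1 0 := by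
  by_cases h' : b = 0 ∧ d = 0
  · rw [h'.1, h'.2]; exact t2a a
  · obtain ⟨t, h3, h4⟩ := move b d 0 1 h' (by decide)
    obtain ⟨k, hk, e, e'⟩ := t2a a
    refine ⟨k * (α0 * emb1 t), mul_mem hk (mul_mem Kα (K1 t)), ?_, ?_⟩
    · rw [mul_mv, mul_mv, e1_mv, α_mv]; simpa using e
    · rw [mul_mv, mul_mv, e1_mv, h3, h4, α_mv]; simpa using e'

/-- the form -/
def ω (v w : V) : ZMod 3 :=
  v (inl 0) * w (inr 0) + v (inl 1) * w (inr 1) - v (inr 0) * w (inl 0) - v (inr 1) * w (inl 1)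

theorem ω_eq (v w : V) : ω v w = -(v ⬝ᵥ (J (Fin 2) (ZMod 3) *ᵥ w)) := by
  simp [ω, J, mulVec, dotProduct, Fintype.sum_sum_type, Fin.sum_univ_two, Matrix.one_apply]
  ring

theorem ω_inv (g : Sp4) (v w : V) : ω (g.1 *ᵥ v) (g.1 *ᵥ w) = ω v w := by
  have h := SymplecticGroup.mem_iff'.1 g.2
  rw [ω_eq, ω_eq, mulVec_mulVec, ← vecMul_transpose, ← dotProduct_mulVec, mulVec_mulVec, ← Matrix.mul_assoc, h]

theorem ω_vv (a b c d a' b' c' d' : ZMod 3) :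
    ω (vv a b c d) (vv a' b' c' d') = a * c' + b * d' - c * a' - d * b' := rfl

theorem pair {v w : V} (h : ω v w = 1) : ∃ k ∈ K, k.1 *ᵥ v = vv 1 0 0 0 ∧ k.1 *ᵥ w = vv 0 0 1 0 := by
  have v0 : v ≠ 0 := by
    rintro rfl
    simp [ω] at h
  obtain ⟨k, hk, e⟩ := t1 v0
  have h1 := ω_inv k v w
  rw [e, h, eta (k.1 *ᵥ w), ω_vv] at h1
  simp only [one_mul, zero_mul, add_zero, sub_zero] at h1
  obtain ⟨l, hl, e1, e2⟩ := t2 ((k.1 *ᵥ w) (inl 0)) ((k.1 *ᵥ w) (inl 1)) ((k.1 *ᵥ w) (inr 1))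
  refine ⟨l * k, mul_mem hl hk, by rw [mul_mv, e, e1], ?_⟩
  rw [mul_mv, eta (k.1 *ᵥ w), h1, e2]

theorem fix {g : Sp4} (h1 : g.1 *ᵥ vv 1 0 0 0 = vv 1 0 0 0) (h2 : g.1 *ᵥ vv 0 0 1 0 = vv 0 0 1 0) :
    ∃ b, g = emb1 b := by
  have a1 := ω_inv g (vv 1 0 0 0) (vv 0 1 0 0)
  have a2 := ω_inv g (vv 1 0 0 0) (vv 0 0 0 1)
  have a3 := ω_inv g (vv 0 0 1 0) (vv 0 1 0 0)
  have a4 := ω_inv g (vv 0 0 1 0) (vv 0 0 0 1)
  have a5 := ω_inv g (vv 0 1 0 0) (vv 0 0 0 1)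
  rw [h1] at a1 a2
  rw [h2] at a3 a4
  rw [mv] at h1 h2
  obtain ⟨b1, b2, b3, b4⟩ := vv_inj h1
  obtain ⟨c1, c2, c3, c4⟩ := vv_inj h2
  simp only [mv, ω_vv, mul_one, mul_zero, add_zero, zero_add, one_mul, zero_mul, sub_zero, zero_sub,
    neg_eq_zero] at a1 a2 a3 a4 a5 b1 b2 b3 b4 c1 c2 c3 c4
  rw [a1, a2, a3, a4] at a5
  refine ⟨mk (g.1 (inl 1) (inl 1)) (g.1 (inl 1) (inr 1)) (g.1 (inr 1) (inl 1)) (g.1 (inr 1) (inr 1))
    (by linear_combination a5), Subtype.ext ?_⟩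
  rw [e1_val]
  ext (i | i) (j | j) <;> fin_cases i <;> fin_cases j <;> simp [mk, *]

theorem gen4 : Subgroup.closure (Set.range emb0 ∪ Set.range emb1 ∪ {α0}) = ⊤ := by
  refine (Subgroup.eq_top_iff' K).2 fun g => ?_
  obtain ⟨k, hk, e1, e2⟩ := pair (v := g.1 *ᵥ vv 1 0 0 0) (w := g.1 *ᵥ vv 0 0 1 0) (by rw [ω_inv, ω_vv]; simp)
  obtain ⟨b, hb⟩ := fix (g := k * g) (by rw [mul_mv, e1]) (by rw [mul_mv, e2])
  exact (mul_mem_cancel_left hk).1 (hb ▸ K1 b)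

theorem ω_neg (v w : V) : ω (-v) w = -ω v w := by simp only [ω, Pi.neg_apply]; ring

theorem ω_sub (v w u : V) : ω v (w - u) = ω v w - ω v u := by simp only [ω, Pi.sub_apply]; ring

theorem neg_vv (a b c d : ZMod 3) : -vv a b c d = vv (-a) (-b) (-c) (-d) := by
  ext (i | i) <;> fin_cases i <;> rfl

theorem ex_ω {v : V} (h : v ≠ 0) : ∃ u, ω v u = 1 := by
  obtain ⟨k, -, e⟩ := t1 h
  refine ⟨k⁻¹.1 *ᵥ vv 0 0 1 0, ?_⟩
  rw [← ω_inv k, e, ← mul_mv, mul_inv_cancel, one_mv, ω_vv]; simp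

theorem cen : emb0 (-1) * emb1 (-1) ∈ center Sp4 := by
  have : (emb0 (-1) * emb1 (-1)).1 = -1 := by
    change (emb0 (-1)).1 * (emb1 (-1)).1 = -1
    rw [e0_val, e1_val]; decide +kernel
  refine mem_center_iff.2 fun g => Subtype.ext ?_
  change g.1 * (emb0 (-1) * emb1 (-1)).1 = (emb0 (-1) * emb1 (-1)).1 * g.1
  rw [this]; simp

theorem step1 {D : Sp4} (DD : D * D = 1) (hD : D ∉ center Sp4) : ∃ k : Sp4, k * D * k⁻¹ = emb0 (-1) := by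
  have D1 : D ≠ 1 := fun e => hD (e ▸ one_mem _)
  have dd : ∀ x : V, D.1 *ᵥ (D.1 *ᵥ x) = x := fun x => by rw [← mul_mv, DD, one_mv]
  have ng : ∀ x : V, D.1 *ᵥ (D.1 *ᵥ x - x) = -(D.1 *ᵥ x - x) := fun x => by rw [mulVec_sub, dd, neg_sub]
  obtain ⟨x, hx⟩ : ∃ x : V, D.1 *ᵥ x - x ≠ 0 := by
    by_contra c
    push Not at c
    refine D1 (Subtype.ext (Matrix.ext_iff_mulVec.2 fun x => ?_))
    rw [one_mv]; exact sub_eq_zero.1 (c x)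
  have hv := ng x
  generalize D.1 *ᵥ x - x = v at hx hv
  obtain ⟨u, hu⟩ := ex_ω hx
  have hw := ng u
  have vw : ω v (D.1 *ᵥ u - u) = 1 := by
    rw [ω_sub, ← ω_inv D v, hv, dd, ω_neg, hu]; decide
  generalize D.1 *ᵥ u - u = w at hw vw
  obtain ⟨k, -, e1, e2⟩ := pair vw
  have key : ∀ {y z : V}, k.1 *ᵥ y = z → D.1 *ᵥ y = -y → (k * D * k⁻¹).1 *ᵥ z = -z := by
    rintro y _ rfl hy
    rw [← mul_mv, inv_mul_cancel_right, mul_mv, hy, mulVec_neg]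
  obtain ⟨b, hb⟩ := fix (g := emb0 (-1) * (k * D * k⁻¹))
    (by rw [mul_mv, key e1 hv, neg_vv, e0_mv]; simp) (by rw [mul_mv, key e2 hw, neg_vv, e0_mv]; simp)
  have nn : emb0 (-1) * emb0 (-1) = 1 := by rw [← map_mul, neg_mul_neg, one_mul, map_one]
  have hb' : k * D * k⁻¹ = emb0 (-1) * emb1 b := by rw [← hb, ← mul_assoc, nn, one_mul]
  have sq : (k * D * k⁻¹) * (k * D * k⁻¹) = 1 := by
    rw [show k * D * k⁻¹ * (k * D * k⁻¹) = k * (D * D) * k⁻¹ by group, DD]; group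
  have q1 := congrArg (fun g : Sp4 => g.1 *ᵥ vv 0 1 0 0) sq
  have q2 := congrArg (fun g : Sp4 => g.1 *ᵥ vv 0 0 0 1) sq
  simp only [hb', mul_mv, one_mv, e0_mv, e1_mv] at q1 q2
  obtain ⟨-, r1, -, r2⟩ := vv_inj q1
  obtain ⟨-, r3, -, r4⟩ := vv_inj q2
  have dt := b.2
  rw [det_fin_two] at dt
  have : ∀ a b c d : ZMod 3, a * d - b * c = 1 → a * (a * 1 + b * 0) + b * (c * 1 + d * 0) = 1 →
      c * (a * 1 + b * 0) + d * (c * 1 + d * 0) = 0 → a * (a * 0 + b * 1) + b * (c * 0 + d * 1) = 0 →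
      (a = 1 ∧ b = 0 ∧ c = 0 ∧ d = 1) ∨ (a = -1 ∧ b = 0 ∧ c = 0 ∧ d = -1) := by decide +kernel
  rcases this _ _ _ _ dt r1 r2 r3 with ⟨s1, s2, s3, s4⟩ | ⟨s1, s2, s3, s4⟩
  · have : b = 1 := by
      ext i j; fin_cases i <;> fin_cases j <;> simp [*]
    exact ⟨k, by rw [hb', this, map_one, mul_one]⟩
  · have : b = -1 := by
      ext i j; fin_cases i <;> fin_cases j <;> simp [*]
    refine absurd ?_ hD
    have h := (inferInstance : (center Sp4).Normal).conj_mem _ cen k⁻¹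
    rw [this] at hb'
    rwa [← hb', show k⁻¹ * (k * D * k⁻¹) * k⁻¹⁻¹ = D by group] at h

theorem step2 {α : Sp4} (a3 : α ^ 3 = 1) (a1 : α ≠ 1) (h : emb0 (-1) * α * emb0 (-1) = α⁻¹) :
    ∃ s t, α * (emb0 s * emb1 t) = emb0 s * emb1 t * α0 := by
  have h2 : α * α = α⁻¹ := by rw [eq_inv_iff_mul_eq_one, ← a3, pow_three']
  have hi : (emb0 (-1)).1 * α.1 * (emb0 (-1)).1 = -J (Fin 2) (ZMod 3) * α.1ᵀ * J (Fin 2) (ZMod 3) := by
    rw [← SymplecticGroup.coe_inv, ← h]; rfl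
  have hs : α.1 * α.1 = (emb0 (-1)).1 * α.1 * (emb0 (-1)).1 := congrArg Subtype.val (h2.trans h.symm)
  have hu : α.1 * ((emb0 (-1)).1 * α.1 * (emb0 (-1)).1) = 1 := congrArg Subtype.val (h ▸ mul_inv_cancel α :
    α * (emb0 (-1) * α * emb0 (-1)) = 1)
  rw [e0_val] at hi hs hu
  have i1 := congrFun (congrFun hi (inr 0)) (inr 0)
  have i2 := congrFun (congrFun hi (inr 1)) (inr 1)
  have i3 := congrFun (congrFun hi (inl 0)) (inr 0)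
  have i4 := congrFun (congrFun hi (inr 0)) (inl 0)
  have i5 := congrFun (congrFun hi (inl 1)) (inr 1)
  have i6 := congrFun (congrFun hi (inr 1)) (inl 1)
  have i7 := congrFun (congrFun hi (inl 1)) (inl 0)
  have i8 := congrFun (congrFun hi (inl 1)) (inr 0)
  have i9 := congrFun (congrFun hi (inr 1)) (inl 0)
  have i10 := congrFun (congrFun hi (inr 1)) (inr 0)
  have s1 := congrFun (congrFun hs (inl 0)) (inl 0)
  have s2 := congrFun (congrFun hs (inl 1)) (inl 1)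
  have u1 := congrFun (congrFun hu (inl 0)) (inl 0)
  have u2 := congrFun (congrFun hu (inl 1)) (inl 1)
  simp [J, Matrix.mul_apply, Fintype.sum_sum_type, Fin.sum_univ_two, Matrix.one_apply]
    at i1 i2 i3 i4 i5 i6 i7 i8 i9 i10 s1 s2 u1 u2
  have z : ∀ x : ZMod 3, x = -x → x = 0 := by decide
  replace i3 := z _ i3
  replace i4 := z _ i4
  replace i5 := z _ i5
  replace i6 := z _ i6
  replace i7 := neg_eq_iff_eq_neg.1 i7
  replace i10 := neg_eq_iff_eq_neg.1 i10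
  have o : ∀ a d : ZMod 3, a * a - d = a → a * a + d = 1 → a = 1 ∧ d = 0 := by decide
  rw [i3, i7, i9] at s1 u1
  rw [i5, i7, i8] at s2 u2
  obtain ⟨a0, dt⟩ := o (α.1 (inl 0) (inl 0))
    (α.1 (inl 0) (inl 1) * α.1 (inr 0) (inr 1) - α.1 (inl 0) (inr 1) * α.1 (inr 0) (inl 1))
    (by linear_combination s1) (by linear_combination u1)
  obtain ⟨b0, -⟩ := o (α.1 (inl 1) (inl 1))
    (α.1 (inl 0) (inl 1) * α.1 (inr 0) (inr 1) - α.1 (inl 0) (inr 1) * α.1 (inr 0) (inl 1))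
    (by linear_combination s2) (by linear_combination u2)
  have hm := mv α.1
  rw [i1, i2, i3, i4, i5, i6, i7, i8, i9, i10, a0, b0] at hm
  generalize α.1 (inl 0) (inl 1) = p, α.1 (inl 0) (inr 1) = q, α.1 (inr 0) (inl 1) = r,
    α.1 (inr 0) (inr 1) = u at hm dt
  have n0 : ¬ (p = 0 ∧ q = 0 ∧ r = 0 ∧ u = 0) := by
    rintro ⟨rfl, rfl, rfl, rfl⟩
    refine a1 (Subtype.ext (Matrix.ext_iff_mulVec.2 fun x => ?_))
    rw [one_mv, eta x, hm]; simp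
  have : ∀ p q r u : ZMod 3, p * u - q * r = 0 → ¬ (p = 0 ∧ q = 0 ∧ r = 0 ∧ u = 0) →
      ∃ t01 t11 : ZMod 3, p * t01 + q * t11 = 0 ∧ r * t01 + u * t11 = 0 ∧ ∃ t00 t10 : ZMod 3,
      t00 * t11 - t01 * t10 = 1 ∧ ∃ s00 s10 : ZMod 3, p * t00 + q * t10 = s00 ∧ r * t00 + u * t10 = s10 ∧
      -u * s00 + q * s10 = 0 ∧ r * s00 - p * s10 = 0 ∧ ∃ s01 s11 : ZMod 3, s00 * s11 - s01 * s10 = 1 ∧
      -u * s01 + q * s11 = -t01 ∧ r * s01 - p * s11 = -t11 := by decide +kernel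
  obtain ⟨t01, t11, f1, f2, t00, t10, ft, s00, s10, f3, f4, f5, f6, s01, s11, fs, f7, f8⟩ := this p q r u dt n0
  refine ⟨mk s00 s01 s10 s11 fs, mk t00 t01 t10 t11 ft, Subtype.ext (Matrix.ext_iff_mulVec.2 fun x => ?_)⟩
  rw [eta x]
  generalize x (inl 0) = a, x (inl 1) = b, x (inr 0) = c, x (inr 1) = d
  simp only [mul_mv, e0_mv, e1_mv, α_mv, hm]
  simp only [mk, of_apply, cons_val', cons_val_zero, cons_val_one, cons_val_fin_one]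
  congr 1
  · linear_combination b * f3 + d * f1
  · linear_combination a * f5 + c * f7
  · linear_combination b * f4 + d * f2
  · linear_combination a * f6 + c * f8

theorem norm4 {D α : Sp4} (DD : D * D = 1) (hD : D ∉ center Sp4) (a3 : α ^ 3 = 1) (a1 : α ≠ 1)
    (h : D * α * D = α⁻¹) : ∃ g : Sp4, g⁻¹ * D * g = emb0 (-1) ∧ g⁻¹ * α * g = α0 := by
  obtain ⟨k, hk⟩ := step1 DD hD
  obtain ⟨s, t, e⟩ := step2 (α := k * α * k⁻¹) (by rw [conj_pow, a3]; group)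
    (fun c => a1 (by rw [show α = k⁻¹ * (k * α * k⁻¹) * k by group, c]; group))
    (by rw [← hk, show k * D * k⁻¹ * (k * α * k⁻¹) * (k * D * k⁻¹) = k * (D * α * D) * k⁻¹ by group, h]; group)
  have c : emb0 (-1) * (emb0 s * emb1 t) = emb0 s * emb1 t * emb0 (-1) := by
    refine Subtype.ext (Matrix.ext_iff_mulVec.2 fun x => ?_)
    rw [eta x]
    simp only [mul_mv, e0_mv, e1_mv]
    simp [add_comm]
  refine ⟨k⁻¹ * (emb0 s * emb1 t), ?_, ?_⟩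
  · rw [show (k⁻¹ * (emb0 s * emb1 t))⁻¹ * D * (k⁻¹ * (emb0 s * emb1 t)) =
      (emb0 s * emb1 t)⁻¹ * (k * D * k⁻¹ * (emb0 s * emb1 t)) by group, hk, c]; group
  · rw [show (k⁻¹ * (emb0 s * emb1 t))⁻¹ * α * (k⁻¹ * (emb0 s * emb1 t)) =
      (emb0 s * emb1 t)⁻¹ * (k * α * k⁻¹ * (emb0 s * emb1 t)) by group, e]; group

end CL.H3.CS2
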