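import Cfsg.Agent.INV.H3.Loc1a

/-! S3140. `x ^ g = g⁻¹ * x * g`. Local facts in `C(t) = (L × O × ⟨t⟩) ⟨s⟩`, `L = φ.range`.
Matrices: `z0 = RA.c ^ 4 = diag(-1,-1,1)`, `RA.d = diag(1,-1,-1)`, `e0 = RA.d * RA.c ^ 2`.
A matrix commuting with `z0` is a block `GL₂(3)` (entries `02, 12, 20, 21` vanish), then use
`decide` on the five remaining entries in `ZMod 3`. -/

set_option autoImplicit false
open Subgroup

namespace CL.H3.Ex
open CL.HL
variable {G : Type*} [Group G] [Finite G] {F : Fr G} (E : Ex F)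


section
open L1
omit [Finite G]

/-- the block group in `G` -/
def ψ : GB →* G := E.φ.comp ι

theorem ψ_def (m : GB) : E.ψ m = E.φ (ι m) := rfl
theorem ψ_inj : Function.Injective E.ψ := E.inj.comp ι_inj
theorem ψc : E.ψ cB = F.c := by rw [ψ_def, ι_c, E.φc]
theorem ψd : E.ψ dB = F.d := by rw [ψ_def, ι_d, E.φd]
theorem ψθ : E.ψ θB = E.θ := by rw [ψ_def, ι_θ]; rfl
theorem ψa : E.ψ (cB ^ 2) = F.c ^ 2 := by rw [map_pow, ψc]
theorem ψb : E.ψ (cB * dB) = F.c * F.d := by rw [map_mul, ψc, ψd]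
theorem ψz : E.ψ (cB ^ 4) = F.z := by rw [map_pow, ψc]; rfl
theorem ψe : E.ψ (dB * cB ^ 2) = F.e := by rw [map_mul, map_pow, ψc, ψd]; rfl
theorem tψ (m : GB) : Commute F.t (E.ψ m) := E.tφ _
theorem zψ (m : GB) : Commute F.z (E.ψ m) := by
  rw [← ψz]; exact Commute.map (zc m) E.ψ
theorem Oψ {o : G} (ho : o ∈ E.O) (m : GB) : Commute o (E.ψ m) := E.φO o ho _
theorem sψ (h : F.s ≠ 1) (m : GB) : F.s * E.ψ m * F.s = E.ψ (m.tr⁻¹) := by
  rw [ψ_def, E.sφ h, σ_ι]; rfl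
theorem blkψ {x : SL33} (h : Commute F.z (E.φ x)) : ∃ m, E.ψ m = E.φ x := by
  have : Commute (RA.c ^ 4) x := E.inj (by
    rw [map_mul, map_mul, map_pow, E.φc]; exact h.eq)
  obtain ⟨m, rfl⟩ := blk this
  exact ⟨m, rfl⟩
theorem s_inv' : F.s⁻¹ = F.s := inv_eq_of_mul_eq_one_right F.ss
theorem t_inv' : F.t⁻¹ = F.t := inv_eq_of_mul_eq_one_right F.tt

theorem dec' {g : G} (hg : Commute F.t g) : ∃ x, ∃ o ∈ E.O, ∃ u, (u = 1 ∨ u = F.t) ∧
    (g = E.φ x * o * u ∨ (F.s ≠ 1 ∧ g = E.φ x * o * u * F.s)) := by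
  obtain ⟨x, o, ho, u, hu, e⟩ := E.dec g hg
  by_cases h : F.s = 1
  · refine ⟨x, o, ho, u, ?_, Or.inl e⟩
    rw [h, mul_one] at hu; tauto
  · rcases hu with rfl | rfl | rfl | rfl
    · exact ⟨x, o, ho, _, Or.inl rfl, Or.inl e⟩
    · exact ⟨x, o, ho, _, Or.inr rfl, Or.inl e⟩
    · exact ⟨x, o, ho, 1, Or.inl rfl, Or.inr ⟨h, by rw [e, mul_one]⟩⟩
    · exact ⟨x, o, ho, F.t, Or.inr rfl, Or.inr ⟨h, by rw [e, ← mul_assoc]⟩⟩

theorem u_comm {u g : G} (hu : u = 1 ∨ u = F.t) (hg : Commute F.t g) : Commute u g := by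
  rcases hu with rfl | rfl
  exacts [Commute.one_left _, hg]

theorem u_sq {u : G} (hu : u = 1 ∨ u = F.t) : u * u = 1 := by
  rcases hu with rfl | rfl
  exacts [mul_one _, F.tt]

theorem cancel_comm {y a b : G} (h : Commute y (a * b)) (hb : Commute y b) : Commute y a := by
  simpa using h.mul_right hb.inv_right
end

set_option linter.unusedSectionVars false
open L1

/-- matrix identities, mapped by `φ` (`s φ(x) s = φ(σ x)`) -/
theorem θ_facts : E.θ ^ 3 = 1 ∧ E.θ ≠ 1 ∧ E.θ ∈ E.X ∧ Commute F.t E.θ ∧ Commute F.z E.θ ∧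
    E.θ⁻¹ * F.c ^ 2 * E.θ = F.c * F.d ∧ E.θ⁻¹ * (F.c * F.d) * E.θ = F.c ^ 2 * (F.c * F.d) * F.z ∧
    F.d * E.θ * F.d = E.θ⁻¹ ∧ (F.s ≠ 1 → Commute (F.s * F.c ^ 2) E.θ) := by
  obtain ⟨h1, h2, h3, h4, h5, h6, h7⟩ := θf
  rw [← E.ψθ]
  refine ⟨by rw [← map_pow, h1, map_one], fun h => h2 (E.ψ_inj (by rw [h, map_one])), E.φX _,
    E.tψ _, E.zψ _, ?_, ?_, ?_, fun hs => ?_⟩
  · rw [← E.ψb, ← h4, map_mul, map_mul, map_inv, E.ψa]
  · rw [← E.ψa, ← E.ψz, ← E.ψb, ← map_mul, ← map_mul, ← h5, map_mul E.ψ _ θB, map_mul E.ψ θB⁻¹, map_inv]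
  · rw [← E.ψd, ← map_mul, ← map_mul, h6, map_inv]
  · have := E.sψ hs (cB ^ 2 * θB * (cB ^ 2)⁻¹)
    rw [h7, map_mul, map_mul, map_inv, E.ψa] at this
    show _ = _
    calc _ = F.s * (F.c ^ 2 * E.ψ θB * (F.c ^ 2)⁻¹) * F.s * (F.s⁻¹ * F.c ^ 2) := by group
      _ = _ := by rw [this, s_inv']

/-- `L ∩ O = 1` (`O` centralises `L`, `RA.center_bot`). -/
theorem LO {x : SL33} {o : G} (ho : o ∈ E.O) (h : E.φ x = o) : o = 1 := by
  have hx : x ∈ center SL33 := mem_center_iff.2 fun y => E.inj (by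
    rw [map_mul, map_mul, h]; exact (E.φO o ho y).eq.symm)
  rw [RA.center_bot, mem_bot] at hx
  rw [← h, hx, map_one]

theorem O_one {o : G} (ho : o ∈ E.O) {k : ℕ} (h : o ^ 2 ^ k = 1) : o = 1 :=
  RB.eq_one_of_odd (Odd.of_dvd_nat E.odd (E.O.orderOf_dvd_natCard ho)) h

theorem split_pow {x : SL33} {o : G} (ho : o ∈ E.O) {n : ℕ} (h : (E.φ x * o) ^ n = 1) :
    x ^ n = 1 ∧ o ^ n = 1 := by
  rw [(E.φO o ho x).symm.mul_pow, ← map_pow] at h
  have h1 : (o ^ n)⁻¹ = 1 := E.LO (inv_mem (pow_mem ho n)) (eq_inv_of_mul_eq_one_left h)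
  rw [inv_eq_one] at h1
  rw [h1, mul_one] at h
  exact ⟨E.inj (by rw [h, map_one]), h1⟩

omit [Finite G] in
theorem s_cjO {o : G} (ho : o ∈ E.O) : F.s⁻¹ * o * F.s ∈ E.O := by
  rw [s_inv']; exact E.sO o ho

/-- `C(t)` normalises `L` and `O` (`dec`). -/
theorem nL {g : G} (hg : Commute F.t g) :
    (∀ x, ∃ y, g⁻¹ * E.φ x * g = E.φ y) ∧ ∀ o ∈ E.O, g⁻¹ * o * g ∈ E.O := by
  obtain ⟨x, o, ho, u, hu, e⟩ := E.dec' hg
  have k1 : ∀ y, (E.φ x * o * u)⁻¹ * E.φ y * (E.φ x * o * u) = E.φ (x⁻¹ * y * x) := fun y => by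
    rw [map_mul, map_mul, map_inv]
    calc _ = u⁻¹ * (o⁻¹ * E.φ (x⁻¹ * y * x) * o) * u := by
          rw [map_mul, map_mul, map_inv]; group
      _ = _ := by
          rw [Fr.cj_fix (E.φO o ho _).symm, Fr.cj_fix (u_comm hu (E.tφ _)).symm, map_mul, map_mul,
            map_inv]
  have k2 : ∀ p ∈ E.O, (E.φ x * o * u)⁻¹ * p * (E.φ x * o * u) = o⁻¹ * p * o := fun p hp => by
    calc _ = u⁻¹ * (o⁻¹ * ((E.φ x)⁻¹ * p * E.φ x) * o) * u := by group
      _ = _ := by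
          rw [Fr.cj_fix (E.φO p hp _), Fr.cj_fix (u_comm hu (E.tO _
            (mul_mem (mul_mem (inv_mem ho) hp) ho))).symm]
  rcases e with rfl | ⟨hs, rfl⟩
  · exact ⟨fun y => ⟨_, k1 y⟩, fun p hp => k2 p hp ▸ mul_mem (mul_mem (inv_mem ho) hp) ho⟩
  · refine ⟨fun y => ⟨RA.σ (x⁻¹ * y * x), ?_⟩, fun p hp => ?_⟩
    · rw [← E.sφ hs, ← k1]
      conv_rhs => rw [← s_inv' (F := F)]
      rw [s_inv']; conv_lhs => rw [mul_inv_rev]
      rw [s_inv']; group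
    · have := E.s_cjO (mul_mem (mul_mem (inv_mem ho) hp) ho)
      rw [← k2 p hp] at this
      convert this using 1; group

omit [Finite G] in
theorem LO_mul {x y : SL33} {o p : G} (ho : o ∈ E.O) :
    E.φ x * o * (E.φ y * p) = E.φ (x * y) * (o * p) := by
  rw [map_mul]
  calc _ = E.φ x * (o * E.φ y) * p := by group
    _ = _ := by rw [(E.φO o ho y).eq]; group

theorem sq_LO {g : G} (hg : Commute F.t g) : ∃ x, ∃ o ∈ E.O, g * g = E.φ x * o := by
  obtain ⟨x, o, ho, u, hu, e⟩ := E.dec' hg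
  have c1 : Commute u (E.φ x * o) := u_comm hu ((E.tφ x).mul_right (E.tO o ho))
  rcases e with rfl | ⟨hs, rfl⟩
  · refine ⟨x * x, o * o, mul_mem ho ho, ?_⟩
    rw [← E.LO_mul ho]
    calc _ = E.φ x * o * (u * (E.φ x * o)) * u := by group
      _ = E.φ x * o * (E.φ x * o) * (u * u) := by rw [c1.eq]; group
      _ = _ := by rw [u_sq hu, mul_one]
  · refine ⟨x * RA.σ x, o * (F.s * o * F.s), mul_mem ho (E.sO o ho), ?_⟩
    rw [← E.LO_mul ho, ← E.sφ hs]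
    have c2 : Commute u (F.s * (E.φ x * o)) := (u_comm hu F.ts).mul_right c1
    calc _ = E.φ x * o * (u * (F.s * (E.φ x * o))) * u * F.s := by group
      _ = E.φ x * o * (F.s * (E.φ x * o)) * (u * u) * F.s := by rw [c2.eq]; group
      _ = E.φ x * o * (F.s * E.φ x * (F.s * F.s) * o * F.s) := by
          rw [u_sq hu, F.ss]; group
      _ = _ := by group

/-- Elements of odd order. Proof: `g = φ x * o * u`; `χ` is additive on `C(t)` with values of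
order `≤ 2`, so it vanishes on elements of odd order, on `O` and on the perfect group `L`
(or: `L O` is a normal subgroup of index `≤ 4` of `C(t)` with elementary quotient; `g = (g²)ⁿ`
and squares lie in `L O`). -/
theorem oddt {g : G} (hg : Commute F.t g) (h : Odd (orderOf g)) : ∃ x, ∃ o ∈ E.O, g = E.φ x * o := by
  obtain ⟨k, hk⟩ := h
  obtain ⟨x, o, ho, e⟩ := E.sq_LO hg
  refine ⟨x ^ (k + 1), o ^ (k + 1), pow_mem ho _, ?_⟩
  rw [map_pow, ← (E.φO o ho x).symm.mul_pow, ← e, ← pow_two, ← pow_mul,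
    show 2 * (k + 1) = orderOf g + 1 by omega, pow_succ, pow_orderOf_eq_one, one_mul]

theorem oddH {g : G} (hg : Commute F.t g) (hz : Commute F.z g) (h : Odd (orderOf g)) :
    ∃ m : GB, m ^ 3 = 1 ∧ ∃ o ∈ E.O, g = E.ψ m * o := by
  obtain ⟨x, o, ho, e⟩ := E.oddt hg h
  have zo : Commute F.z o := by rw [← E.ψz]; exact (E.Oψ ho _).symm
  obtain ⟨m, hm⟩ := E.blkψ (cancel_comm (e ▸ hz) zo)
  refine ⟨m, ?_, o, ho, by rw [hm, e]⟩
  have h1 := (E.split_pow ho (e ▸ pow_orderOf_eq_one g : (E.φ x * o) ^ orderOf g = 1)).1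
  have h2 : m ^ orderOf g = 1 := E.ψ_inj (by rw [map_pow, hm, ← map_pow, h1, map_one, map_one])
  refine RB.eq_one_of_odd (Odd.of_dvd_nat h (orderOf_dvd_of_pow_eq_one ?_)) (exp24 m)
  rw [← pow_mul, mul_comm, pow_mul, h2, one_pow]

theorem odd3 {g : G} (h : g ^ 3 = 1) : Odd (orderOf g) :=
  Odd.of_dvd_nat (by decide) (orderOf_dvd_of_pow_eq_one h)

theorem oddQ {g : G} (hg : Commute F.t g) (hz : Commute F.z g) (h : Odd (orderOf g))
    (ha : Commute (F.c ^ 2) g) (hb : Commute (F.c * F.d) g) : g ∈ E.O := by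
  obtain ⟨m, h3, o, ho, rfl⟩ := E.oddH hg hz h
  rw [← E.ψa] at ha
  rw [← E.ψb] at hb
  have := cQ m h3 (E.ψ_inj (by
      rw [map_mul, map_mul]; exact (cancel_comm ha (E.Oψ ho _).symm).eq))
    (E.ψ_inj (by
      rw [map_mul E.ψ _ m, map_mul E.ψ m]; exact (cancel_comm hb (E.Oψ ho _).symm).eq))
  rwa [this, map_one, one_mul]

/-- `C_L(z, d) = V` (diagonal matrices), so `g = v o` and `g` odd gives `v = 1`. -/
theorem oddV {g : G} (hg : Commute F.t g) (hz : Commute F.z g) (hd : Commute F.d g)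
    (h : Odd (orderOf g)) : g ∈ E.O := by
  obtain ⟨m, h3, o, ho, rfl⟩ := E.oddH hg hz h
  rw [← E.ψd] at hd
  have h2 := cV m (E.ψ_inj (by
      rw [map_mul, map_mul]; exact (cancel_comm hd (E.Oψ ho _).symm).eq))
  have : m = 1 := by rwa [pow_succ, pow_two, h2, one_mul] at h3
  rwa [this, map_one, one_mul]

/-- `w = φ x * o` (`oddt`), `x` of odd order in the block `GL₂(3)`, so `x ^ 3 = 1`. If `x ≠ 1`,
then `w⁻¹ w ^ p = φ (x⁻¹ x ^ p)` is a non-trivial 2-element of `W` for `p = c²` or `p = c d`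
(`decide`). -/
theorem oddP {W : Subgroup G} (hW : Odd (Nat.card W)) (ht : ∀ w ∈ W, Commute F.t w)
    (hz : ∀ w ∈ W, Commute F.z w) (h1 : F.c ^ 2 ∈ normalizer (W : Set G))
    (h2 : F.c * F.d ∈ normalizer (W : Set G)) : W ≤ E.O := by
  intro w hw
  have ow : ∀ v ∈ W, Odd (orderOf v) := fun v hv => Odd.of_dvd_nat hW (W.orderOf_dvd_natCard hv)
  have key : ∀ p : GB, E.ψ p ∈ normalizer (W : Set G) →
      (∀ m : GB, (m⁻¹ * (p⁻¹ * m * p)) ^ 4 = 1) → Commute (E.ψ p) w := fun p hp h4 => by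
    obtain ⟨m, h3, o, ho, e⟩ := E.oddH (ht w hw) (hz w hw) (ow w hw)
    have hm := mul_mem (inv_mem hw) (norm_cj hp hw)
    have e2 : w⁻¹ * ((E.ψ p)⁻¹ * w * E.ψ p) = E.ψ (m⁻¹ * (p⁻¹ * m * p)) := by
      rw [e]
      calc _ = o⁻¹ * (E.ψ m)⁻¹ * ((E.ψ p)⁻¹ * E.ψ m * (o * E.ψ p)) := by group
        _ = o⁻¹ * E.ψ (m⁻¹ * (p⁻¹ * m * p)) * o := by
            rw [(E.Oψ ho p).eq]; simp only [map_mul, map_inv]; group
        _ = _ := Fr.cj_fix (E.Oψ ho _).symm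
    have e3 := RB.eq_one_of_odd (k := 2) (ow _ hm) (by
      rw [e2, ← map_pow]; exact (congrArg E.ψ (h4 m)).trans (map_one _))
    exact (Fr.comm_of_fix (inv_mul_eq_one.1 e3).symm).symm
  exact E.oddQ (ht w hw) (hz w hw) (ow w hw)
    (E.ψa ▸ key _ (E.ψa.symm ▸ h1) fun m => (qa m).1) (E.ψb ▸ key _ (E.ψb.symm ▸ h2) fun m => (qa m).2)

include E in
/-- `T` is the only Sylow 2-subgroup of `C(t)` above `T0`. Proof. If `T0 < Y`, `exists_c` gives
`c'` with `Cr c'`, `Y = T0 ∪ T0 c'⁻¹`. `k = c' c⁻¹` centralises `t, d, e`; `k = φ x * o * u`,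
`u` and `o` commute with `d, e`, so `x` commutes with `RA.d, e0`, `x ∈ {1, z0}`. Now
`c'² = d e = c²`. If `u ∈ {1, t}`: `o² = 1`, `o = 1`, `c' ∈ T`. If `s ≠ 1`, `u ∈ {s, t s}`:
`(s c)² = c⁶` gives `o · s o s = z`, but the left side lies in `O` (odd order). -/
theorem Tu {Y : Subgroup G} (hY : IsPGroup 2 Y) (ht : ∀ y ∈ Y, Commute F.t y) (h : F.T0 ≤ Y) :
    Y ≤ F.T := by
  rcases h.eq_or_lt with h | h
  · exact h ▸ F.T0_T
  obtain ⟨c', hc', cr, hd⟩ := F.exists_c Y hY ht h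
  suffices hT : c' ∈ F.T by
    intro y hy
    rcases hd y hy with h1 | h1
    · exact F.T0_T h1
    · exact (mul_mem_cancel_right hT).1 (F.T0_T h1)
  have fx : ∀ {y w : G}, c'⁻¹ * y * c' = w → F.c⁻¹ * y * F.c = w → Commute y (c' * F.c⁻¹) :=
    fun {y w} h1 h2 => Fr.comm_of_fix (by
      calc _ = F.c * (c'⁻¹ * y * c') * F.c⁻¹ := by group
        _ = _ := by rw [h1, ← h2]; group)
  have kd := fx cr.dc F.cr.dc
  have ke := fx cr.ec F.cr.ec
  have kz : Commute F.z (c' * F.c⁻¹) := cr.zc.mul_right F.cr.zc.inv_right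
  obtain ⟨x, o, ho, u, hu, e⟩ := E.dec' (cr.tc.mul_right F.tc.inv_right)
  have red : ∀ {p : GB}, Commute F.s (E.ψ p) → Commute (E.ψ p) (c' * F.c⁻¹) →
      Commute (E.ψ p) (E.φ x) := fun {p} hs hk => by
    have c1 : Commute (E.ψ p) (E.φ x * o * u) := by
      rcases e with e | ⟨-, e⟩ <;> rw [e] at hk
      exacts [hk, cancel_comm hk hs.symm]
    exact cancel_comm (cancel_comm c1 (u_comm hu (E.tψ p)).symm) (E.Oψ ho p).symm
  obtain ⟨m, hm⟩ := E.blkψ (x := x) (E.ψz ▸ red (E.ψz.symm ▸ F.sz) (E.ψz.symm ▸ kz))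
  rw [← hm] at red e
  have hv : E.ψ m = 1 ∨ E.ψ m = F.z := by
    rcases cD m (E.ψ_inj (by
        rw [map_mul, map_mul]; exact (red (E.ψd.symm ▸ F.sd) (E.ψd.symm ▸ kd)).eq))
      (E.ψ_inj (by
        rw [map_mul E.ψ _ m, map_mul E.ψ m]; exact (red (E.ψe.symm ▸ F.se) (E.ψe.symm ▸ ke)).eq))
      with rfl | rfl
    exacts [Or.inl (map_one _), Or.inr E.ψz]
  generalize E.ψ m = v at hv e
  have oc : Commute o F.c := E.ψc ▸ E.Oψ ho _
  have zo : Commute F.z o := by rw [← E.ψz]; exact (E.Oψ ho _).symm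
  have vc : ∀ {y}, Commute F.z y → Commute v y := fun hy => by
    rcases hv with rfl | rfl
    exacts [Commute.one_left _, hy]
  have vv : v * v = 1 := by
    rcases hv with rfl | rfl
    exacts [mul_one _, F.zz]
  have vT : v ∈ F.T := by
    rcases hv with rfl | rfl
    exacts [one_mem _, F.T0_T (F.E_T0 (F.B_E (F.V_B F.z_V)))]
  have uT : u ∈ F.T := by
    rcases hu with rfl | rfl
    exacts [one_mem _, F.T0_T (F.E_T0 F.t_E)]
  have vu : Commute v u := vc (u_comm hu F.tz).symm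
  have sq : ∀ y, Commute F.z y → Commute F.t y → v * u * y * (v * u * y) = y * y := fun y h1 h2 => by
    have c1 : Commute (v * u) y := (vc h1).mul_left (u_comm hu h2)
    calc _ = v * u * (y * (v * u)) * y := by group
      _ = v * (u * v) * u * (y * y) := by rw [← c1.eq]; group
      _ = v * v * (u * u) * (y * y) := by rw [← vu.eq]; group
      _ = _ := by rw [vv, u_sq hu]; group
  have cc := cr.cc.trans F.cr.cc.symm
  have ou : v * o * u = v * u * o := by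
    rw [mul_assoc, ← (u_comm hu (E.tO o ho)).eq, mul_assoc]
  rw [ou] at e
  rcases e with e | ⟨hs, e⟩
  · have e' : c' = v * u * (o * F.c) := by rw [← mul_assoc, ← e]; group
    rw [e', sq _ (zo.mul_right F.cr.zc) ((E.tO o ho).mul_right F.tc)] at cc
    have : o ^ 2 ^ 1 = 1 := by
      have h2 : o * o * (F.c * F.c) = F.c * F.c := by
        conv_rhs => rw [← cc]
        calc _ = o * (o * F.c) * F.c := by group
          _ = o * (F.c * o) * F.c := by rw [oc.eq]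
          _ = _ := by group
      rw [pow_one, pow_two]; exact mul_eq_right.1 h2
    rw [e', E.O_one ho this, one_mul]
    exact mul_mem (mul_mem vT uT) F.c_T
  · exfalso
    have e' : c' = v * u * (o * F.s * F.c) := by
      rw [← mul_assoc, ← mul_assoc, ← e]; group
    rw [e', sq _ ((zo.mul_right F.sz.symm).mul_right F.cr.zc)
      (((E.tO o ho).mul_right F.ts).mul_right F.tc)] at cc
    have sc := (F.sc.resolve_left hs).1
    have h2 : o * (F.s * o * F.s) * F.z * (F.c * F.c) = F.c * F.c := by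
      conv_rhs => rw [← cc]
      calc _ = o * (F.s * o * F.s) * F.c ^ 5 * F.c := by rw [Fr.z]; group
        _ = o * F.s * o * (F.s * F.s) * F.c * F.s * F.c := by rw [← sc]; group
        _ = o * F.s * (o * F.c) * F.s * F.c := by rw [F.ss]; group
        _ = _ := by rw [oc.eq]; group
    have h3 := eq_inv_of_mul_eq_one_right (mul_eq_right.1 h2)
    have h4 := E.LO (inv_mem (mul_mem ho (E.sO o ho))) (E.ψz.trans h3)
    exact F.z1 (h3.trans h4)

omit [Finite G] in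
theorem cjH {g y : G} (hz : Commute F.z g)
    (ht : g⁻¹ * F.t * g = F.t ∨ g⁻¹ * F.t * g = F.t * F.z) (h1 : Commute F.t y)
    (h2 : Commute F.z y) : Commute F.t (g⁻¹ * y * g) ∧ Commute F.z (g⁻¹ * y * g) := by
  have k2 : Commute F.z (g⁻¹ * y * g) := (hz.inv_right.mul_right h2).mul_right hz
  have k1 := comm_cj h1 g
  refine ⟨?_, k2⟩
  rcases ht with e | e <;> rw [e] at k1
  exacts [k1, (cancel_comm k1.symm k2.symm).symm]

omit [Finite G] in
theorem invH {g : G} (hz : Commute F.z g)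
    (ht : g⁻¹ * F.t * g = F.t ∨ g⁻¹ * F.t * g = F.t * F.z) :
    g⁻¹⁻¹ * F.t * g⁻¹ = F.t ∨ g⁻¹⁻¹ * F.t * g⁻¹ = F.t * F.z := by
  rcases ht with e | e
  · left; conv_lhs => rw [← e]
    group
  · right
    calc _ = g * (F.t * F.z) * (F.z * g⁻¹) := by
          rw [mul_assoc g, mul_assoc F.t, ← mul_assoc F.z, F.zz]; group
      _ = F.t * (g * (F.z * g⁻¹)) := by rw [← e]; group
      _ = _ := by rw [hz.inv_right.eq]; group

omit [Finite G] in
theorem pow_cj' (g y : G) (n : ℕ) : (g⁻¹ * y * g) ^ n = g⁻¹ * y ^ n * g := by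
  simpa using conj_pow (a := g⁻¹) (b := y) (i := n)

theorem cj3 {g : G} (hz : Commute F.z g)
    (ht : g⁻¹ * F.t * g = F.t ∨ g⁻¹ * F.t * g = F.t * F.z) {m : GB} (h3 : m ^ 3 = 1) :
    ∃ n : GB, n ^ 3 = 1 ∧ ∃ o ∈ E.O, g⁻¹ * E.ψ m * g = E.ψ n * o := by
  obtain ⟨k1, k2⟩ := cjH hz ht (E.tψ m) (E.zψ m)
  exact E.oddH k1 k2 (odd3 (by rw [pow_cj', ← map_pow, h3, map_one]; group))

/-- `g` normalises `H = C(t) ∩ C(z)`. The elements of odd order of `H` lie in `K = φ(Σ) O`,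
`Σ = ⟨c², c d, θ0⟩ = SL₂(3)` (blocks with entry `22` equal to 1). Each of `c²`, `c d` is a product
of two elements of order 3 of `φ(Σ)` (`θ⁻¹ θ ^ p`), so `p ^ g = φ x * o`, `x ∈ Σ`; `p ^ g` is a
2-element, so `o = 1` and `x ^ 4 = 1`, `x ∈ ⟨c², c d⟩` (`decide`). -/
theorem nP {g : G} (hz : Commute F.z g) (ht : g⁻¹ * F.t * g = F.t ∨ g⁻¹ * F.t * g = F.t * F.z) :
    g ∈ normalizer (E.P : Set G) := by
  have aP : F.c ^ 2 ∈ E.P := subset_closure (by simp)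
  have bP : F.c * F.d ∈ E.P := subset_closure (by simp)
  have key : ∀ p : GB, p ^ 4 = 1 → (∃ m n : GB, m ^ 3 = 1 ∧ n ^ 3 = 1 ∧ m * n = p) →
      g⁻¹ * E.ψ p * g ∈ E.P := by
    rintro _ h4 ⟨m, n, hm, hn, rfl⟩
    obtain ⟨m', hm', o, ho, e1⟩ := E.cj3 hz ht hm
    obtain ⟨n', hn', p, hp, e2⟩ := E.cj3 hz ht hn
    have e : g⁻¹ * E.ψ (m * n) * g = E.φ (ι (m' * n')) * (o * p) := by
      rw [map_mul, Fr.cj_mul, e1, e2, map_mul]; exact E.LO_mul ho
    obtain ⟨k1, k2⟩ := E.split_pow (n := 4) (mul_mem ho hp) (by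
      rw [← e, pow_cj', ← map_pow, h4, map_one]; group)
    rw [e, E.O_one (k := 2) (mul_mem ho hp) k2, mul_one]
    obtain ⟨i, j, hij⟩ := inQ m' n' hm' hn' (ι_inj (by rw [map_pow, k1, map_one]))
    rw [← ψ_def, hij, map_mul, map_pow, map_pow E.ψ (cB * dB), E.ψa, E.ψb]
    exact mul_mem (pow_mem aP _) (pow_mem bP _)
  refine Fr.norm_of fun x hx => ?_
  induction hx using closure_induction with
  | mem x hx =>
    rcases hx with rfl | rfl
    · exact E.ψa ▸ key _ misc.1 pa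
    · exact E.ψb ▸ key _ misc.2.1 pb
  | one => simp
  | mul x y _ _ h1 h2 => rw [Fr.cj_mul]; exact mul_mem h1 h2
  | inv x _ h => have := inv_mem h; convert this using 1; group

/-- `θ ^ g = φ x * o` (`oddt`), `x` of odd order acts on `c², c d` as `θ0` does, so `x = θ0`.
`O ^ g = O` (`O` = elements of odd order of `H` commuting with `c², c d`). `d' = d ^ g ∈ H`
inverts `θ o` and centralises `O ∋ o`, so `θ ^ d' = θ⁻¹ o⁻²`; `θ ^ d' ∈ L` (`nL`), `LO` gives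
`o² = 1`, `o = 1`. -/
theorem cθ {g : G} (hz : Commute F.z g) (ht : g⁻¹ * F.t * g = F.t ∨ g⁻¹ * F.t * g = F.t * F.z)
    (ha : Commute (F.c ^ 2) g) (hb : Commute (F.c * F.d) g) : Commute E.θ g := by
  obtain ⟨f1, -, -, -, -, f4, f5, f6, -⟩ := E.θ_facts
  obtain ⟨m, h3, o, ho, e⟩ := E.cj3 hz ht θf.1
  rw [E.ψθ] at e
  have key : ∀ p q : GB, Commute (E.ψ p) g → Commute (E.ψ q) g → E.θ⁻¹ * E.ψ p * E.θ = E.ψ q →
      m⁻¹ * p * m = q := fun p q hp hq h => E.ψ_inj (by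
    have h1 : (g⁻¹ * E.θ * g)⁻¹ * E.ψ p * (g⁻¹ * E.θ * g) = E.ψ q := by
      calc _ = g⁻¹ * (E.θ⁻¹ * (g⁻¹⁻¹ * E.ψ p * g⁻¹) * E.θ) * g := by group
        _ = _ := by rw [Fr.cj_fix hp.inv_right, h, Fr.cj_fix hq]
    rw [← h1, e]
    calc _ = o⁻¹ * E.ψ (m⁻¹ * p * m) * o := (Fr.cj_fix (E.Oψ ho _).symm).symm
      _ = _ := by simp only [map_mul, map_inv]; group)
  have hm : m = θB := eqθ m h3 (key _ _ (E.ψa.symm ▸ ha) (E.ψb.symm ▸ hb) (by rw [E.ψa, E.ψb, f4]))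
    (key _ _ (E.ψb.symm ▸ hb) (by
      rw [map_mul, map_mul E.ψ (cB ^ 2), E.ψa, E.ψb, E.ψz]; exact (ha.mul_left hb).mul_left hz)
      (by rw [map_mul E.ψ _ (cB ^ 4), map_mul E.ψ (cB ^ 2), E.ψa, E.ψb, E.ψz, f5]))
  rw [hm, E.ψθ] at e
  have zo : Commute F.z o := by rw [← E.ψz]; exact (E.Oψ ho _).symm
  obtain ⟨k1, k2⟩ := cjH hz.inv_right (invH hz ht) (E.tO o ho) zo
  have oa : Commute (F.c ^ 2) o := E.ψa ▸ (E.Oψ ho _).symm
  have ob : Commute (F.c * F.d) o := E.ψb ▸ (E.Oψ ho _).symm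
  have hO : g⁻¹⁻¹ * o * g⁻¹ ∈ E.O := E.oddQ k1 k2 (by
      refine Odd.of_dvd_nat (Odd.of_dvd_nat E.odd (E.O.orderOf_dvd_natCard ho))
        (orderOf_dvd_of_pow_eq_one ?_)
      rw [pow_cj', pow_orderOf_eq_one]; group)
    ((ha.inv_right.inv_right.mul_right oa).mul_right ha.inv_right)
    ((hb.inv_right.inv_right.mul_right ob).mul_right hb.inv_right)
  have dO : Commute (g⁻¹ * F.d * g) o := by
    have := comm_cj (E.ψd ▸ (E.Oψ hO dB).symm : Commute F.d _) g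
    convert this using 1; group
  obtain ⟨y, hy⟩ := (E.nL (cjH hz ht F.td F.zd).1).1 θ0
  have di : F.d⁻¹ = F.d := inv_eq_of_mul_eq_one_right F.dd
  have h1 : (g⁻¹ * F.d * g)⁻¹ * (E.θ * o) * (g⁻¹ * F.d * g) = (E.θ * o)⁻¹ := by
    rw [← e]
    calc _ = g⁻¹ * (F.d⁻¹ * E.θ * F.d) * g := by group
      _ = _ := by rw [di, f6]; group
  rw [Fr.cj_mul, Fr.cj_fix dO.symm] at h1
  have hy' : (g⁻¹ * F.d * g)⁻¹ * E.θ * (g⁻¹ * F.d * g) = E.φ y := hy
  have θo : Commute o E.θ := E.φO o ho _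
  have h2 : E.φ (θ0 * y) = (o * o)⁻¹ := by
    rw [map_mul, ← hy', eq_mul_inv_of_mul_eq h1, ← θo.eq]
    show E.θ * _ = _
    group
  have h4 := E.LO (inv_mem (mul_mem ho ho)) h2
  rw [E.O_one ho (k := 1) (by rw [pow_one, pow_two]; exact inv_eq_one.1 h4), mul_one] at e
  exact Fr.comm_of_fix e

include E in
/-- `γ = s c²` centralises `c²`, `c d`, `t`. `g = φ x * o * u`; replacing `g` by `g γ` assume
`u ∈ {1, t}`. Then `γ` centralises `φ x` (`LO`), i.e. `(c²)⁻¹ σ(x) c² = x`, and `x` swaps `c²`,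
`c d`, so commutes with `z0`; `decide` on blocks shows that there is no such `x`
(the first condition says `x ∈ SL₂(3)`). -/
theorem cγ (h2 : F.s ≠ 1) {g : G} (ht : Commute F.t g) (hγ : Commute (F.s * F.c ^ 2) g)
    (ha : g⁻¹ * F.c ^ 2 * g = F.c * F.d) (hb : g⁻¹ * (F.c * F.d) * g = F.c ^ 2) : False := by
  obtain ⟨-, -, q3, -, q5, q6⟩ := misc
  have γcj : ∀ x, (F.s * F.c ^ 2) * E.φ x * (F.s * F.c ^ 2)⁻¹ =
      E.φ (RA.σ (ι (cB ^ 2) * x * (ι (cB ^ 2))⁻¹)) := fun x => by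
    rw [← E.sφ h2, map_mul, map_mul, map_inv, ← ψ_def, E.ψa, mul_inv_rev, s_inv']; group
  have γψ : ∀ m, (F.s * F.c ^ 2) * E.ψ m * (F.s * F.c ^ 2)⁻¹ =
      E.ψ ((cB ^ 2 * m * (cB ^ 2)⁻¹).tr⁻¹) := fun m => by
    rw [ψ_def, γcj, ← map_inv, ← map_mul, ← map_mul, σ_ι]; rfl
  have sa : Commute F.s (F.c ^ 2) := by
    have := E.sψ h2 (cB ^ 2)
    rw [q6, E.ψa] at this
    exact (Fr.comm_of_fix (by rw [s_inv']; exact this)).symm
  have γa : Commute (F.c ^ 2) (F.s * F.c ^ 2) := sa.symm.mul_right (Commute.refl _)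
  have γb : Commute (F.c * F.d) (F.s * F.c ^ 2) := by
    have := γψ (cB * dB)
    rw [q5, E.ψb] at this
    exact (mul_inv_eq_iff_eq_mul.1 this).symm
  have tγ : Commute F.t (F.s * F.c ^ 2) := F.ts.mul_right (F.tc.pow_right 2)
  have main : ∀ {x : SL33} {o u : G}, o ∈ E.O → (u = 1 ∨ u = F.t) →
      Commute (F.s * F.c ^ 2) (E.φ x * o * u) →
      (E.φ x * o * u)⁻¹ * F.c ^ 2 * (E.φ x * o * u) = F.c * F.d →
      (E.φ x * o * u)⁻¹ * (F.c * F.d) * (E.φ x * o * u) = F.c ^ 2 → False := by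
    intro x o u ho hu hγ ha hb
    have k1 : ∀ p q : GB, (E.φ x * o * u)⁻¹ * E.ψ p * (E.φ x * o * u) = E.ψ q →
        (E.φ x)⁻¹ * E.ψ p * E.φ x = E.ψ q := fun p q h => by
      calc _ = (o * u)⁻¹⁻¹ * ((E.φ x * o * u)⁻¹ * E.ψ p * (E.φ x * o * u)) * (o * u)⁻¹ := by group
        _ = _ := by
          rw [h, Fr.cj_fix ((E.Oψ ho q).mul_left (u_comm hu (E.tψ q))).symm.inv_right]
    have a1 := k1 (cB ^ 2) (cB * dB) (by rw [E.ψa, E.ψb, ha])
    have b1 := k1 (cB * dB) (cB ^ 2) (by rw [E.ψa, E.ψb, hb])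
    obtain ⟨m, hm⟩ := E.blkψ (x := x) (Fr.comm_of_fix (by
      conv_rhs => rw [← E.ψz, ← q3, map_pow, ← a1, pow_cj', ← map_pow, ← pow_mul, E.ψz]))
    rw [← hm] at a1 b1 hγ
    refine noγ m (E.ψ_inj (by rw [← a1]; simp only [map_mul, map_inv]))
      (E.ψ_inj (by rw [← b1]; simp only [map_mul, map_inv])) (E.ψ_inj ?_)
    have c1 := cancel_comm hγ (u_comm hu tγ).symm
    have oa : Commute (F.c ^ 2) o := E.ψa ▸ (E.Oψ ho _).symm
    have e1 : E.ψ ((cB ^ 2 * m * (cB ^ 2)⁻¹).tr⁻¹) * (F.s * o * F.s) = E.ψ m * o := by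
      rw [← γψ]
      calc _ = F.s * F.c ^ 2 * E.ψ m * ((F.c ^ 2)⁻¹ * (F.s⁻¹ * F.s) * o * F.s) := by group
        _ = F.s * F.c ^ 2 * (E.ψ m * o) * (F.s * F.c ^ 2)⁻¹ := by
            rw [inv_mul_cancel, mul_one, oa.inv_left.eq, mul_inv_rev, s_inv']; group
        _ = _ := by rw [c1.eq]; group
    have e2 : E.φ (ι (m⁻¹ * (cB ^ 2 * m * (cB ^ 2)⁻¹).tr⁻¹)) = o * (F.s * o * F.s)⁻¹ := by
      rw [← ψ_def, map_mul, map_inv, eq_mul_inv_of_mul_eq e1]; group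
    have e3 := E.LO (mul_mem ho (inv_mem (E.sO o ho))) e2
    rw [← mul_inv_eq_one.1 e3] at e1
    exact mul_right_cancel e1
  obtain ⟨x, o, ho, u, hu, e | ⟨-, e⟩⟩ := E.dec' ht
  · exact main ho hu (e ▸ hγ) (e ▸ ha) (e ▸ hb)
  · have oa : Commute (F.c ^ 2) o := E.ψa ▸ (E.Oψ ho _).symm
    have ua : Commute u (F.c ^ 2) := u_comm hu (F.tc.pow_right 2)
    have e' : g * (F.s * F.c ^ 2)⁻¹ = E.φ (x * (ι (cB ^ 2))⁻¹) * o * u := by
      rw [e, map_mul, map_inv, ← ψ_def, E.ψa, sa.eq]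
      calc _ = E.φ x * (o * u * (F.c ^ 2)⁻¹) := by group
        _ = _ := by rw [(oa.symm.mul_left ua).inv_right.eq]; group
    refine main (x := x * (ι (cB ^ 2))⁻¹) ho hu (e' ▸ hγ.mul_right (Commute.refl _).inv_right) ?_ ?_
    · rw [← e']
      calc _ = (F.s * F.c ^ 2)⁻¹⁻¹ * (g⁻¹ * F.c ^ 2 * g) * (F.s * F.c ^ 2)⁻¹ := by group
        _ = _ := by rw [ha, Fr.cj_fix γb.inv_right]
    · rw [← e']
      calc _ = (F.s * F.c ^ 2)⁻¹⁻¹ * (g⁻¹ * (F.c * F.d) * g) * (F.s * F.c ^ 2)⁻¹ := by group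
        _ = _ := by rw [hb, Fr.cj_fix γa.inv_right]

/-- If `s = 1` the 2-elements of `C(t)` centralise `O` (`g = φ x * o * u`, `u ∈ {1, t}`, `o = 1`). -/
theorem two_O (h1 : F.s = 1) {g : G} (ht : Commute F.t g) {k : ℕ} (hk : g ^ 2 ^ k = 1) :
    ∀ o ∈ E.O, Commute g o := by
  obtain ⟨x, o, ho, u, hu, rfl | ⟨hs, -⟩⟩ := E.dec' ht
  · have c1 : Commute (E.φ x * o) u := (u_comm hu ((E.tφ x).mul_right (E.tO o ho))).symm
    have h2 : (E.φ x * o) ^ 2 ^ (k + 1) = 1 := by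
      have : (E.φ x * o * u) ^ 2 ^ (k + 1) = 1 := by rw [pow_succ, pow_mul, hk, one_pow]
      rwa [c1.mul_pow, pow_succ' 2, pow_mul u, pow_two u, u_sq hu, one_pow, mul_one, ← pow_succ'] at this
    rw [E.O_one ho (E.split_pow ho h2).2, mul_one]
    exact fun p hp => (E.φO p hp x).symm.mul_left (u_comm hu (E.tO p hp))
  · exact absurd h1 hs

include E in
/-- `H = C(t) ∩ C(z)`: `O` is normal, solvable (Feit-Thompson, `SOLV/OddOrderCor`), and `H / O`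
has order dividing `48 · 4`, with the normal series `1 ≤ ⟨c², c d⟩ ≤ Σ ≤ ...`: `H' ≤ φ(Σ) O`
can be seen from the homomorphisms `χ` and the entry `22`; `P O` is normal in `H` (`nP`). Any
other route is fine (e.g. Burnside `pᵃ qᵇ` for `H / O`). -/
theorem solv : Group.IsSolvable (centralizer ({F.t, F.z} : Set G)) := by
  have := solv_GB
  have := CL.isSolvable_of_odd E.O E.odd
  let f : GB × E.O →* G := MonoidHom.noncommCoprod E.ψ E.O.subtype fun m o => (E.Oψ o.2 m).symm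
  have hK : Group.IsSolvable f.range := Group.isSolvable_of_surjective f.rangeRestrict_surjective
  set H := centralizer ({F.t, F.z} : Set G)
  have sq : ∀ g : H, (g : G) * g ∈ f.range := fun g => by
    have h1 : Commute F.t g := g.2 _ (by simp)
    have h2 : Commute F.z g := g.2 _ (by simp)
    obtain ⟨x, o, ho, e⟩ := E.sq_LO h1
    have zo : Commute F.z o := by rw [← E.ψz]; exact (E.Oψ ho _).symm
    obtain ⟨m, hm⟩ := E.blkψ (cancel_comm (e ▸ h2.mul_right h2) zo)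
    exact ⟨(m, ⟨o, ho⟩), by rw [e, ← hm]; rfl⟩
  have hc : commutator H ≤ f.range.comap H.subtype := by
    rw [commutator_def, commutator_le]
    intro a _ b _
    have := mul_mem (mul_mem (sq a) (sq (a⁻¹ * b))) (sq b⁻¹)
    rw [mem_comap, commutatorElement_def]
    convert this using 1
    simp only [map_mul, map_inv, coe_subtype, coe_mul, coe_inv]; group
  have h1 : Group.IsSolvable (f.range.comap H.subtype) :=
    Group.isSolvable_of_isSolvable_injective (f := (H.subtype.subgroupComap f.range))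
      fun a b h => Subtype.ext (Subtype.ext (congrArg (fun y : f.range => (y : G)) h))
  exact Group.isSolvable_of_ker_le_range (f.range.comap H.subtype).subtype (Abelianization.of (G := H))
    (by rw [Abelianization.ker_of, range_subtype]; exact hc)

end CL.H3.Ex
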