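import Cfsg.Agent.INV.H3.Def5
import Cfsg.Agent.INV.H3.Loc1
import Cfsg.Agent.INV.H3.Loc2

/-! S3140, case `PSp₆(3)`: `t ∉ X` and the subgroup `P ^ h` (first half of `CT`). -/

set_option autoImplicit false
open Subgroup

namespace CL.H3.CT1
open CL.HL Qm SemidirectProduct
variable {G : Type*} [Group G] [Finite G] {F : Fr G} {ε : Bool} (C : Cm F ε)

/-! ### the model -/

theorem q_cj : ∀ p q : Qm ε, p * q * p⁻¹ = q * 1 ∨ p * q * p⁻¹ = q * Z := by cases ε <;> decide +kernel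

theorem q_four : ∀ p : Qm ε, p * p * (p * p) = 1 := by cases ε <;> decide +kernel

theorem q_V : ∀ a b c : Qm ε, (a = 1 ∨ a = Z) → (b = 1 ∨ b = Z) → (c = 1 ∨ c = Z) →
    ∃ v ∈ ({1, (1, 1, Z), (Z, 1, 1), (Z, 1, Z)} : Finset (N3 ε)), (a, b, c) = v ∨ (a, b, c) = v * (Z, Z, Z) := by
  rintro _ _ _ (rfl | rfl) (rfl | rfl) (rfl | rfl) <;> cases ε <;> decide +kernel

/-- equal modulo `Z` -/
abbrev R (p q : Qm ε) : Prop := q = p ∨ q = p * Z

theorem R_mul : ∀ p p' : Qm ε, R p p' → ∀ q q' : Qm ε, R q q' → R (p * q) (p' * q') ∧ R (p * q') (p' * q) ∧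
    ((p * q * p'⁻¹ = q ∧ p' * q' * p⁻¹ = q') ∨ (p * q * p'⁻¹ = q * Z ∧ p' * q' * p⁻¹ = q' * Z)) ∧
    ((p * q' * p'⁻¹ = q ∧ p' * q * p⁻¹ = q') ∨ (p * q' * p'⁻¹ = q * Z ∧ p' * q * p⁻¹ = q' * Z)) := by
  cases ε <;> decide +kernel

theorem R_inv : ∀ p p' : Qm ε, R p p' → R p⁻¹ p'⁻¹ ∧ R p'⁻¹ p⁻¹ ∧ p * p' * (p * p') = 1 ∧ p' * p * (p' * p) = 1 := by
  cases ε <;> decide +kernel

theorem R_of : ∀ p q : Qm ε, p * q = 1 ∨ p * q = 1 * Z → R p q := by cases ε <;> decide +kernel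

/-- `F0 ⟨e⟩` -/
def Hs (ε : Bool) : Subgroup (SM ε) where
  carrier := {y | y.right.t = false ∧ R y.left.1 y.left.2.1}
  one_mem' := ⟨rfl, Or.inl rfl⟩
  mul_mem' := by
    rintro ⟨⟨p, p', x⟩, ⟨_ | _, _⟩⟩ ⟨⟨q, q', x'⟩, ⟨e, _⟩⟩ ⟨rfl, h⟩ ⟨rfl, h'⟩
    · exact ⟨rfl, (R_mul p p' h q q' h').1⟩
    · exact ⟨rfl, (R_mul p p' h q q' h').2.1⟩
  inv_mem' := by
    rintro ⟨⟨p, p', x⟩, ⟨_ | _, _⟩⟩ ⟨rfl, h⟩
    · exact ⟨rfl, (R_inv p p' h).1⟩
    · exact ⟨rfl, (R_inv p p' h).2.1⟩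

theorem card_Hs : 256 ≤ Nat.card (Hs ε) := by
  have hZ : ∀ p : Qm ε, p ≠ p * Z := by cases ε <;> decide +kernel
  let ι : Qm ε × Qm ε × Bool × Bool → Hs ε := fun a =>
    ⟨⟨(a.1, bif a.2.2.1 then a.1 * Z else a.1, a.2.1), ⟨a.2.2.2, false⟩⟩, rfl, by cases a.2.2.1 <;> simp [R]⟩
  have hι : Function.Injective ι := by
    rintro ⟨p, x, v, e⟩ ⟨p', x', v', e'⟩ h
    have h1 := congrArg (fun y : Hs ε => y.1.left) h
    have h2 := congrArg (fun y : Hs ε => y.1.right.e) h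
    simp only [ι, Prod.mk.injEq] at h1 h2
    obtain ⟨rfl, h3, rfl⟩ := h1
    subst h2
    cases v <;> cases v'
    exacts [rfl, absurd h3 (hZ p), absurd h3.symm (hZ p), rfl]
  have := Nat.card_le_card_of_injective ι hι
  rwa [Nat.card_prod, Nat.card_prod, Nat.card_prod, Qm.card, Nat.card_eq_fintype_card, Fintype.card_bool] at this

theorem Hs_four {y : SM ε} (hy : y ∈ Hs ε) : y * y * (y * y) = 1 := by
  obtain ⟨⟨p, p', x⟩, ⟨_ | _, _⟩⟩ := y <;> obtain ⟨rfl, h⟩ := hy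
  · exact SemidirectProduct.ext (Prod.ext (q_four p) (Prod.ext (q_four p') (q_four x))) rfl
  · exact SemidirectProduct.ext (Prod.ext (R_inv p p' h).2.2.1 (Prod.ext (R_inv p p' h).2.2.2 (q_four x))) rfl

theorem Hs_cj {y : SM ε} (hy : y ∈ Hs ε) {q q' x' : Qm ε} (h' : R q q') : ∃ a c : Qm ε, (a = 1 ∨ a = Z) ∧
    (c = 1 ∨ c = Z) ∧ y * ⟨(q, q', x'), ⟨true, false⟩⟩ * y⁻¹ = ⟨(q, q', x'), ⟨true, false⟩⟩ * inl (a, a, c) := by
  obtain ⟨⟨p, p', x⟩, ⟨e, _⟩⟩ := y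
  obtain ⟨rfl, h⟩ := hy
  obtain ⟨c, hc, e3⟩ : ∃ c : Qm ε, (c = 1 ∨ c = Z) ∧ x * x' * x⁻¹ = x' * c :=
    (q_cj x x').elim (fun e => ⟨1, Or.inl rfl, e⟩) fun e => ⟨Z, Or.inr rfl, e⟩
  cases e
  · rcases (R_mul p p' h q q' h').2.2.1 with ⟨e1, e2⟩ | ⟨e1, e2⟩
    · exact ⟨1, c, Or.inl rfl, hc, SemidirectProduct.ext
        (Prod.ext (e1.trans (mul_one _).symm) (Prod.ext (e2.trans (mul_one _).symm) e3)) rfl⟩
    · exact ⟨Z, c, Or.inr rfl, hc, SemidirectProduct.ext (Prod.ext e1 (Prod.ext e2 e3)) rfl⟩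
  · rcases (R_mul p p' h q q' h').2.2.2 with ⟨e1, e2⟩ | ⟨e1, e2⟩
    · exact ⟨1, c, Or.inl rfl, hc, SemidirectProduct.ext
        (Prod.ext (e1.trans (mul_one _).symm) (Prod.ext (e2.trans (mul_one _).symm) e3)) rfl⟩
    · exact ⟨Z, c, Or.inr rfl, hc, SemidirectProduct.ext (Prod.ext e1 (Prod.ext e2 e3)) rfl⟩

/-- the elements of `N3` that commute with `t e` -/
def mk (p u : Qm ε) : N3 ε := (p, τ p * (u * u), u)

theorem mk_of : ∀ p q u : Qm ε, ((τ q, τ p, τ u) : N3 ε) = (p, q, u) ∨ ((τ q, τ p, τ u) : N3 ε) = (p, q, u) * (Z, Z, Z) →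
    u.b = false ∧ q = τ p * (u * u) := by
  cases ε <;> decide +kernel

theorem mk_cm : ∀ (p : Qm ε) (n : ZMod 4), act3 ⟨true, true⟩ (mk p ⟨n, false⟩) = mk p ⟨n, false⟩ ∨
    act3 ⟨true, true⟩ (mk p ⟨n, false⟩) = mk p ⟨n, false⟩ * (Z, Z, Z) := by
  cases ε <;> decide +kernel

/-- the square is `z` -/
def Sq (a : N3 ε) : Prop := a = (1, 1, Z) ∨ a = (1, 1, Z) * (Z, Z, Z)

instance (a : N3 ε) : Decidable (Sq a) := by unfold Sq; infer_instance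

theorem mk_e : ∀ (p : Qm ε) (n : ZMod 4), ¬ Sq (mk p ⟨n, false⟩ * act3 ⟨true, false⟩ (mk p ⟨n, false⟩)) := by
  cases ε <;> decide +kernel

theorem mk_dec : ∀ (p : Qm ε) (n : ZMod 4), ∃ i j : ZMod 4, mk p ⟨n, false⟩ =
    (I, 1, 1) ^ i.val * (1, I, 1) ^ j.val * (1, 1, I) ^ n.val * (W, W, 1) ^ p.b.toNat := by
  cases ε <;> decide +kernel

theorem mk_i : ∀ (p : Qm ε) (n : ZMod 4), (1, 1, I) * mk p ⟨n, false⟩ = mk p ⟨n, false⟩ * (1, 1, I) ∧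
    (Z, 1, 1) * mk p ⟨n, false⟩ = mk p ⟨n, false⟩ * (Z, 1, 1) := by
  cases ε <;> decide +kernel

/-- the required shape of the conjugate of `j` -/
def Gd (q : N3 ε) : Prop := q.1.b = true ∧ q.2.1.b = true ∧ (q.1.a + q.2.1.a).val % 2 = 1

instance (a : N3 ε) : Decidable (Gd a) := by unfold Gd; infer_instance

/-- the pairs -/
def Pr (a b : N3 ε) : Prop := (ε = true → (a.2.2 = 1 ∨ a.2.2 = Z) ∧ (b.2.2 = 1 ∨ b.2.2 = Z)) ∧
  ∃ m : Fin 4, ∃ n : Fin 2, ((I, I⁻¹, 1) = a ^ m.val * b ^ n.val ∨ (I, I⁻¹, 1) = a ^ m.val * b ^ n.val * (Z, Z, Z)) ∧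
    Gd (b ^ m.val * (a * b * (1, 1, Z)) ^ n.val)

instance (a b : N3 ε) : Decidable (Pr a b) := by unfold Pr; infer_instance

theorem pairs : ∀ (p : Qm ε) (n : ZMod 4), Sq (mk p ⟨n, false⟩ * mk p ⟨n, false⟩) → ∀ (p' : Qm ε) (n' : ZMod 4),
    Sq (mk p' ⟨n', false⟩ * mk p' ⟨n', false⟩) →
    Sq (mk p ⟨n, false⟩ * mk p' ⟨n', false⟩ * (mk p ⟨n, false⟩ * mk p' ⟨n', false⟩)) →
    Pr (mk p ⟨n, false⟩) (mk p' ⟨n', false⟩) := by
  cases ε <;> decide +kernel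

/-! ### counting -/

omit [Finite G] in
theorem fib {α β : Type*} [Finite α] (ι : α → SM ε) (hι : Function.Injective ι) (t : Finset β) (φ : α → β)
    (hm : ∀ a, φ a ∈ t) (hi : ∀ a a', φ a = φ a' → C.f (ι a) = C.f (ι a')) : Nat.card α ≤ 2 * t.card := by
  classical
  have := Fintype.ofFinite α
  rw [Nat.card_eq_fintype_card, ← Finset.card_univ]
  refine Finset.card_le_mul_card_image_of_maps_to (f := φ) (fun a _ => hm a) 2 fun b _ => ?_
  rcases (Finset.univ.filter fun a => φ a = b).eq_empty_or_nonempty with h | ⟨a, ha⟩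
  · rw [h]; simp
  · refine (Finset.card_le_card_of_injOn (t := {ι a, ι a * inl (Z, Z, Z)}) ι (fun a' ha' => ?_) hι.injOn).trans
      Finset.card_le_two
    have := C.f_eq.1 (hi a' a ((Finset.mem_filter.1 ha').2.trans (Finset.mem_filter.1 ha).2.symm))
    simpa using this

omit [Finite G] in
theorem orb {H : Type*} [Group H] [Finite H] (φ : H →* G) (u : G) (t : Finset G) (h : ∀ p, φ p * u * (φ p)⁻¹ ∈ t) :
    Nat.card H ≤ Nat.card ((centralizer {u}).comap φ) * t.card := by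
  set K := (centralizer {u}).comap φ
  have key : ∀ p q : H, p⁻¹ * q ∈ K ↔ φ p * u * (φ p)⁻¹ = φ q * u * (φ q)⁻¹ := fun p q => by
    rw [mem_comap, mem_centralizer_singleton_iff, map_mul, map_inv]
    constructor
    · intro e
      calc _ = φ p * (u * ((φ p)⁻¹ * φ q)) * (φ q)⁻¹ := by group
        _ = _ := by rw [← e]; group
    · intro e
      calc _ = (φ p)⁻¹ * (φ q * u * (φ q)⁻¹) * φ q := by group
        _ = _ := by rw [← e]; group
  let f : H ⧸ K → t := Quotient.lift (fun p => ⟨_, h p⟩) fun p q e =>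
    Subtype.ext ((key p q).1 (QuotientGroup.leftRel_apply.1 e))
  have hf : Function.Injective f := by
    rintro ⟨p⟩ ⟨q⟩ e
    exact QuotientGroup.eq.2 ((key p q).2 (congrArg Subtype.val e))
  rw [← K.card_mul_index]
  exact Nat.mul_le_mul_left _ ((Nat.card_le_card_of_injective f hf).trans (by simp))

theorem cnt {u : G} (hu : IsConj F.t u) {α : Type*} [Finite α] (ι : α → SM ε) (hι : Function.Injective ι)
    (hc : ∀ a, Commute u (C.f (ι a))) (h4 : ∀ a, ι a * ι a * (ι a * ι a) = 1) : Nat.card α ≤ 96 := by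
  obtain ⟨k, hk⟩ := L2x.into F hu (Y := C.f.range ⊓ centralizer {u}) (C.syl.pgroup.to_inf_left)
    fun y hy => (mem_centralizer_singleton_iff.1 hy.2).symm
  choose! φ ok e using hk
  have hm : ∀ a, C.f (ι a) ∈ C.f.range ⊓ centralizer {u} := fun a =>
    ⟨⟨_, rfl⟩, mem_centralizer_singleton_iff.2 (hc a).symm.eq⟩
  refine (fib C ι hι (Finset.univ.filter fun x : Md => x * x * (x * x) = 1) (fun a => φ (C.f (ι a)))
    (fun a => Finset.mem_filter.2 ⟨Finset.mem_univ _, F.w_eq_one (F.ok2 C.two _) ?_⟩) fun a a' h => ?_).trans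
    (by decide +kernel)
  · rw [F.w_mul _ (F.ok2 C.two _), F.w_mul _ (F.ok2 C.two _), e _ (hm a), ← Fr.cj_mul, ← Fr.cj_mul, ← map_mul,
      ← map_mul, h4, map_one]
    group
  · have := e _ (hm a)
    rw [h, e _ (hm a'), mul_left_inj, mul_right_inj] at this
    exact this.symm

omit [Finite G] in
theorem gζ (q : N3 ε) : C.g (q * (Z, Z, Z)) = C.g q := C.f_eq.2 (Or.inr (map_mul inl _ _))

theorem noM {x : G} (hx : x ∈ C.M) : ¬ IsConj F.t x := by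
  classical
  intro hu
  obtain ⟨⟨⟨q, q', x'⟩, ⟨_ | _, _⟩⟩, rfl, rfl⟩ := C.mem_M.1 hx
  · change IsConj F.t (C.g (q, q', x')) at hu
    have h1 := orb C.g (C.g (q, q', x'))
      (({1, (1, 1, Z), (Z, 1, 1), (Z, 1, Z)} : Finset (N3 ε)).image fun v => C.g ((q, q', x') * v)) (by
        rintro ⟨p, p', x⟩
        have key : ∀ p q : Qm ε, ∃ c : Qm ε, (c = 1 ∨ c = Z) ∧ p * q * p⁻¹ = q * c := fun p q =>
          (q_cj p q).elim (fun e => ⟨1, Or.inl rfl, e⟩) fun e => ⟨Z, Or.inr rfl, e⟩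
        obtain ⟨a, ha, e1⟩ := key p q
        obtain ⟨b, hb, e2⟩ := key p' q'
        obtain ⟨c, hc, e3⟩ := key x x'
        obtain ⟨v, hv, e⟩ := q_V a b c ha hb hc
        refine Finset.mem_image.2 ⟨v, hv, ?_⟩
        rw [← map_inv, ← map_mul, ← map_mul, show (p, p', x) * (q, q', x') * (p, p', x)⁻¹ = (q, q', x') * (a, b, c) from
          Prod.ext e1 (Prod.ext e2 e3)]
        rcases e with e | e <;> rw [e]
        rw [← mul_assoc, gζ])
    have h2 := cnt C hu (fun a : (centralizer {C.g (q, q', x')}).comap C.g => inl a.1)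
      (inl_injective.comp Subtype.val_injective) (fun a => (mem_centralizer_singleton_iff.1 a.2).symm) fun a => by
        rw [← map_mul, ← map_mul]
        exact (congrArg inl (Prod.ext (q_four _) (Prod.ext (q_four _) (q_four _)))).trans (map_one _)
    have h3 := (Finset.card_image_le (s := ({1, (1, 1, Z), (Z, 1, 1), (Z, 1, Z)} : Finset (N3 ε)))
      (f := fun v => C.g ((q, q', x') * v))).trans Finset.card_le_four
    rw [Nat.card_prod, Nat.card_prod, Qm.card] at h1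
    nlinarith
  · set y : SM ε := ⟨(q, q', x'), ⟨true, false⟩⟩ with hy
    have hR : R q q' := by
      obtain ⟨k, hk⟩ := isConj_iff.1 hu
      have : C.f (y * y) = C.f 1 := by
        rw [map_mul, ← hk, map_one]
        calc _ = k * (F.t * F.t) * k⁻¹ := by group
          _ = 1 := by rw [F.tt]; group
      exact R_of q q' ((C.f_eq.1 this).imp (congrArg fun w : SM ε => w.left.1) (congrArg fun w : SM ε => w.left.1))
    have h1 := orb (C.f.comp (Hs ε).subtype) (C.f y) {C.f y, C.f y * F.z} fun p => by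
      obtain ⟨a, c, ha, hc, e⟩ := Hs_cj p.2 (x' := x') hR
      change C.f p * C.f y * (C.f p)⁻¹ ∈ _
      rw [← map_inv, ← map_mul, ← map_mul, e, map_mul, ← C.fz, Finset.mem_insert, Finset.mem_singleton,
        mul_eq_left, mul_right_inj, C.ker, C.f_eq]
      rcases ha with rfl | rfl <;> rcases hc with rfl | rfl <;> cases ε <;> decide +kernel
    have h2 := cnt C hu (fun a : (centralizer {C.f y}).comap (C.f.comp (Hs ε).subtype) => a.1.1)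
      (Subtype.val_injective.comp Subtype.val_injective) (fun a => (mem_centralizer_singleton_iff.1 a.2).symm)
      fun a => Hs_four a.1.2
    have h3 : ({C.f y, C.f y * F.z} : Finset G).card ≤ 2 := Finset.card_le_two
    have h4 := card_Hs (ε := ε)
    nlinarith

include C in
theorem tX (E : Ex F) : F.t ∉ E.X := by
  refine E.tX (M := C.M) C.syl (fun x hx => ?_) ⟨_, C.ft⟩ ?_ fun g hg => noM C hg
  · obtain ⟨y, -, e⟩ := C.mem_M.1 hx
    exact ⟨y, e⟩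
  · rintro _ ⟨⟨q, ⟨e, _ | _⟩⟩, rfl⟩
    · exact Or.inl (C.mem_M.2 ⟨_, rfl, rfl⟩)
    · exact Or.inr (C.mem_M.2 ⟨⟨q, ⟨e, true⟩⟩ * tM, rfl, (map_mul _ _ _).trans (congrArg _ C.ft)⟩)

omit [Finite G] in
theorem zf (y : SM ε) : Commute F.z (C.f y) := by
  have h : ∀ p : Qm ε, Z * p = p * Z := by cases ε <;> decide +kernel
  rw [← C.fz]
  refine Commute.map (x := (inl (1, 1, Z) : SM ε)) (y := y) ?_ C.f
  obtain ⟨⟨p, q, u⟩, ⟨_ | _, _ | _⟩⟩ := y <;> refine SemidirectProduct.ext (Prod.ext ?_ (Prod.ext ?_ ?_)) rfl <;>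
    first
    | exact (one_mul _).trans (mul_one _).symm
    | exact h u
    | exact (one_mul _).trans ((mul_one _).symm.trans (congrArg _ (map_one τ).symm))

omit [Finite G] in
theorem h_facts : C.h⁻¹ * F.t * C.h = F.t * F.e ∧ Commute F.z C.h ∧ C.h⁻¹ * F.d * C.h = F.e := by
  have h1 : (C.g (I, 1, 1))⁻¹ * F.t * C.g (I, 1, 1) = F.t * F.d := by
    rw [C.g_def, ← C.ft, ← C.fd, ← map_inv, ← map_mul, ← map_mul, ← map_mul]
    exact congrArg _ (by cases ε <;> decide +kernel)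
  have h2 : (C.g (I, 1, 1))⁻¹ * F.d * C.g (I, 1, 1) = F.d := by
    rw [C.g_def, ← C.fd, ← map_inv, ← map_mul, ← map_mul]
    exact congrArg _ (by cases ε <;> decide +kernel)
  have h3 : (F.c * F.d)⁻¹ * F.d * (F.c * F.d) = F.e := by
    calc _ = F.d⁻¹ * (F.c⁻¹ * F.d * F.c) * F.d := by group
      _ = _ := by
        rw [F.cr.dc, Fr.cj_mul, Fr.cj_fix F.zd, inv_eq_of_mul_eq_one_right F.dd, F.ded, mul_assoc, F.zz, mul_one]
  have h4 : ∀ x, C.h⁻¹ * x * C.h = (F.c * F.d)⁻¹ * ((C.g (I, 1, 1))⁻¹ * x * C.g (I, 1, 1)) * (F.c * F.d) :=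
    fun x => by rw [Cm.h]; group
  refine ⟨?_, (zf C _).mul_right (F.cr.zc.mul_right F.zd), by rw [h4, h2, h3]⟩
  rw [h4, h1, Fr.cj_mul, Fr.cj_fix (F.tc.mul_right F.td), h3]

omit [Finite G] in
theorem te_cm (y : SM ε) : Commute (F.t * F.e) (C.f y) ↔
    act3 ⟨true, true⟩ y.left = y.left ∨ act3 ⟨true, true⟩ y.left = y.left * (Z, Z, Z) := by
  have hz : ∀ k : Kb, act3 k ((Z, Z, Z) : N3 ε) = (Z, Z, Z) := by cases ε <;> decide +kernel
  have hk : ∀ k : Kb, (⟨true, true⟩ : Kb) * k = k * ⟨true, true⟩ := by decide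
  have e : (tM * eM : SM ε) = inr ⟨true, true⟩ := by rw [tM, eM, ← map_mul]; rfl
  rw [← C.ft, ← C.fe, ← map_mul, e, Commute, SemiconjBy, ← map_mul, ← map_mul, C.f_eq]
  obtain ⟨a, k⟩ := y
  have e1 : (inr ⟨true, true⟩ * ⟨a, k⟩ : SM ε) = ⟨act3 ⟨true, true⟩ a, k * ⟨true, true⟩⟩ :=
    SemidirectProduct.ext (one_mul _) (hk k)
  have e2 : (⟨a, k⟩ * inr ⟨true, true⟩ : SM ε) = ⟨a, k * ⟨true, true⟩⟩ :=
    SemidirectProduct.ext ((congrArg _ (map_one (φ3 k))).trans (mul_one a)) rfl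
  have e3 : (⟨a, k * ⟨true, true⟩⟩ * inl (Z, Z, Z) : SM ε) = ⟨a * (Z, Z, Z), k * ⟨true, true⟩⟩ :=
    SemidirectProduct.ext (by
      change a * act3 (k * ⟨true, true⟩) (Z, Z, Z) = a * (Z, Z, Z)
      rw [hz]) (mul_one _)
  rw [e1, e2, e3]
  exact or_congr ⟨congrArg left, fun h => SemidirectProduct.ext h rfl⟩ ⟨congrArg left, fun h => SemidirectProduct.ext h rfl⟩

/-- `C_S(t e)` is maximal -/
theorem maxY {Y : Subgroup G} (hY : IsPGroup 2 Y) (hc : ∀ y ∈ Y, Commute (F.t * F.e) y)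
    (le : C.f.range ⊓ centralizer {F.t * F.e} ≤ Y) : Y ≤ C.f.range := by
  classical
  have h1 := (F.lc (isConj_iff.2 ⟨C.h⁻¹, by rw [inv_inv, (h_facts C).1]⟩)).b64 Y hY hc
  have := Fintype.ofFinite (C.f.range ⊓ centralizer {F.t * F.e} : Subgroup G)
  have h2 := fib C (fun a : Qm ε × ZMod 4 × Kb => ⟨mk a.1 ⟨a.2.1, false⟩, a.2.2⟩) (by
      rintro ⟨p, n, k⟩ ⟨p', n', k'⟩ h
      obtain rfl : p = p' := congrArg (fun w : SM ε => w.left.1) h
      obtain rfl : n = n' := congrArg (fun w : SM ε => w.left.2.2.a) h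
      obtain rfl : k = k' := congrArg (fun w : SM ε => w.right) h
      rfl) (Finset.univ : Finset (C.f.range ⊓ centralizer {F.t * F.e} : Subgroup G))
    (fun a => ⟨C.f ⟨mk a.1 ⟨a.2.1, false⟩, a.2.2⟩, ⟨_, rfl⟩,
      mem_centralizer_singleton_iff.2 ((te_cm C _).2 (mk_cm _ _)).symm.eq⟩)
    (fun _ => Finset.mem_univ _) fun a a' h => congrArg Subtype.val h
  rw [Nat.card_prod, Nat.card_prod, Qm.card, Kb.card, Nat.card_zmod, Finset.card_univ, ← Nat.card_eq_fintype_card] at h2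
  rw [← eq_of_le_of_card_ge le (by omega)]
  exact inf_le_left

theorem mkX (E : Ex F) (p : Qm ε) (n : ZMod 4) : C.g (mk p ⟨n, false⟩) ∈ E.X := by
  obtain ⟨-, -, -, -, -, cm, -, two, -⟩ := E.memX
  have hN := E.nX
  have rX : ∀ p q u, C.g (p, q, u) ∈ E.X ↔ C.g (u, p, q) ∈ E.X := fun p q u => by
    rw [C.g_def (u, p, q), ← C.rr, ← C.g_def]
    exact ⟨fun h => hN.conj_mem' _ h _, fun h => by simpa [mul_assoc] using hN.conj_mem _ h C.r⟩
  have i3 : C.g (1, 1, I) ∈ E.X := by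
    have := cm (C.f (inl (1, 1, W⁻¹))) F.t
    rw [← C.ft, ← map_inv C.f tM, ← map_inv C.f (inl _), ← map_mul, ← map_mul, ← map_mul] at this
    rcases (by cases ε <;> decide +kernel : ((inl (1, 1, W⁻¹))⁻¹ * tM⁻¹ * inl (1, 1, W⁻¹) * tM : SM ε) = inl (1, 1, I) ∨
      ((inl (1, 1, W⁻¹))⁻¹ * tM⁻¹ * inl (1, 1, W⁻¹) * tM : SM ε) = (inl (1, 1, I))⁻¹) with e | e <;> rw [e] at this
    · exact this
    · rwa [map_inv, inv_mem_iff] at this
  have i1 := (rX _ _ _).1 i3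
  have i2 := (rX _ _ _).1 i1
  have w12 : C.g (W, W, 1) ∈ E.X := by
    rw [show ((W, W, 1) : N3 ε) = (W, 1, 1) * (1, W, 1) by simp, map_mul]
    by_cases h : C.g (W, 1, 1) ∈ E.X
    · exact mul_mem h ((rX _ _ _).1 h)
    · exact two _ _ h fun h' => h ((rX _ _ _).2 h')
  obtain ⟨i, j, e⟩ := mk_dec p n
  rw [e, map_mul, map_mul, map_mul, map_pow, map_pow, map_pow, map_pow]
  exact mul_mem (mul_mem (mul_mem (pow_mem i1 _) (pow_mem i2 _)) (pow_mem i3 _)) (pow_mem w12 _)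

/-- an element of `P ^ h` with square `z` -/
theorem inP (E : Ex F) {a : G} (ha : a ∈ E.P) (aa : a * a = F.z) :
    ∃ p n, C.h⁻¹ * a * C.h = C.g (mk p ⟨n, false⟩) := by
  obtain ⟨h1, h2, -⟩ := h_facts C
  obtain ⟨cX, dX, -, eX, -⟩ := E.memX
  have PT : E.P ≤ F.T := (closure_le _).2 (by
    rintro _ (rfl | rfl)
    · exact pow_mem F.c_T 2
    · exact mul_mem F.c_T (F.T0_T (F.E_T0 (F.B_E (F.V_B F.d_V)))))
  have PX : E.P ≤ E.X := (closure_le _).2 (by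
    rintro _ (rfl | rfl)
    · exact pow_mem cX 2
    · exact mul_mem cX dX)
  have ct : ∀ x, Commute F.t x → Commute (F.t * F.e) (C.h⁻¹ * x * C.h) := fun x hx => by
    rw [← h1, Commute, SemiconjBy, ← Fr.cj_mul, hx.eq, Fr.cj_mul]
  let P' := E.P.map (MulAut.conj C.h⁻¹).toMonoidHom
  have mP : ∀ {x}, x ∈ P' ↔ C.h * x * C.h⁻¹ ∈ E.P := fun {x} =>
    ⟨fun ⟨y, hy, e⟩ => by rw [← e]; simpa [mul_assoc] using hy, fun hx => ⟨_, hx, by simp [mul_assoc]⟩⟩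
  have hn : C.f.range ⊓ centralizer {F.t * F.e} ≤ normalizer (P' : Set G) := by
    rintro _ ⟨⟨y, rfl⟩, hy⟩
    have hy' := (mem_centralizer_singleton_iff.1 hy)
    have := E.nP (g := C.h * C.f y * C.h⁻¹) ((h2.mul_right (zf C y)).mul_right h2.inv_right) (Or.inl (by
      calc _ = C.h * ((C.f y)⁻¹ * (C.h⁻¹ * F.t * C.h * C.f y)) * C.h⁻¹ := by group
        _ = C.h * (C.h⁻¹ * F.t * C.h) * C.h⁻¹ := by rw [h1, ← hy', inv_mul_cancel_left]
        _ = _ := by group))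
    refine Fr.norm_of fun x hx => mP.2 ?_
    have h3 := (mem_normalizer_iff''.1 this _).1 (mP.1 hx)
    convert h3 using 1; group
  have hS : C.h⁻¹ * a * C.h ∈ C.f.range := by
    refine maxY C (Y := (C.f.range ⊓ centralizer {F.t * F.e}) ⊔ P')
      (IsPGroup.to_sup_of_normal_right' C.syl.pgroup.to_inf_left ((F.p2_T.to_le PT).map _) hn) (fun y hy => ?_)
      le_sup_left (mem_sup_right (mP.2 (by simpa [mul_assoc] using ha)))
    refine (mem_centralizer_singleton_iff.1 ((sup_le inf_le_right fun x hx => ?_ :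
      _ ≤ centralizer {F.t * F.e}) hy)).symm
    have := ct _ (F.t_T (PT (mP.1 hx)))
    exact mem_centralizer_singleton_iff.2 (by simpa [mul_assoc] using this.symm.eq)
  obtain ⟨⟨⟨p, q, ⟨n, b⟩⟩, k⟩, e⟩ := hS
  obtain ⟨rfl, rfl⟩ := mk_of p q ⟨n, b⟩ ((te_cm C ⟨(p, q, ⟨n, b⟩), k⟩).1 (e ▸ ct a (F.t_T (PT ha))))
  refine ⟨p, n, e ▸ ?_⟩
  change C.f ⟨mk p ⟨n, false⟩, k⟩ = _ at e ⊢
  have e0 : (⟨mk p ⟨n, false⟩, k⟩ : SM ε) = inl (mk p ⟨n, false⟩) * inr k := (inl_left_mul_inr_right _).symm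
  have kX : C.f (inr k) ∈ E.X := by
    have := E.nX.conj_mem' _ (PX ha) C.h
    rw [← e, e0, map_mul] at this
    exact (mul_mem_cancel_left (mkX C E p n)).1 this
  obtain ⟨_ | _, _ | _⟩ := k
  · rfl
  · exact absurd (C.ft ▸ kX) (tX C E)
  · exfalso
    have : C.f ((⟨mk p ⟨n, false⟩, ⟨true, false⟩⟩ : SM ε) * ⟨mk p ⟨n, false⟩, ⟨true, false⟩⟩) = C.f (inl (1, 1, Z)) := by
      rw [map_mul, e, ← Fr.cj_mul, aa, Fr.cj_fix h2, C.fz]
    exact mk_e p n ((C.f_eq.1 this).imp (congrArg left) (congrArg left))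
  · rw [show (inr ⟨true, true⟩ : SM ε) = tM * eM by rw [tM, eM, ← map_mul]; rfl, map_mul, C.ft, C.fe] at kX
    exact absurd ((mul_mem_cancel_right eX).1 kX) (tX C E)

theorem pp (E : Ex F) : ∃ a' b' : N3 ε, C.h⁻¹ * F.c ^ 2 * C.h = C.g a' ∧ C.h⁻¹ * (F.c * F.d) * C.h = C.g b' ∧
    (ε = true → (a'.2.2 = 1 ∨ a'.2.2 = Z) ∧ (b'.2.2 = 1 ∨ b'.2.2 = Z)) ∧
    Commute F.d (C.h⁻¹ * E.θ * C.h) ∧ Commute (C.g (1, 1, I)) (C.h⁻¹ * E.θ * C.h) ∧
    ∃ q : N3 ε, (C.h⁻¹ * E.θ * C.h)⁻¹ * C.g (I, I⁻¹, 1) * (C.h⁻¹ * E.θ * C.h) = C.g q ∧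
      q.1.b = true ∧ q.2.1.b = true ∧ (q.1.a + q.2.1.a).val % 2 = 1 := by
  obtain ⟨h1, h2, -⟩ := h_facts C
  obtain ⟨-, -, -, -, zθ, θa, θb, -⟩ := E.θ_facts
  have aa : F.c ^ 2 * F.c ^ 2 = F.z := by rw [← pow_add]; rfl
  have cjz : ∀ x, x * x = F.z → E.θ⁻¹ * x * E.θ * (E.θ⁻¹ * x * E.θ) = F.z := fun x hx => by
    rw [← Fr.cj_mul, hx, Fr.cj_fix zθ]
  have bb : F.c * F.d * (F.c * F.d) = F.z := θa ▸ cjz _ aa
  have ab : F.c ^ 2 * (F.c * F.d) * (F.c ^ 2 * (F.c * F.d)) = F.z := by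
    have h := cjz _ bb
    have hz : Commute F.z (F.c ^ 2 * (F.c * F.d)) := (F.cr.zc.pow_right 2).mul_right (F.cr.zc.mul_right F.zd)
    rwa [θb, mul_assoc, ← mul_assoc F.z, hz.eq, mul_assoc _ F.z, F.zz, mul_one] at h
  obtain ⟨p, n, ea⟩ := inP C E (subset_closure (by simp)) aa
  obtain ⟨p', n', eb⟩ := inP C E (subset_closure (by simp)) bb
  have sq : ∀ {x : G} {a : N3 ε}, C.h⁻¹ * x * C.h = C.g a → x * x = F.z → Sq (a * a) := fun {x a} e hx => by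
    have : C.f (inl (a * a)) = C.f (inl (1, 1, Z)) := by
      rw [← C.g_def, map_mul, ← e, ← Fr.cj_mul, hx, Fr.cj_fix h2, C.fz]
    exact (C.f_eq.1 this).imp (congrArg left) (congrArg left)
  obtain ⟨c1, m, l, c2, c3⟩ := pairs p n (sq ea aa) p' n' (sq eb bb) (sq (by rw [Fr.cj_mul, ea, eb, map_mul]) ab)
  have cθ : ∀ y : N3 ε, (C.g y)⁻¹ * (F.t * F.e) * C.g y = F.t * F.e * F.z →
      (∀ p n, y * mk p ⟨n, false⟩ = mk p ⟨n, false⟩ * y) → Commute (C.g y) (C.h⁻¹ * E.θ * C.h) := fun y hy hc => by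
    have cm : ∀ {x p n}, C.h⁻¹ * x * C.h = C.g (mk p ⟨n, false⟩) → Commute x (C.h * C.g y * C.h⁻¹) := fun {x p n} e => by
      have : C.g y * (C.h⁻¹ * x * C.h) = C.h⁻¹ * x * C.h * C.g y := by rw [e, ← map_mul, hc, map_mul]
      show x * _ = _ * x
      calc _ = C.h * (C.h⁻¹ * x * C.h * C.g y) * C.h⁻¹ := by group
        _ = _ := by rw [← this]; group
    have := (E.cθ (g := C.h * C.g y * C.h⁻¹) ((h2.mul_right (zf C _)).mul_right h2.inv_right) (Or.inr (by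
      calc _ = C.h * ((C.g y)⁻¹ * (C.h⁻¹ * F.t * C.h) * C.g y) * C.h⁻¹ := by group
        _ = C.h * (C.h⁻¹ * F.t * C.h * (C.h⁻¹ * F.z * C.h)) * C.h⁻¹ := by rw [h1, hy, Fr.cj_fix h2]
        _ = _ := by group)) (cm ea) (cm eb)).eq
    show C.g y * _ = _ * C.g y
    calc _ = C.h⁻¹ * (C.h * C.g y * C.h⁻¹ * E.θ) * C.h := by group
      _ = _ := by rw [← this]; group
  have tez : ∀ y : N3 ε, ((inl y)⁻¹ * (tM * eM) * inl y = (tM * eM * inl (1, 1, Z) : SM ε) ∨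
      (inl y)⁻¹ * (tM * eM) * inl y = (tM * eM * inl (1, 1, Z) * inl (Z, Z, Z) : SM ε)) →
      (C.g y)⁻¹ * (F.t * F.e) * C.g y = F.t * F.e * F.z := fun y hy => by
    rw [C.g_def, ← C.ft, ← C.fe, ← C.fz, ← map_inv, ← map_mul, ← map_mul, ← map_mul, ← map_mul]
    exact C.f_eq.2 hy
  refine ⟨_, _, ea, eb, c1, C.fd ▸ cθ (Z, 1, 1) (tez _ (by cases ε <;> decide +kernel)) fun p n => (mk_i p n).2,
    cθ (1, 1, I) (tez _ (by cases ε <;> decide +kernel)) fun p n => (mk_i p n).1, _, ?_, c3⟩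
  have cj : ∀ x, (C.h⁻¹ * E.θ * C.h)⁻¹ * (C.h⁻¹ * x * C.h) * (C.h⁻¹ * E.θ * C.h) =
      C.h⁻¹ * (E.θ⁻¹ * x * E.θ) * C.h := fun x => by group
  have ej : C.g (I, I⁻¹, 1) = C.g (mk p ⟨n, false⟩) ^ m.val * C.g (mk p' ⟨n', false⟩) ^ l.val := by
    rw [← map_pow, ← map_pow, ← map_mul]
    rcases c2 with e | e <;> rw [e]
    exact gζ C _
  rw [ej, Fr.cj_mul, ← Ex.pow_cj', ← Ex.pow_cj', map_mul, map_pow, map_pow, map_mul, map_mul, C.g_def (1, 1, Z), C.fz,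
    ← ea, ← eb, cj, cj, θa, θb, Fr.cj_mul _ (_ * _) F.z, Fr.cj_fix h2, Fr.cj_mul _ (F.c ^ 2)]

end CL.H3.CT1
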