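import Cfsg.Agent.INV.H3.Def5
import Cfsg.Agent.INV.H3.Loc1
import Cfsg.Agent.INV.H3.Loc2
import Cfsg.Agent.INV.H3.CT1
import Cfsg.Agent.INV.H3.CT2

/-! S3140, case `PSp₆(3)`: `t ∉ X`, the subgroup `P ^ h`, the dihedral case does not occur.
`x ^ g = g⁻¹ * x * g`; `a = c² = d e`, `b = c d`, `j = g (I, I⁻¹, 1)`.  Facts inside `S = f.range` are checked in
the model by `decide +kernel` (`Cm.f_eq`, `Cm.ker`; `∀ p q u : Qm ε, ∀ k : Kb` is fast). -/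

set_option autoImplicit false
open Subgroup

namespace CL.H3.Cm
open CL.HL Qm
variable {G : Type*} [Group G] [Finite G] {F : Fr G} {ε : Bool} (C : Cm F ε)

/-- Let `u ∈ M`, `u ∼ t`, `u ∉ V` (`nc_V`).  `u ∈ E0`: `[E0, E0] ≤ V ≤ Z(E0)`, so `|C_{E0}(u)| ≥ 256 / 4`, and it
centralises `⟨u, V⟩` of order 8, against `Lc.c8`.  `u ∈ E0 e`: `F0 = {g (p, p v, x)}` (`v ∈ {1, Z}`; order 64) has
`[F0, u] ≤ V` inverted by `u`, so in `⟨z⟩`; `Y = C_{F0}(u) ⟨u⟩` has order 64 and exponent 4; but `Y ^ k ≤ T`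
(`L2x.into`, `Fr.syl`), `|T| = 64` and `c ∈ T` has order 8. -/
theorem noM {x : G} (hx : x ∈ C.M) : ¬ IsConj F.t x := by
  exact CT1.noM C hx

include C in
/-- `Ex.tX` -/
theorem tX (E : Ex F) : F.t ∉ E.X := by
  exact CT1.tX C E

theorem h_facts : C.h⁻¹ * F.t * C.h = F.t * F.e ∧ Commute F.z C.h ∧ C.h⁻¹ * F.d * C.h = F.e := by
  exact CT1.h_facts C

/-- `Y = C_S(t e) ⊇ ⟨t, e, g (Z, 1, I), j, g₀⟩`, `g₀ = g (I W, W, 1)`, has order 64, the maximum (`Lc.b64`).  It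
normalises `P ^ h` (`Ex.nP` conjugated), so `P ^ h ≤ Y`.  `e, i_k = [t, w_k], w₁ w₂ = w₁ w₁ ^ r ∈ X`, `t ∉ X`: so
`P ^ h ≤ Y ∩ M` (order 32).  There the only pairs with `x² = y² = (x y)² = z` generate `⟨j, g₀⟩` (`ε = true`),
`⟨j, g₀ g (Z, 1, I)⟩` (`ε = false`).  This group centralises `d` and `i₃`, and `(t e) ^ d = (t e) ^ i₃ = t e z`, so
`Ex.cθ` (for `h d h⁻¹`, `h i₃ h⁻¹`) applies.  `θ ^ h` permutes the three cyclic subgroups (`θ_facts`). -/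
theorem pp (E : Ex F) : ∃ a' b' : N3 ε, C.h⁻¹ * F.c ^ 2 * C.h = C.g a' ∧ C.h⁻¹ * (F.c * F.d) * C.h = C.g b' ∧
    (ε = true → (a'.2.2 = 1 ∨ a'.2.2 = Z) ∧ (b'.2.2 = 1 ∨ b'.2.2 = Z)) ∧
    Commute F.d (C.h⁻¹ * E.θ * C.h) ∧ Commute (C.g (1, 1, I)) (C.h⁻¹ * E.θ * C.h) ∧
    ∃ q : N3 ε, (C.h⁻¹ * E.θ * C.h)⁻¹ * C.g (I, I⁻¹, 1) * (C.h⁻¹ * E.θ * C.h) = C.g q ∧
      q.1.b = true ∧ q.2.1.b = true ∧ (q.1.a + q.2.1.a).val % 2 = 1 := by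
  exact CT1.pp C E

/-- `Q₁ V = {x ∈ E0 | [x, E0] ≤ ⟨d⟩}` etc. -/
theorem nE {n : G} (hn : n ∈ normalizer (C.E0 : Set G)) (hz : Commute F.z n) (hd : Commute F.d n) (p : Qm ε) :
    (∃ p', ∃ v ∈ F.V, n⁻¹ * C.g (p, 1, 1) * n = C.g (p', 1, 1) * v) ∧
    (∃ p', ∃ v ∈ F.V, n⁻¹ * C.g (1, p, 1) * n = C.g (1, p', 1) * v) ∧
    (∃ p', ∃ v ∈ F.V, n⁻¹ * C.g (1, 1, p) * n = C.g (1, 1, p') * v) := by
  exact CT2.nE C hn hz hd p

/-- `R₁ = C_S(V) = E0 ⟨t⟩` is Sylow in `C(V)` (`S ≤ N(V)`).  If `E' = E0 ^ x ≠ E0`, take `u ∈ E' \ E0`; `E' ∩ E0` has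
order 128 and commutes with `u` modulo `V`, but only the `g q` with all `b = false` (order 32) do. -/
theorem wc0 {x : G} (hz : Commute F.z x) (hd : Commute F.d x) (h : ∀ q, x⁻¹ * C.g q * x ∈ C.f.range) :
    x ∈ normalizer (C.E0 : Set G) := by
  exact CT2.wc0 C hz hd h

/-- `K = {k ∈ C(V) | [g v, k] ∈ V}` contains `E0` and `E0 ^ x`; `E0 ^ (x k)` and `E0` lie in one Sylow subgroup `T` of
`K`, `T ^ l ≤ R₁` with `l ∈ C(V)`; `wc0` for `l` and `x k l`. -/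
theorem ctrl {x : G} (hz : Commute F.z x) (hd : Commute F.d x) {u v : N3 ε} (h : x⁻¹ * C.g u * x = C.g v) :
    ∃ n ∈ normalizer (C.E0 : Set G), Commute F.z n ∧ Commute F.d n ∧
      ∃ v0 ∈ F.V, n⁻¹ * C.g u * n = C.g v * v0 := by
  exact CT2.ctrl C hz hd h

/-- `ctrl` for `θ ^ h` (`pp`), `nE`: `i₁ ^ n = g (p', 1, 1) v` has square `d`, so `p'.b = false` in the dihedral group;
the same for `i₂`; then `j ^ n` has `q.1.b = false`. -/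
theorem eps (C : Cm F false) (E : Ex F) : False := by
  obtain ⟨-, -, -, -, -, a, b, q, e, c, -⟩ := C.pp E
  exact CT2.eps C a b e c

end CL.H3.Cm
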