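import Cfsg.Agent.INV.H3.Def5
import Cfsg.Agent.TECH.SylIn

/-! S3140, case `PSp₆(3)`: `E0` is weakly closed in `S` with respect to `C(V)`. -/

set_option autoImplicit false
open Subgroup

namespace CL.H3.CT3
open CL.HL Qm CL.MSS SemidirectProduct
variable {G : Type*} [Group G] {F : Fr G} {ε : Bool} (C : Cm F ε)

/-- all coordinates are central -/
def pV (q : N3 ε) : Prop := (q.1 = 1 ∨ q.1 = Z) ∧ (q.2.1 = 1 ∨ q.2.1 = Z) ∧ (q.2.2 = 1 ∨ q.2.2 = Z)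

instance (q : N3 ε) : Decidable (pV q) := by unfold pV; infer_instance

theorem kZ : C.g (Z, Z, Z) = 1 := (C.ker _).2 (Or.inr rfl)

theorem g2 : C.g (1, Z, 1) = F.d * F.z := by
  have : ((1, Z, 1) : N3 ε) = (Z, 1, 1) * (1, 1, Z) * (Z, Z, Z) := by cases ε <;> decide +kernel
  rw [this, map_mul, map_mul, kZ, mul_one]
  exact congrArg₂ _ C.fd C.fz

theorem gV {q : N3 ε} (h : pV q) : C.g q ∈ F.V := by
  obtain ⟨a, b, c⟩ := q
  have : ((a, b, c) : N3 ε) = (a, 1, 1) * (1, b, 1) * (1, 1, c) := by simp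
  rw [this, map_mul, map_mul]
  refine mul_mem (mul_mem ?_ ?_) ?_
  · rcases h.1 with (rfl : a = _) | (rfl : a = _)
    · exact (map_one C.g).symm ▸ one_mem _
    · exact (C.fd : C.g _ = _).symm ▸ F.d_V
  · rcases h.2.1 with (rfl : b = _) | (rfl : b = _)
    · exact (map_one C.g).symm ▸ one_mem _
    · rw [g2]; exact mul_mem F.d_V F.z_V
  · rcases h.2.2 with (rfl : c = _) | (rfl : c = _)
    · exact (map_one C.g).symm ▸ one_mem _
    · exact (C.fz : C.g _ = _).symm ▸ F.z_V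

theorem g_eq {p q : N3 ε} (h : C.g p = C.g q) : p = q ∨ p = q * (Z, Z, Z) := by
  rcases C.f_eq.1 h with h | h
  · exact Or.inl (inl_injective h)
  · exact Or.inr (inl_injective (h.trans (map_mul _ _ _).symm))

theorem V_g {v : G} (h : v ∈ F.V) : ∃ q, pV q ∧ C.g q = v := by
  rcases F.mem_V.1 h with rfl | rfl | rfl | rfl
  · exact ⟨1, ⟨Or.inl rfl, Or.inl rfl, Or.inl rfl⟩, map_one _⟩
  · exact ⟨(1, 1, Z), ⟨Or.inl rfl, Or.inl rfl, Or.inr rfl⟩, C.fz⟩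
  · exact ⟨(Z, 1, 1), ⟨Or.inr rfl, Or.inl rfl, Or.inl rfl⟩, C.fd⟩
  · exact ⟨(1, Z, 1), ⟨Or.inl rfl, Or.inr rfl, Or.inl rfl⟩, g2 C⟩

theorem Vg {q : N3 ε} (h : C.g q ∈ F.V) : pV q := by
  obtain ⟨p, hp, e⟩ := V_g C h
  have k : ∀ a : Qm ε, (a = 1 ∨ a = Z) → (a * Z = 1 ∨ a * Z = Z) := by cases ε <;> decide +kernel
  rcases g_eq C e.symm with rfl | rfl
  · exact hp
  · exact ⟨k _ hp.1, k _ hp.2.1, k _ hp.2.2⟩

theorem cmV (p q : N3 ε) : C.g (p⁻¹ * q * p * q⁻¹) ∈ F.V := by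
  have k : ∀ a b : Qm ε, a⁻¹ * b * a * b⁻¹ = 1 ∨ a⁻¹ * b * a * b⁻¹ = Z := by cases ε <;> decide +kernel
  exact gV C ⟨k _ _, k _ _, k _ _⟩

theorem cV {x : G} (hz : Commute F.z x) (hd : Commute F.d x) {v : G} (hv : v ∈ F.V) : Commute v x := by
  rcases F.mem_V.1 hv with rfl | rfl | rfl | rfl
  exacts [Commute.one_left _, hz, hd, hd.mul_left hz]

theorem gz (q : N3 ε) : Commute F.z (C.g q) := by
  have k : ∀ a : Qm ε, Z * a = a * Z := by cases ε <;> decide +kernel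
  rw [← C.fz]
  exact Commute.map (show Commute ((1, 1, Z) : N3 ε) q from
    Prod.ext (by simp) (Prod.ext (by simp) (k _))) C.g

theorem gd (q : N3 ε) : Commute F.d (C.g q) := by
  have k : ∀ a : Qm ε, Z * a = a * Z := by cases ε <;> decide +kernel
  rw [← C.fd]
  exact Commute.map (show Commute ((Z, 1, 1) : N3 ε) q from
    Prod.ext (k _) (Prod.ext (by simp) (by simp))) C.g

theorem tg (q : N3 ε) : F.t * C.g q = C.g (τ q.1, τ q.2.1, τ q.2.2) * F.t := by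
  rw [← C.ft, C.g_def, C.g_def, ← map_mul, ← map_mul]
  exact congrArg _ (SemidirectProduct.ext (by simp [tM]; rfl) (by simp [tM]))

/-- `C_S(d) = E0 ⟨t⟩` -/
theorem R1 {y : G} (hy : y ∈ C.f.range) (hd : Commute F.d y) : (∃ b, y = C.g b) ∨ ∃ a, y = C.g a * F.t := by
  obtain ⟨⟨⟨p, q, u⟩, k⟩, rfl⟩ := hy
  have h := hd.eq
  rw [← C.fd, ← map_mul, ← map_mul, C.f_eq] at h
  have : k.e = false := by clear hd; revert h; revert p q u k; cases ε <;> decide +kernel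
  obtain ⟨e, _ | _⟩ := k <;> obtain rfl : e = false := this
  · exact Or.inl ⟨(p, q, u), rfl⟩
  · refine Or.inr ⟨(p, q, u), ?_⟩
    rw [← C.ft, C.g_def, ← map_mul]
    exact congrArg _ (SemidirectProduct.ext (mul_one _).symm rfl)

theorem nc {p q : N3 ε} (h : Commute (C.g p) (C.g q)) (hp : p.2.2 = 1) (hq : q.2.2 = 1) : p * q = q * p := by
  have h := h.eq
  rw [← map_mul, ← map_mul] at h
  rcases g_eq C h with h | h
  · exact h
  · have := congrArg (fun x : N3 ε => x.2.2) h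
    simp only [Prod.snd_mul, hp, hq] at this
    exact absurd this (by cases ε <;> decide +kernel)

variable [Finite G]

theorem wc0 {x : G} (hz : Commute F.z x) (hd : Commute F.d x) (h : ∀ q, x⁻¹ * C.g q * x ∈ C.f.range) :
    x ∈ normalizer (C.E0 : Set G) := by
  have dich : ∀ q, (∃ b, x⁻¹ * C.g q * x = C.g b) ∨ ∃ a, x⁻¹ * C.g q * x = C.g a * F.t := fun q =>
    R1 C (h q) ((hd.inv_right.mul_right (gd C q)).mul_right hd)
  suffices H : ∀ q, ∃ b, x⁻¹ * C.g q * x = C.g b by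
    rw [← inv_mem_iff]
    refine mem_normalizer_fintype ?_
    rintro _ ⟨q, rfl⟩
    obtain ⟨b, hb⟩ := H q
    exact ⟨b, by rw [inv_inv, hb]⟩
  intro q0
  rcases dich q0 with h0 | ⟨a, ha⟩
  · exact h0
  exfalso
  have fl : ∀ {q b : N3 ε}, x⁻¹ * C.g q * x = C.g b → b.1.b = false ∧ b.2.1.b = false ∧ b.2.2.b = false := by
    intro q b hb
    have k : ∀ a b : Qm ε, (b⁻¹ * a * τ b * a⁻¹ = 1 ∨ b⁻¹ * a * τ b * a⁻¹ = Z) → b.b = false := by
      cases ε <;> decide +kernel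
    have e : C.g (b⁻¹ * a * (τ b.1, τ b.2.1, τ b.2.2) * a⁻¹) = C.g (q⁻¹ * q0 * q * q0⁻¹) := by
      have c := (cV hz hd (cmV C q q0)).eq
      simp only [map_mul, map_inv] at c ⊢
      calc _ = (C.g b)⁻¹ * C.g a * (C.g (τ b.1, τ b.2.1, τ b.2.2) * F.t) * (C.g a * F.t)⁻¹ := by group
        _ = (C.g b)⁻¹ * (C.g a * F.t) * C.g b * (C.g a * F.t)⁻¹ := by rw [← tg]; group
        _ = x⁻¹ * ((C.g q)⁻¹ * C.g q0 * C.g q * (C.g q0)⁻¹ * x) := by rw [← ha, ← hb]; group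
        _ = _ := by rw [c]; group
    have := Vg C (e ▸ cmV C q q0)
    exact ⟨k _ _ this.1, k _ _ this.2.1, k _ _ this.2.2⟩
  have cm : ∀ {q q' : N3 ε}, (∃ b, x⁻¹ * C.g q * x = C.g b) → (∃ b, x⁻¹ * C.g q' * x = C.g b) →
      Commute (C.g q) (C.g q') := by
    rintro q q' ⟨b, hb⟩ ⟨b', hb'⟩
    have k : ∀ a b : Qm ε, a.b = false → b.b = false → a * b = b * a := by cases ε <;> decide +kernel
    have f1 := fl hb
    have f2 := fl hb'
    have c : C.g b * C.g b' = C.g b' * C.g b := by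
      rw [← map_mul, ← map_mul]
      exact congrArg _ (Prod.ext (k _ _ f1.1 f2.1) (Prod.ext (k _ _ f1.2.1 f2.2.1) (k _ _ f1.2.2 f2.2.2)))
    rw [← hb, ← hb'] at c
    calc _ = x * (x⁻¹ * C.g q * x * (x⁻¹ * C.g q' * x)) * x⁻¹ := by group
      _ = _ := by rw [c]; group
  have IW : (I : Qm ε) * W ≠ W * I := by cases ε <;> decide +kernel
  by_cases h2 : ∃ c a', x⁻¹ * C.g (1, c, 1) * x = C.g a' * F.t
  · obtain ⟨c, a', hc⟩ := h2
    have ex : ∀ p : Qm ε, ∃ c', ∃ b, x⁻¹ * C.g (p, c', 1) * x = C.g b := fun p => by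
      rcases dich (p, 1, 1) with h1 | ⟨a1, h1⟩
      · exact ⟨1, h1⟩
      · refine ⟨c, a1 * (τ a'.1, τ a'.2.1, τ a'.2.2), ?_⟩
        have : ((p, c, 1) : N3 ε) = (p, 1, 1) * (1, c, 1) := by simp
        rw [this, map_mul, map_mul]
        calc _ = x⁻¹ * C.g (p, 1, 1) * x * (x⁻¹ * C.g (1, c, 1) * x) := by group
          _ = C.g a1 * (F.t * C.g a') * F.t := by rw [h1, hc]; group
          _ = _ := by rw [tg, mul_assoc, mul_assoc, F.tt, mul_one]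
    obtain ⟨c1, h1⟩ := ex I
    obtain ⟨c2, h2⟩ := ex W
    exact IW (congrArg Prod.fst (nc C (cm h1 h2) rfl rfl))
  · have ex : ∀ p : Qm ε, ∃ b, x⁻¹ * C.g (1, p, 1) * x = C.g b := fun p =>
      (dich _).resolve_right fun ⟨a', h⟩ => h2 ⟨p, a', h⟩
    exact IW (congrArg (fun x : N3 ε => x.2.1) (nc C (cm (ex I) (ex W)) rfl rfl))

omit [Finite G] in
theorem SN : C.f.range ≤ normalizer (F.V : Set G) := by
  have k : ∀ (y : SM ε) {v : G}, v ∈ F.V → C.f y * v * (C.f y)⁻¹ ∈ F.V := by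
    intro ⟨q, k⟩ v hv
    obtain ⟨p, hp, rfl⟩ := V_g C hv
    have h1 : ∀ (k : Kb) (a b c : Qm ε), pV (a, b, c) → pV (act3 k (a, b, c)) := by cases ε <;> decide +kernel
    have h2 := gV C (h1 k _ _ _ hp)
    have c := (cV (gz C q) (gd C q) h2).eq
    have : C.f ⟨q, k⟩ * C.g p = C.g (act3 k p) * C.f ⟨q, k⟩ := by
      have e : (⟨q, k⟩ : SM ε) = inl q * inr k := (inl_left_mul_inr_right _).symm
      rw [e, map_mul, ← C.g_def, ← mul_assoc, c, mul_assoc, mul_assoc, C.g_def, C.g_def, C.g_def, ← map_mul, ← map_mul, ← map_mul, ← map_mul]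
      exact congrArg _ (congrArg _ (SemidirectProduct.ext (by simp; rfl) (by simp)))
    rw [this, mul_inv_cancel_right]; exact h2
  rintro _ ⟨y, rfl⟩
  refine mem_normalizer_iff.2 fun v => ⟨k y, fun h => ?_⟩
  have := k y⁻¹ h
  rwa [map_inv, inv_inv, show (C.f y)⁻¹ * (C.f y * v * (C.f y)⁻¹) * C.f y = v by group] at this

theorem ctrl {x : G} (hz : Commute F.z x) (hd : Commute F.d x) {u v : N3 ε} (h : x⁻¹ * C.g u * x = C.g v) :
    ∃ n ∈ normalizer (C.E0 : Set G), Commute F.z n ∧ Commute F.d n ∧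
      ∃ v0 ∈ F.V, n⁻¹ * C.g u * n = C.g v * v0 := by
  haveI : Fact (Nat.Prime 2) := ⟨Nat.prime_two⟩
  have mC : ∀ {k : G}, k ∈ centralizer (F.V : Set G) ↔ Commute F.z k ∧ Commute F.d k :=
    ⟨fun h => ⟨h _ F.z_V, h _ F.d_V⟩, fun h _ hv => cV h.1 h.2 hv⟩
  let K : Subgroup G :=
    { carrier := {k | k ∈ centralizer (F.V : Set G) ∧ (C.g v)⁻¹ * (k⁻¹ * C.g v * k) ∈ F.V}
      mul_mem' := fun {a b} ha hb => ⟨mul_mem ha.1 hb.1, by
        have c := hb.1 _ ha.2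
        have : (C.g v)⁻¹ * ((a * b)⁻¹ * C.g v * (a * b)) =
            (C.g v)⁻¹ * (b⁻¹ * C.g v * b) * ((C.g v)⁻¹ * (a⁻¹ * C.g v * a)) := by
          calc _ = (C.g v)⁻¹ * b⁻¹ * C.g v * ((C.g v)⁻¹ * (a⁻¹ * C.g v * a) * b) := by group
            _ = _ := by rw [c]; group
        rw [this]; exact mul_mem hb.2 ha.2⟩
      one_mem' := ⟨one_mem _, by simp [one_mem]⟩
      inv_mem' := fun {a} ha => ⟨inv_mem ha.1, by
        have c := (show Commute _ a from ha.1 _ ha.2).inv_right.eq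
        have : (C.g v)⁻¹ * (a⁻¹⁻¹ * C.g v * a⁻¹) = ((C.g v)⁻¹ * (a⁻¹ * C.g v * a))⁻¹ := by
          calc _ = (C.g v)⁻¹ * a * C.g v * (a⁻¹ * ((C.g v)⁻¹ * (a⁻¹ * C.g v * a))) *
              ((C.g v)⁻¹ * (a⁻¹ * C.g v * a))⁻¹ := by group
            _ = _ := by rw [← c]; group
        rw [this]; exact inv_mem ha.2⟩ }
  have cm : ∀ p q : N3 ε, (C.g p)⁻¹ * ((C.g q)⁻¹ * C.g p * C.g q) ∈ F.V := fun p q => by
    have := cmV C p q⁻¹
    simp only [map_mul, map_inv, inv_inv] at this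
    simpa only [mul_assoc] using this
  have EK : C.E0 ≤ K := by
    rintro _ ⟨q, rfl⟩; exact ⟨mC.2 ⟨gz C q, gd C q⟩, cm v q⟩
  have EK' : x⁻¹ •ᶜ C.E0 ≤ K := by
    rw [cj_le_iff_forall]
    rintro _ ⟨q, rfl⟩
    rw [inv_inv]
    refine ⟨mC.2 ⟨(hz.inv_right.mul_right (gz C q)).mul_right hz, (hd.inv_right.mul_right (gd C q)).mul_right hd⟩, ?_⟩
    have c := (cV hz hd (cm u q)).eq
    have : (C.g v)⁻¹ * ((x⁻¹ * C.g q * x)⁻¹ * C.g v * (x⁻¹ * C.g q * x)) =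
        (C.g u)⁻¹ * ((C.g q)⁻¹ * C.g u * C.g q) := by
      calc _ = x⁻¹ * ((C.g u)⁻¹ * ((C.g q)⁻¹ * C.g u * C.g q) * x) := by rw [← h]; group
        _ = _ := by rw [c]; group
    rw [this]; exact cm u q
  have pE : IsPGroup 2 C.E0 := C.syl.pgroup.to_le (by rintro _ ⟨q, rfl⟩; exact ⟨_, rfl⟩)
  obtain ⟨T, hT, ET⟩ := exists_sylIn_ge pE EK
  obtain ⟨k, hk, kT⟩ := hT.exists_conj_le (pE.map _) EK'
  have s1 : SylIn 2 (C.f.range ⊓ centralizer (F.V : Set G)) (centralizer (F.V : Set G)) :=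
    (C.syl.of_le (SN C) le_top).inf_normal_of_le (normalizer_le_normalizer_centralizer _)
      (centralizer_le_normalizer _)
  obtain ⟨l, hl, lT⟩ := s1.exists_conj_le hT.pgroup (fun y hy => (hT.le hy).1)
  have l1 := mC.1 hl
  have k1 := mC.1 hk.1
  have n1 : l⁻¹ ∈ normalizer (C.E0 : Set G) := wc0 C l1.1.inv_right l1.2.inv_right fun q => by
    rw [inv_inv]; exact (lT (conj_mem_cj (ET ⟨q, rfl⟩))).1
  have n2 : x * k⁻¹ * l⁻¹ ∈ normalizer (C.E0 : Set G) :=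
    wc0 C ((hz.mul_right k1.1.inv_right).mul_right l1.1.inv_right)
      ((hd.mul_right k1.2.inv_right).mul_right l1.2.inv_right) fun q => by
    have := (lT (conj_mem_cj (g := l) (kT (conj_mem_cj (g := k) (conj_mem_cj (g := x⁻¹) (Q := C.E0) ⟨q, rfl⟩))))).1
    rw [show (x * k⁻¹ * l⁻¹)⁻¹ * C.g q * (x * k⁻¹ * l⁻¹) = l * (k * (x⁻¹ * C.g q * x⁻¹⁻¹) * k⁻¹) * l⁻¹ by group]
    exact this
  refine ⟨x * k⁻¹, by simpa using mul_mem n2 (inv_mem n1), hz.mul_right k1.1.inv_right,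
    hd.mul_right k1.2.inv_right, _, (K.inv_mem hk).2, ?_⟩
  rw [← h]; group

end CL.H3.CT3
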