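import Cfsg.Agent.INV.H3.CT3
import Cfsg.Agent.INV.H3.Loc1
import Cfsg.Agent.INV.H3.Loc2

/-! S3140, case `PSp₆(3)`: the subgroup `P ^ h`.  `x ^ g = g⁻¹ * x * g`. -/

set_option autoImplicit false
open Subgroup

namespace CL.H3.CTp
open CL.HL Qm Fr SemidirectProduct
variable {G : Type*} [Group G] [Finite G] {F : Fr G} {ε : Bool} (C : Cm F ε)

/-- `C_S(t e) = {f ⟨nn p b, k⟩}` -/
def nn (p : Qm ε) (b : Bool) : N3 ε := (p, τ p * Z ^ b.toNat, I ^ b.toNat)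
def sq (q : N3 ε) : Prop := q * q = (1, 1, Z) ∨ q * q = (1, 1, Z) * (Z, Z, Z)
def gd (q : N3 ε) : Prop := q.1.b = true ∧ q.2.1.b = true ∧ (q.1.a + q.2.1.a).val % 2 = 1
def jj (q : N3 ε) : Prop := (I, I⁻¹, 1) = q ∨ (I, I⁻¹, 1) = q * (Z, Z, Z)
instance (q : N3 ε) : Decidable (sq q) := by unfold sq; infer_instance
instance (q : N3 ε) : Decidable (gd q) := by unfold gd; infer_instance
instance (q : N3 ε) : Decidable (jj q) := by unfold jj; infer_instance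

theorem m1 : ∀ (p : Qm ε) b k, tM * eM * ⟨nn p b, k⟩ = (⟨nn p b, k⟩ : SM ε) * (tM * eM) ∨
    tM * eM * ⟨nn p b, k⟩ = (⟨nn p b, k⟩ : SM ε) * (tM * eM) * inl (Z, Z, Z) := by cases ε <;> decide +kernel

theorem m2 : ∀ (p p' : Qm ε) b b', nn p b = nn p' b' ∨ nn p b = nn p' b' * (Z, Z, Z) → p = p' ∧ b = b' := by
  cases ε <;> decide +kernel

theorem m3 : ∀ (p : Qm ε) b, (inl (nn p b) : SM ε) = inl (p, 1, 1) * inl (p, 1, 1) *
    ((inl (p, 1, 1))⁻¹ * (tM * eM)⁻¹ * inl (p, 1, 1) * (tM * eM)) * (inl (1, I, 1) * inl (1, I, 1) *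
      (tM⁻¹ * (inl (1, 1, W))⁻¹ * tM * inl (1, 1, W))) ^ b.toNat := by cases ε <;> decide +kernel

theorem m4 : ∀ (p : Qm ε) b, ¬ ((⟨nn p b, ⟨true, false⟩⟩ * ⟨nn p b, ⟨true, false⟩⟩ : SM ε) = inl (1, 1, Z) ∨
    (⟨nn p b, ⟨true, false⟩⟩ * ⟨nn p b, ⟨true, false⟩⟩ : SM ε) = inl (1, 1, Z) * inl (Z, Z, Z)) := by
  cases ε <;> decide +kernel

theorem m5 : ∀ (p p' : Qm ε) b b', sq (nn p b) → sq (nn p' b') → sq (nn p b * nn p' b') →
    (ε = true → ((nn p b).2.2 = 1 ∨ (nn p b).2.2 = Z) ∧ ((nn p' b').2.2 = 1 ∨ (nn p' b').2.2 = Z)) ∧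
    ∃ n : Bool, (jj (nn p b * (1, 1, Z) ^ n.toNat) ∧ gd (nn p' b' * (1, 1, Z) ^ n.toNat)) ∨
      (jj (nn p' b' * (1, 1, Z) ^ n.toNat) ∧ gd (nn p b * nn p' b' * (1, 1, Z) * (1, 1, Z) ^ n.toNat)) ∨
      (jj (nn p b * nn p' b' * (1, 1, Z) * (1, 1, Z) ^ n.toNat) ∧ gd (nn p b * (1, 1, Z) ^ n.toNat)) := by
  cases ε <;> decide +kernel

theorem m6 : ∀ (p : Qm ε) b, ((1, 1, I) : N3 ε) * nn p b = nn p b * (1, 1, I) := by cases ε <;> decide +kernel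

theorem m7 : ((inl (I, 1, 1))⁻¹ * tM * inl (I, 1, 1) : SM ε) = tM * inl (Z, 1, 1) ∧
    ((inl (1, 1, I))⁻¹ * (tM * eM) * inl (1, 1, I) : SM ε) = tM * eM * inl (1, 1, Z) ∧
    (∀ k, (inl (1, 1, Z) * inr k : SM ε) = inr k * inl (1, 1, Z)) ∧ ∀ k, act3 k ((Z, Z, Z) : N3 ε) = (Z, Z, Z) := by
  cases ε <;> decide +kernel

omit [Finite G] in
theorem h_facts : C.h⁻¹ * F.t * C.h = F.t * F.e ∧ Commute F.z C.h ∧ C.h⁻¹ * F.d * C.h = F.e := by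
  have e : ∀ x, C.h⁻¹ * x * C.h = (F.c * F.d)⁻¹ * ((C.g (I, 1, 1))⁻¹ * x * C.g (I, 1, 1)) * (F.c * F.d) := fun x => by
    rw [Cm.h]; group
  refine ⟨?_, (CT3.gz C _).mul_right (F.cr.zc.mul_right F.zd), by rw [e, cj_fix (CT3.gd C _)]; hl_w⟩
  have := congrArg C.f (m7 (ε := ε)).1
  rw [map_mul, map_mul, map_mul, map_inv, C.ft, C.fd] at this
  rw [e, C.g_def, this]; hl_w

theorem inY (E : Ex F) (tX : F.t ∉ E.X) {x : G} (hx : x ∈ E.P) (xx : x * x = F.z) :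
    ∃ p b, C.h⁻¹ * x * C.h = C.g (nn p b) := by
  obtain ⟨ht, hz, -⟩ := h_facts C
  obtain ⟨cX, dX, -, eX, sX, cmX, -⟩ := E.memX
  have PT : E.P ≤ F.T := (closure_le _).2 (by
    rintro _ (rfl | rfl)
    exacts [pow_mem F.c_T _, mul_mem F.c_T (F.T0_T (F.E_T0 (F.B_E (F.V_B F.d_V))))])
  have PX : E.P ≤ E.X := (closure_le _).2 (by rintro _ (rfl | rfl); exacts [pow_mem cX _, mul_mem cX dX])
  have Pt : E.P ≤ centralizer {F.t} := (closure_le _).2 (by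
    rintro _ (rfl | rfl) <;> refine mem_centralizer_singleton_iff.2 ?_
    exacts [(F.tc.pow_right 2).symm, (F.tc.mul_right F.td).symm])
  have fu : C.f (tM * eM) = F.t * F.e := by rw [map_mul, C.ft, C.fe]
  let Y := C.f.range ⊓ centralizer {F.t * F.e}
  have nY : Y ≤ normalizer (cjs E.P C.h : Set G) := by
    rintro _ ⟨⟨⟨q, k⟩, rfl⟩, hy⟩
    have c1 : Commute F.z (C.f ⟨q, k⟩) := by
      rw [← inl_left_mul_inr_right ⟨q, k⟩, map_mul]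
      exact (CT3.gz C q).mul_right (C.fz ▸ Commute.map (f := C.f) (m7.2.2.1 k))
    have c2 : Commute (F.t * F.e) (C.f ⟨q, k⟩) := (mem_centralizer_singleton_iff.1 hy).symm
    generalize C.f ⟨q, k⟩ = y at c1 c2
    have := norm_cjs (E.nP (g := C.h * y * C.h⁻¹) ((hz.mul_right c1).mul_right hz.inv_right) (.inl (cj_fix
      (comm_of_cj (g := C.h) (by rw [ht]; convert c2 using 1; group))))) C.h
    convert this using 1; group
  have b64 := (F.lc (u := F.t * F.e) (isConj_iff.2 ⟨C.h⁻¹, by rw [inv_inv, ht]⟩)).b64 (Y ⊔ cjs E.P C.h)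
    ((C.syl.pgroup.to_inf_left).to_sup_of_normal_right' (p2_cjs (F.p2_T.to_le PT) _) nY) fun y hy =>
    (mem_centralizer_singleton_iff.1 (sup_le (c := centralizer {F.t * F.e}) inf_le_right (cjs_ind fun y hy =>
      mem_centralizer_singleton_iff.2 (ht ▸ comm_cj (mem_centralizer_singleton_iff.1 (Pt hy)) _)) hy)).symm
  let m : Qm ε × Bool × Kb → ↥(Y ⊔ cjs E.P C.h) := fun x => ⟨C.f ⟨nn x.1 x.2.1, x.2.2⟩, mem_sup_left ⟨⟨_, rfl⟩,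
    mem_centralizer_singleton_iff.2 (by rw [← fu, ← map_mul, ← map_mul]; exact (C.f_eq.2 (m1 _ _ _)).symm)⟩⟩
  have mi : Function.Injective m := fun ⟨p, b, k⟩ ⟨p', b', k'⟩ e => by
    have := C.f_eq.1 (congrArg Subtype.val e)
    obtain ⟨rfl, rfl⟩ := m2 p p' b b' (this.imp (congrArg SemidirectProduct.left) fun h =>
      (congrArg SemidirectProduct.left h).trans (congrArg (nn p' b' * ·) (m7.2.2.2 k')))
    obtain rfl : k = k' := this.elim (congrArg SemidirectProduct.right) fun h => (congrArg SemidirectProduct.right h).trans (mul_one k')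
    rfl
  obtain ⟨⟨p, b, k⟩, e⟩ := (mi.bijective_of_nat_card_le (b64.trans_eq (by
    rw [Nat.card_prod, Nat.card_prod, Qm.card, Kb.card]; simp))).2 ⟨_, mem_sup_right (cj_cjs C.h hx)⟩
  replace e : C.f ⟨nn p b, k⟩ = C.h⁻¹ * x * C.h := congrArg Subtype.val e
  have nX : C.f (inl (nn p b)) ∈ E.X := by
    rw [m3]
    simp only [map_mul _ _ (_ * _ * _ * _), map_mul _ _ (_ ^ _), map_pow]
    refine mul_mem (mul_mem ?_ ?_) (pow_mem (mul_mem ?_ ?_) _) <;> simp only [map_mul _ _ (inl _), map_mul _ _ tM,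
      map_mul _ _ (tM * eM), map_mul _ _ (_⁻¹), map_inv]
    exacts [sX _, cmX _ _, sX _, cmX _ _]
  have xX := e ▸ E.nX.conj_mem' _ (PX hx) C.h
  rw [← inl_left_mul_inr_right ⟨nn p b, k⟩, map_mul] at xX
  replace xX : C.f (inr k) ∈ E.X := (E.X.mul_mem_cancel_left nX).1 xX
  obtain ⟨_ | _, _ | _⟩ := k
  · exact ⟨p, b, e.symm⟩
  · exact absurd (C.ft ▸ xX) tX
  · exact absurd (C.f_eq.1 (by rw [map_mul, e, ← cj_mul, xx, cj_fix hz, C.fz])) (m4 p b)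
  · refine absurd ((E.X.mul_mem_cancel_right eX).1 ?_) tX
    rw [← fu, tM, eM, ← map_mul]
    exact xX

theorem pp (E : Ex F) (tX : F.t ∉ E.X) : ∃ a' b' : N3 ε, C.h⁻¹ * F.c ^ 2 * C.h = C.g a' ∧
    C.h⁻¹ * (F.c * F.d) * C.h = C.g b' ∧
    (ε = true → (a'.2.2 = 1 ∨ a'.2.2 = Z) ∧ (b'.2.2 = 1 ∨ b'.2.2 = Z)) ∧
    Commute F.d (C.h⁻¹ * E.θ * C.h) ∧ Commute (C.g (1, 1, I)) (C.h⁻¹ * E.θ * C.h) ∧
    ∃ q : N3 ε, (C.h⁻¹ * E.θ * C.h)⁻¹ * C.g (I, I⁻¹, 1) * (C.h⁻¹ * E.θ * C.h) = C.g q ∧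
      q.1.b = true ∧ q.2.1.b = true ∧ (q.1.a + q.2.1.a).val % 2 = 1 := by
  obtain ⟨ht, hz, -⟩ := h_facts C
  have aa : F.c ^ 2 * F.c ^ 2 = F.z := by rw [← pow_add]; rfl
  have bb : F.c * F.d * (F.c * F.d) = F.z := by hl_w
  have ab : F.c ^ 2 * (F.c * F.d) * (F.c ^ 2 * (F.c * F.d)) = F.z := by rw [pow_two]; hl_w
  obtain ⟨p, b, ea⟩ := inY C E tX (subset_closure (by simp)) aa
  obtain ⟨p', b', eb⟩ := inY C E tX (subset_closure (by simp)) bb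
  have gz : C.g (1, 1, Z) = F.z := C.fz
  have s : ∀ x q, x * x = F.z → C.h⁻¹ * x * C.h = C.g q → sq q := fun x q h e =>
    CT3.g_eq C (by rw [map_mul, ← e, ← cj_mul, h, cj_fix hz, gz])
  have eab : C.h⁻¹ * (F.c ^ 2 * (F.c * F.d)) * C.h = C.g (nn p b * nn p' b') := by rw [cj_mul, ea, eb, map_mul]
  obtain ⟨k1, n, k2⟩ := m5 p p' b b' (s _ _ aa ea) (s _ _ bb eb) (s _ _ ab eab)
  have cθ : ∀ y, Commute F.z y → y⁻¹ * (F.t * F.e) * y = F.t * F.e * F.z → (∀ p b, Commute y (C.g (nn p b))) →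
      Commute y (C.h⁻¹ * E.θ * C.h) := fun y yz yt c => by
    have e : C.h⁻¹ * (C.h * y * C.h⁻¹) * C.h = y := by group
    have := comm_cj (E.cθ (g := C.h * y * C.h⁻¹) ((hz.mul_right yz).mul_right hz.inv_right) (.inr (by
      calc _ = C.h⁻¹⁻¹ * (y⁻¹ * (C.h⁻¹ * F.t * C.h) * y) * C.h⁻¹ := by group
        _ = _ := by rw [ht, yt, cj_mul, cj_fix hz.inv_right, ← ht]; group))
      (comm_of_cj (g := C.h) (by rw [ea, e]; exact (c _ _).symm))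
      (comm_of_cj (g := C.h) (by rw [eb, e]; exact (c _ _).symm))) C.h
    exact (e ▸ this).symm
  refine ⟨_, _, ea, eb, k1, cθ _ F.zd (by hl_w) fun _ _ => CT3.gd C _, cθ _ (CT3.gz C _) ?_ fun p b =>
    Commute.map (f := C.g) (m6 p b), ?_⟩
  · have := congrArg C.f (m7 (ε := ε)).2.1
    simpa only [map_mul, map_inv, C.ft, C.fe, C.fz, C.g_def] using this
  obtain ⟨-, -, -, -, zθ, θa, θb, -⟩ := E.θ_facts
  have θc : E.θ⁻¹ * (F.c ^ 2 * (F.c * F.d) * F.z) * E.θ = F.c ^ 2 := by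
    rw [cj_mul, cj_mul, θa, θb, cj_fix zθ, pow_two]; hl_w
  have key : ∀ x y u v, E.θ⁻¹ * x * E.θ = y → C.h⁻¹ * x * C.h = C.g u → C.h⁻¹ * y * C.h = C.g v →
      jj (u * (1, 1, Z) ^ n.toNat) → (C.h⁻¹ * E.θ * C.h)⁻¹ * C.g (I, I⁻¹, 1) * (C.h⁻¹ * E.θ * C.h) =
        C.g (v * (1, 1, Z) ^ n.toNat) := fun x y u v e e1 e2 j => by
    have : C.g (I, I⁻¹, 1) = C.g (u * (1, 1, Z) ^ n.toNat) := j.elim (congrArg _) fun j => by
      rw [j, map_mul C.g _ (Z, Z, Z), CT3.kZ, mul_one]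
    rw [this, map_mul, map_mul, map_pow, gz, cj_mul, cj_fix (((hz.inv_right.mul_right zθ).mul_right hz).pow_left _),
      ← e1, ← e2, ← e]
    group
  have eabz : C.h⁻¹ * (F.c ^ 2 * (F.c * F.d) * F.z) * C.h = C.g (nn p b * nn p' b' * (1, 1, Z)) := by
    rw [cj_mul, eab, cj_fix hz, map_mul _ _ (1, 1, Z), gz]
  rcases k2 with ⟨j, g⟩ | ⟨j, g⟩ | ⟨j, g⟩
  exacts [⟨_, key _ _ _ _ θa ea eb j, g⟩, ⟨_, key _ _ _ _ θb eb eabz j, g⟩, ⟨_, key _ _ _ _ θc eabz ea j, g⟩]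

end CL.H3.CTp
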