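import Cfsg.Agent.INV.H3.CT

/-! S3140, case `PSp₆(3)`: the Sylow subgroups of `X`, `Y`, `C_Y(d)` and an element permuting the classes of `Q₁`, `Q₂`. -/

set_option autoImplicit false
open Subgroup

namespace CL.H3.CU2
open CL.HL Qm CL.MSS SemidirectProduct
variable {G : Type*} [Group G] [Finite G] {F : Fr G}

/-- central -/
def cz (p : Qm true) : Prop := p = 1 ∨ p = Z

instance : DecidablePred cz := fun p => inferInstanceAs (Decidable (p = 1 ∨ p = Z))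

theorem cz_mul : ∀ p q, cz p → cz q → cz (p * q) := by decide +kernel
theorem cz_inv : ∀ p, cz p → cz p⁻¹ := by decide +kernel
theorem cz_comm : ∀ p q, cz p → p * q = q * p := by decide +kernel
theorem cz_cm : ∀ p q : Qm true, cz (p⁻¹ * (q⁻¹ * p * q)) := by decide +kernel

section act
variable {V : Subgroup G} {ι : Qm true →* G}

/-- `p ^ n ∈ p' V` -/
def A (V : Subgroup G) (ι : Qm true →* G) (n : G) (p p' : Qm true) : Prop := ∃ v ∈ V, n⁻¹ * ι p * n = ι p' * v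

omit [Finite G] in
theorem A.trans {n m : G} {p p' p'' : Qm true} (h : A V ι n p p') (k : A V ι m p' p'') (c : ∀ v ∈ V, Commute v m) :
    A V ι (n * m) p p'' := by
  obtain ⟨v, hv, e⟩ := h
  obtain ⟨w, hw, e'⟩ := k
  refine ⟨w * v, mul_mem hw hv, ?_⟩
  calc (n * m)⁻¹ * ι p * (n * m) = m⁻¹ * (n⁻¹ * ι p * n) * m := by group
    _ = m⁻¹ * ι p' * (v * m) := by rw [e]; group
    _ = m⁻¹ * ι p' * m * v := by rw [(c v hv).eq]; group
    _ = _ := by rw [e', mul_assoc]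

omit [Finite G] in
theorem A.mul {n : G} {p p' q q' : Qm true} (cV : ∀ v ∈ V, ∀ p, Commute v (ι p)) (h : A V ι n p p') (k : A V ι n q q') :
    A V ι n (p * q) (p' * q') := by
  obtain ⟨v, hv, e⟩ := h
  obtain ⟨w, hw, e'⟩ := k
  refine ⟨v * w, mul_mem hv hw, ?_⟩
  calc n⁻¹ * ι (p * q) * n = n⁻¹ * ι p * n * (n⁻¹ * ι q * n) := by rw [map_mul]; group
    _ = ι p' * (v * ι q') * w := by rw [e, e']; group
    _ = _ := by rw [(cV v hv q').eq, map_mul]; group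

omit [Finite G] in
theorem A.eqv {n : G} {p p' q : Qm true} (hV : ∀ p, ι p ∈ V ↔ cz p) (h : A V ι n p p') (k : cz (q⁻¹ * p')) :
    A V ι n p q := by
  obtain ⟨v, hv, e⟩ := h
  exact ⟨ι (q⁻¹ * p') * v, mul_mem ((hV _).2 k) hv, by rw [e, map_mul, map_inv]; group⟩

omit [Finite G] in
theorem A.uniq {n : G} {p p' q : Qm true} (hV : ∀ p, ι p ∈ V ↔ cz p) (h : A V ι n p p') (k : A V ι n p q) :
    cz (q⁻¹ * p') := by
  obtain ⟨v, hv, e⟩ := h
  obtain ⟨w, hw, e'⟩ := k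
  rw [← hV, map_mul, map_inv]
  have : (ι q)⁻¹ * ι p' = w * v⁻¹ := by
    rw [inv_mul_eq_iff_eq_mul, ← mul_assoc, ← e', e, mul_inv_cancel_right]
  rw [this]
  exact mul_mem hw (inv_mem hv)

omit [Finite G] in
theorem A.inj {n : G} {p p' : Qm true} (hV : ∀ p, ι p ∈ V ↔ cz p) (c : ∀ v ∈ V, Commute v n) (h : A V ι n p p')
    (k : cz p') : cz p := by
  obtain ⟨v, hv, e⟩ := h
  have m := mul_mem ((hV _).2 k) hv
  rw [← hV]
  have : ι p = ι p' * v := by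
    calc ι p = n * (n⁻¹ * ι p * n) * n⁻¹ := by group
      _ = _ := by rw [e, ← (c _ m).eq, mul_inv_cancel_right]
  rw [this]
  exact m

theorem cases4 : ∀ x y y' : Qm true, ¬ cz x → ¬ cz y → ¬ cz (x * y) →
    cz y' ∨ cz (y * y') ∨ cz (x⁻¹ * y') ∨ cz ((x * y)⁻¹ * y') := by decide +kernel

theorem cz_sw : ∀ x y : Qm true, cz (x⁻¹ * y) → cz (x * y) := by decide +kernel

omit [Finite G] in
theorem A.cyc {n : G} (hV : ∀ p, ι p ∈ V ↔ cz p) (cV : ∀ v ∈ V, ∀ p, Commute v (ι p)) (c : ∀ v ∈ V, Commute v n)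
    (hn : ∀ p, ∃ p', A V ι n p p') {k : ℕ} (hk : ∀ p, A V ι (n ^ (2 * k + 1)) p p) {x y : Qm true}
    (h : A V ι n x y) (hx : ¬ cz x) (hy : ¬ cz y) (hxy : ¬ cz (x * y)) : A V ι n y (x * y) := by
  obtain ⟨y', h'⟩ := hn y
  rcases cases4 x y y' hx hy hxy with l | l | l | l
  · exact absurd (h'.inj hV c l) hy
  · exact absurd ((h.mul cV h').inj hV c l) hxy
  · exfalso
    have h2 : A V ι (n * n) x x := h.trans (h'.eqv hV l) c
    have h3 : ∀ j : ℕ, A V ι (n ^ (2 * j)) x x := by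
      intro j
      induction j with
      | zero => exact ⟨1, one_mem _, by simp⟩
      | succ j ih =>
        rw [Nat.mul_succ, pow_add, pow_two]
        exact ih.trans h2 fun v hv => (c v hv).mul_right (c v hv)
    have h4 := (h3 k).trans h c
    rw [← pow_succ] at h4
    exact hxy (cz_sw _ _ (h4.uniq hV (hk x)))
  · exact h'.eqv hV l

end act

variable (C : Cm F true)

omit [Finite G] in
theorem g_eq {p q : N3 true} : C.g p = C.g q ↔ p = q ∨ p = q * (Z, Z, Z) := by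
  rw [C.g_def, C.g_def, C.f_eq, ← map_mul, inl_inj, inl_inj]

omit [Finite G] in
theorem g3 (p q u : Qm true) : C.g (p, q, u) = C.g (p, 1, 1) * C.g (1, q, 1) * C.g (1, 1, u) := by
  rw [← map_mul, ← map_mul]; simp

omit [Finite G] in
theorem gV {q : N3 true} : C.g q ∈ F.V ↔ cz q.1 ∧ cz q.2.1 ∧ cz q.2.2 := by
  have hz : F.z ∈ F.V := subset_closure (by simp)
  have hd : F.d ∈ F.V := subset_closure (by simp)
  constructor
  · intro h
    let Zc : Subgroup (N3 true) :=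
      { carrier := {q | cz q.1 ∧ cz q.2.1 ∧ cz q.2.2}
        one_mem' := ⟨Or.inl rfl, Or.inl rfl, Or.inl rfl⟩
        mul_mem' := fun a b => ⟨cz_mul _ _ a.1 b.1, cz_mul _ _ a.2.1 b.2.1, cz_mul _ _ a.2.2 b.2.2⟩
        inv_mem' := fun a => ⟨cz_inv _ a.1, cz_inv _ a.2.1, cz_inv _ a.2.2⟩ }
    have le : F.V ≤ Zc.map C.g := by
      refine (closure_le _).2 ?_
      rintro _ (rfl | rfl)
      · exact ⟨(1, 1, Z), ⟨Or.inl rfl, Or.inl rfl, Or.inr rfl⟩, C.fz⟩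
      · exact ⟨(Z, 1, 1), ⟨Or.inr rfl, Or.inl rfl, Or.inl rfl⟩, C.fd⟩
    obtain ⟨c, hc, e⟩ := le h
    rcases (g_eq C).1 e.symm with rfl | rfl
    · exact hc
    · exact Zc.mul_mem hc ⟨Or.inr rfl, Or.inr rfl, Or.inr rfl⟩
  · obtain ⟨p, q, u⟩ := q
    rintro ⟨h1, h2, h3⟩
    rw [g3]
    refine mul_mem (mul_mem ?_ ?_) ?_
    · rcases h1 with rfl | rfl
      · exact (map_one C.g).symm ▸ one_mem _
      · exact C.fd ▸ hd
    · rcases h2 with rfl | rfl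
      · exact (map_one C.g).symm ▸ one_mem _
      · have : C.g (1, Z, 1) = C.g (Z, 1, 1) * C.g (1, 1, Z) := by
          rw [← map_mul, g_eq]; decide +kernel
        rw [this]
        exact mul_mem (C.fd ▸ hd) (C.fz ▸ hz)
    · rcases h3 with rfl | rfl
      · exact (map_one C.g).symm ▸ one_mem _
      · exact C.fz ▸ hz

omit [Finite G] in
theorem cVn {n : G} (hz : Commute F.z n) (hd : Commute F.d n) : ∀ v ∈ F.V, Commute v n := by
  intro v hv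
  refine mem_centralizer_singleton_iff.1 ((closure_le (centralizer {n})).2 ?_ hv)
  rintro _ (rfl | rfl)
  · exact mem_centralizer_singleton_iff.2 hz
  · exact mem_centralizer_singleton_iff.2 hd

omit [Finite G] in
theorem zg (q : N3 true) : Commute F.z (C.g q) := by
  rw [← C.fz]
  refine Commute.map (f := C.g) (x := (1, 1, Z)) ?_
  exact Prod.ext (by simp) (Prod.ext (by simp) (cz_comm _ _ (Or.inr rfl)))

omit [Finite G] in
theorem dg (q : N3 true) : Commute F.d (C.g q) := by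
  rw [← C.fd]
  refine Commute.map (f := C.g) (x := (Z, 1, 1)) ?_
  exact Prod.ext (cz_comm _ _ (Or.inr rfl)) (Prod.ext (by simp) (by simp))

omit [Finite G] in
theorem modV {p q : N3 true} {v w : G} (hv : v ∈ F.V) (hw : w ∈ F.V) (e : C.g p * v = C.g q * w) :
    cz (q.1⁻¹ * p.1) ∧ cz (q.2.1⁻¹ * p.2.1) ∧ cz (q.2.2⁻¹ * p.2.2) := by
  refine (gV C (q := q⁻¹ * p)).1 ?_
  have : C.g (q⁻¹ * p) = w * v⁻¹ := by
    rw [map_mul, map_inv, inv_mul_eq_iff_eq_mul, ← mul_assoc, ← e, mul_inv_cancel_right]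
  rw [this]
  exact mul_mem hw (inv_mem hv)

variable (E : Ex F)

theorem zθ : Commute F.z (C.h⁻¹ * E.θ * C.h) :=
  (C.h_facts.2.1.inv_right.mul_right E.θ_facts.2.2.2.2.1).mul_right C.h_facts.2.1

theorem gX (q : N3 true) : C.g q ∈ E.X := by
  obtain ⟨-, hd, hz, -, -, cm, -⟩ := E.memX
  have nX := E.nX
  have VX : F.V ≤ E.X := (closure_le _).2 (by rintro _ (rfl | rfl) <;> assumption)
  have i1 : C.g (I, 1, 1) ∈ E.X := by
    have := cm (C.f tM) (C.f (inl (W, 1, 1)))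
    rw [← map_inv, ← map_inv, ← map_mul, ← map_mul, ← map_mul,
      show tM⁻¹ * (inl (W, 1, 1))⁻¹ * tM * inl (W, 1, 1) = (inl (I, 1, 1) : SM true) by decide +kernel] at this
    exact this
  obtain ⟨-, -, -, -, -, hdθ, -, q', e, b1, -, -⟩ := C.pp E
  obtain ⟨n, hn, nz, nd, v0, hv0, e'⟩ := C.ctrl (zθ C E) hdθ e
  obtain ⟨p', v, hv, e1⟩ := (C.nE hn nz nd I).1
  obtain ⟨p'', v', hv', e2⟩ := (C.nE hn nz nd I⁻¹).2.1
  have e3 : C.g (p', p'', 1) * (v * v') = C.g q' * v0 := by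
    rw [← e', g3 C I, g3 C p']
    calc _ = C.g (p', 1, 1) * (C.g (1, p'', 1) * v) * v' * C.g (1, 1, 1) := by
          rw [show C.g (1, 1, 1) = 1 from map_one C.g]; group
      _ = C.g (p', 1, 1) * v * (C.g (1, p'', 1) * v') * C.g (1, 1, 1) := by
          rw [← (cVn (zg C _) (dg C _) v hv).eq]; group
      _ = _ := by rw [← e1, ← e2, show C.g (1, 1, 1) = 1 from map_one C.g]; group
  have k := (modV C (mul_mem hv hv') hv0 e3).1
  have m : C.g (p', 1, 1) ∈ E.X := by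
    have := nX.conj_mem' _ i1 n
    rw [e1] at this
    exact (mul_mem_cancel_right (VX hv)).1 this
  have a1 : ∀ p, C.g (p, 1, 1) ∈ E.X := by
    intro p
    have : ∀ p p' q : Qm true, cz (q⁻¹ * p') → q.b = true → ∃ i : Fin 4, p = I ^ i.val ∨ p = I ^ i.val * p' := by
      decide +kernel
    obtain ⟨i, rfl | rfl⟩ := this p p' _ k b1
    · have := pow_mem i1 i.val
      rw [← map_pow] at this
      simpa using this
    · have := mul_mem (pow_mem i1 i.val) m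
      rw [← map_pow, ← map_mul] at this
      simpa using this
  have a2 : ∀ p, C.g (1, p, 1) ∈ E.X := fun p => C.rr p 1 1 ▸ nX.conj_mem' _ (a1 p) C.r
  have a3 : ∀ p, C.g (1, 1, p) ∈ E.X := fun p => C.rr 1 p 1 ▸ nX.conj_mem' _ (a2 p) C.r
  obtain ⟨p, q, u⟩ := q
  rw [g3]
  exact mul_mem (mul_mem (a1 p) (a2 q)) (a3 u)

theorem MX : C.M ≤ E.X :=
  sup_le (by rintro _ ⟨q, rfl⟩; exact gX C E q) (zpowers_le.2 E.memX.2.2.2.1)

theorem EX : (∀ y, C.f y ∈ E.X ↔ y.right.t = false) ∧ MSS.SylIn 2 C.M E.X := by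
  have k : ∀ y, C.f y ∈ E.X ↔ y.right.t = false := by
    intro y
    refine ⟨fun h => ?_, fun h => MX C E (C.mem_M.2 ⟨y, h, rfl⟩)⟩
    by_contra h'
    have : C.f (y * tM) ∈ E.X := MX C E (C.mem_M.2 ⟨_, by
      change xor y.right.t true = false
      rw [Bool.not_eq_false] at h'
      rw [h']; rfl, rfl⟩)
    rw [map_mul, C.ft] at this
    exact C.tX E ((mul_mem_cancel_left h).1 this)
  refine ⟨k, ?_⟩
  have nX := E.nX
  have := C.syl.inf_normal_of_le (N := E.X) le_normalizer_of_normal le_top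
  convert this using 1
  ext x
  rw [C.mem_M]
  constructor
  · rintro ⟨y, h, rfl⟩
    exact ⟨⟨y, rfl⟩, (k y).2 h⟩
  · rintro ⟨⟨y, rfl⟩, h⟩
    exact ⟨y, (k y).1 h, rfl⟩

theorem MY {x : G} (hM : x ∈ C.M) (hY : x ∈ C.Y E) : ∃ p q, x = C.g (p, q, 1) ∨ x = C.g (p, q, 1) * F.e := by
  obtain ⟨⟨⟨p, q, u⟩, ⟨e, t⟩⟩, rfl, rfl⟩ := C.mem_M.1 hM
  have h := (C.mem_Y.1 hY).2
  have h1 := (h I).eq
  have h2 := (h W).eq
  rw [C.g_def, ← map_mul, ← map_mul, C.f_eq] at h1 h2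
  have hu : cz u := by
    have key : ∀ u v : Qm true, ∀ x : Qm true, 1 * x ≠ x * 1 * Z ∧ (I * u = u * I → W * u = u * W → cz u) := by decide +kernel
    cases e
    · rcases h1 with h1 | h1
      · rcases h2 with h2 | h2
        · exact (key u u u).2 (congrArg (fun y : SM true => y.left.2.2) h1) (congrArg (fun y : SM true => y.left.2.2) h2)
        · exact absurd (congrArg (fun y : SM true => y.left.1) h2) (key u u p).1
      · exact absurd (congrArg (fun y : SM true => y.left.1) h1) (key u u p).1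
    · rcases h1 with h1 | h1
      · rcases h2 with h2 | h2
        · exact (key u u u).2 (congrArg (fun y : SM true => y.left.2.2) h1) (congrArg (fun y : SM true => y.left.2.2) h2)
        · exact absurd (congrArg (fun y : SM true => y.left.1) h2) (key u u p).1
      · exact absurd (congrArg (fun y : SM true => y.left.1) h1) (key u u p).1
  obtain ⟨p', q', e'⟩ : ∃ p' q', C.g (p, q, u) = C.g (p', q', 1) := by
    rcases hu with rfl | rfl
    · exact ⟨p, q, rfl⟩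
    · refine ⟨p * Z, q * Z, (g_eq C).2 (Or.inr ?_)⟩
      have : ∀ p : Qm true, p = p * Z * Z := by decide +kernel
      exact Prod.ext (this p) (Prod.ext (this q) (one_mul _).symm)
  refine ⟨p', q', ?_⟩
  cases e
  · exact Or.inl e'
  · right
    have : (⟨(p, q, u), ⟨true, false⟩⟩ : SM true) = inl (p, q, u) * eM := SemidirectProduct.ext (mul_one _).symm rfl
    rw [this, map_mul, C.fe, ← e']
    rfl

omit [Finite G] in
theorem c13 (p q u : Qm true) : Commute (C.g (1, 1, u)) (C.g (p, q, 1)) :=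
  Commute.map (f := C.g) (Prod.ext (by simp) (Prod.ext (by simp) (by simp)))

omit [Finite G] in
theorem ce (u : Qm true) : Commute (C.g (1, 1, u)) F.e := by
  rw [← C.fe]
  refine Commute.map (f := C.f) (x := inl (1, 1, u)) ?_
  revert u
  unfold Commute SemiconjBy
  decide +kernel

theorem E1Y : C.E1 ≤ C.Y E := by
  intro x hx
  obtain ⟨p, q, rfl⟩ := C.mem_E1.1 hx
  exact C.mem_Y.2 ⟨gX C E _, fun u => c13 C p q u⟩

theorem syl12 : MSS.SylIn 2 (C.E1 ⊔ zpowers F.e) (C.Y E) ∧ MSS.SylIn 2 C.E1 (C.Y E ⊓ centralizer {F.d}) := by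
  have nX := E.nX
  have eY : F.e ∈ C.Y E := C.mem_Y.2 ⟨E.memX.2.2.2.1, ce C⟩
  have MN : C.M ≤ normalizer (C.Q3 : Set G) := by
    refine sup_le ?_ (zpowers_le.2 (centralizer_le_normalizer _ (mem_centralizer_iff.2 ?_)))
    · rintro _ ⟨⟨p, q, u⟩, rfl⟩
      refine mem_normalizer_fintype fun x hx => ?_
      obtain ⟨w, rfl⟩ := C.mem_Q3.1 hx
      refine C.mem_Q3.2 ⟨u * w * u⁻¹, ?_⟩
      rw [← map_inv, ← map_mul, ← map_mul]
      simp
    · intro x hx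
      obtain ⟨w, rfl⟩ := C.mem_Q3.1 hx
      exact ce C w
  have s1 : MSS.SylIn 2 (C.E1 ⊔ zpowers F.e) (C.Y E) := by
    have := ((EX C E).2.inf_of_le MN).inf_normal_of_le (N := C.Y E)
      (le_normalizer_inf le_normalizer_of_normal (le_normalizer_centralizer inf_le_right))
      (inf_le_inf_left _ (centralizer_le_normalizer _))
    convert this using 1
    apply le_antisymm
    · refine sup_le (le_inf ?_ (E1Y C E)) (zpowers_le.2 ⟨mem_sup_right (mem_zpowers _), eY⟩)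
      intro x hx
      obtain ⟨p, q, rfl⟩ := C.mem_E1.1 hx
      exact mem_sup_left ⟨_, rfl⟩
    · intro x hx
      obtain ⟨p, q, rfl | rfl⟩ := MY C E hx.1 hx.2
      · exact mem_sup_left (C.mem_E1.2 ⟨p, q, rfl⟩)
      · exact mul_mem (mem_sup_left (C.mem_E1.2 ⟨p, q, rfl⟩)) (mem_sup_right (mem_zpowers _))
  refine ⟨s1, ?_⟩
  have EK : C.E1 ≤ C.Y E ⊓ centralizer {F.d} := le_inf (E1Y C E) fun x hx => by
    obtain ⟨p, q, rfl⟩ := C.mem_E1.1 hx
    exact mem_centralizer_singleton_iff.2 (dg C _).symm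
  have ed : F.e⁻¹ * F.d * F.e = F.d * F.z := by
    rw [← C.fe, ← C.fd, ← C.fz, ← map_inv, ← map_mul, ← map_mul, ← map_mul, C.f_eq]
    decide +kernel
  have RN : C.E1 ⊔ zpowers F.e ≤ normalizer ((C.Y E ⊓ centralizer {F.d} : Subgroup G) : Set G) := by
    refine sup_le (EK.trans le_normalizer) (zpowers_le.2 (mem_normalizer_fintype fun x hx => ?_))
    refine ⟨(C.Y E).mul_mem ((C.Y E).mul_mem eY hx.1) ((C.Y E).inv_mem eY), mem_centralizer_singleton_iff.2 ?_⟩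
    have c1 : Commute F.d x := (mem_centralizer_singleton_iff.1 hx.2).symm
    have c2 : Commute F.z x := C.fz ▸ (C.mem_Y.1 hx.1).2 Z
    have c3 := (c1.mul_left c2).eq
    rw [← ed] at c3
    calc F.e * x * F.e⁻¹ * F.d = F.e * (x * (F.e⁻¹ * F.d * F.e)) * F.e⁻¹ := by group
      _ = _ := by rw [← c3]; group
  have := (s1.inf_of_le RN).inf_normal_of_le (N := C.Y E ⊓ centralizer {F.d}) inf_le_right
    (le_inf inf_le_left le_normalizer)
  convert this using 1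
  refine le_antisymm (le_inf le_sup_left EK) fun x hx => ?_
  have hM : x ∈ C.M := sup_le_sup_right (show C.E1 ≤ C.E0 from fun x hx => by
    obtain ⟨p, q, rfl⟩ := C.mem_E1.1 hx
    exact ⟨_, rfl⟩) _ hx.1
  obtain ⟨p, q, rfl | rfl⟩ := MY C E hM hx.2.1
  · exact C.mem_E1.2 ⟨p, q, rfl⟩
  · exfalso
    have c1 : Commute F.d (C.g (p, q, 1) * F.e) := (mem_centralizer_singleton_iff.1 hx.2.2).symm
    have c2 : Commute F.d F.e := by simpa using (dg C (p, q, 1)).inv_right.mul_right c1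
    rw [mul_assoc, c2.eq, inv_mul_cancel_left, left_eq_mul] at ed
    exact F.c4 ed

theorem sylY (sg : ∀ u : Qm true, Commute (C.g (1, 1, u)) F.c ∧ Commute (C.g (1, 1, u)) E.θ) :
    MSS.SylIn 2 (C.E1 ⊔ zpowers F.e) (C.Y E) ∧ MSS.SylIn 2 C.E1 (C.Y E ⊓ centralizer {F.d}) ∧
    F.c ∈ C.Y E ∧ F.d ∈ C.Y E ∧ E.θ ∈ C.Y E ∧ C.h ∈ C.Y E := by
  have hc : F.c ∈ C.Y E := C.mem_Y.2 ⟨E.memX.1, fun u => (sg u).1⟩
  have hd : F.d ∈ C.Y E := C.mem_Y.2 ⟨E.memX.2.1, fun u => (dg C _).symm⟩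
  exact ⟨(syl12 C E).1, (syl12 C E).2, hc, hd, C.mem_Y.2 ⟨E.θ_facts.2.2.1, fun u => (sg u).2⟩,
    mul_mem (E1Y C E (C.mem_E1.2 ⟨_, _, rfl⟩)) (mul_mem hc hd)⟩

theorem nn (sg : ∀ u : Qm true, Commute (C.g (1, 1, u)) F.c ∧ Commute (C.g (1, 1, u)) E.θ) :
    ∃ n ∈ C.Y E, Commute F.d n ∧
    (∃ v ∈ F.V, n⁻¹ * C.g (I, 1, 1) * n = C.g (W, 1, 1) * v) ∧
    (∃ v ∈ F.V, n⁻¹ * C.g (W, 1, 1) * n = C.g (I * W, 1, 1) * v) ∧
    (∃ v ∈ F.V, n⁻¹ * C.g (1, I, 1) * n = C.g (1, I * W, 1) * v) ∧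
    (∃ v ∈ F.V, n⁻¹ * C.g (1, W, 1) * n = C.g (1, I, 1) * v) := by
  obtain ⟨-, s2, -, -, hθ, hh⟩ := sylY C E sg
  obtain ⟨-, -, -, -, -, hdθ, -, q', e, b1, b2, par⟩ := C.pp E
  set K := C.Y E ⊓ centralizer {F.d} with hK
  set θ' := C.h⁻¹ * E.θ * C.h with hθ'
  have θK : θ' ∈ K := ⟨(C.Y E).mul_mem ((C.Y E).mul_mem ((C.Y E).inv_mem hh) hθ) hh,
    mem_centralizer_singleton_iff.2 hdθ.symm⟩
  have Kz : ∀ k ∈ K, Commute F.z k := fun k hk => C.fz ▸ (C.mem_Y.1 hk.1).2 Z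
  have Kd : ∀ k ∈ K, Commute F.d k := fun k hk => (mem_centralizer_singleton_iff.1 hk.2).symm
  have KV : ∀ k ∈ K, ∀ v ∈ F.V, Commute v k := fun k hk => cVn (Kz k hk) (Kd k hk)
  have cm0 : ∀ p q : N3 true, (C.g p)⁻¹ * ((C.g q)⁻¹ * C.g p * C.g q) ∈ F.V := by
    intro p q
    rw [← map_inv, ← map_inv, ← map_mul, ← map_mul, ← map_mul, gV]
    exact ⟨cz_cm _ _, cz_cm _ _, cz_cm _ _⟩
  let K2 : Subgroup G :=
    { carrier := {k | k ∈ K ∧ (C.g q')⁻¹ * (k⁻¹ * C.g q' * k) ∈ F.V}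
      one_mem' := ⟨one_mem _, by simp⟩
      mul_mem' := by
        rintro a b ⟨aK, ha⟩ ⟨bK, hb⟩
        refine ⟨mul_mem aK bK, ?_⟩
        have : (C.g q')⁻¹ * ((a * b)⁻¹ * C.g q' * (a * b)) =
            (C.g q')⁻¹ * (b⁻¹ * C.g q' * b) * ((C.g q')⁻¹ * (a⁻¹ * C.g q' * a)) := by
          calc _ = (C.g q')⁻¹ * b⁻¹ * C.g q' * ((C.g q')⁻¹ * (a⁻¹ * C.g q' * a) * b) := by group
            _ = _ := by rw [(KV b bK _ ha).eq]; group
        rw [this]
        exact mul_mem hb ha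
      inv_mem' := by
        rintro a ⟨aK, ha⟩
        refine ⟨inv_mem aK, ?_⟩
        have : (C.g q')⁻¹ * (a⁻¹⁻¹ * C.g q' * a⁻¹) = ((C.g q')⁻¹ * (a⁻¹ * C.g q' * a))⁻¹ := by
          have c1 := (KV a aK _ ha).eq
          have c2 := (cVn (zg C q') (dg C q') _ ha).eq
          generalize hv : (C.g q')⁻¹ * (a⁻¹ * C.g q' * a) = v at c1 c2
          have e1 : C.g q' * a = a * C.g q' * v := by rw [← hv]; group
          rw [eq_inv_iff_mul_eq_one]
          calc _ = (C.g q')⁻¹ * (a * C.g q' * (a⁻¹ * v * a)) * a⁻¹ := by group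
            _ = (C.g q')⁻¹ * (a * C.g q' * v) * a⁻¹ := by rw [mul_assoc a⁻¹, c1, inv_mul_cancel_left]
            _ = 1 := by rw [← e1]; group
        rw [this]
        exact inv_mem ha }
  have K2K : K2 ≤ K := fun k hk => hk.1
  have l1 : C.E1 ≤ K2 := fun x hx => ⟨s2.le hx, by
    obtain ⟨p, q, rfl⟩ := C.mem_E1.1 hx
    exact cm0 _ _⟩
  have s3 := s2.cj_of_mem (inv_mem θK)
  have l2 : θ'⁻¹ •ᶜ C.E1 ≤ K2 := fun x hx => ⟨s3.le hx, by
    obtain ⟨y, hy, rfl⟩ := mem_cj'.1 hx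
    obtain ⟨p, q, rfl⟩ := C.mem_E1.1 hy
    have m := cm0 (I, I⁻¹, 1) (p, q, 1)
    have c := (KV θ' θK _ m).eq
    rw [← e]
    convert m using 1
    calc _ = θ'⁻¹ * ((C.g (I, I⁻¹, 1))⁻¹ * ((C.g (p, q, 1))⁻¹ * C.g (I, I⁻¹, 1) * C.g (p, q, 1)) * θ') := by group
      _ = _ := by rw [c, inv_mul_cancel_left]⟩
  obtain ⟨k, hk, ek⟩ := (s3.of_le l2 K2K).exists_conj (s2.of_le l1 K2K)
  obtain ⟨n, hn⟩ : ∃ n, n = θ' * k⁻¹ := ⟨_, rfl⟩
  have nK : n ∈ K := hn ▸ mul_mem θK (inv_mem hk.1)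
  have nN : n ∈ normalizer (C.E1 : Set G) := by
    rw [← inv_mem_iff]
    refine mem_normalizer_fintype fun x hx => ?_
    have : k * (θ'⁻¹ * x * θ'⁻¹⁻¹) * k⁻¹ ∈ C.E1 := ek ▸ conj_mem_cj (conj_mem_cj hx)
    have e1 : n⁻¹ * x * n⁻¹⁻¹ = k * (θ'⁻¹ * x * θ'⁻¹⁻¹) * k⁻¹ := by rw [hn]; group
    rw [e1]
    exact this
  obtain ⟨v0, hv0, e0⟩ : ∃ v0 ∈ F.V, n⁻¹ * C.g (I, I⁻¹, 1) * n = C.g q' * v0 := by
    refine ⟨_, (K2.inv_mem hk).2, ?_⟩
    rw [mul_inv_cancel_left, ← e, hn]; group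
  have n0 : n ∈ normalizer (C.E0 : Set G) := by
    refine mem_normalizer_fintype ?_
    rintro _ ⟨⟨p, q, u⟩, rfl⟩
    obtain ⟨p', q', e1⟩ := C.mem_E1.1 ((mem_normalizer_iff.1 nN _).1 (C.mem_E1.2 ⟨p, q, rfl⟩))
    refine ⟨(p', q', 1) * (1, 1, u), ?_⟩
    have : ((p, q, u) : N3 true) = (p, q, 1) * (1, 1, u) := by simp
    rw [this, map_mul, map_mul, e1, mul_assoc, ← ((C.mem_Y.1 nK.1).2 u).inv_right.eq]
    group
  obtain ⟨j, p0, q0, ej⟩ : ∃ j p q, C.g (p, q, 1) = n ^ (2 * j + 1) := by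
    obtain ⟨a, m, ⟨j, rfl⟩, eo⟩ := Nat.exists_eq_two_pow_mul_odd (orderOf_pos n).ne'
    refine ⟨j, C.mem_E1.1 (s2.le_of_normalizes (R := zpowers (n ^ (2 * j + 1))) ?_ (zpowers_le.2 (pow_mem nK _))
      (zpowers_le.2 (pow_mem nN _)) (mem_zpowers _))⟩
    rintro ⟨_, i, rfl⟩
    refine ⟨a, Subtype.ext ?_⟩
    show ((n ^ (2 * j + 1)) ^ i) ^ 2 ^ a = 1
    rw [← zpow_natCast, ← zpow_mul, mul_comm i, zpow_mul, zpow_natCast, ← pow_mul, mul_comm (2 * j + 1), ← eo,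
      pow_orderOf_eq_one, one_zpow]
  let ι1 : Qm true →* G := C.g.comp (MonoidHom.inl _ _)
  let ι2 : Qm true →* G := C.g.comp ((MonoidHom.inr _ _).comp (MonoidHom.inl _ _))
  have V1 : ∀ p, ι1 p ∈ F.V ↔ cz p := fun p => (gV C (q := (p, 1, 1))).trans
    ⟨fun h => h.1, fun h => ⟨h, Or.inl rfl, Or.inl rfl⟩⟩
  have V2 : ∀ p, ι2 p ∈ F.V ↔ cz p := fun p => (gV C (q := (1, p, 1))).trans
    ⟨fun h => h.2.1, fun h => ⟨Or.inl rfl, h, Or.inl rfl⟩⟩
  have c1 : ∀ v ∈ F.V, ∀ p, Commute v (ι1 p) := fun v hv p => cVn (zg C _) (dg C _) v hv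
  have c2 : ∀ v ∈ F.V, ∀ p, Commute v (ι2 p) := fun v hv p => cVn (zg C _) (dg C _) v hv
  have h1 : ∀ p, ∃ p', A F.V ι1 n p p' := fun p => (C.nE n0 (Kz n nK) (Kd n nK) p).1
  have h2 : ∀ p, ∃ p', A F.V ι2 n p p' := fun p => (C.nE n0 (Kz n nK) (Kd n nK) p).2.1
  have k1 : ∀ p, A F.V ι1 (n ^ (2 * j + 1)) p p := fun p =>
    ⟨_, cm0 (p, 1, 1) (p0, q0, 1), by rw [← ej]; exact (mul_inv_cancel_left _ _).symm⟩
  have k2 : ∀ p, A F.V ι2 (n ^ (2 * j + 1)) p p := fun p =>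
    ⟨_, cm0 (1, p, 1) (p0, q0, 1), by rw [← ej]; exact (mul_inv_cancel_left _ _).symm⟩
  have cn := KV n nK
  have y1 := fun {x y : Qm true} => A.cyc (x := x) (y := y) V1 c1 cn h1 k1
  have y2 := fun {x y : Qm true} => A.cyc (x := x) (y := y) V2 c2 cn h2 k2
  obtain ⟨p1, a1⟩ := h1 I
  obtain ⟨p2, a2⟩ := h2 I
  have hc : (cz (W⁻¹ * p1) ∧ cz ((I * W)⁻¹ * p2)) ∨ (cz ((I * W)⁻¹ * p1) ∧ cz (W⁻¹ * p2)) := by
    obtain ⟨v, hv, e1⟩ := a1
    obtain ⟨v', hv', e2⟩ := A.mul c2 (A.mul c2 a2 a2) a2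
    have e1' : n⁻¹ * C.g (I, 1, 1) * n = C.g (p1, 1, 1) * v := e1
    have e2' : n⁻¹ * C.g (1, I⁻¹, 1) * n = C.g (1, p2 * p2 * p2, 1) * v' := e2
    have e3 : C.g (p1, p2 * p2 * p2, 1) * (v * v') = C.g q' * v0 := by
      rw [← e0, g3 C I, g3 C p1]
      calc _ = C.g (p1, 1, 1) * (C.g (1, p2 * p2 * p2, 1) * v) * v' * C.g (1, 1, 1) := by
            rw [show C.g (1, 1, 1) = 1 from map_one C.g]; group
        _ = C.g (p1, 1, 1) * v * (C.g (1, p2 * p2 * p2, 1) * v') * C.g (1, 1, 1) := by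
            rw [← (cVn (zg C _) (dg C _) v hv).eq]; group
        _ = _ := by rw [← e1', ← e2', show C.g (1, 1, 1) = 1 from map_one C.g]; group
    obtain ⟨m1, m2, -⟩ := modV C (mul_mem hv hv') hv0 e3
    have : ∀ p1 p2 q1 q2 : Qm true, cz (q1⁻¹ * p1) → cz (q2⁻¹ * (p2 * p2 * p2)) → q1.b = true → q2.b = true →
        (q1.a + q2.a).val % 2 = 1 → (cz (W⁻¹ * p1) ∧ cz ((I * W)⁻¹ * p2)) ∨ (cz ((I * W)⁻¹ * p1) ∧ cz (W⁻¹ * p2)) := by
      decide +kernel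
    exact this _ _ _ _ m1 m2 b1 b2 par
  have u1 : ∀ {ι : Qm true →* G}, (∀ p, ι p ∈ F.V ↔ cz p) →
      (∀ {x y : Qm true}, A F.V ι n x y → ¬ cz x → ¬ cz y → ¬ cz (x * y) → A F.V ι n y (x * y)) →
      (A F.V ι n I W → A F.V ι n W (I * W) ∧ A F.V ι n (I * W) I) ∧
      (A F.V ι n I (I * W) → A F.V ι n (I * W) W ∧ A F.V ι n W I) := by
    intro ι hV y
    constructor
    · intro a
      have b := y a (by decide +kernel) (by decide +kernel) (by decide +kernel)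
      exact ⟨b, (y b (by decide +kernel) (by decide +kernel) (by decide +kernel)).eqv hV (by decide +kernel)⟩
    · intro a
      have b : A F.V ι n (I * W) W :=
        (y a (by decide +kernel) (by decide +kernel) (by decide +kernel)).eqv hV (by decide +kernel)
      exact ⟨b, (y b (by decide +kernel) (by decide +kernel) (by decide +kernel)).eqv hV (by decide +kernel)⟩
  rcases hc with ⟨l1, l2⟩ | ⟨l1, l2⟩
  · have a1' := a1.eqv V1 l1
    have a2' := a2.eqv V2 l2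
    exact ⟨n, nK.1, Kd n nK, a1', ((u1 V1 y1).1 a1').1, a2', ((u1 V2 y2).2 a2').2⟩
  · have a1' := a1.eqv V1 l1
    have a2' := a2.eqv V2 l2
    obtain ⟨b1, b2⟩ := (u1 V1 y1).2 a1'
    obtain ⟨b3, b4⟩ := (u1 V2 y2).1 a2'
    exact ⟨n * n, mul_mem nK.1 nK.1, (Kd n nK).mul_right (Kd n nK), a1'.trans b1 cn, b2.trans a1' cn,
      a2'.trans b3 cn, b3.trans b4 cn⟩

end CL.H3.CU2
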