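import Cfsg.Agent.INV.H3.CU1
import Cfsg.Agent.INV.H3.CU2

/-! S3140, case `PSp₆(3)`: `Q₃` centralises `C_L(z)`.  `x ^ g = g⁻¹ * x * g`; `a = c² = d e`, `b = c d`,
`i = g (1, 1, I)`, `w = g (1, 1, W)`, `i₁ = g (I, 1, 1)`, `h = i₁ b`. -/

set_option autoImplicit false
open Subgroup

namespace CL.H3.Cm
open CL.HL Qm
variable {G : Type*} [Group G] [Finite G] {F : Fr G} (C : Cm F true) (E : Ex F)

/-- An element `x` commuting with `d` and `a` with `b ^ x ∈ P` has `b ^ x ∈ b ⟨z⟩` (`a ^ d = a⁻¹`, `b ^ d = a b`; if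
`b ^ x = a b z ^ k` compare `b ^ (x d)` and `b ^ (d x)`).  `i` normalises `P` (`nP`, `t ^ i = t z`), so `i ^ b⁻¹ ∈ i ⟨z⟩`;
`P ^ h` centralises `Q₃` (`pp`), so `P ^ i₁` centralises `i`, and `P` does; `θ` by `cθ`.  `t ^ w = t i` is centralised
by `θ`, so `θ₁ = w θ w⁻¹ ∈ C(t, z)` normalises `P` and `w b w⁻¹ = θ₁⁻¹ a θ₁ ∈ P`; as before `P` centralises `w`.
`θ₁ = ψ(m) o` (`oddH`) is inverted by `d`, so `o = 1`; `θ₁ θ⁻¹ ∈ ψ(GB)` centralises `a, b`, so `θ₁ ∈ θ ⟨z⟩`,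
`θ₁ = θ`.  `c = b d`. -/
theorem sig (u : Qm true) : Commute (C.g (1, 1, u)) F.c ∧ Commute (C.g (1, 1, u)) E.θ :=
  CU1.sig C E u

/-- `i_k ∈ X` (commutators); `ctrl`, `nE`, `pp`: `i₁ ^ n = g (p', 1, 1) v` with `p'.b = true`, so `w₁ ∈ X`; conjugate by
`r`. -/
theorem EX : (∀ y, C.f y ∈ E.X ↔ y.right.t = false) ∧ MSS.SylIn 2 C.M E.X :=
  CU2.EX C E

/-- `R = E1 ⟨e⟩ = C_M(Q₃)` is Sylow in `Y ⊴ N_X(Q₃) ≥ M`; `E1` is Sylow in `C_Y(d) ⊴ N_X(Q₃) ∩ N(V) ≥ M`. -/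
theorem sylY : MSS.SylIn 2 (C.E1 ⊔ zpowers F.e) (C.Y E) ∧ MSS.SylIn 2 C.E1 (C.Y E ⊓ centralizer {F.d}) ∧
    F.c ∈ C.Y E ∧ F.d ∈ C.Y E ∧ E.θ ∈ C.Y E ∧ C.h ∈ C.Y E :=
  CU2.sylY C E (sig C E)

/-- `K = C_Y(d) ∋ θ ^ h` has the Sylow subgroup `E1`, abelian modulo `V`: `E1` and `E1 ^ θ'` are Sylow in
`{k ∈ K | [g q, k] ∈ V}`, so `j ^ n ∈ g q V` with `n ∈ N_K(E1)`.  The 2-part of `n` lies in `E1` and acts trivially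
modulo `V`: take `n` of odd order.  `n` normalises `E0 = E1 Q₃`; by `nE` it permutes the three classes of `Q₁` and of
`Q₂` modulo `V`, cyclically; by `pp`, `(I, I) ↦ (W, I W)` or `(I W, W)`; in the second case take `n²`. -/
theorem nn : ∃ n ∈ C.Y E, Commute F.d n ∧
    (∃ v ∈ F.V, n⁻¹ * C.g (I, 1, 1) * n = C.g (W, 1, 1) * v) ∧
    (∃ v ∈ F.V, n⁻¹ * C.g (W, 1, 1) * n = C.g (I * W, 1, 1) * v) ∧
    (∃ v ∈ F.V, n⁻¹ * C.g (1, I, 1) * n = C.g (1, I * W, 1) * v) ∧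
    (∃ v ∈ F.V, n⁻¹ * C.g (1, W, 1) * n = C.g (1, I, 1) * v) :=
  CU2.nn C E (sig C E)

end CL.H3.Cm
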