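import Cfsg.Agent.INV.H3.CT

/-! S3140, case `PSp₆(3)`: `Q₃` centralises `C_L(z)`.  `x ^ g = g⁻¹ * x * g`. -/

set_option autoImplicit false
open Subgroup

namespace CL.H3.CU1
open CL.HL Qm L1 SemidirectProduct
variable {G : Type*} [Group G] [Finite G] {F : Fr G} (C : Cm F true) (E : Ex F)

omit [Finite G] in
theorem memP {x : G} (hx : x ∈ E.P) : ∃ m : GB, (m.1.det = 1 ∧ m ^ 4 = 1) ∧ E.ψ m = x := by
  induction hx using closure_induction with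
  | mem x hx =>
    rcases hx with rfl | rfl
    exacts [⟨_, by decide +kernel, E.ψa⟩, ⟨_, by decide +kernel, E.ψb⟩]
  | one => exact ⟨1, by decide +kernel, map_one _⟩
  | mul x y _ _ h1 h2 =>
    obtain ⟨m, hm, rfl⟩ := h1
    obtain ⟨n, hn, rfl⟩ := h2
    exact ⟨m * n, (by decide +kernel : ∀ m : GB, m.1.det = 1 ∧ m ^ 4 = 1 → ∀ n : GB, n.1.det = 1 ∧ n ^ 4 = 1 →
      (m * n).1.det = 1 ∧ (m * n) ^ 4 = 1) m hm n hn, map_mul _ _ _⟩
  | inv x _ h =>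
    obtain ⟨m, hm, rfl⟩ := h
    exact ⟨m⁻¹, (by decide +kernel : ∀ m : GB, m.1.det = 1 ∧ m ^ 4 = 1 →
      (m⁻¹).1.det = 1 ∧ m⁻¹ ^ 4 = 1) m hm, map_inv _ _⟩

omit [Finite G] in
theorem key {x : G} (hd : Commute F.d x) (ha : Commute (F.c ^ 2) x) (h : x⁻¹ * (F.c * F.d) * x ∈ E.P) :
    x⁻¹ * (F.c * F.d) * x = F.c * F.d ∨ x⁻¹ * (F.c * F.d) * x = F.c * F.d * F.z := by
  obtain ⟨m, hm, e⟩ := memP E h
  have e0 : F.d⁻¹ * (F.c * F.d) * F.d = F.c ^ 2 * (F.c * F.d) := by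
    rw [← E.ψa, ← E.ψb, ← E.ψd, ← map_inv, ← map_mul, ← map_mul, ← map_mul]
    exact congrArg E.ψ (by decide +kernel)
  have e1 : dB⁻¹ * m * dB = cB ^ 2 * m := E.ψ_inj (by
    rw [map_mul, map_mul, map_mul, map_inv, E.ψd, E.ψa, e]
    calc _ = x⁻¹ * ((x⁻¹⁻¹ * F.d * x⁻¹)⁻¹ * (F.c * F.d) * (x⁻¹⁻¹ * F.d * x⁻¹)) * x := by group
      _ = x⁻¹ * F.c ^ 2 * x * (x⁻¹ * (F.c * F.d) * x) := by rw [Fr.cj_fix hd.inv_right, e0]; group
      _ = _ := by rw [Fr.cj_fix ha])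
  rw [← e, ← E.ψb, ← E.ψz, ← map_mul]
  exact ((by decide +kernel : ∀ m : GB, m.1.det = 1 ∧ m ^ 4 = 1 → dB⁻¹ * m * dB = cB ^ 2 * m →
    m = cB * dB ∨ m = cB * dB * cB ^ 4) m hm e1).imp (congrArg E.ψ) (congrArg E.ψ)

omit [Finite G] in
theorem c3 (u : Qm true) : Commute F.d (C.g (1, 1, u)) ∧ Commute F.z (C.g (1, 1, u)) ∧
    Commute (F.c ^ 2) (C.g (1, 1, u)) ∧ Commute (C.g (I, 1, 1)) (C.g (1, 1, u)) := by
  obtain ⟨k1, k2, k3, k4⟩ := (by decide +kernel : ∀ u : Qm true,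
    ((Z, 1, 1) * (1, 1, u) : N3 true) = (1, 1, u) * (Z, 1, 1) ∧ (eM * inl (1, 1, u) : SM true) = inl (1, 1, u) * eM ∧
    ((1, 1, Z) * (1, 1, u) : N3 true) = (1, 1, u) * (1, 1, Z) ∧
    ((I, 1, 1) * (1, 1, u) : N3 true) = (1, 1, u) * (I, 1, 1)) u
  have h1 : Commute F.d (C.g (1, 1, u)) := by
    rw [← C.fd]; exact Commute.map (f := C.g) k1
  have h2 : Commute F.e (C.g (1, 1, u)) := by
    rw [← C.fe]; exact Commute.map (f := C.f) k2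
  refine ⟨h1, ?_, ?_, Commute.map (f := C.g) k4⟩
  · rw [← C.fz]; exact Commute.map (f := C.g) k3
  · rw [show F.c ^ 2 = F.d * F.e by rw [Fr.e, ← mul_assoc, F.dd, one_mul]]
    exact h1.mul_left h2

theorem cb (u : Qm true) (h : (C.g (1, 1, u))⁻¹ * (F.c * F.d) * C.g (1, 1, u) ∈ E.P) :
    Commute (F.c * F.d) (C.g (1, 1, u)) := by
  obtain ⟨hd, hz, ha, hi⟩ := c3 C u
  rcases key E hd ha h with e | e
  · exact Fr.comm_of_fix e
  obtain ⟨a', b', -, hb, hz', -⟩ := C.pp E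
  have c1 : Commute (C.h⁻¹ * (F.c * F.d) * C.h) (C.g (1, 1, u)) := by
    rw [hb]
    obtain ⟨p, q, v⟩ := b'
    refine Commute.map (f := C.g) (Prod.ext (by simp) (Prod.ext (by simp) ?_))
    rcases (hz' rfl).2 with k | k <;> change v = _ at k <;> subst k
    · simp
    · exact (by decide +kernel : ∀ u : Qm true, Z * u = u * Z) u
  have zb : Commute F.z (F.c * F.d) := by rw [← E.ψb]; exact E.zψ _
  have zi : Commute F.z (C.g (I, 1, 1)) := by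
    rw [← C.fz]; exact Commute.map (f := C.g) (show _ * _ = _ * _ by decide +kernel)
  generalize C.g (1, 1, u) = x at *
  have e2 : (F.c * F.d)⁻¹⁻¹ * x * (F.c * F.d)⁻¹ = x * F.z := by
    calc _ = x * (x⁻¹ * (F.c * F.d) * x) * (F.c * F.d)⁻¹ := by group
      _ = _ := by rw [e, ← zb.eq]; group
  have c2 := comm_cj c1 (F.c * F.d)⁻¹
  rw [e2, show (F.c * F.d)⁻¹⁻¹ * (C.h⁻¹ * (F.c * F.d) * C.h) * (F.c * F.d)⁻¹ =
    (C.g (I, 1, 1))⁻¹ * (F.c * F.d) * C.g (I, 1, 1) by rw [Cm.h]; group] at c2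
  have c3 := comm_cj (Ex.cancel_comm c2 ((zi.inv_right.mul_right zb).mul_right zi).symm) (C.g (I, 1, 1))⁻¹
  rw [Fr.cj_fix hi.symm.inv_right] at c3
  convert c3 using 1
  group

theorem sig (u : Qm true) : Commute (C.g (1, 1, u)) F.c ∧ Commute (C.g (1, 1, u)) E.θ := by
  obtain ⟨f1, -, -, tθ, zθ, f4, f5, f6, -⟩ := E.θ_facts
  obtain ⟨di, zi, ai, -⟩ := c3 C I
  obtain ⟨dw, zw, aw, -⟩ := c3 C W
  have ti : (C.g (1, 1, I))⁻¹ * F.t * C.g (1, 1, I) = F.t * F.z := by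
    rw [← C.ft, ← C.fz, Cm.g_def, ← map_inv, ← map_mul, ← map_mul, ← map_mul]
    exact congrArg C.f (by decide +kernel)
  have tw : (C.g (1, 1, W))⁻¹ * F.t * C.g (1, 1, W) = F.t * C.g (1, 1, I) := by
    rw [← C.ft, Cm.g_def, Cm.g_def, ← map_inv, ← map_mul, ← map_mul, ← map_mul]
    exact congrArg C.f (by decide +kernel)
  have aP : F.c ^ 2 ∈ E.P := subset_closure (by simp)
  have bP : F.c * F.d ∈ E.P := subset_closure (by simp)
  have bi := cb C E I (norm_cj (E.nP zi (Or.inr ti)) bP)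
  have θi := E.cθ zi (Or.inr ti) ai bi
  have wi : C.g (1, 1, W⁻¹) = (C.g (1, 1, W))⁻¹ := by rw [← map_inv]; rfl
  have eu : C.g (1, 1, u) = C.g (1, 1, I) ^ u.a.val * C.g (1, 1, W) ^ u.b.toNat := by
    rw [← map_pow, ← map_pow, ← map_mul]
    exact congrArg C.g (Prod.ext (by simp) (Prod.ext (by simp) (eq_pow u)))
  have cw := cb C E W⁻¹
  rw [wi] at cw
  rw [eu]
  generalize C.g (1, 1, W) = w at *
  generalize C.g (1, 1, I) = i at *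
  have t1 : Commute F.t (w⁻¹⁻¹ * E.θ * w⁻¹) := by
    have := comm_cj (tw ▸ tθ.mul_left θi.symm : Commute (w⁻¹ * F.t * w) E.θ) w⁻¹
    convert this using 1
    group
  have z1 : Commute F.z (w⁻¹⁻¹ * E.θ * w⁻¹) := (zw.inv_right.inv_right.mul_right zθ).mul_right zw.inv_right
  have cj : ∀ {p q : G}, Commute p w → E.θ⁻¹ * p * E.θ = q →
      (w⁻¹⁻¹ * E.θ * w⁻¹)⁻¹ * p * (w⁻¹⁻¹ * E.θ * w⁻¹) = w⁻¹⁻¹ * q * w⁻¹ := fun {p q} hp e => by
    calc _ = w * (E.θ⁻¹ * (w⁻¹ * p * w) * E.θ) * w⁻¹ := by group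
      _ = _ := by rw [Fr.cj_fix hp, e, inv_inv]
  have bw : Commute (F.c * F.d) w := by
    simpa using (cw (cj aw f4 ▸ norm_cj (E.nP z1 (Or.inl (Fr.cj_fix t1))) aP)).inv_right
  obtain ⟨m, h3, o, ho, e⟩ := E.oddH t1 z1 (Ex.odd3 (by rw [Ex.pow_cj', f1]; group))
  have k : ∀ p q : GB, Commute (E.ψ p) w → Commute (E.ψ q) w → E.θ⁻¹ * E.ψ p * E.θ = E.ψ q →
      m⁻¹ * p * m = q := fun p q hp hq h => E.ψ_inj (by
    have h1 := cj hp h
    rw [Fr.cj_fix hq.inv_right, e] at h1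
    rw [← h1]
    calc _ = o⁻¹ * E.ψ (m⁻¹ * p * m) * o := (Fr.cj_fix (E.Oψ ho _).symm).symm
      _ = _ := by simp only [map_mul, map_inv]; group)
  have hm : m = θB := eqθ m h3 (k _ _ (E.ψa.symm ▸ aw) (E.ψb.symm ▸ bw) (by rw [E.ψa, E.ψb, f4]))
    (k _ _ (E.ψb.symm ▸ bw) (by
      rw [map_mul, map_mul E.ψ (cB ^ 2), E.ψa, E.ψb, E.ψz]; exact (aw.mul_left bw).mul_left zw)
      (by rw [map_mul E.ψ _ (cB ^ 4), map_mul E.ψ (cB ^ 2), E.ψa, E.ψb, E.ψz, f5]))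
  rw [hm, E.ψθ] at e
  have d' : F.d⁻¹ = F.d := inv_eq_of_mul_eq_one_right F.dd
  have od : Commute o F.d := E.ψd ▸ E.Oψ ho dB
  have θo : Commute o E.θ := E.φO o ho _
  have h1 : E.θ⁻¹ * o = (E.θ * o)⁻¹ := by
    calc _ = F.d⁻¹ * E.θ * F.d * (F.d⁻¹ * o * F.d) := by rw [Fr.cj_fix od, d', f6]
      _ = F.d⁻¹ * (E.θ * o) * F.d := by group
      _ = w * ((w⁻¹ * F.d * w)⁻¹ * E.θ * (w⁻¹ * F.d * w)) * w⁻¹ := by rw [← e]; group
      _ = _ := by rw [Fr.cj_fix dw, d', f6, ← e]; group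
  have o1 : o = 1 := E.O_one ho (k := 1) (by
    rw [← θo.eq, mul_inv_rev, mul_right_inj] at h1
    rw [pow_one, pow_two]
    exact mul_eq_one_iff_eq_inv.2 h1)
  rw [o1, mul_one] at e
  have θw : Commute E.θ w := by simpa using (Fr.comm_of_fix e).inv_right
  have cc : ∀ {x : G}, Commute (F.c * F.d) x → Commute F.d x → Commute x F.c := fun h1 h2 =>
    Ex.cancel_comm h1.symm h2.symm
  exact ⟨((cc bi di).pow_left _).mul_left ((cc bw dw).pow_left _), (θi.symm.pow_left _).mul_left (θw.symm.pow_left _)⟩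

end CL.H3.CU1
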