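import Cfsg.Agent.INV.H3.CT

/-! S3140, case `PSp₆(3)`: the element of order 3 on `Q₁ Q₂` modulo `V`.  `x ^ g = g⁻¹ * x * g`. -/

set_option autoImplicit false
open Subgroup

namespace CL.H3.CU3
open CL.HL CL.MSS Qm SemidirectProduct
variable {G : Type*} [Group G]

/-- `x ^ n ∈ y V` -/
def R (V : Subgroup G) (n x y : G) : Prop := y⁻¹ * (n⁻¹ * x * n) ∈ V

/-- central in `Qm` -/
abbrev cz (p : Qm true) : Prop := p = 1 ∨ p = Z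

section
variable {V : Subgroup G} {n k x x' y y' w : G}

theorem cjV (hn : ∀ v ∈ V, Commute v n) (h : x ∈ V) : n⁻¹ * x * n ∈ V := by rwa [Fr.cj_fix (hn x h)]

theorem R.ex (h : R V n x y) : ∃ v ∈ V, n⁻¹ * x * n = y * v := ⟨_, h, by group⟩

theorem R.of (h : ∃ v ∈ V, n⁻¹ * x * n = y * v) : R V n x y := by
  obtain ⟨v, hv, e⟩ := h
  rwa [R, e, inv_mul_cancel_left]

theorem R.right (h : R V n x y) (e : y'⁻¹ * y ∈ V) : R V n x y' := by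
  have := mul_mem e h
  rwa [show y'⁻¹ * y * (y⁻¹ * (n⁻¹ * x * n)) = y'⁻¹ * (n⁻¹ * x * n) by group] at this

theorem R.left (hn : ∀ v ∈ V, Commute v n) (h : R V n x y) (e : x⁻¹ * x' ∈ V) : R V n x' y := by
  have := mul_mem h (cjV hn e)
  rwa [show y⁻¹ * (n⁻¹ * x * n) * (n⁻¹ * (x⁻¹ * x') * n) = y⁻¹ * (n⁻¹ * x' * n) by group] at this

theorem R.mul (hk : ∀ v ∈ V, Commute v k) (h : R V n x y) (h' : R V k y w) : R V (n * k) x w := by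
  have := mul_mem h' (cjV hk h)
  rwa [show w⁻¹ * (k⁻¹ * y * k) * (k⁻¹ * (y⁻¹ * (n⁻¹ * x * n)) * k) = w⁻¹ * ((n * k)⁻¹ * x * (n * k)) by group] at this

theorem R.inj (hn : ∀ v ∈ V, Commute v n) (h : R V n x y) (h' : R V n x' y) : x⁻¹ * x' ∈ V := by
  have := cjV (fun v hv => (hn v hv).inv_right) (mul_mem (inv_mem h) h')
  rwa [show n⁻¹⁻¹ * ((y⁻¹ * (n⁻¹ * x * n))⁻¹ * (y⁻¹ * (n⁻¹ * x' * n))) * n⁻¹ = x⁻¹ * x' by group] at this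

theorem R.fn (h : R V n x y) (h' : R V n x y') : y⁻¹ * y' ∈ V := by
  have := mul_mem h (inv_mem h')
  rwa [show y⁻¹ * (n⁻¹ * x * n) * (y'⁻¹ * (n⁻¹ * x * n))⁻¹ = y⁻¹ * y' by group] at this

theorem R.odd (hn : ∀ v ∈ V, Commute v n) (h : R V n x y) (h' : R V n y x) (m : ℕ) : R V (n ^ (2 * m + 1)) x y := by
  induction m with
  | zero => simpa using h
  | succ m ih =>
    rw [show 2 * (m + 1) + 1 = 2 * m + 1 + 1 + 1 by ring, pow_succ, pow_succ]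
    exact (ih.mul hn h').mul hn h

theorem cyc (φ : Qm true →* G) (hφ : ∀ p, φ p ∈ V ↔ cz p) (hn : ∀ v ∈ V, Commute v n)
    (ex : ∀ p, ∃ p', R V n (φ p) (φ p')) {m : ℕ} (hm : Odd m) (od : ∀ p, R V (n ^ m) (φ p) (φ p))
    (a b c : Qm true) (dc : ¬ cz b ∧ ¬ cz (a⁻¹ * b) ∧ ∀ p, cz p ∨ cz (a⁻¹ * p) ∨ cz (b⁻¹ * p) ∨ cz (c⁻¹ * p))
    (h : R V n (φ a) (φ b)) : R V n (φ b) (φ c) := by
  obtain ⟨p, hp⟩ := ex b
  have k : ∀ {r s : Qm true}, (φ r)⁻¹ * φ s ∈ V ↔ cz (r⁻¹ * s) := fun {r s} => by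
    rw [← map_inv, ← map_mul, hφ]
  obtain ⟨m, rfl⟩ := hm
  rcases dc.2.2 p with e | e | e | e
  · have := (hp.right (y' := 1) (by simpa using (hφ p).2 e)).inj hn (x' := 1) (by simp [R])
    exact absurd ((hφ b).1 (by simpa using this)) dc.1
  · exact absurd (k.1 ((od a).fn (h.odd hn (hp.right (k.2 e)) m))) dc.2.1
  · exact absurd (k.1 (h.inj hn (hp.right (k.2 e)))) dc.2.1
  · exact hp.right (k.2 e)

end

variable {F : Fr G} (C : Cm F true) (E : Ex F)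

theorem memV (x : N3 true) : C.g x ∈ F.V ↔ cz x.1 ∧ cz x.2.1 ∧ cz x.2.2 := by
  have e : F.d * F.z = C.f (inl (Z, 1, Z)) := by rw [← C.fd, ← C.fz, ← map_mul]; rfl
  rw [F.mem_V, e, ← C.fd, ← C.fz, Cm.g_def, C.ker, C.f_eq, C.f_eq, C.f_eq]
  revert x
  decide +kernel

theorem abV (x y : N3 true) : R F.V (C.g x) (C.g y) (C.g y) := by
  have k : ∀ a b : Qm true, cz (a⁻¹ * (b⁻¹ * a * b)) := by decide +kernel
  rw [R, ← map_inv, ← map_inv, ← map_mul, ← map_mul, ← map_mul, memV]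
  exact ⟨k _ _, k _ _, k _ _⟩

theorem nn [Finite G] (sy : MSS.SylIn 2 (C.E1 ⊔ zpowers F.e) (C.Y E) ∧ MSS.SylIn 2 C.E1 (C.Y E ⊓ centralizer {F.d}) ∧
    F.c ∈ C.Y E ∧ F.d ∈ C.Y E ∧ E.θ ∈ C.Y E ∧ C.h ∈ C.Y E) : ∃ n ∈ C.Y E, Commute F.d n ∧
    (∃ v ∈ F.V, n⁻¹ * C.g (I, 1, 1) * n = C.g (W, 1, 1) * v) ∧
    (∃ v ∈ F.V, n⁻¹ * C.g (W, 1, 1) * n = C.g (I * W, 1, 1) * v) ∧
    (∃ v ∈ F.V, n⁻¹ * C.g (1, I, 1) * n = C.g (1, I * W, 1) * v) ∧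
    (∃ v ∈ F.V, n⁻¹ * C.g (1, W, 1) * n = C.g (1, I, 1) * v) := by
  have : Fact (Nat.Prime 2) := ⟨Nat.prime_two⟩
  obtain ⟨-, hS, -, -, θY, hY⟩ := sy
  obtain ⟨a', b', -, -, -, dθ, -, q, hq, q1, q2, q3⟩ := C.pp E
  have θK : C.h⁻¹ * E.θ * C.h ∈ C.Y E ⊓ centralizer {F.d} :=
    mem_inf.2 ⟨mul_mem (mul_mem (inv_mem hY) θY) hY, mem_centralizer_singleton_iff.2 dθ.symm.eq⟩
  generalize C.h⁻¹ * E.θ * C.h = θ at θK hq
  have Kd : ∀ k ∈ C.Y E ⊓ centralizer {F.d}, Commute F.d k := fun k hk =>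
    (show Commute k F.d from mem_centralizer_singleton_iff.1 hk.2).symm
  have Kz : ∀ k ∈ C.Y E ⊓ centralizer {F.d}, Commute F.z k := fun k hk => C.fz ▸ (C.mem_Y.1 hk.1).2 Z
  have KV : ∀ k ∈ C.Y E ⊓ centralizer {F.d}, ∀ v ∈ F.V, Commute v k := fun k hk v hv => by
    rcases F.mem_V.1 hv with rfl | rfl | rfl | rfl
    exacts [Commute.one_left _, Kz k hk, Kd k hk, (Kd k hk).mul_left (Kz k hk)]
  let K1 : Subgroup G :=
    { carrier := {k | k ∈ C.Y E ⊓ centralizer {F.d} ∧ R F.V k (C.g q) (C.g q)}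
      mul_mem' := fun {a b} ha hb => ⟨mul_mem ha.1 hb.1, ha.2.mul (KV b hb.1) hb.2⟩
      one_mem' := ⟨one_mem _, by simp [R]⟩
      inv_mem' := fun {a} ha => ⟨inv_mem ha.1, by
        have := inv_mem (cjV (KV _ (inv_mem ha.1)) ha.2)
        rwa [show (a⁻¹⁻¹ * ((C.g q)⁻¹ * (a⁻¹ * C.g q * a)) * a⁻¹)⁻¹ = (C.g q)⁻¹ * (a⁻¹⁻¹ * C.g q * a⁻¹) by group]
          at this⟩ }
  obtain ⟨x, hx, le⟩ := (hS.of_le (K := K1) (fun y hy => ⟨hS.le hy, by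
      obtain ⟨p, p', rfl⟩ := C.mem_E1.1 hy
      exact abV C _ _⟩) fun y hy => hy.1).exists_conj_le (isPGroup_cj θ⁻¹ hS.pgroup) fun y hy =>
    ⟨cj_le_of_mem hS.le (inv_mem θK) hy, by
      obtain ⟨p, p', e⟩ := C.mem_E1.1 (mem_cj.1 hy)
      have := cjV (KV _ θK) (abV C (p, p', 1) (I, I⁻¹, 1))
      rw [e] at this
      rw [R, ← hq]
      convert this using 1
      group⟩
  rw [← cj_mul] at le
  have nN : θ * x⁻¹ ∈ normalizer (C.E1 : Set G) := by simpa using inv_mem (mem_normalizer_of_cj_le le)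
  have nK := mul_mem θK (inv_mem hx.1)
  have jn : R F.V (θ * x⁻¹) (C.g (I, I⁻¹, 1)) (C.g q) :=
    R.mul (y := C.g q) (KV _ (inv_mem hx.1)) (by rw [R, hq]; simp) (inv_mem hx).2
  generalize θ * x⁻¹ = n at nN nK jn
  have hn := KV n nK
  have n0 : n ∈ normalizer (C.E0 : Set G) := Fr.norm_of (by
    rintro _ ⟨⟨p, p', u⟩, rfl⟩
    rw [show C.g (p, p', u) = C.g (p, p', 1) * C.g (1, 1, u) by rw [← map_mul]; simp, Fr.cj_mul,
      Fr.cj_fix ((C.mem_Y.1 nK.1).2 u)]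
    obtain ⟨r, r', e⟩ := C.mem_E1.1 (norm_cj nN (C.mem_E1.2 ⟨p, p', rfl⟩))
    exact mul_mem ⟨_, e⟩ ⟨_, rfl⟩)
  obtain ⟨k, m, hm, e⟩ := Nat.exists_eq_two_pow_mul_odd (orderOf_pos n).ne'
  obtain ⟨r, r', em⟩ := C.mem_E1.1 (hS.le_of_normalizes (p2_zpowers (g := n ^ m) (k := k) (by
    rw [← pow_mul, mul_comm, ← e, pow_orderOf_eq_one])) (zpowers_le.2 (pow_mem nK m)) (zpowers_le.2 (pow_mem nN m))
    (mem_zpowers _))
  have nE := C.nE n0 (Kz n nK) (Kd n nK)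
  have c1 := cyc (C.g.comp (MonoidHom.inl _ _)) (fun p => (memV C (p, 1, 1)).trans (by simp [cz])) hn
    (fun p => (nE p).1.imp fun _ => R.of) hm fun p => em ▸ abV C _ _
  have c2 := cyc (C.g.comp ((MonoidHom.inr _ _).comp (MonoidHom.inl _ _)))
    (fun p => (memV C (1, p, 1)).trans (by simp [cz])) hn (fun p => (nE p).2.1.imp fun _ => R.of) hm fun p => em ▸ abV C _ _
  obtain ⟨p1, v1, hv1, e1⟩ := (nE I).1
  obtain ⟨p2, e2⟩ := (nE I⁻¹).2.1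
  have gV : ∀ a b : N3 true, (C.g a)⁻¹ * C.g b ∈ F.V ↔ cz (a.1⁻¹ * b.1) ∧ cz (a.2.1⁻¹ * b.2.1) ∧ cz (a.2.2⁻¹ * b.2.2) :=
    fun a b => by rw [← map_inv, ← map_mul, memV]; rfl
  have e3 : R F.V n (C.g (I, I⁻¹, 1)) (C.g (p1, p2, 1)) := by
    have := mul_mem (cjV (fun v hv => KV _ (hS.le (C.mem_E1.2 ⟨1, p2, rfl⟩)) v hv) hv1) (R.of e2)
    rw [R, show C.g (I, I⁻¹, 1) = C.g (I, 1, 1) * C.g (1, I⁻¹, 1) by rw [← map_mul]; simp, Fr.cj_mul, e1,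
      show C.g (p1, p2, 1) = C.g (p1, 1, 1) * C.g (1, p2, 1) by rw [← map_mul]; simp]
    convert this using 1
    group
  obtain ⟨z1, z2, -⟩ := (gV _ _).1 (jn.fn e3)
  have r1 : R F.V n (C.g (I, 1, 1)) (C.g (p1, 1, 1)) := R.of ⟨v1, hv1, e1⟩
  have r2 : R F.V n (C.g (1, I, 1)) (C.g (1, p2, 1)) := (R.of e2).left hn ((gV _ _).2 (by decide +kernel))
  have o1 : cz ((1 : Qm true)⁻¹ * 1) := by decide +kernel
  rcases (by decide +kernel : ∀ a b : Qm true, a.b = true → b.b = true → (a.a + b.a).val % 2 = 1 → ∀ p : Qm true,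
      cz (a⁻¹ * p) → ∀ p' : Qm true, cz (b⁻¹ * p') → (cz (W⁻¹ * p) ∧ cz ((I * W)⁻¹ * p')) ∨
        (cz ((I * W)⁻¹ * p) ∧ cz (W⁻¹ * p'))) _ _ q1 q2 q3 _ z1 _ z2 with ⟨k1, k2⟩ | ⟨k1, k2⟩
  · have a1 := r1.right ((gV (W, 1, 1) _).2 ⟨k1, o1, o1⟩)
    have b1 := r2.right ((gV (1, I * W, 1) _).2 ⟨o1, k2, o1⟩)
    exact ⟨n, nK.1, Kd n nK, a1.ex, (c1 I W (I * W) (by decide +kernel) a1).ex, b1.ex,
      (c2 (I * W) W I (by decide +kernel) (c2 I (I * W) W (by decide +kernel) b1)).ex⟩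
  · have a1 := r1.right ((gV (I * W, 1, 1) _).2 ⟨k1, o1, o1⟩)
    have b1 := r2.right ((gV (1, W, 1) _).2 ⟨o1, k2, o1⟩)
    have a2 := c1 I (I * W) W (by decide +kernel) a1
    have a3 := c1 (I * W) W I (by decide +kernel) a2
    have b2 := c2 I W (I * W) (by decide +kernel) b1
    have b3 := c2 W (I * W) I (by decide +kernel) b2
    exact ⟨n * n, mul_mem nK.1 nK.1, (Kd n nK).mul_right (Kd n nK), (a1.mul hn a2).ex, (a3.mul hn a1).ex,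
      (b1.mul hn b2).ex, (b2.mul hn b3).ex⟩

end CL.H3.CU3
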