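import Cfsg.Agent.INV.H3.CU
import Cfsg.Agent.INV.H3.CU2

/-! S3140, case `PSp₆(3)`: strong closure of `Q₃`.  `x ^ g = g⁻¹ * x * g`. -/

set_option autoImplicit false
open Subgroup

namespace CL.H3.CZ2
open CL.HL Qm CL.MSS SemidirectProduct CL.H3.CU2
variable {G : Type*} [Group G] [Finite G] {F : Fr G} (C : Cm F true) (E : Ex F)

theorem nrm : ∀ (y : SM true) (u : Qm true), y.right.t = false →
    y * inl (1, 1, u) * y⁻¹ = inl (1, 1, u) ∨ y * inl (1, 1, u) * y⁻¹ = (inl (1, 1, u))⁻¹ := by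
  rintro ⟨⟨p, q, w⟩, ⟨e, t⟩⟩ u (rfl : t = false)
  have h : ∀ w u : Qm true, w * u * w⁻¹ = u ∨ w * u * w⁻¹ = u⁻¹ := by decide +kernel
  have k : (⟨(p, q, w), ⟨e, false⟩⟩ : SM true) * inl (1, 1, u) * (⟨(p, q, w), ⟨e, false⟩⟩ : SM true)⁻¹ =
      inl (1, 1, w * u * w⁻¹) := by
    rw [mul_inv_eq_iff_eq_mul]
    cases e <;> refine SemidirectProduct.ext (Prod.ext ?_ (Prod.ext ?_ ?_)) rfl
    · exact (mul_one p).trans (one_mul p).symm
    · exact (mul_one q).trans (one_mul q).symm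
    · exact (inv_mul_cancel_right _ w).symm
    · exact (mul_one p).trans (one_mul p).symm
    · exact (mul_one q).trans (one_mul q).symm
    · exact (inv_mul_cancel_right _ w).symm
  rw [k, ← map_inv]
  rcases h w u with e1 | e1
  · exact Or.inl (by rw [e1])
  · exact Or.inr (by rw [e1]; simp)

omit [Finite G] in
include C in
theorem zd : IsConj F.z F.d := isConj_iff.2 ⟨C.r⁻¹, by rw [inv_inv, ← C.fz, C.rr, C.fd]⟩

include C in
theorem ze : IsConj F.z F.e := (zd C).trans (isConj_iff.2 ⟨C.h⁻¹, by rw [inv_inv, C.h_facts.2.2]⟩)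

omit [Finite G] in
theorem gz : C.g (1, 1, Z) = F.z := C.fz

omit [Finite G] in
include C in
theorem zz : F.z * F.z = 1 := by
  rw [← gz C, ← map_mul, ← map_one C.g]
  exact congrArg _ (by decide +kernel)

section
variable (zS : ∀ x ∈ C.M, IsConj F.z x → x ∈ F.V ∨ ∃ y ∈ C.E0, x = y⁻¹ * F.e * y)
include E zS

theorem key0 {x : G} {u : Qm true} (hx : x ∈ E.X) (hz : IsConj F.z x)
    (hn : x ∈ normalizer (zpowers (C.g (1, 1, u)) : Set G)) : Commute x (C.g (1, 1, u)) := by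
  have : Fact (Nat.Prime 2) := ⟨Nat.prime_two⟩
  have hM : C.M ≤ normalizer (zpowers (C.g (1, 1, u)) : Set G) := fun m hm => by
    obtain ⟨y, hy, rfl⟩ := C.mem_M.1 hm
    rw [mem_normalizer_iff_cj, cj_zpowers, C.g_def, ← map_inv, ← map_mul, ← map_mul]
    rcases nrm y u hy with e | e
    · rw [e]
    · rw [e, map_inv, zpowers_inv]
  have xx : x ^ 2 = 1 := by
    obtain ⟨c, rfl⟩ := isConj_iff.1 hz
    rw [conj_pow, sq, zz C, mul_one, mul_inv_cancel]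
  obtain ⟨l, hl, hle⟩ := ((C.EX E).2.inf_of_le hM).exists_conj_le (R := zpowers x)
    (by
      rintro ⟨_, n, rfl⟩
      refine ⟨1, Subtype.ext ?_⟩
      change (x ^ n) ^ 2 ^ 1 = 1
      rw [pow_one, ← zpow_natCast, ← zpow_mul, mul_comm, zpow_mul, zpow_natCast, xx, one_zpow])
    (zpowers_le.2 ⟨hx, hn⟩)
  have h1 : Commute (l * x * l⁻¹) (C.g (1, 1, u)) := by
    rcases zS _ (hle (conj_mem_cj (mem_zpowers x))) (hz.trans (isConj_iff.2 ⟨l, rfl⟩)) with h | ⟨_, ⟨q, rfl⟩, h⟩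
    · exact cVn (zg C _) (dg C _) _ h
    · have h2 : C.g q * C.g (1, 1, u) * (C.g q)⁻¹ = C.g (1, 1, q.2.2 * u * q.2.2⁻¹) := by
        rw [← map_inv, ← map_mul, ← map_mul]
        exact congrArg _ (Prod.ext (by simp) (Prod.ext (by simp) rfl))
      have h3 := (ce C (q.2.2 * u * q.2.2⁻¹)).eq
      rw [← h2] at h3
      rw [h]
      change _ = _
      calc (C.g q)⁻¹ * F.e * C.g q * C.g (1, 1, u)
          = (C.g q)⁻¹ * (F.e * (C.g q * C.g (1, 1, u) * (C.g q)⁻¹)) * C.g q := by group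
        _ = _ := by rw [← h3]; group
  have h2 : Commute x (l⁻¹ * C.g (1, 1, u) * l⁻¹⁻¹) := by
    change _ = _
    calc x * (l⁻¹ * C.g (1, 1, u) * l⁻¹⁻¹) = l⁻¹ * (l * x * l⁻¹ * C.g (1, 1, u)) * l := by group
      _ = _ := by rw [h1.eq]; group
  have h3 := mem_normalizer_iff_cj.1 (inv_mem hl.2)
  rw [cj_zpowers] at h3
  obtain ⟨n, e⟩ := h3.ge (mem_zpowers _)
  rw [← e]
  exact h2.zpow_right n

theorem key {k x v : G} {u : Qm true} (hu : u * u = Z) (hk : k ∈ E.X) (hv : v = k⁻¹ * C.g (1, 1, u) * k)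
    (hx : x ∈ E.X) (hz : IsConj F.z x) (h : x⁻¹ * v * x = v⁻¹) : False := by
  have h1 : (k * x * k⁻¹)⁻¹ * C.g (1, 1, u) * (k * x * k⁻¹)⁻¹⁻¹ = (C.g (1, 1, u))⁻¹ := by
    calc _ = k * (x⁻¹ * (k⁻¹ * C.g (1, 1, u) * k) * x) * k⁻¹ := by group
      _ = _ := by rw [← hv, h, hv]; group
  have h2 := key0 C E zS (u := u) (mul_mem (mul_mem hk hx) (inv_mem hk)) (hz.trans (isConj_iff.2 ⟨k, rfl⟩))
    (by rw [← inv_mem_iff, mem_normalizer_iff_cj, cj_zpowers, h1, zpowers_inv])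
  rw [inv_inv, mul_assoc, ← h2.eq, inv_mul_cancel_left, ← map_inv, g_eq] at h1
  revert h1 hu
  generalize u = u
  revert u
  decide +kernel

theorem keyM {k : G} {u : Qm true} (hu : u * u = Z) (hk : k ∈ E.X) {y x : SM true}
    (hv : C.f y = k⁻¹ * C.g (1, 1, u) * k) (hx : x.right.t = false) (hz : IsConj F.z (C.f x))
    (h : x⁻¹ * y * x = y⁻¹ ∨ x⁻¹ * y * x = y⁻¹ * inl (Z, Z, Z)) : False :=
  key C E zS hu hk hv (((C.EX E).1 x).2 hx) hz (by rw [← map_inv, ← map_mul, ← map_mul, ← map_inv, C.f_eq]; exact h)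

theorem keyE {k : G} {u : Qm true} (hu : u * u = Z) (hk : k ∈ E.X) {q : N3 true}
    (hv : C.g q = k⁻¹ * C.g (1, 1, u) * k) (h : ∃ p : Qm true, let x : SM true := (inl (p, 1, 1))⁻¹ * eM * inl (p, 1, 1)
      x⁻¹ * inl q * x = (inl q)⁻¹ ∨ x⁻¹ * inl q * x = (inl q)⁻¹ * inl (Z, Z, Z)) : False := by
  obtain ⟨p, h⟩ := h
  refine keyM C E zS hu hk hv rfl ?_ h
  rw [map_mul, map_mul, map_inv, C.fe]
  exact (ze C).trans (isConj_iff.2 ⟨_, by rw [inv_inv]⟩)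

end

/-- the action of `n` on the first factor -/
def σ1 (p : Qm true) : Qm true := W ^ p.a.val * (I * W) ^ p.b.toNat
/-- the action of `n` on the second factor -/
def σ2 (p : Qm true) : Qm true := (I * W) ^ p.a.val * I ^ p.b.toNat

omit [Finite G] in
theorem A_all {V : Subgroup G} {ι : Qm true →* G} {n : G} {a b : Qm true} (cV : ∀ v ∈ V, ∀ p, Commute v (ι p))
    (h1 : A V ι n I a) (h2 : A V ι n W b) (p : Qm true) : A V ι n p (a ^ p.a.val * b ^ p.b.toNat) := by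
  have pw : ∀ {x y : Qm true}, A V ι n x y → ∀ m : ℕ, A V ι n (x ^ m) (y ^ m) := fun h m => by
    induction m with
    | zero => exact ⟨1, one_mem _, by simp⟩
    | succ m ih => rw [pow_succ, pow_succ]; exact ih.mul cV h
  have := (pw h1 p.a.val).mul cV (pw h2 p.b.toNat)
  rwa [← Qm.eq_pow] at this

omit [Finite G] in
theorem exV {v : G} (hv : v ∈ F.V) : ∃ c : N3 true, C.g c = v :=
  (show F.V ≤ C.E0 from (closure_le _).2 (by
    rintro _ (rfl | rfl)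
    exacts [⟨_, C.fz⟩, ⟨_, C.fd⟩])) hv

/-- `g (p, q, 1)` is conjugate to `u₃` modulo `V`. -/
def Bad (u p q : Qm true) : Prop := ∃ k ∈ E.X, ∃ v ∈ F.V, C.g (p, q, 1) * v = k⁻¹ * C.g (1, 1, u) * k

theorem step {u p q : Qm true} (h : Bad C E u p q) : Bad C E u (σ1 p) (σ2 q) := by
  obtain ⟨n, hn, hd, a1, a2, a3, a4⟩ := C.nn E
  obtain ⟨k, hk, v, hv, e⟩ := h
  have cV : ∀ v ∈ F.V, ∀ q, Commute v (C.g q) := fun v hv q => cVn (zg C q) (dg C q) v hv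
  obtain ⟨v1, h1, e1⟩ := A_all (V := F.V) (ι := C.g.comp (MonoidHom.inl _ _)) (fun v hv _ => cV v hv _) a1 a2 p
  obtain ⟨v2, h2, e2⟩ := A_all (V := F.V) (ι := C.g.comp ((MonoidHom.inr _ _).comp (MonoidHom.inl _ _)))
    (fun v hv _ => cV v hv _) a3 a4 q
  change n⁻¹ * C.g (p, 1, 1) * n = C.g (σ1 p, 1, 1) * v1 at e1
  change n⁻¹ * C.g (1, q, 1) * n = C.g (1, σ2 q, 1) * v2 at e2
  have hz : Commute F.z n := gz C ▸ (C.mem_Y.1 hn).2 Z
  have g2 : ∀ p q : Qm true, C.g (p, q, 1) = C.g (p, 1, 1) * C.g (1, q, 1) := fun p q => by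
    rw [← map_mul]; simp
  refine ⟨k * n, mul_mem hk hn.1, v1 * v2 * v, mul_mem (mul_mem h1 h2) hv, ?_⟩
  calc C.g (σ1 p, σ2 q, 1) * (v1 * v2 * v)
      = C.g (σ1 p, 1, 1) * (C.g (1, σ2 q, 1) * v1) * v2 * v := by rw [g2]; group
    _ = (C.g (σ1 p, 1, 1) * v1) * (C.g (1, σ2 q, 1) * v2) * (n⁻¹ * (n * v)) := by rw [← (cV v1 h1 _).eq]; group
    _ = n⁻¹ * (C.g (p, q, 1) * v) * n := by rw [← e1, ← e2, ← (cVn hz hd v hv).eq, g2 p q]; group
    _ = _ := by rw [e]; group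

theorem scl (zS : ∀ x ∈ C.M, IsConj F.z x → x ∈ F.V ∨ ∃ y ∈ C.E0, x = y⁻¹ * F.e * y) {k : G} (hk : k ∈ E.H)
    {u : Qm true} (h : k⁻¹ * C.g (1, 1, u) * k ∈ C.M) : k⁻¹ * C.g (1, 1, u) * k ∈ C.Q3 := by
  obtain ⟨kX, kz⟩ := E.mem_H.1 hk
  have zk : k⁻¹ * F.z * k = F.z := by rw [mul_assoc, kz.eq, inv_mul_cancel_left]
  have c3 : ∀ u : Qm true, u = 1 ∨ u = Z ∨ u * u = Z := by decide +kernel
  rcases c3 u with rfl | rfl | hu
  · exact C.mem_Q3.2 ⟨1, by rw [show ((1, 1, 1) : N3 true) = 1 from rfl, map_one]; group⟩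
  · exact C.mem_Q3.2 ⟨Z, by rw [gz, zk]⟩
  obtain ⟨y, hy, e⟩ := C.mem_M.1 h
  have sq : y * y = inl (1, 1, Z) ∨ y * y = inl (1, 1, Z) * inl (Z, Z, Z) := by
    rw [← C.f_eq, map_mul, e, C.fz, ← zk, ← gz C, ← hu]
    rw [show ((1, 1, u * u) : N3 true) = (1, 1, u) * (1, 1, u) from rfl, map_mul]
    group
  have fin : ∀ p q, p * p = Z → cz (p⁻¹ * q) → ¬ Bad C E u p q := by
    rintro p q hp hq ⟨k, hk, v, hv, e⟩
    obtain ⟨⟨c1, c2, c3⟩, rfl⟩ := exV C hv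
    obtain ⟨z1, z2, z3⟩ := (gV C).1 hv
    rw [← map_mul] at e
    refine keyE C E zS hu hk e ?_
    clear e hv
    revert p q c1 c2 c3
    have : ∀ p q w : Qm true, p * p = Z → cz (p⁻¹ * q) → cz w → ∃ p0 : Qm true,
        let x : SM true := (inl (p0, 1, 1))⁻¹ * eM * inl (p0, 1, 1)
        x⁻¹ * inl (p, q, w) * x = (inl (p, q, w))⁻¹ ∨
          x⁻¹ * inl (p, q, w) * x = (inl (p, q, w))⁻¹ * inl (Z, Z, Z) := by decide +kernel
    have t2 : ∀ p q c1 c2 : Qm true, p * p = Z → cz (p⁻¹ * q) → cz c1 → cz c2 →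
        p * c1 * (p * c1) = Z ∧ cz ((p * c1)⁻¹ * (q * c2)) := by decide +kernel
    intro p q hp hq c1 c2 c3 z1 z2 z3
    exact this (p * c1) (q * c2) (1 * c3) (t2 p q c1 c2 hp hq z1 z2).1 (t2 p q c1 c2 hp hq z1 z2).2
      (cz_mul _ _ (Or.inl rfl) z3)
  obtain ⟨⟨p, q, w⟩, ⟨_ | _, t⟩⟩ := y <;> obtain rfl : t = false := hy
  · have c : ∀ p q w : Qm true, let y : SM true := inl (p, q, w)
        (y * y = inl (1, 1, Z) ∨ y * y = inl (1, 1, Z) * inl (Z, Z, Z)) →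
        (∃ u' : Qm true, ((1, 1, u') : N3 true) = (p, q, w) ∨ ((1, 1, u') : N3 true) = (p, q, w) * (Z, Z, Z)) ∨
        (∃ p0 : Qm true, let x : SM true := (inl (p0, 1, 1))⁻¹ * eM * inl (p0, 1, 1)
          x⁻¹ * y * x = y⁻¹ ∨ x⁻¹ * y * x = y⁻¹ * inl (Z, Z, Z)) ∨
        (cz w ∧ ((p * p = Z ∧ cz (p⁻¹ * q)) ∨ (σ1 p * σ1 p = Z ∧ cz ((σ1 p)⁻¹ * σ2 q)) ∨
          (σ1 (σ1 p) * σ1 (σ1 p) = Z ∧ cz ((σ1 (σ1 p))⁻¹ * σ2 (σ2 q))))) := by decide +kernel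
    rcases c p q w sq with ⟨u', h'⟩ | h' | ⟨hw, h'⟩
    · exact C.mem_Q3.2 ⟨u', ((g_eq C).2 h').trans e⟩
    · exact (keyE C E zS hu kX e h').elim
    · have b0 : Bad C E u p q := ⟨k, kX, C.g (1, 1, w), (gV C).2 ⟨Or.inl rfl, Or.inl rfl, hw⟩, by
        rw [← e, ← map_mul]
        exact congrArg C.g (Prod.ext (mul_one p) (Prod.ext (mul_one q) (one_mul w)))⟩
      exfalso
      rcases h' with h' | h' | h'
      · exact fin _ _ h'.1 h'.2 b0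
      · exact fin _ _ h'.1 h'.2 (step C E b0)
      · exact fin _ _ h'.1 h'.2 (step C E (step C E b0))
  · have c : ∀ p q w : Qm true, let y : SM true := ⟨(p, q, w), ⟨true, false⟩⟩
        let x : SM true := inl (Z, 1, 1)
        x⁻¹ * y * x = y⁻¹ ∨ x⁻¹ * y * x = y⁻¹ * inl (Z, Z, Z) ∨
        ¬ (y * y = inl (1, 1, Z) ∨ y * y = inl (1, 1, Z) * inl (Z, Z, Z)) := by decide +kernel
    refine (keyM C E zS hu kX e (x := inl (Z, 1, 1)) rfl (by rw [C.fd]; exact zd C) ?_).elim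
    rcases c p q w with h' | h' | h'
    exacts [Or.inl h', Or.inr h', absurd sq h']

end CL.H3.CZ2
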