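import Cfsg.Agent.INV.H3.CU
import Cfsg.Agent.INV.H3.CZ2

/-! S3140, case `PSp₆(3)`: fusion of `z`, strong closure of `Q₃`.  `x ^ g = g⁻¹ * x * g`. -/

set_option autoImplicit false
set_option synthInstance.maxSize 2048
open Subgroup

namespace CL.H3.Cm
open CL.HL Qm
variable {G : Type*} [Group G] [Finite G] {F : Fr G} (C : Cm F true) (E : Ex F)

namespace CZ
open scoped CL.MSS

/-- the class modulo `Z` -/
def χ (x : Qm true) : ZMod 2 × ZMod 2 := ((x.a.val : ZMod 2), (x.b.toNat : ZMod 2))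

theorem χ_mul : ∀ x y : Qm true, χ (x * y) = χ x + χ y := by decide +kernel

/-- `M / M'` -/
def μ (x : SM true) : (ZMod 2 × ZMod 2) × (ZMod 2 × ZMod 2) × ZMod 2 :=
  (χ x.left.1 + χ x.left.2.1, χ x.left.2.2, (x.right.e.toNat : ZMod 2))

theorem μ_mul {x : SM true} (hx : x.right.t = false) (y : SM true) : μ (x * y) = μ x + μ y := by
  obtain ⟨⟨p, q, u⟩, ⟨e, t⟩⟩ := x
  obtain ⟨⟨p', q', u'⟩, ⟨e', t'⟩⟩ := y
  obtain rfl : t = false := hx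
  cases e
  · refine Prod.ext ?_ (Prod.ext (χ_mul u u') ?_)
    · change χ (p * p') + χ (q * q') = χ p + χ q + (χ p' + χ q')
      rw [χ_mul, χ_mul]; abel
    · cases e' <;> rfl
  · refine Prod.ext ?_ (Prod.ext (χ_mul u u') ?_)
    · change χ (p * q') + χ (q * p') = χ p + χ q + (χ p' + χ q')
      rw [χ_mul, χ_mul]; abel
    · change ((xor true e').toNat : ZMod 2) = (true.toNat : ZMod 2) + (e'.toNat : ZMod 2)
      cases e' <;> decide

theorem t_mul {x y : SM true} (hx : x.right.t = false) (hy : y.right.t = false) :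
    (x * y).right.t = false := by
  change xor x.right.t y.right.t = false
  rw [hx, hy]; rfl

/-- `V` in the model -/
def vq (y : SM true) : Prop :=
  y.right = 1 ∧ χ y.left.1 = 0 ∧ χ y.left.2.1 = 0 ∧ χ y.left.2.2 = 0

instance (y : SM true) : Decidable (vq y) := by unfold vq; infer_instance

abbrev z0 : SM true := .inl (1, 1, Z)
abbrev d0 : SM true := .inl (Z, 1, 1)
abbrev k0 : SM true := .inl (Z, Z, Z)

theorem all {P : SM true → Prop} (h : ∀ p q u : Qm true, ∀ k : Kb, P ⟨(p, q, u), k⟩) (y : SM true) :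
    P y := h y.left.1 y.left.2.1 y.left.2.2 y.right

theorem fV {y : SM true} : C.f y ∈ F.V ↔ vq y := by
  rw [F.mem_V, ← C.fz, ← C.fd, ← map_mul, ← map_one C.f, C.f_eq, C.f_eq, C.f_eq, C.f_eq]
  exact all (P := fun y => (y = 1 ∨ y = 1 * k0) ∨ (y = z0 ∨ y = z0 * k0) ∨ (y = d0 ∨ y = d0 * k0) ∨
    y = d0 * z0 ∨ y = d0 * z0 * k0 ↔ vq y) (by decide +kernel) y

theorem exV {v : G} (h : v ∈ F.V) : ∃ q : N3 true, vq (.inl q) ∧ C.g q = v := by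
  rcases F.mem_V.1 h with rfl | rfl | rfl | rfl
  · exact ⟨1, by decide +kernel, map_one _⟩
  · exact ⟨(1, 1, Z), by decide +kernel, C.fz⟩
  · exact ⟨(Z, 1, 1), by decide +kernel, C.fd⟩
  · exact ⟨(Z, 1, 1) * (1, 1, Z), by decide +kernel, by
      rw [map_mul]; exact congrArg₂ _ C.fd C.fz⟩

theorem zf (y : SM true) : Commute F.z (C.f y) := by
  rw [← C.fz]
  refine Commute.map ?_ C.f
  revert y
  exact all (P := fun y => z0 * y = y * z0) (by decide +kernel)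

theorem fH {y : SM true} (h : y.right.t = false) : C.f y ∈ E.H :=
  E.mem_H.2 ⟨((C.EX E).1 y).2 h, zf C y⟩

theorem MH : C.M ≤ E.H := fun _ hx => by
  obtain ⟨y, hy, rfl⟩ := C.mem_M.1 hx
  exact fH C E hy

theorem sylH : MSS.SylIn 2 C.M E.H := (C.EX E).2.of_le (MH C E) inf_le_left

theorem cmV {a b : G} (ha : a ∈ C.M) (hb : b ∈ C.M)
    (h : a⁻¹ * b⁻¹ * a * b * (a⁻¹ * b⁻¹ * a * b) = 1) : a⁻¹ * b⁻¹ * a * b ∈ F.V := by
  obtain ⟨x, hx, rfl⟩ := C.mem_M.1 ha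
  obtain ⟨y, hy, rfl⟩ := C.mem_M.1 hb
  rw [← map_inv, ← map_inv, ← map_mul, ← map_mul, ← map_mul] at h ⊢
  rw [← map_mul, C.ker] at h
  have h1 : (x⁻¹ * y⁻¹ * x * y).right.t = false := t_mul (t_mul (t_mul hx hy) hx) hy
  have h2 : μ (x⁻¹ * y⁻¹ * x * y) = 0 := by
    have h3 := μ_mul (t_mul hy hx) (x⁻¹ * y⁻¹ * x * y)
    rw [show y * x * (x⁻¹ * y⁻¹ * x * y) = x * y by group, μ_mul hx, μ_mul hy, add_comm (μ y)] at h3
    exact left_eq_add.1 h3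
  rw [fV]
  generalize x⁻¹ * y⁻¹ * x * y = c at h h1 h2
  revert c
  exact all (P := fun c => (c * c = 1 ∨ c * c = k0) → c.right.t = false → μ c = 0 → vq c)
    (by decide +kernel)

include E in
theorem into {x : G} (hx : IsConj F.z x) {R : Subgroup G} (hR : R ≤ C.M) (h : ∀ y ∈ R, Commute x y) :
    ∃ k, k⁻¹ * x * k = F.z ∧ ∀ y ∈ R, k⁻¹ * y * k ∈ C.M := by
  obtain ⟨c, hc, e⟩ : ∃ c ∈ E.X, c * F.z * c⁻¹ = x := by
    obtain ⟨c, e⟩ := isConj_iff.1 hx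
    refine (E.Xd c).elim (fun h => ⟨c, h, e⟩) fun h => ⟨_, h, ?_⟩
    rw [← e, mul_assoc c, F.tz.eq]; group
  have := E.nX
  obtain ⟨l, hl, hle⟩ := (sylH C E).exists_conj_le (R := c⁻¹ •ᶜ R)
    (MSS.isPGroup_cj _ ((C.EX E).2.pgroup.to_le hR)) (by
      rintro _ ⟨y, hy, rfl⟩
      refine E.mem_H.2 ⟨E.nX.conj_mem _ (MH C E (hR hy)).1 _, ?_⟩
      have := (h y hy).map (MulAut.conj c⁻¹)
      rwa [← e, show MulAut.conj c⁻¹ (c * F.z * c⁻¹) = F.z by simp [mul_assoc]] at this)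
  refine ⟨c * l⁻¹, ?_, fun y hy => ?_⟩
  · rw [← e, show (c * l⁻¹)⁻¹ * (c * F.z * c⁻¹) * (c * l⁻¹) = l * F.z * l⁻¹ by group,
      ← (E.mem_H.1 hl).2.eq, mul_inv_cancel_right]
  · have := hle ⟨_, ⟨y, hy, rfl⟩, rfl⟩
    simpa [mul_assoc] using this

theorem gM (q : N3 true) : C.g q ∈ C.M := mem_sup_left ⟨q, rfl⟩

end CZ
open CZ

include E in
/-- `u = a₁ a₂ a₃ ≁ z`.  Else `u ^ k = z` and `C_S(u) ^ k ≤ S` for some `k` (`S = f.range` is Sylow in `C(z)`; better: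
in `X` with `M`, `G = X ⟨t⟩`).  With `b_k` inverting `a_k`, `a₁, a₃, b = b₁ b₂ b₃ ∈ C_M(u)` and `[a₁, b] = d`,
`[a₃, b] = z`.  So `d ^ k, z ^ k` are involutions of `M' = {g (p, q, x) | p.b = q.b, p.a + q.a even, x ∈ {1, Z}}`
(a normal subgroup with `M / M'` abelian), i.e. in `V`; `V ^ k = V ∋ z`, so `u ∈ V`. -/
theorem z3 {p q u : Qm true} (hp : p * p = Z) (hq : q * q = Z) (hu : u * u = Z) :
    ¬ IsConj F.z (C.g (p, q, u)) := by
  intro h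
  obtain ⟨b, hb, h1, h3⟩ : ∃ b : N3 true, ((p, q, u) * b = b * (p, q, u) * (Z, Z, Z)) ∧
      ((p, 1, 1) : N3 true)⁻¹ * b⁻¹ * (p, 1, 1) * b = (Z, 1, 1) ∧
      ((1, 1, u) : N3 true)⁻¹ * b⁻¹ * (1, 1, u) * b = (1, 1, Z) := by
    have h0 : ∀ p : Qm true, p * p = Z → ∃ b, p * b = b * p * Z ∧ p⁻¹ * b⁻¹ * p * b = Z := by
      decide +kernel
    obtain ⟨b1, e1, f1⟩ := h0 p hp
    obtain ⟨b2, e2, -⟩ := h0 q hq
    obtain ⟨b3, e3, f3⟩ := h0 u hu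
    exact ⟨(b1, b2, b3), Prod.ext e1 (Prod.ext e2 e3), Prod.ext f1 (by simp),
      Prod.ext (by simp) (Prod.ext (by simp) f3)⟩
  have hk0 : C.g (Z, Z, Z) = 1 := (C.ker _).2 (Or.inr rfl)
  obtain ⟨k, e, hk⟩ := into C E h (R := C.M ⊓ centralizer {C.g (p, q, u)}) inf_le_left
    fun y hy => (mem_centralizer_singleton_iff.1 hy.2).symm
  have hm : ∀ a : N3 true, C.g (p, q, u) * C.g a = C.g a * C.g (p, q, u) → k⁻¹ * C.g a * k ∈ C.M :=
    fun a ha => hk _ ⟨gM C a, mem_centralizer_singleton_iff.2 ha.symm⟩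
  have mb := hm b (by rw [← map_mul, hb, map_mul, map_mul, hk0, mul_one])
  have key : ∀ a w : N3 true, (p, q, u) * a = a * (p, q, u) → a⁻¹ * b⁻¹ * a * b = w → w * w = 1 →
      k⁻¹ * C.g w * k ∈ F.V := fun a w ha hw ww => by
    have e1 : (k⁻¹ * C.g a * k)⁻¹ * (k⁻¹ * C.g b * k)⁻¹ * (k⁻¹ * C.g a * k) * (k⁻¹ * C.g b * k) =
        k⁻¹ * C.g w * k := by
      rw [← hw, map_mul, map_mul, map_mul, map_inv, map_inv]; group
    rw [← e1]
    refine cmV C (hm a (by rw [← map_mul, ha, map_mul])) mb ?_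
    rw [e1, show k⁻¹ * C.g w * k * (k⁻¹ * C.g w * k) = k⁻¹ * (C.g w * C.g w) * k by group,
      ← map_mul, ww, map_one]; group
  have vd : k⁻¹ * F.d * k ∈ F.V := C.fd ▸ key (p, 1, 1) _ (by simp) h1 (by decide +kernel)
  have vz : k⁻¹ * F.z * k ∈ F.V := C.fz ▸ key (1, 1, u) _ (by simp) h3 (by decide +kernel)
  have nV : C.g (p, q, u) ∉ F.V := fun h0 => by
    have := ((fV C).1 h0).2.1
    revert this hp
    change _ → χ p = 0 → _
    generalize p = p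
    revert p
    decide +kernel
  have inj : ∀ a b, k⁻¹ * a * k = k⁻¹ * b * k → a = b := fun a b h =>
    mul_left_cancel (mul_right_cancel h)
  have no : ∀ v ∈ F.V, k⁻¹ * v * k ≠ F.z := fun v hv e' => nV (inj _ _ (e'.trans e.symm) ▸ hv)
  have one : ∀ v, k⁻¹ * v * k = 1 → v = 1 := fun v e' => inj _ _ (by rw [e']; group)
  have dz : k⁻¹ * (F.d * F.z) * k = k⁻¹ * F.d * k * (k⁻¹ * F.z * k) := by group
  have fd1 : ∀ y : SM true, C.f y = 1 → y = 1 ∨ y = k0 := fun y => (C.ker y).1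
  have d1 : F.d ≠ 1 := fun h0 => absurd (fd1 _ (C.fd.trans h0)) (by decide +kernel)
  have dz1 : F.d * F.z ≠ 1 := fun h0 => absurd (fd1 (d0 * z0) (by rw [map_mul, C.fd, C.fz, h0]))
    (by decide +kernel)
  have hdz := no _ (mul_mem F.d_V F.z_V)
  have hdz1 := mt (one _) dz1
  rw [dz] at hdz hdz1
  rcases F.mem_V.1 vd with e1 | e1 | e1 | e1
  · exact d1 (one _ e1)
  · exact no _ F.d_V e1
  all_goals
    rcases F.mem_V.1 vz with e2 | e2 | e2 | e2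
    · exact F.z1 (one _ e2)
    · exact no _ F.z_V e2
  · exact hdz1 (by rw [e1, e2, F.dd])
  · exact hdz (by rw [e1, e2, ← mul_assoc, F.dd, one_mul])
  · exact hdz (by rw [e1, e2, mul_assoc, F.zd.eq, ← mul_assoc, F.dd, one_mul])
  · exact hdz1 (by rw [e1, e2, mul_assoc, ← mul_assoc F.z, F.zd.eq, mul_assoc, F.zz, mul_one, F.dd])

include E in
/-- The involutions of `M`: `V#`, `a₁ a₂ a₃` (`z3`), `E0`-conjugates of `e` and of `e d u₃` (`u² = Z`).  `e d = a⁻¹`,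
`h` centralises `Q₃` (`sylY`), so `(e d u₃) ^ h = (g a')⁻¹ u₃` (`pp`) with `(g a')² = z`, of type `a₁ a₂ a₃`. -/
theorem zS {x : G} (hx : x ∈ C.M) (h : IsConj F.z x) : x ∈ F.V ∨ ∃ y ∈ C.E0, x = y⁻¹ * F.e * y := by
  obtain ⟨y, hy, rfl⟩ := C.mem_M.1 hx
  have h2 : y * y = 1 ∨ y * y = k0 := by
    rw [← C.ker, map_mul]
    obtain ⟨c, e⟩ := isConj_iff.1 h
    rw [← e, show c * F.z * c⁻¹ * (c * F.z * c⁻¹) = c * (F.z * F.z) * c⁻¹ by group, F.zz]; group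
  have h3 : vq y ∨ (y = .inl y.left ∧ y.left.1 * y.left.1 = Z ∧ y.left.2.1 * y.left.2.1 = Z ∧
      y.left.2.2 * y.left.2.2 = Z) ∨
      (y = (.inl (1, y.left.1, 1))⁻¹ * eM * .inl (1, y.left.1, 1) ∨
        y = (.inl (1, y.left.1 * Z, 1))⁻¹ * eM * .inl (1, y.left.1 * Z, 1) * k0) ∨
      (y.left.2.2 * y.left.2.2 = Z ∧ y = (.inl (1, y.left.1, 1))⁻¹ * (eM * d0 * .inl (1, 1, y.left.2.2)) *
        .inl (1, y.left.1, 1)) := by
    clear hx h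
    revert y
    exact all (P := fun y => y.right.t = false → (y * y = 1 ∨ y * y = k0) → _) (by decide +kernel)
  rcases h3 with h3 | ⟨e, h1, h3, h4⟩ | h3 | ⟨hu, e⟩
  · exact Or.inl ((fV C).2 h3)
  · rw [e] at h
    exact (C.z3 E h1 h3 h4 h).elim
  · refine Or.inr (h3.elim (fun e => ⟨C.g (1, y.left.1, 1), ⟨_, rfl⟩, ?_⟩)
      fun e => ⟨C.g (1, y.left.1 * Z, 1), ⟨_, rfl⟩, ?_⟩)
    · rw [congrArg C.f e, map_mul, map_mul, map_inv, C.fe]; rfl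
    · rw [C.f_eq.2 (Or.inr e), map_mul, map_mul, map_inv, C.fe]; rfl
  · exfalso
    generalize y.left.2.2 = u at hu e
    rw [e, map_mul, map_mul, map_mul, map_mul, map_inv, C.fe, C.fd] at h
    obtain ⟨a', b', ha, -, h3, -⟩ := C.pp E
    have h4 := (h3 rfl).1
    have hc := (C.mem_Y.1 (C.sylY E).2.2.2.2.2).2 u
    have ed : F.e * F.d = (F.c ^ 2)⁻¹ := by
      rw [pow_two, F.cr.cc, eq_inv_iff_mul_eq_one, mul_assoc, ← mul_assoc F.d, F.dd, one_mul, F.ee]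
    have h5 : C.h⁻¹ * (F.e * F.d * C.f (.inl (1, 1, u))) * C.h = C.g (a'⁻¹ * (1, 1, u)) := by
      rw [map_mul, map_inv, ← ha, ed, mul_assoc, mul_assoc, ← C.g_def, hc.eq]; group
    have h6 : C.f (.inl (a' * a')) = C.f z0 := by
      rw [← C.g_def, map_mul, ← ha, C.fz,
        show C.h⁻¹ * F.c ^ 2 * C.h * (C.h⁻¹ * F.c ^ 2 * C.h) = C.h⁻¹ * F.z * C.h by
          rw [Fr.z]; group, mul_assoc, C.h_facts.2.1.eq, inv_mul_cancel_left]
    rw [C.f_eq] at h6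
    obtain ⟨p, q, w⟩ := a'
    have h7 : p⁻¹ * 1 * (p⁻¹ * 1) = Z ∧ q⁻¹ * 1 * (q⁻¹ * 1) = Z ∧ w⁻¹ * u * (w⁻¹ * u) = Z := by
      revert h4 h6 hu
      generalize p = p, q = q, w = w, u = u
      revert p q w u
      decide +kernel
    refine C.z3 E h7.1 h7.2.1 h7.2.2 ((h.trans ?_).trans (isConj_iff.2 ⟨C.h⁻¹, by rw [inv_inv]; exact h5⟩))
    exact isConj_iff.2 ⟨C.f (.inl (1, y.left.1, 1)), by group⟩

/-- Let `u² = Z`, `v = u₃ ^ k ∈ M`, `v² = z`, `N = {y ∈ H | v ^ y ∈ v ⟨z⟩} ≥ M ^ k`.  An involution `x ∈ N`, `x ∼ z`,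
centralises `v`: `x ^ l ∈ M ^ k` with `l ∈ N`, and `x ^ (l k⁻¹)` centralises `Q₃` by `zS`.  If `v ∉ E0`, `x = d` inverts
`v`.  If `v ∈ E0`, then `v ∈ Q₃ V` or `v = a₁ a₂ v₀`; `e` inverts `u'₃ d`.  Conjugating by a power of `n` (`nn`;
replace `k` by `k n`) `v = g (p, p, 1) v₀`, inverted by `e` if `v₀ ∉ ⟨z⟩` and by `e ^ p'₁` (`[p, p'] = Z`) otherwise. -/
theorem scl {k : G} (hk : k ∈ E.H) {u : Qm true} (h : k⁻¹ * C.g (1, 1, u) * k ∈ C.M) :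
    k⁻¹ * C.g (1, 1, u) * k ∈ C.Q3 := by
  exact CZ2.scl C E (fun _ => C.zS E) hk h

end CL.H3.Cm
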