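import Cfsg.Agent.INV.H3.Defs

/-! S3140: more definitions. -/

set_option autoImplicit false
open Subgroup

namespace CL.H3
open CL.HL

/-- The situation after the first reduction: `L = φ.range` is standard and not normal in
`G = X ⟨t⟩`, `X = E(G)` simple, `t` an involution centralising `L`. -/
structure St (G : Type*) [Group G] where
  φ : SL33 →* G
  inj : Function.Injective φ
  std : Cfsg.IsStandardSubgroup φ.range
  nn : ¬ φ.range.Normal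
  t : G
  ht : orderOf t = 2
  tφ : ∀ x, Commute t (φ x)
  X : Subgroup G
  nX : X.Normal
  simple : IsSimpleGroup X
  lay : Cfsg.layer G = X
  Xd : ∀ g, g ∈ X ∨ g * t ∈ X
  φX : ∀ x, φ x ∈ X
  cX : ∀ g, (∀ x ∈ X, Commute g x) → g = 1

variable {G : Type*} [Group G]

/-- The case `K4`, `A ≅ 4² × ⟨s⟩`: the group `N` of order 64 with the fixed-point-free `r`. -/
structure Nc (F : Fr G) where
  r : G
  N : Subgroup G
  y : G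
  x : G
  hr : F.Rr r
  p2 : IsPGroup 2 N
  card : Nat.card N = 64
  yN : y ∈ N
  xN : x ∈ N
  yy : y * y = F.z
  xx : x * x = F.d
  yx : Commute y x
  ty : F.t * y * F.t = y⁻¹
  tx : F.t * x * F.t = x⁻¹
  ey : Commute F.e y
  ry : r⁻¹ * y * r = x
  rx : r⁻¹ * x * r = y⁻¹ * x⁻¹
  sy : Commute F.s y
  sx : Commute F.s x
  tN : F.t ∈ normalizer (N : Set G)
  eN : F.e ∈ normalizer (N : Set G)
  rN : r ∈ normalizer (N : Set G)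
  r3 : ∀ n ∈ N, Commute (r ^ 3) n
  er : ∀ n ∈ N, Commute ((F.e * r) ^ 2) n
  fpf : ∀ n ∈ N, Commute r n → n = 1
  cV : ∀ n ∈ N, Commute F.z n ∧ Commute F.d n
  ct : ∀ n ∈ N, Commute F.t n → n ∈ F.V
  sN : F.s ≠ 1 → (∀ n ∈ N, ∃ v ∈ F.V, n⁻¹ * F.s * n = F.s * v) ∧ ∃ n ∈ N, ¬ Commute F.s n
  syl : MSS.SylIn 2 (N ⊔ closure {F.t, F.e, F.s}) ⊤
  nB : ∀ b ∈ F.B, ¬ IsConj F.t b
  nts : F.s ≠ 1 → ¬ IsConj F.t (F.t * F.s)

/-- The case `K4`, `A ≅ 4² × ⟨s⟩`: `N = ⟨y, x, g, h⟩` has order 64, `S = N ⟨t, e, s⟩` is a Sylow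
2-subgroup of `G`. -/
structure Nd (F : Fr G) where
  y : G
  x : G
  g : G
  h : G
  yy : y * y = F.z
  xx : x * x = F.d
  yx : Commute y x
  ty : F.t * y * F.t = y⁻¹
  tx : F.t * x * F.t = x⁻¹
  ey : Commute F.e y
  ex : F.e * x * F.e = y⁻¹ * x⁻¹
  sy : Commute F.s y
  sx : Commute F.s x
  tg : g⁻¹ * F.t * g = F.t * y
  th : h⁻¹ * F.t * h = F.t * x
  gh : Commute g h
  cgh : IsConj g h
  eg : Commute F.e g
  eh : F.e * h * F.e = g⁻¹ * h⁻¹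
  sg : F.s ≠ 1 → g⁻¹ * F.s * g = F.s * F.z
  sh : F.s ≠ 1 → h⁻¹ * F.s * h = F.s * F.d
  ty' : ((g * g = y ∧ h * h = x) ∨ (g * g = y⁻¹ ∧ h * h = x⁻¹)) ∨
    (((g * g = 1 ∧ h * h = 1) ∨ (g * g = F.z ∧ h * h = F.d)) ∧ g⁻¹ * y * g = y⁻¹ ∧
      g⁻¹ * x * g = x⁻¹ * F.z ∧ h⁻¹ * x * h = x⁻¹ ∧ h⁻¹ * y * h = y * (F.d * F.z))
  syl : MSS.SylIn 2 (closure {y, x, g, h, F.t, F.e, F.s}) ⊤
  nB : ∀ b ∈ F.B, ¬ IsConj F.t b
  nts : F.s ≠ 1 → ¬ IsConj F.t (F.t * F.s)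

end CL.H3
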