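import Cfsg.Agent.INV.H3.Defs

/-! S3140: definitions for the case of the elementary abelian group `A`.
`p = y`, `q = y z`, `Y = ⟨y, z⟩ = J'`, `Z = Z(J) = A ∩ A ^ c`. If `β = 0`, `J1 = D1 × D2`,
`D1 = ⟨x, e b⟩` (centre `p`), `D2 = ⟨d x, b⟩` (centre `q`), and `cs` centralises `y, z`. -/

set_option autoImplicit false
open Subgroup

namespace CL.H3
open CL.HL
variable {G : Type*} [Group G] {F : Fr G}

namespace Lj
variable (L : Lj F)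

def Y : Subgroup G := closure {L.y, F.z}
def Z : Subgroup G := closure {F.s, L.m, L.y, F.z}
def J1 : Subgroup G := closure {F.d, L.x, F.e, L.f}
def b : G := F.e ^ (L.α + 1) * L.f
def cs : G := F.c * F.t ^ L.α

/-- `S = J ⟨t, c⟩` -/
def Small : Prop := ∀ g ∈ L.S, g ∈ L.J ∨ g * F.t ∈ L.J ∨ g * L.cs ∈ L.J ∨ g * (F.t * L.cs) ∈ L.J

end Lj

/-- `S / J` is dihedral of order 8, generated by `t` and `r`; `r` swaps the classes of `x`, `e b`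
modulo `Z` and fixes those of `d x`, `b`; `r r ^ t ∈ cs J`. -/
structure Lr (L : Lj F) where
  r : G
  rS : r ∈ L.S
  ry : Commute L.y r
  rz : Commute F.z r
  rx : (F.e * L.b)⁻¹ * (r⁻¹ * L.x * r) ∈ L.Z
  rb1 : L.x⁻¹ * (r⁻¹ * (F.e * L.b) * r) ∈ L.Z
  rdx : (F.d * L.x)⁻¹ * (r⁻¹ * (F.d * L.x) * r) ∈ L.Z
  rb : L.b⁻¹ * (r⁻¹ * L.b * r) ∈ L.Z
  rr : r * r ∈ L.J
  rc : r * (F.t * r * F.t) * L.cs ∈ L.J
  tr : r⁻¹ * F.t * r * (F.t * L.cs) ∈ L.J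
  dec : ∀ g ∈ L.S, g ∈ L.J ∨ g * F.t ∈ L.J ∨ g * L.cs ∈ L.J ∨ g * (F.t * L.cs) ∈ L.J ∨
    g * r ∈ L.J ∨ g * (F.t * r * F.t) ∈ L.J ∨
    ((g * (r * F.t) ∈ L.J ∨ g * (F.t * r) ∈ L.J) ∧ g * g ∉ L.J)

end CL.H3
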