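import Cfsg.Agent.INV.H3.Defs

/-!
# S3140, the case `PSp₆(3)`: the model of the Sylow 2-subgroup

`Qm ε` is `⟨i, w⟩`, `i⁴ = 1`, `i ^ w = i⁻¹`, `w² = i²` (`ε = true`, quaternion) or `w² = 1` (dihedral).
`SM ε = (Qm ε)³ ⋊ ⟨e, t⟩`, `e` swaps the first two factors, `t : i ↦ i⁻¹, w ↦ i w` on each factor.
The Sylow 2-subgroup of `G` is `SM ε / ⟨(Z, Z, Z)⟩`.  `x ^ g = g⁻¹ * x * g`.
-/

set_option autoImplicit false
open Subgroup

namespace CL.H3
open CL.HL SemidirectProduct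

/-- `i ^ a * w ^ b` -/
@[ext] structure Qm (ε : Bool) where
  a : ZMod 4
  b : Bool
  deriving DecidableEq

namespace Qm
variable {ε : Bool}

instance : Mul (Qm ε) := ⟨fun x y =>
  ⟨x.a + (if x.b then -y.a else y.a) + (if ε && x.b && y.b then 2 else 0), xor x.b y.b⟩⟩
instance : One (Qm ε) := ⟨⟨0, false⟩⟩
instance : Inv (Qm ε) := ⟨fun x => if x.b then ⟨x.a + (if ε then 2 else 0), true⟩ else ⟨-x.a, false⟩⟩

/-- coordinates -/
def equiv : Qm ε ≃ ZMod 4 × Bool where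
  toFun u := (u.a, u.b)
  invFun u := ⟨u.1, u.2⟩

instance : Fintype (Qm ε) := Fintype.ofEquiv _ equiv.symm

instance : Group (Qm ε) := Group.ofLeftAxioms (by cases ε <;> decide +kernel)
  (by cases ε <;> decide +kernel) (by cases ε <;> decide +kernel)

theorem card : Nat.card (Qm ε) = 8 := by rw [Nat.card_congr equiv]; simp

def I : Qm ε := ⟨1, false⟩
def W : Qm ε := ⟨0, true⟩
def Z : Qm ε := ⟨2, false⟩

/-- conjugation by `t` -/
def τ : Qm ε →* Qm ε :=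
  MonoidHom.mk' (fun x => ⟨-x.a + (if x.b then 1 else 0), x.b⟩) (by cases ε <;> decide +kernel)

theorem τ_τ (x : Qm ε) : τ (τ x) = x := by revert x; cases ε <;> decide +kernel

theorem eq_pow (x : Qm ε) : x = I ^ x.a.val * W ^ x.b.toNat := by revert x; cases ε <;> decide +kernel

end Qm

/-- `e ^ e * t ^ t` -/
@[ext] structure Kb where
  e : Bool
  t : Bool
  deriving DecidableEq

namespace Kb

instance : Mul Kb := ⟨fun x y => ⟨xor x.e y.e, xor x.t y.t⟩⟩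
instance : One Kb := ⟨⟨false, false⟩⟩
instance : Inv Kb := ⟨fun x => x⟩

/-- coordinates -/
def equiv : Kb ≃ Bool × Bool where
  toFun u := (u.e, u.t)
  invFun u := ⟨u.1, u.2⟩

instance : Fintype Kb := Fintype.ofEquiv _ equiv.symm

instance : Group Kb := Group.ofLeftAxioms (by decide +kernel) (by decide +kernel) (by decide +kernel)

theorem card : Nat.card Kb = 4 := by rw [Nat.card_congr equiv]; simp

end Kb

abbrev N3 (ε : Bool) := Qm ε × Qm ε × Qm ε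

variable {ε : Bool}

/-- the action of `⟨e, t⟩` -/
def act3 (k : Kb) (q : N3 ε) : N3 ε :=
  match k with
  | ⟨false, false⟩ => q
  | ⟨true, false⟩ => (q.2.1, q.1, q.2.2)
  | ⟨false, true⟩ => (Qm.τ q.1, Qm.τ q.2.1, Qm.τ q.2.2)
  | ⟨true, true⟩ => (Qm.τ q.2.1, Qm.τ q.1, Qm.τ q.2.2)

theorem act3_mul (k l : Kb) (q : N3 ε) : act3 (k * l) q = act3 k (act3 l q) := by
  obtain ⟨_ | _, _ | _⟩ := k <;> obtain ⟨_ | _, _ | _⟩ := l <;>
    first | rfl | exact (Prod.ext (Qm.τ_τ _) (Prod.ext (Qm.τ_τ _) (Qm.τ_τ _))).symm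

theorem act3_mul' (k : Kb) (p q : N3 ε) : act3 k (p * q) = act3 k p * act3 k q := by
  obtain ⟨_ | _, _ | _⟩ := k <;>
    first | rfl | exact Prod.ext (map_mul Qm.τ _ _) (Prod.ext (map_mul Qm.τ _ _) (map_mul Qm.τ _ _))

/-- the action as a homomorphism -/
def φ3 : Kb →* MulAut (N3 ε) := MonoidHom.mk' (fun k =>
  { toFun := act3 k
    invFun := act3 k⁻¹
    left_inv := fun a => by rw [← act3_mul, inv_mul_cancel]; rfl
    right_inv := fun a => by rw [← act3_mul, mul_inv_cancel]; rfl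
    map_mul' := act3_mul' k }) fun d e => MulEquiv.ext (act3_mul d e)

/-- the model, of order 2048 -/
abbrev SM (ε : Bool) := N3 ε ⋊[φ3] Kb

instance : Fintype (SM ε) := Fintype.ofEquiv _ SemidirectProduct.equivProd.symm

theorem card_SM : Nat.card (SM ε) = 2048 := by
  rw [SemidirectProduct.card, Nat.card_prod, Nat.card_prod, Qm.card, Kb.card]

/-- `e` -/
def eM : SM ε := inr ⟨true, false⟩
/-- `t` -/
def tM : SM ε := inr ⟨false, true⟩

variable {G : Type*} [Group G]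

open Qm in
/-- The Sylow 2-subgroup in the case `A ≅ 4³`; `r` permutes the three factors. -/
structure Cm (F : Fr G) (ε : Bool) where
  two : F.s ≠ 1
  f : SM ε →* G
  ker : ∀ x, f x = 1 ↔ x = 1 ∨ x = inl (Z, Z, Z)
  syl : MSS.SylIn 2 f.range ⊤
  ft : f tM = F.t
  fe : f eM = F.e
  fz : f (inl (1, 1, Z)) = F.z
  fd : f (inl (Z, 1, 1)) = F.d
  fs : f (inl (I, I, I)) = F.s
  r : G
  tr : Commute F.t r
  or : Odd (orderOf r)
  rr : ∀ p q u, r⁻¹ * f (inl (p, q, u)) * r = f (inl (u, p, q))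

namespace Cm
variable {F : Fr G} (C : Cm F ε)

/-- `g (p, q, u) = p₁ q₂ u₃` -/
def g : N3 ε →* G := C.f.comp inl
/-- `E0 = Q₁ Q₂ Q₃`, of order 256 -/
def E0 : Subgroup G := C.g.range
/-- `E1 = Q₁ × Q₂` -/
def E1 : Subgroup G := (C.g.comp ((MonoidHom.fst _ _).prod ((MonoidHom.snd _ _).prod 1)) :
  Qm ε × Qm ε →* G).range
/-- the third factor -/
def Q3 : Subgroup G := (C.g.comp ((MonoidHom.inr _ _).comp (MonoidHom.inr _ _)) : Qm ε →* G).range
/-- `M = E0 ⟨e⟩`, of order 512 -/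
def M : Subgroup G := C.E0 ⊔ zpowers F.e

theorem g_def (q : N3 ε) : C.g q = C.f (inl q) := rfl
theorem mem_E0 {x : G} : x ∈ C.E0 ↔ ∃ q, C.g q = x := Iff.rfl
theorem mem_E1 {x : G} : x ∈ C.E1 ↔ ∃ p q, C.g (p, q, 1) = x :=
  ⟨fun ⟨a, h⟩ => ⟨a.1, a.2, h⟩, fun ⟨p, q, h⟩ => ⟨(p, q), h⟩⟩
theorem mem_Q3 {x : G} : x ∈ C.Q3 ↔ ∃ u, C.g (1, 1, u) = x := Iff.rfl

theorem f_eq {x y : SM ε} : C.f x = C.f y ↔ x = y ∨ x = y * inl (Qm.Z, Qm.Z, Qm.Z) := by
  rw [← inv_mul_eq_one (a := C.f y) |>.trans eq_comm, ← map_inv, ← map_mul, C.ker, inv_mul_eq_one,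
    inv_mul_eq_iff_eq_mul, eq_comm]

theorem mem_M {x : G} : x ∈ C.M ↔ ∃ y : SM ε, y.right.t = false ∧ C.f y = x := by
  let K : Subgroup (SM ε) :=
    { carrier := {y | y.right.t = false}
      mul_mem' := fun {a b} ha hb => by
        change xor a.right.t b.right.t = false
        rw [show a.right.t = false from ha, show b.right.t = false from hb]; rfl
      one_mem' := rfl
      inv_mem' := fun {a} ha => ha }
  refine ⟨fun h => (sup_le (c := K.map C.f) ?_ (zpowers_le.2 ⟨eM, rfl, C.fe⟩)) h, ?_⟩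
  · rintro _ ⟨q, rfl⟩; exact ⟨inl q, rfl, rfl⟩
  · rintro ⟨⟨q, ⟨_ | _, _⟩⟩, rfl, rfl⟩
    · exact mem_sup_left ⟨q, rfl⟩
    · have : (⟨q, ⟨true, false⟩⟩ : SM ε) = inl q * eM := SemidirectProduct.ext (mul_one q).symm rfl
      rw [this, map_mul, C.fe]
      exact mul_mem (mem_sup_left ⟨q, rfl⟩) (mem_sup_right (mem_zpowers _))

end Cm

/-- The same by relations: `i = i₃`, `w = w₃`, `i₁ = i ^ r`, `i₂ = i₁ ^ r`. -/
structure Cr (F : Fr G) (ε : Bool) where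
  two : F.s ≠ 1
  i : G
  w : G
  r : G
  S : Subgroup G
  syl : MSS.SylIn 2 S ⊤
  hS : S = closure {i, w, r⁻¹ * i * r, r⁻¹ * w * r, F.e, F.t}
  tr : Commute F.t r
  or : Odd (orderOf r)
  zr : r⁻¹ * F.z * r = F.d
  dr : r⁻¹ * F.d * r = F.d * F.z
  i3 : Commute i (r ^ 3)
  w3 : Commute w (r ^ 3)
  ii : i * i = F.z
  ww : w * w = if ε then F.z else 1
  wi : w⁻¹ * i * w = i⁻¹
  c1 : Commute i (r⁻¹ * i * r)
  c2 : Commute i (r⁻¹ * w * r)
  c3 : Commute w (r⁻¹ * i * r)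
  c4 : Commute w (r⁻¹ * w * r)
  ei : Commute F.e i
  ew : Commute F.e w
  e1 : F.e * (r⁻¹ * i * r) * F.e = r⁻¹ * (r⁻¹ * i * r) * r
  e2 : F.e * (r⁻¹ * w * r) * F.e = r⁻¹ * (r⁻¹ * w * r) * r
  ti : F.t * i * F.t = i⁻¹
  tw : F.t * w * F.t = i * w
  hs : r⁻¹ * i * r * (r⁻¹ * (r⁻¹ * i * r) * r) * i = F.s

/-- Coordinates on `A ≅ 4³` and the element `w` inducing the transvection `s ↦ s z`.
`A0 = ⟨i₁, i₂, i₃⟩` is the set of elements of `A` with square in `V`. -/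
structure Cw {F : Fr G} {D : T8 F} (C : Cu D) where
  m : G
  i : G
  w : G
  S : Subgroup G
  mA : m ∈ C.A
  iA : i ∈ C.A
  mm : m * m = F.s
  ii : i * i = F.z
  mρ : Commute m F.ρ
  em : Commute F.e m
  ei : Commute F.e i
  e1 : F.e * (F.ρ⁻¹ * i * F.ρ) * F.e = F.ρ⁻¹ * (F.ρ⁻¹ * i * F.ρ) * F.ρ
  hs : F.ρ⁻¹ * i * F.ρ * (F.ρ⁻¹ * (F.ρ⁻¹ * i * F.ρ) * F.ρ) * i = F.s
  syl : MSS.SylIn 2 S ⊤
  TS : D.TE ≤ S
  SN : S ≤ normalizer (D.U : Set G)
  SB : S ⊓ centralizer (F.B : Set G) = D.U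
  wS : w ∈ S
  ws : w⁻¹ * F.s * w = F.s * F.z
  wz : Commute F.z w
  wd : Commute F.d w
  nV : normalizer (D.U : Set G) ≤ normalizer (F.V : Set G)
  om : ∀ n ∈ normalizer (D.U : Set G), ∃ a ∈ C.A, n⁻¹ * F.t * n = F.t * a ∧ a * a ∈ F.V
  wt : ∃ a ∈ C.A, w⁻¹ * F.t * w = F.t * a ∧ a * a = F.z

/-! ### `Sp₄(3)` -/

open Matrix MatrixGroups

abbrev Sp4 := Matrix.symplecticGroup (Fin 2) (ZMod 3)

/-- `SL₂(3)` on the first hyperbolic plane -/
def emb0 : SL(2, ZMod 3) →* Sp4 := MonoidHom.mk' (fun a =>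
  ⟨fromBlocks !![a.1 0 0, 0; 0, 1] !![a.1 0 1, 0; 0, 0] !![a.1 1 0, 0; 0, 0] !![a.1 1 1, 0; 0, 1], by
    have h := a.2
    rw [det_fin_two] at h
    rw [SymplecticGroup.mem_iff]
    ext (i | i) (j | j) <;> fin_cases i <;> fin_cases j <;>
      simp [J, Matrix.mul_apply, Fintype.sum_sum_type, Fin.sum_univ_two] <;>
      first | ring1 | linear_combination h | linear_combination -h⟩)
  fun a b => Subtype.ext (by
    ext (i | i) (j | j) <;> fin_cases i <;> fin_cases j <;>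
      simp [Matrix.mul_apply, Fintype.sum_sum_type, Fin.sum_univ_two])

/-- `SL₂(3)` on the second hyperbolic plane -/
def emb1 : SL(2, ZMod 3) →* Sp4 := MonoidHom.mk' (fun a =>
  ⟨fromBlocks !![1, 0; 0, a.1 0 0] !![0, 0; 0, a.1 0 1] !![0, 0; 0, a.1 1 0] !![1, 0; 0, a.1 1 1], by
    have h := a.2
    rw [det_fin_two] at h
    rw [SymplecticGroup.mem_iff]
    ext (i | i) (j | j) <;> fin_cases i <;> fin_cases j <;>
      simp [J, Matrix.mul_apply, Fintype.sum_sum_type, Fin.sum_univ_two] <;>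
      first | ring1 | linear_combination h | linear_combination -h⟩)
  fun a b => Subtype.ext (by
    ext (i | i) (j | j) <;> fin_cases i <;> fin_cases j <;>
      simp [Matrix.mul_apply, Fintype.sum_sum_type, Fin.sum_univ_two])

/-- the short root element `x_{e₁ - e₂}(1)` -/
def α0 : Sp4 := ⟨fromBlocks !![1, 1; 0, 1] 0 0 !![1, 0; -1, 1], by
  rw [SymplecticGroup.mem_iff]; decide +kernel⟩

end CL.H3
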