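import Cfsg.Agent.INV.H3.Def4

/-! S3140, case `PSp₆(3)`: the subgroups.  `x ^ g = g⁻¹ * x * g`. -/

set_option autoImplicit false
open Subgroup

namespace CL.H3
open CL.HL
variable {G : Type*} [Group G] {F : Fr G} {ε : Bool}

/-- `H = C_X(z)` -/
def Ex.H (E : Ex F) : Subgroup G := E.X ⊓ centralizer {F.z}
/-- `O(H)` -/
def Ex.Wz (E : Ex F) : Subgroup G := (Cfsg.oddCore E.H).map E.H.subtype

theorem Ex.mem_H (E : Ex F) {x : G} : x ∈ E.H ↔ x ∈ E.X ∧ Commute F.z x :=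
  and_congr_right fun _ => mem_centralizer_singleton_iff.trans ⟨fun h => h.symm, fun h => h.symm⟩

namespace Cm
variable (C : Cm F ε)

/-- `Y = C_X(Q₃)` -/
def Y (E : Ex F) : Subgroup G := E.X ⊓ centralizer (C.Q3 : Set G)
/-- `O(Y)` -/
def OY (E : Ex F) : Subgroup G := (Cfsg.oddCore (C.Y E)).map (C.Y E).subtype
/-- `h = i₁ (c d)`: `t ^ h = t e`, `z ^ h = z`, `d ^ h = e` -/
def h : G := C.g (Qm.I, 1, 1) * (F.c * F.d)
/-- `ω = e ^ r²` swaps the first and third factor -/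
def ω : G := (C.r ^ 2)⁻¹ * F.e * C.r ^ 2

theorem mem_Y {E : Ex F} {x : G} : x ∈ C.Y E ↔ x ∈ E.X ∧ ∀ u, Commute (C.g (1, 1, u)) x :=
  and_congr_right fun _ => ⟨fun h u => h _ ⟨u, rfl⟩, fun h _ ⟨u, e⟩ => e ▸ (h u).eq⟩

end Cm
end CL.H3
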