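import Cfsg.Agent.INV.HL.Main
import Cfsg.Agent.INV.HL.RedA
import Cfsg.Prelude.Def_Local
import Cfsg.Prelude.Def_Classical

/-!
# S3140 (standard subgroup `L₃(3)`): definitions

Built on `INV/HL/*` (S3139): `Fr` is the frame, conjugation is `x ^ g = g⁻¹ * x * g`, `~` is
conjugacy in `G`.  `Ex F` adds the global hypotheses: `C(t) = (L × O × ⟨t⟩) ⟨s⟩` with
`L = φ.range ≅ SL₃(3)`, `O` of odd order, and `G = X ⟨t⟩` with `X` simple.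
-/

set_option autoImplicit false
open Subgroup

namespace CL.H3
open CL.HL

/-- The three groups that occur. -/
def Goal (X : Type*) [Group X] : Prop :=
  (∃ (K : Type) (_ : Field K) (_ : Fintype K), Fintype.card K = 9 ∧
    Nonempty (X ≃* Matrix.ProjectiveSpecialLinearGroup (Fin 3) K)) ∨
  Nonempty (X ≃* Matrix.ProjectiveSpecialLinearGroup (Fin 4) (ZMod 3)) ∨
  Nonempty (X ≃* Cfsg.PSp 3 (ZMod 3))

/-- An element of order 3 of `SL₃(3)` centralising `z`, inverted by `d`, with `(c²) ^ θ = c d`. -/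
def θ0 : SL33 := ⟨!![1, 1, 0; 0, 1, 0; 0, 0, 1], by rw [Matrix.det_fin_three]; decide⟩

variable {G : Type*} [Group G]

/-- The global hypotheses. -/
structure Ex (F : Fr G) where
  φ : SL33 →* G
  inj : Function.Injective φ
  φc : φ RA.c = F.c
  φd : φ RA.d = F.d
  tφ : ∀ x, Commute F.t (φ x)
  sφ : F.s ≠ 1 → ∀ x, F.s * φ x * F.s = φ (RA.σ x)
  O : Subgroup G
  odd : Odd (Nat.card O)
  tO : ∀ o ∈ O, Commute F.t o
  φO : ∀ o ∈ O, ∀ x, Commute o (φ x)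
  sO : ∀ o ∈ O, F.s * o * F.s ∈ O
  dec : ∀ g, Commute F.t g → ∃ x, ∃ o ∈ O, ∃ u,
    (u = 1 ∨ u = F.t ∨ u = F.s ∨ u = F.t * F.s) ∧ g = φ x * o * u
  X : Subgroup G
  nX : X.Normal
  simple : IsSimpleGroup X
  Xd : ∀ g, g ∈ X ∨ g * F.t ∈ X
  φX : ∀ x, φ x ∈ X
  cX : ∀ g, (∀ x ∈ X, Commute g x) → g = 1

/-- `F'` differs from `F` only in `ρ`, `χ` and by the swap `s ↦ t s`. -/
structure Same (F F' : Fr G) : Prop where
  t : F'.t = F.t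
  c : F'.c = F.c
  d : F'.d = F.d
  s : F'.s = F.s ∨ (F.s ≠ 1 ∧ F'.s ≠ 1 ∧ F'.s = F.t * F.s)

namespace Ex
variable {F : Fr G} (E : Ex F)

def θ : G := E.φ θ0
/-- the quaternion group `⟨c², c d⟩` -/
def P (_ : Ex F) : Subgroup G := closure {F.c ^ 2, F.c * F.d}

theorem same {F' : Fr G} (h : Same F F') : ∃ E' : Ex F', E'.X = E.X := by
  obtain ⟨ht, hc, hd, hs⟩ := h
  have key : ∀ x, Commute F.t x → F.t * F.s * x * (F.t * F.s) = F.s * x * F.s := fun x hx => by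
    calc _ = F.t * (F.s * x * F.t) * F.s := by group
      _ = F.t * (F.t * (F.s * x)) * F.s := by rw [(F.ts.mul_right hx).eq]
      _ = _ := by rw [← mul_assoc, F.tt, one_mul]
  refine ⟨⟨E.φ, E.inj, hc ▸ E.φc, hd ▸ E.φd, ht ▸ E.tφ, fun h1 x => ?_, E.O, E.odd, ht ▸ E.tO, E.φO,
    fun o ho => ?_, fun g hg => ?_, E.X, E.nX, E.simple, ht ▸ E.Xd, E.φX, E.cX⟩, rfl⟩
  · rcases hs with e | ⟨h2, -, e⟩ <;> rw [e]
    · exact E.sφ (e ▸ h1) x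
    · rw [key _ (E.tφ x), E.sφ h2]
  · rcases hs with e | ⟨-, -, e⟩ <;> rw [e]
    · exact E.sO o ho
    · rw [key _ (E.tO o ho)]; exact E.sO o ho
  · obtain ⟨x, o, ho, u, hu, e⟩ := E.dec g (ht ▸ hg)
    refine ⟨x, o, ho, u, ?_, e⟩
    rcases hs with e | ⟨-, -, e⟩ <;> rw [e, ht]
    · exact hu
    · rw [← mul_assoc, F.tt, one_mul]; tauto

end Ex

/-- The second alternative of `K4.split`: `A ≅ 4² × ⟨s⟩` is inverted by `t`. -/
structure Fo {F : Fr G} (D : K4 F) where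
  A : Subgroup G
  hB : F.B ≤ A
  hU : A ≤ D.U
  hi : ∀ a ∈ A, F.t * a * F.t = a⁻¹
  hd : ∀ u ∈ D.U, u ∈ A ∨ F.t * u ∈ A
  hs : ∀ a ∈ A, a * a ∈ F.V
  hs' : ∀ v ∈ F.V, ∃ a ∈ A, a * a = v

/-- The first alternative of `K4.split` and `T8.split` in coordinates:
`A = ⟨s, m, z, d, y, x⟩` is elementary abelian, `x = y ^ ρ`; `m = 1` or `m ^ t = m s`. -/
structure La (F : Fr G) where
  A : Subgroup G
  m : G
  y : G
  x : G
  hA : A = closure {F.s, m, F.z, F.d, y, x}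
  el : ∀ a ∈ A, a * a = 1
  tA : F.t ∉ A
  ct : ∀ a ∈ A, Commute F.t a → a ∈ F.B
  nB : ∀ b ∈ F.B, ¬ IsConj F.t b
  ty : F.t * y * F.t = y * F.z
  tx : F.t * x * F.t = x * F.d
  tm : (m = 1 ∧ (F.s ≠ 1 → ¬ IsConj F.t (F.t * F.s))) ∨ (F.s ≠ 1 ∧ F.t * m * F.t = m * F.s)
  ρy : F.ρ⁻¹ * y * F.ρ = x
  ρx : F.ρ⁻¹ * x * F.ρ = y * x
  ρm : Commute m F.ρ
  ey : Commute F.e y
  ex : F.e * x * F.e = y * x
  em : Commute F.e m

/-- `La` together with a Sylow 2-subgroup `S ∋ t, c` of `G`.  `A' = A ^ c`, `f = x ^ c`,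
`J = A A' = Z0 ⟨d, x, e, f⟩` is normal in `S`, `Z0 = A ∩ A' = ⟨s, m, z, y⟩`,
`N_S(A) = J ⟨t⟩` is Sylow in `N(A)`.  `α`, `β` are the two parameters. -/
structure Lj (F : Fr G) extends La F where
  S : Subgroup G
  J : Subgroup G
  f : G
  α : ℕ
  β : ℕ
  hα : α = 0 ∨ α = 1
  hβ : β = 0 ∨ β = 1
  syl : MSS.SylIn 2 S ⊤
  hf : f = F.c⁻¹ * x * F.c
  hJ : J = A ⊔ closure {F.e, f}
  JS : J ≤ S
  tS : F.t ∈ S
  cS : F.c ∈ S
  nJ : S ≤ normalizer (J : Set G)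
  nS : ∀ g ∈ S, g ∈ normalizer (A : Set G) → g ∈ J ∨ g * F.t ∈ J
  sylA : MSS.SylIn 2 (S ⊓ normalizer (A : Set G)) (normalizer (A : Set G))
  noJ : ∀ j ∈ J, ¬ IsConj F.t j
  fus : ∀ j ∈ J, IsConj F.t (F.t * j) → ∃ k ∈ J, k⁻¹ * F.t * k = F.t * j
  cy : F.c⁻¹ * y * F.c = y * F.z ^ α
  cm : m ≠ 1 → F.c⁻¹ * m * F.c = m * y * F.s ^ α
  fx : f * x * f = x * (y ^ (α + 1) * F.z ^ β)

end CL.H3
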