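import Cfsg.Agent.INV.H3.LBb

/-! S3140: basics on `Lj`. `x ^ g = g⁻¹ * x * g`. -/

set_option autoImplicit false
open Subgroup

namespace CL.H3.Lj
open CL.HL
variable {G : Type*} [Group G] [Finite G] {F : Fr G} (L : Lj F)

/-- `s φ(k) = φ(σ k) s`; `k = !![0, 0, 1; 1, 0, 0; 2, 1, 0]` has `kᵀ k = d c`. -/
theorem cj_sdc (E : Ex F) (h : F.s ≠ 1) :
    ∃ g, Commute F.t g ∧ g⁻¹ * F.s * g = F.s * F.d * F.c := by
  let k : SL33 := ⟨!![0, 0, 1; 1, 0, 0; 2, 1, 0], by rw [Matrix.det_fin_three]; decide⟩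
  have e : RA.σ k⁻¹ * k = RA.d * RA.c := by
    rw [map_inv, show (RA.σ k)⁻¹ = k.transpose from inv_inv _]
    ext i j
    fin_cases i <;> fin_cases j <;> decide
  refine ⟨E.φ k, E.tφ k, ?_⟩
  have h1 := E.sφ h k⁻¹
  calc (E.φ k)⁻¹ * F.s * E.φ k = F.s * (F.s * E.φ k⁻¹ * F.s) * E.φ k := by
        rw [map_inv, ← mul_assoc, ← mul_assoc, F.ss, one_mul]
    _ = _ := by rw [h1, mul_assoc, ← map_mul, e, map_mul, E.φd, E.φc, mul_assoc]

end CL.H3.Lj
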