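import Cfsg.Agent.INV.H3.LJa

/-! S3140: from `La` to `Lj`. `x ^ g = g⁻¹ * x * g`. -/

set_option autoImplicit false
set_option linter.unusedSectionVars false
set_option synthInstance.maxSize 2000
open Subgroup

namespace CL.H3
open CL.HL
variable {G : Type*} [Group G] [Finite G] {F : Fr G}

/-- `a ↦ a ^ t a` is a homomorphism of `A` with kernel `B` (`ct`) and image `V` or `B`. -/
theorem La.card (L : La F) : (L.m = 1 ∧ Nat.card L.A = 4 * Nat.card F.B) ∨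
    (L.m ≠ 1 ∧ F.s ≠ 1 ∧ Nat.card L.A = 64) := L.card'

/-- Copy `Fr.mkLA` (`HL/Odd.lean`; `A1 = ⟨B, y, m⟩`, see `K4.split`, `T8.split`) and `LA.split`
(`HL/LA1.lean`), choosing `S` above a Sylow 2-subgroup of `N(A)` that contains `A, t, e`. In the
first alternative of `LA.split`, `S ≤ N(A)`: take `T ^ g = C_S(t')`, `t' = t ^ g` (`extr`);
`t' ∉ A` (`rkB`, `card`); `|C_A(t')|² ≥ |A|`; `⟨t'⟩ C_A(t')` is elementary, normal in `T ^ g`,
of order `≥ 2 |B|`; conjugate back and use `nrmT`. -/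
theorem La.jd (L : La F) : ∃ (M : LA G) (J : JD M), M.A = L.A ∧ M.t = F.t ∧ M.e = F.e ∧
    MSS.SylIn 2 ((J.S : Subgroup G) ⊓ normalizer (L.A : Set G)) (normalizer (L.A : Set G)) := by
  obtain ⟨J, h⟩ := L.jd'
  exact ⟨L.M, J, rfl, rfl, rfl, h⟩

namespace LJy
open HL.Jm HL.JD LJx
variable {L : La F} (J : JD L.M)

theorem ext2 {M : LA G} (J : JD M) {u v : G} (hu : u ∈ J.JJ) (hv : v ∈ J.JJ) (uu : u * u = 1)
    (vv : v * v = 1) (uv : Commute u v) (h1 : J.cl u ≠ 0) (h2 : J.cl v ≠ 0)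
    (h3 : J.cl v + J.cl u ≠ 0) : ∃ X : Subgroup G, Nat.card X = Nat.card M.A ∧
      (∀ x ∈ X, x * x = 1) ∧ ∀ j ∈ J.JJ, Commute j u → Commute j v → ∀ x ∈ X, Commute j x := by
  obtain ⟨X, mX, cX⟩ := exists_ext (C := J.Z) uu (fun c hc => (J.cen hc hu).symm)
    fun h => h1 (J.cl_Z h)
  have dX : ∀ x ∈ X, ∃ c ∈ J.Z, x = c ∨ x = c * u := fun x hx => by
    rcases (mX x).1 hx with h | h
    · exact ⟨x, h, .inl rfl⟩
    · exact ⟨_, h, .inr (by rw [mul_assoc, uu, mul_one])⟩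
  have k : ∀ j ∈ J.JJ, Commute j u → ∀ x ∈ X, Commute j x := fun j hj h x hx => by
    obtain ⟨c, hc, rfl | rfl⟩ := dX x hx
    exacts [(J.cen hc hj).symm, (J.cen hc hj).symm.mul_right h]
  have el : ∀ x ∈ X, x * x = 1 := fun x hx => by
    obtain ⟨c, hc, rfl | rfl⟩ := dX x hx
    · exact J.elZ hc
    · rw [(J.cen hc hu).symm.mul_mul_mul_comm, J.elZ hc, uu, mul_one]
  obtain ⟨Y, mY, cY⟩ := exists_ext (C := X) vv (k v hv uv.symm) fun h => by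
    rcases (mX v).1 h with h | h
    · exact h2 (J.cl_Z h)
    · exact h3 (J.cl_mul hv hu ▸ J.cl_Z h)
  have dY : ∀ x ∈ Y, ∃ c ∈ X, x = c ∨ x = c * v := fun x hx => by
    rcases (mY x).1 hx with h | h
    · exact ⟨x, h, .inl rfl⟩
    · exact ⟨_, h, .inr (by rw [mul_assoc, vv, mul_one])⟩
  refine ⟨Y, by rw [cY, cX, J.card]; ring, fun x hx => ?_, fun j hj a b x hx => ?_⟩
  · obtain ⟨c, hc, rfl | rfl⟩ := dY x hx
    · exact el _ hc
    · rw [(k v hv uv.symm c hc).mul_mul_mul_comm, el c hc, vv, mul_one]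
  · obtain ⟨c, hc, rfl | rfl⟩ := dY x hx
    exacts [k j hj a _ hc, (k j hj a _ hc).mul_right b]

theorem pick : ∀ v : V, qq v = 0 → ∃ a b : Bool, bt v (cond a e0 e1) = 0 ∧ bt v (cond b e2 e3) = 0 := by
  decide

theorem pick2 : ∀ a b : Bool, bt (cond a e0 e1) (cond b e2 e3) = 0 ∧ cond a e0 e1 ≠ 0 ∧
    cond b e2 e3 ≠ 0 ∧ cond b e2 e3 + cond a e0 e1 ≠ 0 := by decide

theorem cardB : Nat.card J.A' = Nat.card L.A :=
  (Nat.card_congr ((MulAut.conj J.x⁻¹).toEquiv.subtypeEquiv fun a => by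
    have h : a ∈ L.A ↔ _ := J.xA a
    simpa using h)).symm

theorem noJ : ∀ j ∈ J.JJ, ¬ IsConj F.t j := by
  intro j hj h
  have jj : j * j = 1 := by
    obtain ⟨g, rfl⟩ := isConj_iff.1 h
    rw [conj_mul, F.tt]; simp
  have c4 := L.c4.1
  have pB : 0 < Nat.card F.B := Nat.card_pos
  have key : ∀ X : Subgroup G, Nat.card X = Nat.card L.A → (∀ x ∈ X, x * x = 1) →
      ¬ ∀ x ∈ X, Commute j x := fun X a b c => by
    have := rkB F h b c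
    omega
  rcases J.ty' with H | H
  · rcases H.invol hj jj with k | k
    · exact key _ rfl L.el fun x hx => L.cm k hx
    · exact key _ (cardB J) J.el' fun x hx => HL.comm_of_el J.el' k hx
  · obtain ⟨a, b, h1, h2⟩ := pick _ ((H.sq_iff hj).1 jj)
    obtain ⟨p1, p2, p3, p4⟩ := pick2 a b
    have u : cond a J.a1 J.b2 ∈ J.JJ ∧ J.cl (cond a J.a1 J.b2) = cond a e0 e1 ∧
        cond a J.a1 J.b2 * cond a J.a1 J.b2 = 1 := by
      cases a
      exacts [⟨J.b2J, J.cl_b2, J.el' _ J.b2A⟩, ⟨J.a1J, J.cl_a1, L.el _ J.a1A⟩]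
    have v : cond b J.a2 J.b1 ∈ J.JJ ∧ J.cl (cond b J.a2 J.b1) = cond b e2 e3 ∧
        cond b J.a2 J.b1 * cond b J.a2 J.b1 = 1 := by
      cases b
      exacts [⟨J.b1J, J.cl_b1, J.el' _ J.b1A⟩, ⟨J.a2J, J.cl_a2, L.el _ J.a2A⟩]
    obtain ⟨X, x1, x2, x3⟩ := ext2 J u.1 v.1 u.2.2 v.2.2
      ((H.commute_iff u.1 v.1).2 (by rw [u.2.1, v.2.1, p1])) (u.2.1 ▸ p2) (v.2.1 ▸ p3)
      (by rw [u.2.1, v.2.1]; exact p4)
    exact key X x1 x2 (x3 j hj ((H.commute_iff hj u.1).2 (u.2.1 ▸ h1))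
      ((H.commute_iff hj v.1).2 (v.2.1 ▸ h2)))

theorem eJ : F.e ∈ J.JJ := (J.nS _ J.eS JD.e_nA).resolve_right fun h =>
  noJ J _ h (show IsConj F.t (F.e * F.t) by rw [← F.te.eq]; exact L.ttz.trans F.cj_te)

theorem Z_eq : J.Z = L.A ⊓ centralizer {F.e} := by
  refine eq_of_le_of_card_ge (fun z hz => ⟨hz.1, mem_cen.2 (J.cen hz (eJ J)).symm⟩) ?_
  have h1 : 4 * Nat.card ↥(L.A ⊓ centralizer {F.e}) ≤ Nat.card L.A := L.M.big _ (.inr (.inl rfl))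
  have h2 : Nat.card L.A = 4 * Nat.card J.Z := J.card
  omega

theorem mZ {a : G} (ha : a ∈ L.A) (h : Commute F.e a) : a ∈ J.Z := Z_eq J ▸ ⟨ha, mem_cen.2 h⟩

theorem cS (E : Ex F) : F.c ∈ (J.S : Subgroup G) := by
  have ti : F.t⁻¹ = F.t := inv_of_sq F.tt
  have h1 : J.x * F.t * J.x⁻¹ ∈ normalizer (L.A : Set G) := Od.nm_of fun a ha => (J.xA _).2 (by
    have := J.tA' _ ((J.xA a).1 ha)
    rwa [show J.x⁻¹ * (J.x * F.t * J.x⁻¹ * a * (J.x * F.t * J.x⁻¹)⁻¹) * J.x =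
      F.t * (J.x⁻¹ * a * J.x) * F.t⁻¹ by group, ti])
  have h0 : IsConj F.t (J.x * F.t * J.x⁻¹) := isConj_iff.2 ⟨_, rfl⟩
  have h2 := (J.nS _ (mul_mem (mul_mem J.xS J.tS) (inv_mem J.xS)) h1).resolve_left
    fun h => noJ J _ h h0
  have h3 := J.conj_mem J.t_nJ h2
  have e : F.t * (F.t * (J.x * F.t * J.x⁻¹ * F.t) * F.t⁻¹) = J.x * F.t * J.x⁻¹ := by
    rw [show F.t * (F.t * (J.x * F.t * J.x⁻¹ * F.t) * F.t⁻¹) = F.t * F.t * (J.x * F.t * J.x⁻¹) by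
      group, F.tt, one_mul]
  obtain ⟨k, hk, h4⟩ := J.fusJ _ h3 (e.symm ▸ h0)
  replace h4 : k⁻¹ * F.t * k = J.x * F.t * J.x⁻¹ := h4.trans e
  have gS : k * J.x ∈ (J.S : Subgroup G) := mul_mem (J.JS hk) J.xS
  have gt : Commute F.t (k * J.x) := Fr.comm_of_fix (by
    rw [show (k * J.x)⁻¹ * F.t * (k * J.x) = J.x⁻¹ * (k⁻¹ * F.t * k) * J.x by group, h4]; group)
  have T0 : F.T0 ≤ (J.S : Subgroup G) ⊓ normalizer (L.A : Set G) := (closure_le _).2 (by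
    rintro _ (rfl | rfl | rfl | rfl)
    exacts [⟨J.tS, JD.t_nA (L := L.M)⟩, ⟨J.AS L.sA, le_normalizer L.sA⟩,
      ⟨J.AS L.dA, le_normalizer L.dA⟩, ⟨J.eS, JD.e_nA (L := L.M)⟩])
  have gT := E.Tu (Y := (J.S : Subgroup G) ⊓ centralizer {F.t}) (J.S.isPGroup'.to_le inf_le_left)
    (fun y hy => mem_cen.1 hy.2) (fun y hy => ⟨(T0 hy).1, mem_cen.2 (F.t_T (F.T0_T hy))⟩)
    ⟨gS, mem_cen.2 gt⟩
  obtain ⟨y, hy, e | e⟩ := F.mem_T.1 gT
  · refine (J.na.1 ?_).elim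
    have xn : J.x ∈ normalizer (L.A : Set G) :=
      (mul_mem_cancel_left (J.J_nA hk)).1 (e ▸ (mem_inf.1 (T0 hy)).2)
    have := (J.xA _).1 (Od.cj xn J.a1A)
    rwa [show J.x⁻¹ * (J.x * J.a1 * J.x⁻¹) * J.x = J.a1 by group] at this
  · exact (mul_mem_cancel_left (mem_inf.1 (T0 hy)).1).1 (e ▸ gS)

theorem patc : ∀ s p q : Bool, (∀ v, act s p q (act true false false v) =
    act true false false (act s p q v)) → (∀ v : V, (v.1.2 = 0 ∧ v.2.2 = 0) ↔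
      ((act s p q v).1.2 = 0 ∧ (act s p q v).2.2 = 0)) ∨ ∀ v : V, (v.1.2 = 0 ∧ v.2.2 = 0) →
      ((act s p q v).1.1 = 0 ∧ (act s p q v).2.1 = 0) := by decide

theorem cA (E : Ex F) : ∀ a ∈ L.A, F.c⁻¹ * a * F.c ∈ J.A' := by
  have hn : F.c⁻¹ ∈ normalizer (J.JJ : Set G) := J.normal (inv_mem (cS J E))
  have h1 : F.c⁻¹ ∉ normalizer (L.A : Set G) := fun h => HL.La.not_mem L.M (.inr (.inl rfl)) (by
    have := Od.cj h L.dA
    rw [inv_inv, F.cr.dc] at this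
    exact (mul_mem_cancel_right L.zA).1 this)
  intro a ha
  rcases J.ty' with H | H
  · simpa using H.swapA hn h1 a ha
  · obtain ⟨s, p, q, h⟩ := H.pat hn
    have h2 := h.mul J.pat_t J.t_nJ
    rw [show F.c⁻¹ * L.M.t = L.M.t * F.c⁻¹ from F.tc.inv_right.symm.eq] at h2
    rcases patc s p q (h2.uniq (J.pat_t.mul h hn)) with k | k
    · exact (h1 (J.nA_of_pat hn h k)).elim
    · have h3 := J.conj_mem hn (J.memA ha)
      have := (J.memB_iff h3).2 (h _ (J.memA ha) ▸ k _ ((J.memA_iff (J.memA ha)).1 ha))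
      simpa using this

theorem A'_eq (E : Ex F) : cjs L.A F.c = J.A' :=
  eq_of_le_of_card_ge (cjs_ind (p := (· ∈ J.A')) (cA J E)) (by rw [card_cjs, cardB])

theorem cc2 (g : G) : F.c⁻¹ * (F.c⁻¹ * g * F.c) * F.c = F.e * (F.d * g * F.d) * F.e := by
  rw [show F.c⁻¹ * (F.c⁻¹ * g * F.c) * F.c = (F.c * F.c)⁻¹ * g * (F.c * F.c) by group, F.cr.cc,
    mul_inv_rev, F.e_inv, inv_of_sq F.dd]
  group

theorem cc0 {w : G} (hw : w ∈ J.Z) : F.c⁻¹ * (F.c⁻¹ * w * F.c) * F.c = w := by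
  rw [cc2, La.fx F.dd (L.cm L.dA hw.1), La.fx F.ee (J.cen hw (eJ J)).symm]

theorem cZ (E : Ex F) {w : G} (hw : w ∈ J.Z) : F.c⁻¹ * w * F.c ∈ J.Z := by
  refine ⟨?_, cA J E w hw.1⟩
  have h := mem_cjs.1 ((A'_eq J E).ge hw.2)
  have := L.eA' _ (mul_mem (mul_mem L.dA h) L.dA)
  rwa [← cc2, show F.c⁻¹ * (F.c * w * F.c⁻¹) * F.c = w by group] at this

theorem J_eq (E : Ex F) : J.JJ = L.A ⊔ closure {F.e, F.c⁻¹ * L.x * F.c} := by
  refine le_antisymm (sup_le le_sup_left ?_) (sup_le le_sup_left ((closure_le _).2 ?_))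
  · rw [← A'_eq J E]
    refine cjs_ind (p := (· ∈ L.A ⊔ closure {F.e, F.c⁻¹ * L.x * F.c})) ?_
    have k : ∀ a ∈ L.A, Commute F.e a → F.c⁻¹ * a * F.c ∈ L.A ⊔ closure {F.e, F.c⁻¹ * L.x * F.c} :=
      fun a ha h => mem_sup_left (cZ J E (mZ J ha h)).1
    refine L.gen (k _ (one_mem _) (Commute.one_right _))
      (fun a b _ _ h h' => by rw [Fr.cj_mul]; exact mul_mem h h') (k _ L.sA F.se.symm)
      (k _ L.mA L.em) (k _ L.zA F.ze.symm) ?_ (k _ L.yA L.ey) (mem_sup_right (subset_closure (by simp)))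
    rw [F.cr.dc]
    exact mul_mem (mem_sup_right (subset_closure (by simp))) (mem_sup_left L.zA)
  · rintro _ (rfl | rfl)
    exacts [eJ J, J.memB (cA J E _ L.xA)]

theorem φc (g : G) : F.t * (F.c⁻¹ * g * F.c) * F.t = F.c⁻¹ * (F.t * g * F.t) * F.c := by
  rw [show F.t * (F.c⁻¹ * g * F.c) * F.t = F.t * F.c⁻¹ * g * (F.c * F.t) by group,
    F.tc.inv_right.eq, ← F.tc.eq]; group

/-- two elements of `Z0` with the same image under `φ` -/
theorem dif {v w : G} (hv : v ∈ J.Z) (hw : w ∈ J.Z)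
    (h : F.t * v * F.t * v = F.t * w * F.t * w) :
    v = w ∨ v = w * F.z ∨ (F.s ≠ 1 ∧ (v = w * F.s ∨ v = w * (F.s * F.z))) := by
  have h1 : F.t * (w * v) * F.t * (w * v) = _ := map_mul L.φ ⟨w, hw.1⟩ ⟨v, hv.1⟩
  have h2 : L.φ ⟨w, hw.1⟩ * L.φ ⟨v, hv.1⟩ = 1 := by
    change F.t * w * F.t * w * (F.t * v * F.t * v) = 1
    rw [h]; exact L.el _ (mul_mem (L.tA' _ hw.1) hw.1)
  have hz := mul_mem hw hv
  have := F.fix_e (L.ct _ hz.1 ((ph_one F.tt (J.elZ hz)).1 (h1.trans h2))) (J.cen hz (eJ J)).symm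
  have e : v = w * (w * v) := by rw [← mul_assoc, J.elZ hw, one_mul]
  by_cases hs : F.s = 1
  · rw [hs, one_mul] at this
    rcases this with k | k | k | k <;> rw [k] at e <;> simp [e]
  · rcases this with k | k | k | k <;> rw [k] at e
    exacts [.inl (by simpa using e), .inr (.inl e), .inr (.inr ⟨hs, .inl e⟩),
      .inr (.inr ⟨hs, .inr e⟩)]

theorem zc : F.c⁻¹ * F.z * F.c = F.z := Fr.cj_fix F.cr.zc

theorem szc (h : F.s ≠ 1) : F.c⁻¹ * (F.s * F.z) * F.c = F.s := by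
  rw [Fr.cj_mul, F.cr.sc h, zc, mul_assoc, F.zz, mul_one]

theorem nz {a : G} (h : a = a * F.z) : False := F.z1 (by simpa using h)

include J in
theorem cy (E : Ex F) : ∃ α : ℕ, (α = 0 ∨ α = 1) ∧ F.c⁻¹ * L.y * F.c = L.y * F.z ^ α := by
  have yZ := mZ J L.yA L.ey
  have h2 := cc0 J yZ
  rcases dif J (cZ J E yZ) yZ (by rw [φc, ← Fr.cj_mul, L.φy, zc]) with h | h | ⟨hs, h | h⟩
  · exact ⟨0, .inl rfl, by simpa using h⟩
  · exact ⟨1, .inr rfl, by simpa using h⟩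
  · rw [h, Fr.cj_mul, h, F.cr.sc hs, mul_assoc, ← mul_assoc F.s, F.ss, one_mul] at h2
    exact (nz h2.symm).elim
  · rw [h, Fr.cj_mul, h, szc hs, mul_assoc, mul_assoc, ← F.sz.eq, ← mul_assoc F.s, F.ss,
      one_mul] at h2
    exact (nz h2.symm).elim

include J in
theorem cm (E : Ex F) {α : ℕ} (hα : α = 0 ∨ α = 1) (hy : F.c⁻¹ * L.y * F.c = L.y * F.z ^ α)
    (hm : L.m ≠ 1) : F.c⁻¹ * L.m * F.c = L.m * L.y * F.s ^ α ∨
      F.c⁻¹ * L.m * F.c = L.m * L.y * F.s ^ α * F.z := by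
  have mZ' := mZ J L.mA L.em
  have yZ := mZ J L.yA L.ey
  have hs := (L.φm hm).1
  have h2 := cc0 J mZ'
  have h3 : F.t * (L.m * L.y) * F.t * (L.m * L.y) = F.t * L.m * F.t * L.m * (F.t * L.y * F.t * L.y) :=
    map_mul L.φ ⟨_, L.mA⟩ ⟨_, L.yA⟩
  have key : ∀ w ∈ L.A, F.c⁻¹ * L.m * F.c = L.m * L.y * w →
      w * (F.c⁻¹ * w * F.c) * F.z ^ α = 1 := fun w hw h => by
    rw [h, Fr.cj_mul, Fr.cj_mul, h, hy] at h2
    have h4 : L.m * L.y * w * (L.y * F.z ^ α) * (F.c⁻¹ * w * F.c) =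
        L.m * (L.y * L.y) * (w * (F.z ^ α * (F.c⁻¹ * w * F.c))) := by
      rw [mul_assoc (L.m * L.y), ← mul_assoc w, ← (L.cm L.yA hw).eq]; group
    rw [h4, L.el _ L.yA, mul_one, mul_eq_left] at h2
    rw [mul_assoc, ← h2]
    congr 1
    have := (comm_cj (L.cm L.zA hw) F.c).pow_left α
    rw [zc] at this
    exact this.symm.eq
  have dd := dif J (cZ J E mZ') (mul_mem mZ' yZ) (by
    rw [φc, ← Fr.cj_mul, (L.φm hm).2, h3, (L.φm hm).2, L.φy, F.cr.sc hs])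
  rcases hα with rfl | rfl
  · simp only [pow_zero, mul_one] at key ⊢
    rcases dd with h | h | ⟨-, h | h⟩
    · exact .inl h
    · exact .inr h
    · have := key _ L.sA h
      rw [F.cr.sc hs, ← mul_assoc, F.ss, one_mul] at this
      exact (F.z1 this).elim
    · have := key _ (mul_mem L.sA L.zA) h
      rw [szc hs, F.sz.eq, mul_assoc, F.ss, mul_one] at this
      exact (F.z1 this).elim
  · simp only [pow_one] at key ⊢
    rcases dd with h | h | ⟨-, h | h⟩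
    · have := key 1 (one_mem _) (by simpa using h)
      exact (F.z1 (by simpa using this)).elim
    · have := key _ L.zA h
      rw [zc, F.zz, one_mul] at this
      exact (F.z1 this).elim
    · exact .inl h
    · exact .inr (by rw [h, mul_assoc (L.m * L.y)])

include J in
theorem fx (E : Ex F) {α : ℕ} (hα : α = 0 ∨ α = 1) (hy : F.c⁻¹ * L.y * F.c = L.y * F.z ^ α) :
    ∃ β : ℕ, (β = 0 ∨ β = 1) ∧ F.c⁻¹ * L.x * F.c * L.x * (F.c⁻¹ * L.x * F.c) =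
      L.x * (L.y ^ (α + 1) * F.z ^ β) := by
  have fB := cA J E _ L.xA
  have eB := cA J E _ L.dA
  have yZ := mZ J L.yA L.ey
  have zZ := mZ J L.zA F.ze.symm
  have fc : F.c⁻¹ * (F.c⁻¹ * L.x * F.c) * F.c = L.y * L.x := by
    rw [cc2, La.fx F.dd (L.cm L.dA L.xA), L.ex]
  have ft : F.t * (F.c⁻¹ * L.x * F.c) * F.t = F.c⁻¹ * L.x * F.c * (F.e * F.z) := by
    rw [φc, L.tx, Fr.cj_mul, F.cr.dc]
  have df : cc F.d (F.c⁻¹ * L.x * F.c) = L.y * F.z ^ α := by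
    rw [← hy, ← F.cr.ec, cc, ← Fr.cj_mul, ← Fr.cj_mul, ← Fr.cj_mul, L.ex, mul_assoc L.y,
      L.el _ L.xA, mul_one]
  rw [F.cr.dc] at eB
  generalize hf : F.c⁻¹ * L.x * F.c = f at fB fc ft df ⊢
  have kZ : cc L.x f ∈ J.Z := J.cc_mem L.xA fB
  have ff := J.el' _ fB
  have kc : F.c⁻¹ * cc L.x f * F.c = cc L.x f := by
    have h1 := (J.cen yZ (J.memB fB)).eq
    have h2 := (L.cm L.yA L.xA).eq
    rw [← inv_of_sq (J.elZ kZ)]
    nth_rw 1 [inv_of_sq (J.elZ kZ)]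
    rw [cc, Fr.cj_mul, Fr.cj_mul, Fr.cj_mul, fc, hf, mul_inv_rev, mul_inv_rev, mul_inv_rev,
      inv_of_sq ff, inv_of_sq (L.el _ L.xA)]
    calc f * (L.y * L.x) * f * (L.y * L.x) = f * (L.y * L.x) * (f * L.y) * L.x := by group
      _ = f * L.x * (L.y * L.y) * f * L.x := by rw [← h1, h2]; group
      _ = _ := by rw [L.el _ L.yA]; group
  have ez : ∀ g ∈ L.A, cc g (F.e * F.z) = g * (F.e * g * F.e) := fun g hg => by
    calc cc g (F.e * F.z) = g * F.e * (F.z * g) * F.e * F.z := by rw [cc]; group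
      _ = g * F.e * g * (F.z * F.e) * F.z := by rw [(L.cm L.zA hg).eq]; group
      _ = g * (F.e * g * F.e) * (F.z * F.z) := by rw [F.ze.eq]; group
      _ = _ := by rw [F.zz, mul_one]
  have kt : F.t * cc L.x f * F.t * cc L.x f = F.z ^ α * F.z := by
    rw [cc, La.cjm F.tt, La.cjm F.tt, La.cjm F.tt, L.tx, ft]
    change cc (L.x * F.d) (f * (F.e * F.z)) * cc L.x f = _
    rw [J.cc_mul_left L.xA L.dA (mul_mem fB eB), J.cc_mul_right L.xA fB eB,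
      J.cc_mul_right L.dA fB eB, df, ez _ L.xA, ez _ L.dA, L.ex, F.ede, (L.cm L.yA L.xA).eq,
      ← mul_assoc L.x, ← mul_assoc F.d, L.el _ L.xA, F.dd, one_mul, one_mul]
    have := (L.cm kZ.1 (mul_mem (pow_mem L.zA α) L.zA)).eq
    calc _ = cc L.x f * (L.y * L.y) * (F.z ^ α * F.z) * cc L.x f := by group
      _ = F.z ^ α * F.z * (cc L.x f * cc L.x f) := by rw [L.el _ L.yA, mul_one, this]; group
      _ = _ := by rw [J.elZ kZ, mul_one]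
  have yc : F.c⁻¹ * L.y ^ (α + 1) * F.c = L.y ^ (α + 1) ∧
      F.t * L.y ^ (α + 1) * F.t * L.y ^ (α + 1) = F.z ^ α * F.z := by
    rcases hα with rfl | rfl
    · simpa using And.intro hy L.φy
    · simp [pow_two, L.el _ L.yA, F.tt, F.zz]
  have fin : f * L.x * f = L.x * cc L.x f := by
    rw [cc, ← mul_assoc, ← mul_assoc, ← mul_assoc, L.el _ L.xA, one_mul]
  rw [fin]
  rcases dif J kZ (pow_mem yZ (α + 1)) (kt.trans yc.2.symm) with h | h | ⟨hs, h | h⟩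
  · exact ⟨0, .inl rfl, by rw [h, pow_zero, mul_one]⟩
  · exact ⟨1, .inr rfl, by rw [h, pow_one]⟩
  · rw [h, Fr.cj_mul, yc.1, F.cr.sc hs, ← mul_assoc] at kc
    exact (nz kc.symm).elim
  · rw [h, Fr.cj_mul, yc.1, szc hs, ← mul_assoc] at kc
    exact (nz kc).elim

/-- replace `m` by `m s` -/
def ms (L : La F) (h : L.m ≠ 1) : La F :=
  { L with
    m := L.m * F.s
    hA := le_antisymm (by
        have k : ∀ a ∈ ({F.s, L.m * F.s, F.z, F.d, L.y, L.x} : Set G),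
          a ∈ closure {F.s, L.m * F.s, F.z, F.d, L.y, L.x} := fun a ha => subset_closure ha
        exact L.gen (one_mem _) (fun _ _ _ _ => mul_mem) (k _ (by simp))
          ((mul_mem_cancel_right (k F.s (by simp))).1 (k _ (by simp))) (k _ (by simp))
          (k _ (by simp)) (k _ (by simp)) (k _ (by simp)))
      ((closure_le _).2 (by
        rintro _ (rfl | rfl | rfl | rfl | rfl | rfl)
        exacts [L.sA, mul_mem L.mA L.sA, L.zA, L.dA, L.yA, L.xA]))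
    tm := .inr ⟨(L.φm h).1, by
      rw [La.cjm F.tt, (L.tm.resolve_left fun k => h k.1).2, La.fx F.tt F.ts]⟩
    ρm := L.ρm.mul_left F.sρ
    em := L.em.mul_right F.se.symm }

end LJy

/-- Take `M, J` from `jd`; `JJ = A A'` is normal in `S` (`JD.normal`), `Z0 = A ∩ A'`.
`noJ`: an involution of `JJ` lies in an elementary subgroup of order `|A| > 2 |B|` (`T1.invol`; in
type `T2` in one of `Z0 ⟨a1 or b2, a2 or b1⟩`, `T2.sq_iff`), `rkB`. So `t e ∉ JJ`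
(`t e ~ t z ~ t`), `e ∈ JJ` (`nS`); `C_A(e) ≥ Z0` has index `≥ 4` (`big`), so
`Z0 = C_A(e) = ⟨s, m, z, y⟩`. `x₀ t x₀⁻¹` (`x₀ = J.x`) normalises `A` (`tA'`), so lies in `t JJ`,
`fusJ` gives an element of `C_S(t)` outside `N(A) ≥ T0`; so `T0 < C_S(t) ≤ T` (`Tu`), `c ∈ S`.
`A ^ c ≤ JJ` is elementary of order `|A|`, `≠ A` (`d ^ c = e z`), normalised by `t`; so
`A ^ c = A'` (type `T2`: `t` swaps the two other such subgroups). So `A' = Z0 ⟨e, f⟩`,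
`JJ = A ⊔ ⟨e, f⟩`, and `c` normalises `Z0`, `c² = d e` centralises it. `w ↦ w ^ t w` on `Z0` has
kernel `⟨s, z⟩`, `y ↦ z`, `m ↦ s`, and commutes with `c`; `s ^ c = s z`. So `y ^ c ∈ y ⟨s, z⟩`,
`m ^ c = m y w`, `w ∈ ⟨s, z⟩`; `c²` trivial gives `y ^ c = y z ^ α` and `w ∈ s ^ α ⟨z⟩`; replace
`m` by `m s` if necessary (this changes `w` by `z`). `κ = ⁅x, f⁆ ∈ Z0` is fixed by `c`
(`f ^ c = x ^ (d e) = y x`), `κ ^ t = ⁅x d, f e z⁆ = κ y y ^ c z`, so `κ ∈ y ^ (α + 1) ⟨s, z⟩` and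
`κ ∈ y ^ (α + 1) ⟨z⟩`. -/
theorem La.lj (E : Ex F) (L : La F) : Nonempty (Lj F) := by
  obtain ⟨J, syl⟩ := L.jd'
  obtain ⟨α, hα, hy⟩ := LJy.cy J E
  obtain ⟨β, hβ, hf⟩ := LJy.fx J E hα hy
  by_cases h : L.m ≠ 1 → F.c⁻¹ * L.m * F.c = L.m * L.y * F.s ^ α
  · exact ⟨⟨L, J.S, J.JJ, _, α, β, hα, hβ, MSS.sylIn_top _, rfl, LJy.J_eq J E, J.JS, J.tS,
      LJy.cS J E, J.normal, J.nS, syl, LJy.noJ J, J.fusJ, hy, h, hf⟩⟩
  · obtain ⟨hm, h⟩ := Classical.not_imp.1 h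
    refine ⟨⟨LJy.ms L hm, J.S, J.JJ, _, α, β, hα, hβ, MSS.sylIn_top _, rfl, LJy.J_eq J E, J.JS,
      J.tS, LJy.cS J E, J.normal, J.nS, syl, LJy.noJ J, J.fusJ, hy, fun _ => ?_, hf⟩⟩
    change F.c⁻¹ * (L.m * F.s) * F.c = L.m * F.s * L.y * F.s ^ α
    rw [Fr.cj_mul, (LJy.cm J E hα hy hm).resolve_left h, F.cr.sc (L.φm hm).1, F.sz.eq,
      mul_assoc, ← mul_assoc F.z, F.zz, one_mul, mul_assoc L.m F.s, (L.cm L.sA L.yA).eq,
      mul_assoc (L.m * L.y), ← pow_succ, ← mul_assoc, mul_assoc (L.m * L.y), ← pow_succ']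

end CL.H3
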