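import Cfsg.Agent.INV.H3.Def3
import Cfsg.Agent.INV.H3.LJ

/-! S3140: basics on `Lj`, part a. `x ^ g = g⁻¹ * x * g`. The group `J1` is described by the model `Bx.M6`
(exponents of `d, x, e, f, y, z`). -/

set_option autoImplicit false
set_option linter.unusedSectionVars false
open Subgroup

namespace CL.H3.Lj
open CL.HL CL.HL.Fr

namespace Bx

/-- exponents of `d, x, e, f, y, z` -/
structure M6 where
  i : Bool
  k : Bool
  l : Bool
  n : Bool
  p : Bool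
  q : Bool
  deriving DecidableEq, Fintype

def mu (a b : Bool) (u v : M6) : M6 :=
  ⟨xor u.i v.i, xor u.k v.k, xor u.l v.l, xor u.n v.n,
    xor (u.l && v.k) (xor false (xor (!a && u.n && v.k) (xor (u.n && v.i) (xor u.p v.p)))),
    xor false (xor (u.l && v.i) (xor (b && u.n && v.k) (xor (a && u.n && v.i) (xor u.q v.q))))⟩

def o : M6 := ⟨false, false, false, false, false, false⟩
def gd : M6 := ⟨true, false, false, false, false, false⟩
def gx : M6 := ⟨false, true, false, false, false, false⟩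
def ge : M6 := ⟨false, false, true, false, false, false⟩
def gf : M6 := ⟨false, false, false, true, false, false⟩
def iv (a b : Bool) (u : M6) : M6 := mu a b u (mu a b u u)
def bq (c : Bool) (u : M6) : M6 := bif c then u else o
/-- `u` lies in `Y` -/
def Lo (u : M6) : Prop := u.i = false ∧ u.k = false ∧ u.l = false ∧ u.n = false
instance (u : M6) : Decidable (Lo u) := inferInstanceAs (Decidable (_ ∧ _))

variable {G : Type*} [Group G]

theorem col {K : Subgroup G} {D X E H D' X' E' H' c c' c1 c2 c3 c4 : G} (hD : D' ∈ K) (hX : X' ∈ K) (hE : E' ∈ K)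
    (hH : H ∈ K) (hH' : H' ∈ K) (hc : ∀ g ∈ K, Commute c g) (h1 : ∀ g ∈ K, Commute c1 g) (h2 : ∀ g ∈ K, Commute c2 g)
    (h3 : ∀ g ∈ K, Commute c3 g) (h4 : ∀ g ∈ K, Commute c4 g) (e1 : E * D' = D' * E * c1) (e2 : E * X' = X' * E * c2)
    (e3 : H * D' = D' * H * c3) (e4 : H * X' = X' * H * c4) (e5 : X * D' = D' * X) (e6 : H * E' = E' * H) :
    D * X * E * H * c * (D' * X' * E' * H' * c') =
      D * D' * (X * X') * (E * E') * (H * H') * (c2 * (c1 * (c4 * (c3 * (c * c'))))) := by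
  have s {a b r : G} (e : a * b = r) (g : G) : a * (b * g) = r * g := by rw [← mul_assoc, e]
  simp only [mul_assoc]
  rw [(hc _ hD).left_comm, (hc _ hX).left_comm, (hc _ hE).left_comm, (hc _ hH').left_comm, s e3, mul_assoc, mul_assoc,
    (h3 _ hX).left_comm, (h3 _ hE).left_comm, (h3 _ hH').left_comm, s e4, mul_assoc, mul_assoc, (h4 _ hE).left_comm,
    (h4 _ hH').left_comm, s e6, mul_assoc, s e1, mul_assoc, mul_assoc, (h1 _ hX).left_comm, (h1 _ hE).left_comm,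
    (h1 _ hH).left_comm, (h1 _ hH').left_comm, s e2, mul_assoc, mul_assoc, (h2 _ hE).left_comm, (h2 _ hH).left_comm,
    (h2 _ hH').left_comm, s e5, mul_assoc]

theorem cancel {a b g : G} (h : Commute (a * b) g) (hb : Commute b g) : Commute a g := by
  simpa using h.mul_left hb.inv_left

theorem bp_mem {H : Subgroup G} {x : G} (h : x ∈ H) (c : Bool) : bp c x ∈ H := by
  cases c
  exacts [one_mem _, h]

theorem bp_pow (c : Bool) (x : G) : bp c x = x ^ c.toNat := by cases c <;> simp [bp]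

theorem cj_bp (g x : G) (c : Bool) : g⁻¹ * bp c x * g = bp c (g⁻¹ * x * g) := by cases c <;> simp [bp]

theorem norm_cl [Finite G] {S : Set G} {g : G} (h : ∀ x ∈ S, g⁻¹ * x * g ∈ closure S) :
    g ∈ normalizer (closure S : Set G) := by
  refine norm_of fun x hx => ?_
  induction hx using closure_induction with
  | mem x hx => exact h x hx
  | one => simp
  | mul x y _ _ hx hy => rw [cj_mul]; exact mul_mem hx hy
  | inv x _ hx => simpa [mul_assoc] using inv_mem hx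

theorem swap {u v w : G} (uu : u * u = 1) (h : u * v * u = v * w) (hw : Commute w u) : u * v = v * u * w := by
  rw [mul_assoc, ← hw.eq, ← mul_assoc, ← h, mul_assoc _ u u, uu, mul_one]

variable [Finite G] {F : Fr G} (L : Lj F)

theorem s_A : F.s ∈ L.A := L.hA ▸ subset_closure (by simp)
theorem m_A : L.m ∈ L.A := L.hA ▸ subset_closure (by simp)
theorem z_A : F.z ∈ L.A := L.hA ▸ subset_closure (by simp)
theorem d_A : F.d ∈ L.A := L.hA ▸ subset_closure (by simp)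
theorem y_A : L.y ∈ L.A := L.hA ▸ subset_closure (by simp)
theorem x_A : L.x ∈ L.A := L.hA ▸ subset_closure (by simp)
theorem cA {a b : G} (ha : a ∈ L.A) (hb : b ∈ L.A) : Commute a b := comm_of_el L.el ha hb
theorem xx : L.x * L.x = 1 := L.el _ (x_A L)
theorem yy : L.y * L.y = 1 := L.el _ (y_A L)
theorem ff : L.f * L.f = 1 := L.hf ▸ sq_cj (xx L) _
theorem zc : F.c⁻¹ * F.z * F.c = F.z := cj_fix F.cr.zc
theorem t_inv : F.t⁻¹ = F.t := inv_eq_of_mul_eq_one_right F.tt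

theorem cf {a : G} (ha : a ∈ L.A) : Commute (F.c⁻¹ * a * F.c) L.f := L.hf ▸ comm_cj (cA L ha (x_A L)) _
theorem zf : Commute F.z L.f := zc (F := F) ▸ cf L (z_A L)
theorem yf : Commute L.y L.f := cancel (L.cy ▸ cf L (y_A L)) ((zf L).pow_left _)
theorem ef : Commute F.e L.f := cancel (F.cr.dc ▸ cf L (d_A L)) (zf L)

theorem sf : Commute F.s L.f := by
  by_cases h : F.s = 1
  · rw [h]; exact Commute.one_left _
  · exact cancel (F.cr.sc h ▸ cf L (s_A L)) (zf L)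

theorem mf : Commute L.m L.f := by
  by_cases h : L.m = 1
  · rw [h]; exact Commute.one_left _
  · exact cancel (cancel (L.cm h ▸ cf L (m_A L)) ((sf L).pow_left _)) (yf L)

theorem y_Y : L.y ∈ L.Y := subset_closure (by simp)
theorem z_Y : F.z ∈ L.Y := subset_closure (by simp)
theorem s_Z : F.s ∈ L.Z := subset_closure (by simp)
theorem m_Z : L.m ∈ L.Z := subset_closure (by simp)
theorem d_1 : F.d ∈ L.J1 := subset_closure (by simp)
theorem x_1 : L.x ∈ L.J1 := subset_closure (by simp)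
theorem e_1 : F.e ∈ L.J1 := subset_closure (by simp)
theorem f_1 : L.f ∈ L.J1 := subset_closure (by simp)
theorem Y_Z : L.Y ≤ L.Z := closure_mono (by intro g; simp; tauto)

theorem Z_A : L.Z ≤ L.A := (closure_le _).2 (by
  rintro g (rfl | rfl | rfl | rfl)
  exacts [s_A L, m_A L, y_A L, z_A L])

theorem A_J : L.A ≤ L.J := L.hJ ▸ le_sup_left
theorem e_J : F.e ∈ L.J := L.hJ ▸ mem_sup_right (subset_closure (by simp))
theorem f_J : L.f ∈ L.J := L.hJ ▸ mem_sup_right (subset_closure (by simp))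

theorem J1_J : L.J1 ≤ L.J := (closure_le _).2 (by
  rintro g (rfl | rfl | rfl | rfl)
  exacts [A_J L (d_A L), A_J L (x_A L), e_J L, f_J L])

end Bx

open Bx

variable {G : Type*} [Group G] [Finite G] {F : Fr G} (L : Lj F)

theorem cenZ {w j : G} (hw : w ∈ L.Z) (hj : j ∈ L.J) : Commute w j := by
  rw [L.hJ] at hj
  refine comm_sup (fun a ha => cA L (Z_A L hw) ha) (fun a ha => ?_) j hj
  have : ({F.e, L.f} : Set G) ⊆ centralizer {w} := by
    have k {g : G} (h : ({F.s, L.m, L.y, F.z} : Set G) ⊆ centralizer {g}) : g ∈ centralizer {w} :=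
      mem_centralizer_singleton_iff.2 (mem_centralizer_singleton_iff.1 ((closure_le _).2 h hw)).symm
    rintro g (rfl | rfl) <;> refine k ?_ <;> rintro g (rfl | rfl | rfl | rfl) <;> refine mem_centralizer_singleton_iff.2 ?_
    exacts [F.se, L.em.symm, L.ey.symm, F.ze, sf L, mf L, yf L, zf L]
  exact (mem_centralizer_singleton_iff.1 ((closure_le _).2 this ha)).symm

namespace Bx

theorem fd : L.f * F.d * L.f = F.d * (L.y * F.z ^ L.α) := by
  have h : F.d * L.f * F.d = L.y * F.z ^ L.α * L.f := by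
    rw [← F.cr.ec, ← L.cy, L.hf, ← cj_mul, ← cj_mul, ← cj_mul, L.ex]
  calc _ = F.d * (F.d * L.f * F.d) * L.f := by rw [← mul_assoc F.d, ← mul_assoc F.d, F.dd, one_mul]
    _ = _ := by rw [h, mul_assoc, mul_assoc _ L.f, ff L, mul_one]

theorem tf : F.t * L.f * F.t = L.f * F.e * F.z := by
  have h : F.c⁻¹ * F.t * F.c = F.t := cj_fix F.tc
  rw [mul_assoc L.f, ← F.cr.dc, L.hf, ← cj_mul, ← L.tx, cj_mul, cj_mul, h]

theorem fc : F.c⁻¹ * L.f * F.c = L.y * L.x := by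
  calc _ = (F.c * F.c)⁻¹ * L.x * (F.c * F.c) := by rw [L.hf]; group
    _ = F.e⁻¹ * (F.d⁻¹ * L.x * F.d) * F.e := by rw [F.cr.cc]; group
    _ = _ := by rw [cj_fix (cA L (x_A L) (d_A L)), F.e_inv, L.ex]

def a : Bool := decide (L.α = 1)
def b : Bool := decide (L.β = 1)

theorem pow_α (g : G) : g ^ L.α = bp (a L) g := by rcases L.hα with h | h <;> simp [a, bp, h]
theorem pow_β (g : G) : g ^ L.β = bp (b L) g := by rcases L.hβ with h | h <;> simp [b, bp, h]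
theorem pow_α' {g : G} (gg : g * g = 1) : g ^ (L.α + 1) = bp (!a L) g := by
  rcases L.hα with h | h <;> simp [a, bp, h, pow_two, gg]

def κ (p q : Bool) : G := bp p L.y * bp q F.z

theorem κ_Y (p q : Bool) : κ L p q ∈ L.Y := mul_mem (bp_mem (y_Y L) _) (bp_mem (z_Y L) _)
theorem κ_c (p q : Bool) : ∀ g ∈ L.J, Commute (κ L p q) g := fun _ h => L.cenZ (Y_Z L (κ_Y L p q)) h

theorem κ_mul (p q p' q' : Bool) : κ L p q * κ L p' q' = κ L (xor p p') (xor q q') := by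
  rw [κ, κ, κ, bp_xor (yy L), bp_xor F.zz]
  exact (Commute.mul_mul_mul_comm (bp_comm (cA L (z_A L) (y_A L)) _ _) _ _)

theorem not_ty : ¬ Commute F.t L.y := fun h => F.z1 (by
  have := L.ty
  rwa [h.eq, mul_assoc, F.tt, mul_right_inj, eq_comm] at this)

theorem κ_one {p q : Bool} (h : κ L p q = 1) : p = false ∧ q = false := by
  cases p
  · cases q
    · exact ⟨rfl, rfl⟩
    · exact (F.z1 (by simpa [κ, bp] using h)).elim
  · refine (not_ty L (cancel (b := bp q F.z) ?_ ?_).symm).elim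
    · rw [show L.y * bp q F.z = 1 from h]; exact Commute.one_left _
    · cases q
      exacts [Commute.one_left _, F.tz.symm]

theorem κ_inj {p q p' q' : Bool} (h : κ L p q = κ L p' q') : p = p' ∧ q = q' := by
  have := κ_one L (p := xor p p') (q := xor q q') (by rw [← κ_mul, ← h, κ_mul]; simp [κ, bp])
  revert this
  cases p <;> cases p' <;> cases q <;> cases q' <;> simp

/-- the element with the given exponents -/
def wd (u : M6) : G := bp u.i F.d * bp u.k L.x * bp u.l F.e * bp u.n L.f * κ L u.p u.q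

theorem sw {u v : G} {p q : Bool} (uu : u * u = 1) (hu : u ∈ L.J) (h : u * v * u = v * κ L p q) (c c' : Bool) :
    bp c u * bp c' v = bp c' v * bp c u * κ L (p && c && c') (q && c && c') := by
  cases c <;> cases c' <;> simp [bp, κ]
  simpa [κ, bp] using swap uu h (κ_c L p q u hu)

theorem wd_mul (u v : M6) : wd L u * wd L v = wd L (mu (a L) (b L) u v) := by
  have h1 := sw L (p := false) (q := true) F.ee (e_J L) (v := F.d) (by simp [κ, bp, F.ede]) u.l v.i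
  have h2 := sw L (p := true) (q := false) F.ee (e_J L) (v := L.x)
    (by simp [κ, bp, L.ex, (cA L (x_A L) (y_A L)).eq]) u.l v.k
  have h3 := sw L (p := true) (q := a L) (ff L) (f_J L) (v := F.d) (by rw [fd, pow_α]; rfl) u.n v.i
  have h4 := sw L (p := !a L) (q := b L) (ff L) (f_J L) (v := L.x) (by rw [L.fx, pow_α' L (yy L), pow_β]; rfl) u.n v.k
  rw [wd, wd, col (bp_mem (A_J L (d_A L)) _) (bp_mem (A_J L (x_A L)) _) (bp_mem (e_J L) _) (bp_mem (f_J L) _)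
    (bp_mem (f_J L) _) (κ_c L _ _) (κ_c L _ _) (κ_c L _ _) (κ_c L _ _) (κ_c L _ _) h1 h2 h3 h4
    (bp_comm (cA L (x_A L) (d_A L)) _ _) (bp_comm (ef L).symm _ _), κ_mul, κ_mul, κ_mul, κ_mul, κ_mul,
    ← bp_xor F.dd, ← bp_xor (xx L), ← bp_xor F.ee, ← bp_xor (ff L)]
  rfl

theorem wd_o : wd L o = 1 := by simp [wd, o, κ, bp]
theorem wd_d : wd L gd = F.d := by simp [wd, gd, κ, bp]
theorem wd_x : wd L gx = L.x := by simp [wd, gx, κ, bp]
theorem wd_e : wd L ge = F.e := by simp [wd, ge, κ, bp]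
theorem wd_f : wd L gf = L.f := by simp [wd, gf, κ, bp]
theorem wd_κ (p q : Bool) : wd L ⟨false, false, false, false, p, q⟩ = κ L p q := by simp [wd, bp]

theorem wd_iv (u : M6) : wd L (iv (a L) (b L) u) = (wd L u)⁻¹ :=
  eq_inv_of_mul_eq_one_right (by
    rw [wd_mul, (by decide +kernel : ∀ a b u, mu a b u (iv a b u) = o), wd_o])

theorem wd_bq (c : Bool) (u : M6) : wd L (bq c u) = bp c (wd L u) := by
  cases c
  exacts [wd_o L, rfl]

theorem wd_Lo {u : M6} (h : Lo u) : wd L u ∈ L.Y := by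
  obtain ⟨i, k, l, n, p, q⟩ := u
  obtain ⟨rfl, rfl, rfl, rfl⟩ := h
  exact wd_κ L p q ▸ κ_Y L p q

theorem cm_mu {u v : M6} (h : Commute (wd L u) (wd L v)) : mu (a L) (b L) u v = mu (a L) (b L) v u := by
  have h1 := h.eq
  rw [wd_mul, wd_mul, wd, wd] at h1
  have e : ∀ a b u v, (mu a b u v).i = (mu a b v u).i ∧ (mu a b u v).k = (mu a b v u).k ∧
      (mu a b u v).l = (mu a b v u).l ∧ (mu a b u v).n = (mu a b v u).n := fun a b u v =>
    ⟨Bool.xor_comm _ _, Bool.xor_comm _ _, Bool.xor_comm _ _, Bool.xor_comm _ _⟩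
  obtain ⟨e1, e2, e3, e4⟩ := e (a L) (b L) u v
  rw [e1, e2, e3, e4, mul_right_inj] at h1
  obtain ⟨e5, e6⟩ := κ_inj L h1
  generalize mu (a L) (b L) u v = r at *
  generalize mu (a L) (b L) v u = r' at *
  cases r; cases r'
  simp_all

theorem cm_d {u : M6} (h : Commute (wd L u) F.d) : u.l = false ∧ u.n = false :=
  (by decide +kernel : ∀ a b u, mu a b u gd = mu a b gd u → u.l = false ∧ u.n = false) _ _ _ (cm_mu L (wd_d L ▸ h))

theorem cm_de {u : M6} (h : Commute (wd L u) F.d) (h' : Commute (wd L u) F.e) : Lo u :=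
  (by decide +kernel : ∀ a b u, mu a b u gd = mu a b gd u → mu a b u ge = mu a b ge u → Lo u) _ _ _
    (cm_mu L (wd_d L ▸ h)) (cm_mu L (wd_e L ▸ h'))

theorem lo_of {u : M6} (h : wd L u ∈ L.Z) : Lo u := cm_de L (L.cenZ h (A_J L (d_A L))) (L.cenZ h (e_J L))

theorem wd_one {u : M6} (h : wd L u = 1) : u = o := by
  have k := lo_of L (h ▸ one_mem _ : wd L u ∈ L.Z)
  obtain ⟨i, k, l, n, p, q⟩ := u
  obtain ⟨rfl, rfl, rfl, rfl⟩ := k
  obtain ⟨rfl, rfl⟩ := κ_one L (wd_κ L p q ▸ h)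
  rfl

theorem Y_1 : L.Y ≤ L.J1 := (closure_le _).2 (by
  rintro g (rfl | rfl)
  · have := mul_mem (mul_mem (mul_mem (e_1 L) (x_1 L)) (e_1 L)) (x_1 L)
    rwa [L.ex, mul_assoc, xx L, mul_one] at this
  · have := mul_mem (d_1 L) (mul_mem (mul_mem (e_1 L) (d_1 L)) (e_1 L))
    rwa [F.ede, ← mul_assoc, F.dd, one_mul] at this)

theorem wd_1 (u : M6) : wd L u ∈ L.J1 :=
  mul_mem (mul_mem (mul_mem (mul_mem (bp_mem (d_1 L) _) (bp_mem (x_1 L) _)) (bp_mem (e_1 L) _)) (bp_mem (f_1 L) _))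
    (Y_1 L (κ_Y L _ _))

theorem ex_wd {j : G} (hj : j ∈ L.J1) : ∃ u, wd L u = j := by
  induction hj using closure_induction with
  | mem x hx =>
    rcases hx with rfl | rfl | rfl | rfl
    exacts [⟨_, wd_d L⟩, ⟨_, wd_x L⟩, ⟨_, wd_e L⟩, ⟨_, wd_f L⟩]
  | one => exact ⟨_, wd_o L⟩
  | mul x y _ _ hx hy =>
    obtain ⟨u, rfl⟩ := hx
    obtain ⟨v, rfl⟩ := hy
    exact ⟨_, (wd_mul L u v).symm⟩
  | inv x _ hx =>
    obtain ⟨u, rfl⟩ := hx
    exact ⟨_, wd_iv L u⟩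

theorem ex_J {j : G} (hj : j ∈ L.J) : ∃ u, ∃ w ∈ L.Z, j = wd L u * w := by
  have k : L.J ≤ L.J1 ⊔ L.Z := by
    rw [L.hJ, L.hA, sup_le_iff, closure_le, closure_le]
    refine ⟨?_, ?_⟩
    · rintro g (rfl | rfl | rfl | rfl | rfl | rfl)
      exacts [mem_sup_right (s_Z L), mem_sup_right (m_Z L), mem_sup_left (Y_1 L (z_Y L)), mem_sup_left (d_1 L),
        mem_sup_left (Y_1 L (y_Y L)), mem_sup_left (x_1 L)]
    · rintro g (rfl | rfl)
      exacts [mem_sup_left (e_1 L), mem_sup_left (f_1 L)]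
  have h : L.Z ≤ normalizer (L.J1 : Set G) := fun w hw => norm_of_comm fun x hx => (L.cenZ hw (J1_J L hx)).symm
  have := k hj
  rw [← SetLike.mem_coe, coe_mul_of_right_le_normalizer_left _ _ h] at this
  obtain ⟨g, hg, w, hw, rfl⟩ := this
  obtain ⟨u, rfl⟩ := ex_wd L hg
  exact ⟨u, w, hw, rfl⟩

theorem wd_J (u : M6) : wd L u ∈ L.J := J1_J L (wd_1 L u)
theorem Z_J : L.Z ≤ L.J := (Z_A L).trans (A_J L)

theorem wd_A {u : M6} (h : u.l = false ∧ u.n = false) : wd L u ∈ L.A := by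
  rw [wd, h.1, h.2]
  exact mul_mem (mul_mem (mul_mem (mul_mem (bp_mem (d_A L) _) (bp_mem (x_A L) _)) (one_mem _)) (one_mem _))
    (Z_A L (Y_Z L (κ_Y L _ _)))

theorem cen_d {j : G} (hj : j ∈ L.J) (h : Commute j F.d) : j ∈ L.A := by
  obtain ⟨u, w, hw, rfl⟩ := ex_J L hj
  exact mul_mem (wd_A L (cm_d L (cancel h (L.cenZ hw (A_J L (d_A L)))))) (Z_A L hw)

theorem cen_de {j : G} (hj : j ∈ L.J) (h : Commute j F.d) (h' : Commute j F.e) : j ∈ L.Z := by
  obtain ⟨u, w, hw, rfl⟩ := ex_J L hj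
  exact mul_mem (Y_Z L (wd_Lo L (cm_de L (cancel h (L.cenZ hw (A_J L (d_A L)))) (cancel h' (L.cenZ hw (e_J L)))))) hw

theorem sq_Y {j : G} (hj : j ∈ L.J) : j * j ∈ L.Y := by
  obtain ⟨u, w, hw, rfl⟩ := ex_J L hj
  rw [(L.cenZ hw (wd_J L u)).mul_mul_mul_comm, L.el w (Z_A L hw), mul_one, wd_mul]
  exact wd_Lo L ((by decide +kernel : ∀ a b u, Lo (mu a b u u)) _ _ _)

theorem cm_Y {j k : G} (hj : j ∈ L.J) (hk : k ∈ L.J) : k⁻¹ * (j⁻¹ * k * j) ∈ L.Y := by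
  obtain ⟨u, w, hw, rfl⟩ := ex_J L hj
  obtain ⟨v, w', hw', rfl⟩ := ex_J L hk
  have e : (wd L v * w')⁻¹ * ((wd L u * w)⁻¹ * (wd L v * w') * (wd L u * w)) =
      (wd L v)⁻¹ * ((wd L u)⁻¹ * wd L v * wd L u) := by
    have h1 := cj_fix (L.cenZ hw (mul_mem (mul_mem (inv_mem (wd_J L u)) hk) (wd_J L u))).symm
    have h2 := cj_fix (L.cenZ hw' (wd_J L u))
    have h3 := cj_fix (L.cenZ hw' (mul_mem (inv_mem (wd_J L v))
      (mul_mem (mul_mem (inv_mem (wd_J L u)) (wd_J L v)) (wd_J L u)))).symm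
    calc _ = (wd L v * w')⁻¹ * (w⁻¹ * ((wd L u)⁻¹ * (wd L v * w') * wd L u) * w) := by group
      _ = w'⁻¹ * ((wd L v)⁻¹ * ((wd L u)⁻¹ * wd L v * wd L u)) * ((wd L u)⁻¹ * w' * wd L u) := by rw [h1]; group
      _ = _ := by rw [h2, h3]
  rw [e, ← wd_iv, ← wd_iv, wd_mul, wd_mul, wd_mul]
  have k : ∀ p q : Bool, xor (xor q (xor q q)) (xor (xor (xor p (xor p p)) q) p) = false := by decide
  exact wd_Lo L ⟨k _ _, k _ _, k _ _, k _ _⟩

theorem ex_κ {w : G} (hw : w ∈ L.Y) : ∃ p q, κ L p q = w := by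
  obtain ⟨u, rfl⟩ := ex_wd L (Y_1 L hw)
  have k := lo_of L (Y_Z L hw)
  obtain ⟨i, k, l, n, p, q⟩ := u
  obtain ⟨rfl, rfl, rfl, rfl⟩ := k
  exact ⟨p, q, (wd_κ L p q).symm⟩

theorem t_cs : Commute F.t L.cs := F.tc.mul_right ((Commute.refl _).pow_right _)
theorem z_cs : Commute F.z L.cs := F.cr.zc.mul_right (F.tz.symm.pow_right _)

theorem cj_cs (g : G) : L.cs⁻¹ * g * L.cs = (bp (a L) F.t)⁻¹ * (F.c⁻¹ * g * F.c) * bp (a L) F.t := by
  rw [cs, pow_α]; group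

theorem cj_t {g : G} (h : Commute F.t g) (c : Bool) : (bp c F.t)⁻¹ * g * bp c F.t = g := by
  cases c
  · simp [bp]
  · exact cj_fix h.symm

theorem y_cs : Commute L.y L.cs := comm_of_fix (by
  rw [cj_cs, L.cy, pow_α]
  cases a L
  · simp [bp]
  · rw [show bp true F.t = F.t from rfl, show bp true F.z = F.z from rfl, cj_mul, cj_fix F.tz.symm, t_inv, L.ty, mul_assoc,
      F.zz, mul_one])

theorem cs_cs : L.cs * L.cs = F.d * F.e := by
  rw [cs, (F.tc.pow_left _).mul_mul_mul_comm, F.cr.cc, ← (Commute.refl _).mul_pow, F.tt, one_pow, mul_one]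

theorem d_cs : L.cs⁻¹ * F.d * L.cs = F.e * F.z := by rw [cj_cs, F.cr.dc, cj_t (F.te.mul_right F.tz)]
theorem e_cs : L.cs⁻¹ * F.e * L.cs = F.d := by rw [cj_cs, F.cr.ec, cj_t F.td]

theorem x_cs : L.cs⁻¹ * L.x * L.cs = wd L ⟨false, false, a L, true, false, a L⟩ := by
  rw [cj_cs, ← L.hf]
  cases a L
  · simp [bp, wd, κ]
  · simp [bp, wd, κ, t_inv, tf, (ef L).eq]

theorem f_cs : L.cs⁻¹ * L.f * L.cs = wd L ⟨a L, true, false, false, true, a L⟩ := by
  rw [cj_cs, fc]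
  cases a L
  · simp [bp, wd, κ, (cA L (x_A L) (y_A L)).eq]
  · rw [show bp true F.t = F.t from rfl, cj_mul, t_inv, L.ty, L.tx, (cA L (x_A L) (d_A L)).eq,
      (cA L (mul_mem (y_A L) (z_A L)) (mul_mem (d_A L) (x_A L))).eq]
    simp [bp, wd, κ]

/-- conjugation by `cs` -/
def act (a b : Bool) (u : M6) : M6 :=
  mu a b (mu a b (mu a b (mu a b (bq u.i ⟨false, false, true, false, false, true⟩) (bq u.k ⟨false, false, a, true, false, a⟩))
    (bq u.l gd)) (bq u.n ⟨a, true, false, false, true, a⟩)) ⟨false, false, false, false, u.p, u.q⟩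

theorem wd_act (u : M6) : L.cs⁻¹ * wd L u * L.cs = wd L (act (a L) (b L) u) := by
  have h : L.cs⁻¹ * κ L u.p u.q * L.cs = κ L u.p u.q := by
    rw [κ, cj_mul, cj_bp, cj_bp, cj_fix (y_cs L), cj_fix (z_cs L)]
  have h' : F.e * F.z = wd L ⟨false, false, true, false, false, true⟩ := by simp [bp, wd, κ]
  rw [act, ← wd_mul, ← wd_mul, ← wd_mul, ← wd_mul, wd_bq, wd_bq, wd_bq, wd_bq, wd_κ, wd_d, ← h', ← d_cs, ← x_cs, ← f_cs, wd,
    cj_mul, cj_mul, cj_mul, cj_mul, cj_bp, cj_bp, cj_bp, cj_bp, h, e_cs]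

theorem wd_b : L.b = wd L ⟨false, false, !a L, true, false, false⟩ := by
  rw [Lj.b, pow_α' L F.ee]; simp [wd, κ, bp]

theorem card_of {β : Type} [Fintype β] {H : Subgroup G} (ι : β → M6) (h1 : ∀ c, wd L (ι c) ∈ H) (h2 : L.Z ≤ H)
    (h3 : ∀ a b c c', Lo (mu a b (iv a b (ι c')) (ι c)) → c = c') (h4 : ∀ g ∈ H, ∃ c, ∃ w ∈ L.Z, g = wd L (ι c) * w) :
    Nat.card H = Fintype.card β * Nat.card L.Z := by
  rw [← Nat.card_eq_fintype_card, ← Nat.card_prod]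
  refine (Nat.card_eq_of_bijective (fun c : β × L.Z => (⟨wd L (ι c.1) * c.2, mul_mem (h1 _) (h2 c.2.2)⟩ : H))
    ⟨fun ⟨c, w⟩ ⟨c', w'⟩ e => ?_, fun g => ?_⟩).symm
  · have e' : wd L (ι c) * w = wd L (ι c') * w' := congrArg Subtype.val e
    obtain rfl : c = c' := h3 _ _ c c' (lo_of L (by
      rw [← wd_mul, wd_iv, show (wd L (ι c'))⁻¹ * wd L (ι c) = w' * w⁻¹ by
        rw [inv_mul_eq_iff_eq_mul, ← mul_assoc, ← e']; exact (mul_inv_cancel_right _ _).symm]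
      exact mul_mem w'.2 (inv_mem w.2)))
    rw [Subtype.ext (mul_left_cancel e')]
  · obtain ⟨c, w, hw, e⟩ := h4 g g.2
    exact ⟨⟨c, w, hw⟩, Subtype.ext e.symm⟩

end Bx

/-- conjugate the relations of `La` by `c` (`d ^ c = e z`, `e ^ c = d`, `c² = d e`; `F.cr`) -/
theorem rel : L.f * L.f = 1 ∧ Commute F.e L.f ∧ F.t * L.f * F.t = L.f * F.e * F.z ∧
    F.c⁻¹ * L.f * F.c = L.y * L.x ∧ L.f * F.d * L.f = F.d * (L.y * F.z ^ L.α) ∧
    L.b * L.b = 1 ∧ Commute F.e L.b ∧ F.t * L.b * F.t = F.e * L.b * F.z ∧ Commute L.y L.cs ∧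
    Commute F.z L.cs ∧ Commute F.t L.cs ∧ L.cs * L.cs = F.d * F.e ∧
    (F.s ≠ 1 → L.cs⁻¹ * F.s * L.cs = F.s * F.z) := by
  have h : Commute F.e L.b := ((Commute.refl _).pow_right _).mul_right (ef L)
  refine ⟨ff L, ef L, tf L, fc L, fd L, ?_, h, ?_, y_cs L, z_cs L, t_cs L, cs_cs L, fun h => ?_⟩
  · rw [wd_b, wd_mul, (by decide : ∀ a b c, mu a b ⟨false, false, c, true, false, false⟩
      ⟨false, false, c, true, false, false⟩ = o), wd_o]
  · rw [h.eq, Lj.b, ← mul_assoc F.t, (F.te.pow_right _).eq, mul_assoc _ F.t, mul_assoc _ (F.t * L.f), tf]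
    simp only [mul_assoc]
  · rw [cj_cs, F.cr.sc h, cj_t (F.ts.mul_right F.tz)]

theorem mem_Y {w : G} : w ∈ L.Y ↔ w = 1 ∨ w = L.y ∨ w = F.z ∨ w = L.y * F.z := by
  refine ⟨fun h => ?_, ?_⟩
  · obtain ⟨p, q, rfl⟩ := ex_κ L h
    cases p <;> cases q <;> simp [κ, bp]
  · rintro (rfl | rfl | rfl | rfl)
    exacts [one_mem _, y_Y L, z_Y L, mul_mem (y_Y L) (z_Y L)]

theorem mem_Z {w : G} :
    w ∈ L.Z ↔ ∃ v ∈ L.Y, w = v ∨ w = F.s * v ∨ w = L.m * v ∨ w = F.s * L.m * v := by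
  refine ⟨fun h => ?_, ?_⟩
  · have : ∃ p q, ∃ v ∈ L.Y, w = bp p F.s * bp q L.m * v := by
      induction h using closure_induction with
      | mem x hx =>
        rcases hx with rfl | rfl | rfl | rfl
        exacts [⟨true, false, 1, one_mem _, by simp [bp]⟩, ⟨false, true, 1, one_mem _, by simp [bp]⟩,
          ⟨false, false, _, y_Y L, by simp [bp]⟩, ⟨false, false, _, z_Y L, by simp [bp]⟩]
      | one => exact ⟨false, false, 1, one_mem _, by simp [bp]⟩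
      | mul x y _ _ hx hy =>
        obtain ⟨p, q, v, hv, rfl⟩ := hx
        obtain ⟨p', q', v', hv', rfl⟩ := hy
        refine ⟨xor p p', xor q q', _, mul_mem hv hv', ?_⟩
        rw [bp_xor F.ss, bp_xor (L.el _ (m_A L)),
          (cA L (Z_A L (Y_Z L hv)) (mul_mem (bp_mem (s_A L) _) (bp_mem (m_A L) _))).mul_mul_mul_comm,
          (cA L (bp_mem (m_A L) _) (bp_mem (s_A L) _)).mul_mul_mul_comm]
      | inv x h hx => rwa [inv_eq_of_mul_eq_one_right (L.el x (Z_A L h))]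
    obtain ⟨p, q, v, hv, rfl⟩ := this
    refine ⟨v, hv, ?_⟩
    cases p <;> cases q <;> simp [bp]
  · rintro ⟨v, hv, rfl | rfl | rfl | rfl⟩
    exacts [Y_Z L hv, mul_mem (s_Z L) (Y_Z L hv), mul_mem (m_Z L) (Y_Z L hv), mul_mem (mul_mem (s_Z L) (m_Z L)) (Y_Z L hv)]

/-- independence (`ct`, `tA`, `ty`, `tm`) -/
theorem ind : L.y ≠ 1 ∧ L.y ≠ F.z ∧ (F.s ≠ 1 → F.s ∉ L.Y) ∧
    (L.m ≠ 1 → L.m ∉ L.Y ∧ F.s * L.m ∉ L.Y) ∧ (F.s = 1 → L.m = 1) := by
  have k : F.s ≠ 1 → F.s ∉ L.Y := fun h hs => by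
    rcases L.mem_Y.1 hs with e | e | e | e
    · exact h e
    · exact not_ty L (e ▸ F.ts)
    · exact F.s_nV h (e ▸ F.z_V)
    · exact not_ty L (cancel (e ▸ F.ts.symm) F.tz.symm).symm
  have n : ∀ w ∈ L.Y, F.t * w * F.t ∈ L.Y := fun w hw => by
    rw [show F.t * w = F.t⁻¹ * w by rw [t_inv]]
    refine norm_cj (norm_cl ?_) hw
    rintro g (rfl | rfl)
    · rw [t_inv, L.ty]; exact mul_mem (y_Y L) (z_Y L)
    · rw [cj_fix F.tz.symm]; exact z_Y L
  refine ⟨fun h => not_ty L (h ▸ Commute.one_right _), fun h => not_ty L (h ▸ F.tz), k, fun h => ?_,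
    fun h => (L.tm.resolve_right fun e => e.1 h).1⟩
  obtain ⟨h1, h2⟩ := L.tm.resolve_left fun e => h e.1
  refine ⟨fun e => k h1 ((mul_mem_cancel_left e).1 (h2 ▸ n _ e)), fun e => k h1 ((mul_mem_cancel_left e).1 ?_)⟩
  have := n _ e
  rwa [← mul_assoc, F.ts.eq, mul_assoc F.s, mul_assoc F.s, h2, ← mul_assoc] at this

theorem le : L.Y ≤ L.Z ∧ L.Z ≤ L.A ∧ L.A ≤ L.J ∧ L.Y ≤ L.J1 ∧ L.J1 ≤ L.J ∧ L.J1 ⊓ L.Z = L.Y ∧
    F.t ∈ normalizer (L.J1 : Set G) ∧ F.c ∈ normalizer (L.J1 : Set G) ∧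
    L.J ≤ normalizer (L.J1 : Set G) ∧ (∀ j ∈ L.J, ∃ k ∈ L.J1, ∃ w ∈ L.Z, j = k * w) ∧
    F.t ∉ L.J ∧ L.cs ∉ L.J ∧ F.t * L.cs ∉ L.J := by
  have k {g : G} (h : g⁻¹ * F.d * g = F.e * F.z) : g ∉ L.J := fun hg => by
    have := cm_Y L hg (A_J L (d_A L))
    rw [h, ← mul_assoc, mul_mem_cancel_right (z_Y L), inv_eq_of_mul_eq_one_right F.dd, ← wd_d L, ← wd_e L, wd_mul] at this
    exact absurd (lo_of L (Y_Z L this)).1 (by simp [mu, gd, ge])
  refine ⟨Y_Z L, Z_A L, A_J L, Y_1 L, J1_J L, le_antisymm (fun g hg => ?_) (le_inf (Y_1 L) (Y_Z L)), norm_cl ?_, norm_cl ?_,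
    fun j hj => norm_of fun g hg => ?_, fun j hj => ?_, fun h => L.noJ _ h (IsConj.refl _), k (d_cs L), k ?_⟩
  · obtain ⟨u, rfl⟩ := ex_wd L hg.1
    exact wd_Lo L (lo_of L hg.2)
  · rintro g (rfl | rfl | rfl | rfl)
    · rw [cj_fix F.td.symm]; exact d_1 L
    · rw [t_inv, L.tx]; exact mul_mem (x_1 L) (d_1 L)
    · rw [cj_fix F.te.symm]; exact e_1 L
    · rw [t_inv, tf]; exact mul_mem (mul_mem (f_1 L) (e_1 L)) (Y_1 L (z_Y L))
  · rintro g (rfl | rfl | rfl | rfl)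
    · rw [F.cr.dc]; exact mul_mem (e_1 L) (Y_1 L (z_Y L))
    · rw [← L.hf]; exact f_1 L
    · rw [F.cr.ec]; exact d_1 L
    · rw [fc]; exact mul_mem (Y_1 L (y_Y L)) (x_1 L)
  · exact (mul_mem_cancel_left (inv_mem hg)).1 (Y_1 L (cm_Y L hj (J1_J L hg)))
  · obtain ⟨u, w, hw, e⟩ := ex_J L hj
    exact ⟨_, wd_1 L u, w, hw, e⟩
  · rw [← d_cs L]
    conv_rhs => rw [← cj_fix F.td.symm]
    group

/-- normal form -/
theorem dec {j : G} (hj : j ∈ L.J) : ∃ i k l n : ℕ, i ≤ 1 ∧ k ≤ 1 ∧ l ≤ 1 ∧ n ≤ 1 ∧ ∃ w ∈ L.Z,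
    j = F.d ^ i * L.x ^ k * F.e ^ l * L.f ^ n * w := by
  obtain ⟨u, w, hw, rfl⟩ := ex_J L hj
  exact ⟨_, _, _, _, u.i.toNat_le, u.k.toNat_le, u.l.toNat_le, u.n.toNat_le, _, mul_mem (Y_Z L (κ_Y L u.p u.q)) hw,
    by rw [wd, bp_pow, bp_pow, bp_pow, bp_pow, mul_assoc]⟩

theorem uniq {i k l n : ℕ} (hi : i ≤ 1) (hk : k ≤ 1) (hl : l ≤ 1) (hn : n ≤ 1)
    (h : F.d ^ i * L.x ^ k * F.e ^ l * L.f ^ n ∈ L.Z) : i = 0 ∧ k = 0 ∧ l = 0 ∧ n = 0 := by
  have e : ∀ i ≤ 1, ∃ c : Bool, i = c.toNat := by decide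
  obtain ⟨i, rfl⟩ := e i hi
  obtain ⟨k, rfl⟩ := e k hk
  obtain ⟨l, rfl⟩ := e l hl
  obtain ⟨n, rfl⟩ := e n hn
  obtain ⟨rfl, rfl, rfl, rfl⟩ := lo_of L (u := ⟨i, k, l, n, false, false⟩)
    (by rwa [wd, bp_pow, bp_pow, bp_pow, bp_pow, show κ L false false = 1 from mul_one _, mul_one])
  exact ⟨rfl, rfl, rfl, rfl⟩

/-- `Z` is the centre of `J`, `Y` is generated by the squares. -/
theorem nZ {g : G} (hg : g ∈ normalizer (L.J : Set G)) :
    g ∈ normalizer (L.Z : Set G) ∧ g ∈ normalizer (L.Y : Set G) := by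
  refine ⟨norm_of fun w hw => ?_, norm_cl ?_⟩
  · have k {j : G} (hj : j ∈ L.J) : Commute (g⁻¹ * w * g) j := by
      have := comm_cj (L.cenZ hw (norm_cj (inv_mem hg) hj)) g
      rwa [show g⁻¹ * (g⁻¹⁻¹ * j * g⁻¹) * g = j by group] at this
    exact cen_de L (norm_cj hg (Z_J L hw)) (k (A_J L (d_A L))) (k (e_J L))
  · have k {j : G} (hj : j ∈ L.J) : g⁻¹ * (j * j) * g ∈ L.Y := cj_mul g j j ▸ sq_Y L (norm_cj hg hj)
    rintro x (rfl | rfl)
    · have := k (mul_mem (e_J L) (A_J L (x_A L)))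
      rwa [← mul_assoc (F.e * L.x), L.ex, mul_assoc L.y, xx L, mul_one] at this
    · have := k (mul_mem (A_J L (d_A L)) (e_J L))
      rwa [mul_assoc F.d, ← mul_assoc F.e, F.ede, ← mul_assoc F.d, F.dd, one_mul] at this

theorem cen : (∀ g ∈ L.S, (∀ a ∈ L.A, Commute g a) → g ∈ L.A) ∧
    (∀ g ∈ L.S, (∀ j ∈ L.J, Commute g j) → g ∈ L.Z) ∧
    Nat.card L.A = 4 * Nat.card L.Z ∧ Nat.card L.J = 16 * Nat.card L.Z ∧ Nat.card L.Y = 4 := by
  have k : ∀ g ∈ L.S, (∀ a ∈ L.A, Commute g a) → g ∈ L.A := fun g hg h => by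
    rcases L.nS g hg (norm_of_comm fun a ha => (h a ha).symm) with e | e
    · exact cen_d L e (h _ (d_A L))
    · refine (not_ty L ?_).elim
      simpa using (h _ (y_A L)).inv_left.mul_left (L.cenZ (Y_Z L (y_Y L)) e).symm
  refine ⟨k, fun g hg h => cen_de L (A_J L (k g hg fun a ha => h a (A_J L ha))) (h _ (A_J L (d_A L))) (h _ (e_J L)),
    card_of L (β := Bool × Bool) (fun c => ⟨c.1, c.2, false, false, false, false⟩) (fun c => wd_A L ⟨rfl, rfl⟩) (Z_A L)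
      (by decide +kernel) fun g hg => ?_,
    card_of L (β := Bool × Bool × Bool × Bool) (fun c => ⟨c.1, c.2.1, c.2.2.1, c.2.2.2, false, false⟩) (fun c => wd_J L _)
      (Z_J L) (by decide +kernel) fun g hg => ?_, ?_⟩
  · obtain ⟨u, w, hw, rfl⟩ := ex_J L (A_J L hg)
    obtain ⟨h1, h2⟩ := cm_d L (cancel (cA L hg (d_A L)) (L.cenZ hw (A_J L (d_A L))))
    exact ⟨(u.i, u.k), _, mul_mem (Y_Z L (κ_Y L u.p u.q)) hw, by simp [wd, h1, h2, κ, bp, mul_assoc]⟩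
  · obtain ⟨u, w, hw, rfl⟩ := ex_J L hg
    exact ⟨(u.i, u.k, u.l, u.n), _, mul_mem (Y_Z L (κ_Y L u.p u.q)) hw, by simp [wd, κ, bp, mul_assoc]⟩
  · refine (Nat.card_eq_of_bijective (fun c : Bool × Bool => (⟨κ L c.1 c.2, κ_Y L _ _⟩ : L.Y))
      ⟨fun c c' e => ?_, fun g => ?_⟩).symm.trans (by simp)
    · exact Prod.ext_iff.2 (κ_inj L (congrArg Subtype.val e))
    · obtain ⟨p, q, e⟩ := ex_κ L g.2
      exact ⟨(p, q), Subtype.ext e⟩

/-- `β = 0`: the relations of `D1 × D2`. -/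
theorem rel0 (h : L.β = 0) : Commute L.x L.b ∧ Commute (F.d * L.x) (F.e * L.b) ∧
    L.x * (F.e * L.b) * (L.x * (F.e * L.b)) = L.y ∧
    F.d * L.x * L.b * (F.d * L.x * L.b) = L.y * F.z := by
  have hb : Bx.b L = false := by simp [Bx.b, h]
  have e1 : L.y = wd L ⟨false, false, false, false, true, false⟩ := by simp [wd, κ, bp]
  have e2 : L.y * F.z = wd L ⟨false, false, false, false, true, true⟩ := by simp [wd, κ, bp]
  rw [e2, Commute, Commute, SemiconjBy, SemiconjBy, wd_b, ← wd_d L, ← wd_e L, ← wd_x L]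
  conv => enter [2, 2, 1, 2]; rw [e1]
  simp only [wd_mul, hb]
  generalize a L = c
  refine ⟨congrArg _ ?_, congrArg _ ?_, congrArg _ ?_, congrArg _ ?_⟩ <;> revert c <;> decide

/-- `s = 1`, any `β`: no involution in the coset (square the normal form; `cs² = d e`,
`d ^ cs = e z`, `e ^ cs = d`). For `s ≠ 1` the same holds for `j ∈ J1`. -/
theorem no_inv {j : G} (hj : j ∈ L.J1) : L.cs * j * (L.cs * j) ≠ 1 := by
  obtain ⟨u, rfl⟩ := ex_wd L hj
  rw [show L.cs * wd L u * (L.cs * wd L u) = L.cs * L.cs * (L.cs⁻¹ * wd L u * L.cs) * wd L u by group, cs_cs, wd_act,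
    ← wd_d L, ← wd_e L, wd_mul, wd_mul, wd_mul]
  exact fun h => (by decide +kernel : ∀ a b u, mu a b (mu a b (mu a b gd ge) (act a b u)) u ≠ o) _ _ _ (wd_one L h)

end CL.H3.Lj
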