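import Cfsg.Agent.INV.H3.LBa
import Cfsg.Agent.INV.H3.LJ

/-! STUB (S3140, captain h73). Keep the statements verbatim. Basics on `Lj`; URGENT, all `LT*`
files use them. `x ^ g = g⁻¹ * x * g`. -/

set_option autoImplicit false
open Subgroup

namespace CL.H3.LBb
open CL.HL CL.HL.Jm
variable {G : Type*} [Group G] [Finite G] {F : Fr G} (L : Lj F) {a u v w g : G}

omit [Finite G] in
theorem dA : F.d ∈ L.A := L.hA ▸ subset_closure (by simp)
omit [Finite G] in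
theorem xA : L.x ∈ L.A := L.hA ▸ subset_closure (by simp)
theorem yZ : L.y ∈ L.Z := L.le.1 (subset_closure (by simp))
theorem zZ : F.z ∈ L.Z := L.le.1 (subset_closure (by simp))
theorem ZA (h : w ∈ L.Z) : w ∈ L.A := L.le.2.1 h
theorem AJ (h : a ∈ L.A) : a ∈ L.J := L.le.2.2.1 h
omit [Finite G] in
theorem eJ : F.e ∈ L.J := L.hJ ▸ mem_sup_right (subset_closure (by simp))
omit [Finite G] in
theorem fJ : L.f ∈ L.J := L.hJ ▸ mem_sup_right (subset_closure (by simp))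
omit [Finite G] in
theorem el' (h : u ∈ cjs L.A F.c) : u * u = 1 := cjs_ind (p := fun u => u * u = 1) (fun y hy => sq_cj (L.el y hy) _) u h
theorem ZB (h : w ∈ L.Z) : w ∈ cjs L.A F.c := mem_cjs.2 (ZA L (Od.cj (L.nZ (L.nJ L.cS)).1 h))
theorem eB : F.e ∈ cjs L.A F.c := by
  have := mul_mem (cj_cjs F.c (dA L)) (ZB L (zZ L))
  rwa [F.cr.dc, mul_assoc, F.zz, mul_one] at this
omit [Finite G] in
theorem fB : L.f ∈ cjs L.A F.c := L.hf ▸ cj_cjs F.c (xA L)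
theorem bB : L.b ∈ cjs L.A F.c := mul_mem (pow_mem (eB L) _) (fB L)
theorem BJ (h : u ∈ cjs L.A F.c) : u ∈ L.J :=
  cjs_ind (p := (· ∈ L.J)) (fun _ hy => Od.cj' (L.nJ L.cS) (AJ L hy)) u h

theorem cenJ (hg : g ∈ L.A) (he : Commute g F.e) (hf : Commute g L.f) : g ∈ L.Z := by
  refine L.cen.2.1 g (L.JS (AJ L hg)) (L.hJ ▸ comm_sup (fun x hx => HL.comm_of_el L.el hg hx) fun x hx => ?_)
  refine (mem_centralizer_singleton_iff.1 ((closure_le (centralizer {g})).2 ?_ hx)).symm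
  rintro _ (rfl | rfl)
  exacts [mem_centralizer_singleton_iff.2 he.symm, mem_centralizer_singleton_iff.2 hf.symm]

theorem inter (hg : g ∈ L.A) (h : g ∈ cjs L.A F.c) : g ∈ L.Z :=
  cenJ L hg (HL.comm_of_el (fun _ => el' L) h (eB L)) (HL.comm_of_el (fun _ => el' L) h (fB L))

theorem uA {i k : ℕ} (hi : i ≤ 1) (hk : k ≤ 1) (h : F.d ^ i * L.x ^ k ∈ cjs L.A F.c) : i = 0 ∧ k = 0 := by
  have := L.uniq hi hk (Nat.zero_le 1) (Nat.zero_le 1)
    (by simpa using inter L (mul_mem (pow_mem (dA L) i) (pow_mem (xA L) k)) h)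
  exact ⟨this.1, this.2.1⟩

theorem uB {l n : ℕ} (hl : l ≤ 1) (hn : n ≤ 1) (h : F.e ^ l * L.f ^ n ∈ L.A) : l = 0 ∧ n = 0 :=
  (L.uniq (Nat.zero_le 1) (Nat.zero_le 1) hl hn
    (by simpa using inter L h (mul_mem (pow_mem (eB L) l) (pow_mem (fB L) n)))).2.2

theorem nfA (ha : a ∈ L.A) : ∃ i ≤ 1, ∃ k ≤ 1, ∃ w ∈ L.Z, a = F.d ^ i * L.x ^ k * w := by
  obtain ⟨i, k, l, n, hi, hk, hl, hn, w, hw, rfl⟩ := L.dec (AJ L ha)
  rw [mul_mem_cancel_right (ZA L hw), mul_assoc, mul_mem_cancel_left (mul_mem (pow_mem (dA L) i) (pow_mem (xA L) k))] at ha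
  obtain ⟨rfl, rfl⟩ := uB L hl hn ha
  exact ⟨i, hi, k, hk, w, hw, by simp⟩

theorem nfB (hu : u ∈ cjs L.A F.c) : ∃ l ≤ 1, ∃ n ≤ 1, ∃ w ∈ L.Z, u = F.e ^ l * L.f ^ n * w := by
  obtain ⟨i, k, l, n, hi, hk, hl, hn, w, hw, rfl⟩ := L.dec (BJ L hu)
  rw [mul_mem_cancel_right (ZB L hw), mul_mem_cancel_right (pow_mem (fB L) n), mul_mem_cancel_right (pow_mem (eB L) l)] at hu
  obtain ⟨rfl, rfl⟩ := uA L hi hk hu
  exact ⟨l, hl, n, hn, w, hw, by simp⟩

/-- `v u v = u y ^ a z ^ b` -/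
def R (v u : G) (a b : ℕ) : Prop := v * u * v = u * (L.y ^ a * F.z ^ b)

variable {L} {i j k l : ℕ}

theorem yz (hu : u ∈ L.J) (a b : ℕ) : Commute (L.y ^ a * F.z ^ b) u :=
  L.cenZ (mul_mem (pow_mem (yZ L) a) (pow_mem (zZ L) b)) hu

theorem add (a b a' b' : ℕ) : L.y ^ a * F.z ^ b * (L.y ^ a' * F.z ^ b') = L.y ^ (a + a') * F.z ^ (b + b') := by
  rw [pow_add, pow_add, ((L.cenZ (zZ L) (AJ L (ZA L (yZ L)))).pow_pow b a').mul_mul_mul_comm]

theorem R.mulr {u' : G} (vv : v * v = 1) (hu : u' ∈ L.J) (h : R L v u i j) (h' : R L v u' k l) :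
    R L v (u * u') (i + k) (j + l) :=
  calc _ = v * u * v * (v * u' * v) := by rw [mul_assoc _ v, ← mul_assoc v (v * _), ← mul_assoc v v, vv]; group
    _ = _ := by rw [h, h', (yz hu i j).mul_mul_mul_comm, add]

theorem R.mull {v' : G} (c : Commute v v') (hv : v ∈ L.J) (h : R L v u i j) (h' : R L v' u k l) :
    R L (v * v') u (i + k) (j + l) :=
  calc _ = v * (v' * u * v') * v := by nth_rw 2 [c.eq]; group
    _ = v * u * (L.y ^ k * F.z ^ l * v) := by rw [h']; group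
    _ = _ := by rw [(yz hv k l).eq, ← mul_assoc, h, mul_assoc, add]

omit [Finite G] in
theorem R.powr (vv : v * v = 1) {n : ℕ} (hn : n ≤ 1) (h : R L v u i j) : R L v (u ^ n) (n * i) (n * j) := by
  interval_cases n
  · simpa [R] using vv
  · simpa using h

omit [Finite G] in
theorem R.powl {n : ℕ} (hn : n ≤ 1) (h : R L v u i j) : R L (v ^ n) u (n * i) (n * j) := by
  interval_cases n
  · simp [R]
  · simpa using h

theorem R.even (vv : v * v = 1) (h : R L v u i j) (c : Commute u v) : i % 2 = 0 ∧ j % 2 = 0 := by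
  rw [R, ← c.eq, mul_assoc, vv, mul_right_inj, pow_eq_pow_mod i ((pow_two _).trans (L.el _ (ZA L (yZ L)))),
    pow_eq_pow_mod j ((pow_two _).trans F.zz)] at h
  rcases Nat.mod_two_eq_zero_or_one i with e | e <;> rcases Nat.mod_two_eq_zero_or_one j with e' | e' <;> rw [e, e'] at h
  · exact ⟨e, e'⟩
  · exact absurd (by simpa using h.symm) F.z1
  · exact absurd (by simpa using h.symm) L.ind.1
  · exact absurd (by rw [pow_one, pow_one, ← F.zz, mul_left_inj] at h; exact h.symm) L.ind.2.1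

theorem R.mem (vv : v * v = 1) (h : R L v u i j) (hu : u ∈ L.A) : v * u * v⁻¹ ∈ L.A := by
  rw [inv_of_sq vv, h]
  exact mul_mem hu (ZA L (mul_mem (pow_mem (yZ L) i) (pow_mem (zZ L) j)))

variable (L)

omit [Finite G] in
theorem Red : R L F.e F.d 0 1 := by simpa [R] using F.ede
theorem Rex : R L F.e L.x 1 0 := by simpa [R, ← (L.cenZ (yZ L) (AJ L (xA L))).eq] using L.ex
theorem Rfd : R L L.f F.d 1 L.α := by simpa [R] using L.rel.2.2.2.2.1
omit [Finite G] in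
theorem Rfx : R L L.f L.x (L.α + 1) L.β := L.fx

theorem JnA : L.J ≤ normalizer (L.A : Set G) := by
  have key : ∀ g ∈ L.J, g * F.d * g⁻¹ ∈ L.A → g * L.x * g⁻¹ ∈ L.A → g ∈ normalizer (L.A : Set G) := fun g hg h1 h2 =>
    Od.nm_of fun a ha => by
      obtain ⟨i, -, k, -, w, hw, rfl⟩ := nfA L ha
      rw [show g * (F.d ^ i * L.x ^ k * w) * g⁻¹ = g * F.d ^ i * g⁻¹ * (g * L.x ^ k * g⁻¹) * (g * w * g⁻¹) by group,
        ← conj_pow, ← conj_pow, ← (L.cenZ hw hg).eq, mul_inv_cancel_right]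
      exact mul_mem (mul_mem (pow_mem h1 i) (pow_mem h2 k)) (ZA L hw)
  rw [L.hJ]
  refine sup_le le_normalizer ((closure_le _).2 ?_)
  rintro _ (rfl | rfl)
  exacts [key _ (eJ L) ((Red L).mem F.ee (dA L)) ((Rex L).mem F.ee (xA L)),
    key _ (fJ L) ((Rfd L).mem L.rel.1 (dA L)) ((Rfx L).mem L.rel.1 (xA L))]

theorem JnB (hg : g ∈ L.J) : g ∈ normalizer (cjs L.A F.c : Set G) := by
  simpa [mul_assoc] using norm_cjs (JnA L (Od.cj (L.nJ L.cS) hg)) F.c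

omit [Finite G] in
theorem bf : (L.b = F.e ^ 1 * L.f ^ 1 ∧ F.e * L.b = F.e ^ 0 * L.f ^ 1) ∨
    (L.b = F.e ^ 0 * L.f ^ 1 ∧ F.e * L.b = F.e ^ 1 * L.f ^ 1) := by
  refine L.hα.imp (fun h => ?_) fun h => ?_ <;> simp [Lj.b, h, pow_two, ← mul_assoc, F.ee]

theorem beb : L.b * (F.e * L.b) = F.e := by rw [L.rel.2.2.2.2.2.2.1.eq, ← mul_assoc, L.rel.2.2.2.2.2.1, one_mul]

theorem wrap (hu : u ∈ L.J) (uu : u * u = 1) (hw : w ∈ L.Z) : u * w * u ∈ L.Z := by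
  rwa [mul_assoc, (L.cenZ hw hu).eq, ← mul_assoc, uu, one_mul]

theorem t1 (h : L.β = 1) : ∀ a ∈ L.A, a ∉ cjs L.A F.c → ∀ b ∈ cjs L.A F.c, b ∉ L.A → ¬ Commute a b := by
  intro a ha na b hb nb c
  obtain ⟨i, hi, k, hk, w, hw, rfl⟩ := nfA L ha
  obtain ⟨l, hl, n, hn, w', hw', rfl⟩ := nfB L hb
  have m1 := mul_mem (pow_mem (dA L) i) (pow_mem (xA L) k)
  have m2 := mul_mem (pow_mem (eB L) l) (pow_mem (fB L) n)
  have c1 := (c.mul_right (L.cenZ (inv_mem hw') (AJ L ha)).symm).mul_left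
    (L.cenZ (inv_mem hw) (BJ L (mul_mem hb (ZB L (inv_mem hw')))))
  simp only [mul_inv_cancel_right] at c1
  have r : ∀ {v a b c d}, v * v = 1 → R L v F.d a b → R L v L.x c d →
      R L v (F.d ^ i * L.x ^ k) (i * a + k * c) (i * b + k * d) := fun vv h1 h2 =>
    (h1.powr vv hi).mulr vv (pow_mem (AJ L (xA L)) k) (h2.powr vv hk)
  have := (((r F.ee (Red L) (Rex L)).powl hl).mull (L.rel.2.1.pow_pow l n) (pow_mem (eJ L) l)
    ((r L.rel.1 (Rfd L) (Rfx L)).powl hn)).even (el' L m2) c1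
  have n1 : ¬ (i = 0 ∧ k = 0) := by rintro ⟨rfl, rfl⟩; exact na (by simpa using ZB L hw)
  have n2 : ¬ (l = 0 ∧ n = 0) := by rintro ⟨rfl, rfl⟩; exact nb (by simpa using ZA L hw')
  rw [h] at this
  rcases L.hα with e | e <;> rw [e] at this <;> interval_cases i <;> interval_cases k <;> interval_cases l <;>
    interval_cases n <;> simp at n1 n2 this

omit [Finite G] in
theorem xd : L.x * F.d = F.d * L.x := HL.comm_of_el L.el (xA L) (dA L)

theorem t2 (h : L.β = 0) : Commute L.x L.b ∧ Commute (L.x * F.d) (F.e * L.b) ∧ ¬ Commute L.x (F.e * L.b) ∧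
    ¬ Commute (L.x * F.d) L.b ∧
    L.x * (F.e * L.b) * L.x * (F.e * L.b) ≠ L.x * F.d * L.b * (L.x * F.d) * L.b := by
  obtain ⟨h1, h2, h3, h4⟩ := L.rel0 h
  rw [← xd] at h2 h4
  have sq : ∀ {a b}, a ∈ L.A → b ∈ cjs L.A F.c → Commute a b → a * b * (a * b) = 1 := fun ha hb c => by
    rw [c.symm.mul_mul_mul_comm, L.el _ ha, el' L hb, one_mul]
  refine ⟨h1, h2, fun c => L.ind.1 (h3 ▸ sq (xA L) (mul_mem (eB L) (bB L)) c), fun c => L.ind.2.1 ?_, fun e => F.z1 ?_⟩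
  · rw [sq (mul_mem (xA L) (dA L)) (bB L) c, ← F.zz, mul_left_inj] at h4
    exact h4.symm
  · rw [mul_assoc _ L.x, h3, mul_assoc _ (L.x * F.d), h4] at e
    simpa using e

end CL.H3.LBb

namespace CL.H3.Lj
open CL.HL CL.HL.Jm LBb
variable {G : Type*} [Group G] [Finite G] {F : Fr G} (L : Lj F)

/-- The structure `JD` of S3139 with explicit generators, so that the lemmas of `HL/LA2a`, `LA2`,
`LA3` (`cl`, `Pat`, `T1.invol`, `T1.mapA`, `T2.pat`, `T2.conj_zz`, `mem_of_pat`, ...) apply.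
`M` from `La.jd`. Classes: `e0 = x`, `e1 = e b`, `e2 = x d`, `e3 = b`; `zz (1,0) = p`,
`zz (0,1) = q` if `β = 0`. -/
theorem jd : ∃ (M : LA G) (J : JD M), M.A = L.A ∧ M.t = F.t ∧ M.e = F.e ∧
    (J.S : Subgroup G) = L.S ∧ J.A' = cjs L.A F.c ∧ J.JJ = L.J ∧ J.Z = L.Z ∧ J.a1 = L.x ∧
    J.a2 = L.x * F.d ∧ J.b1 = L.b ∧ J.b2 = F.e * L.b ∧ (L.β = 1 → J.T1) ∧ (L.β = 0 → J.T2) := by
  obtain ⟨M, -, hA, ht, he, -⟩ := L.toLa.jd
  obtain ⟨A, t, e, el, card, tt, ee, te, tA, eA, big, big2, fus, max0, up, lc⟩ := M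
  dsimp only at hA ht he
  subst hA ht he
  have hJ : L.A ⊔ cjs L.A F.c = L.J := le_antisymm (sup_le (fun _ => AJ L) fun _ => BJ L) (L.hJ.trans_le
    (sup_le_sup_left ((closure_le _).2 (by rintro _ (rfl | rfl); exacts [eB L, fB L])) _))
  have hZ : L.A ⊓ cjs L.A F.c = L.Z := le_antisymm (fun _ h => inter L h.1 h.2) fun _ h => ⟨ZA L h, ZB L h⟩
  have xx := L.el _ (xA L)
  have xxd : L.x * (L.x * F.d) = F.d := by rw [← mul_assoc, xx, one_mul]
  have nb : ∀ l ≤ 1, F.e ^ l * L.f ^ 1 ∉ L.A := fun l hl h => absurd (uB L hl le_rfl h).2 one_ne_zero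
  refine ⟨⟨L.A, F.t, F.e, el, card, tt, ee, te, tA, eA, big, big2, fus, max0, up, lc⟩,
    { S := L.syl.toSylowTop, A' := cjs L.A F.c, x := F.c, a1 := L.x, a2 := L.x * F.d, b1 := L.b, b2 := F.e * L.b
      AS := fun _ h => L.JS (AJ L h), tS := L.tS, eS := L.JS (eJ L), xS := L.cS
      xA := fun a => by simp [mem_cjs, mul_assoc]
      xA' := fun b => ?_, tA' := fun b hb => ?_
      a1A := xA L, a2A := mul_mem (xA L) (dA L), b1A := bB L, b2A := mul_mem (eB L) (bB L)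
      na := ⟨fun h => absurd (uA L (Nat.zero_le 1) le_rfl (by simpa using h)).2 one_ne_zero,
        fun h => absurd (uA L le_rfl le_rfl (by simpa [xd] using h)).2 one_ne_zero,
        fun h => absurd (uA L le_rfl (Nat.zero_le 1) (by simpa [xxd] using h)).1 one_ne_zero⟩
      nb := ⟨by rcases bf L with ⟨h, -⟩ | ⟨h, -⟩ <;> rw [h] <;> exact nb _ (by decide),
        by rcases bf L with ⟨-, h⟩ | ⟨-, h⟩ <;> rw [h] <;> exact nb _ (by decide),
        fun h => absurd (uB L le_rfl (Nat.zero_le 1) (by simpa [beb] using h)).1 one_ne_zero⟩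
      card := hZ ▸ L.cen.2.2.1
      decA := fun a ha => ?_, decB := fun b hb => ?_
      cm := fun a ha b hb => ⟨?_, ?_⟩
      ta := ?_, tb := ?_
      tJ := hJ ▸ L.le.2.2.2.2.2.2.2.2.2.2.1
      nS := hJ ▸ L.nS
      z0 := fun a ha _ h => ?_
      fusJ := hJ ▸ L.fus
      ty := L.hβ.symm.imp (t1 L) (t2 L) }, rfl, rfl, rfl, rfl, rfl, hJ, hZ, rfl, rfl, rfl, rfl, t1 L, t2 L⟩
  · rw [mem_cjs, mem_normalizer_iff''.1 (JnA L (mul_mem (AJ L (dA L)) (eJ L))), ← F.cr.cc]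
    simp [mul_assoc]
  · have := tA _ (mem_cjs.1 hb)
    rwa [mem_cjs, show F.c * (F.t * b * F.t) * F.c⁻¹ = F.t * (F.c * b * F.c⁻¹) * F.t by
      simp only [mul_assoc, F.tc.inv_right.eq, F.tc.left_comm]]
  · obtain ⟨i, hi, k, hk, w, hw, rfl⟩ := nfA L ha
    rw [xxd, xd]
    interval_cases i <;> interval_cases k <;> simp only [pow_zero, pow_one, one_mul, mul_one]
    exacts [.inl (ZB L hw), .inr (.inl (ZB L (wrap L (AJ L (xA L)) xx hw))),
      .inr (.inr (.inr (ZB L (wrap L (AJ L (dA L)) F.dd hw)))),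
      .inr (.inr (.inl (ZB L (wrap L (AJ L (mul_mem (dA L) (xA L))) (L.el _ (mul_mem (dA L) (xA L))) hw))))]
  · obtain ⟨l, hl, n, hn, w, hw, rfl⟩ := nfB L hb
    have m := mul_mem (pow_mem (eB L) l) (pow_mem (fB L) n)
    have := ZA L (wrap L (BJ L m) (el' L m) hw)
    rw [beb]
    rcases bf L with ⟨h, h'⟩ | ⟨h, h'⟩ <;> rw [h', h] <;> interval_cases l <;> interval_cases n
    exacts [.inl (by simpa using ZA L hw), .inr (.inr (.inl this)), .inr (.inr (.inr (by simpa using this))), .inr (.inl this),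
      .inl (by simpa using ZA L hw), .inr (.inl this), .inr (.inr (.inr (by simpa using this))), .inr (.inr (.inl this))]
  · have := mul_mem ha (Od.cj (JnA L (BJ L hb)) ha)
    rwa [inv_of_sq (el' L hb), ← mul_assoc, ← mul_assoc] at this
  · have := mul_mem (Od.cj (JnB L (AJ L ha)) hb) hb
    rwa [inv_of_sq (L.el a ha)] at this
  · change F.t * L.x * F.t * _ ∈ _
    rw [L.tx, L.el _ (mul_mem (xA L) (dA L))]
    exact one_mem _
  · change F.t * L.b * F.t * _ ∈ L.A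
    rw [L.rel.2.2.2.2.2.2.2.1]
    exact ZA L (wrap L (BJ L (mul_mem (eB L) (bB L))) (el' L (mul_mem (eB L) (bB L))) (zZ L))
  · obtain ⟨i, hi, k, hk, w, hw, rfl⟩ := nfA L ha
    have c := h.mul_right (L.cenZ (inv_mem hw) (eJ L)).symm
    rw [mul_inv_cancel_right] at c
    have := (((Red L).powr F.ee hi).mulr F.ee (pow_mem (AJ L (xA L)) k) ((Rex L).powr F.ee hk)).even F.ee c.symm
    rw [show i = 0 by omega, show k = 0 by omega]
    simpa using ZB L hw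

/-- `T2.pat`: `S / J` embeds in the eight patterns (`mem_of_pat`); `t`, `cs` have the patterns
`act true false false`, `act false true true`. If `S ≠ J ⟨t, cs⟩`, an element with pattern
`act false true false` exists. -/
theorem small_or (h : L.β = 0) : L.Small ∨ Nonempty (Lr L) := by
  obtain ⟨M, J, hA, ht, -, hS, hB, hJ, hZ, a1, a2, b1, b2, -, H⟩ := L.jd
  replace H := H h
  have nJ : ∀ g ∈ L.S, g ∈ normalizer (J.JJ : Set G) := fun g hg => hJ ▸ L.nJ hg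
  let P : G → (V → V) → Prop := fun g f => g ∈ L.S ∧ J.Pat g f
  have pm : ∀ {g g' f f'}, P g f → P g' f' → P (g * g') (f ∘ f') := fun h h' =>
    ⟨mul_mem h.1 h'.1, h.2.mul h'.2 (nJ _ h'.1)⟩
  have fin : ∀ {g f}, P g f → (∀ v, f v = v) → g ∈ L.J := fun h hf => hJ ▸ J.mem_of_pat (hS.ge h.1) (nJ _ h.1) h.2 hf
  have pid : ∀ {g}, g ∈ L.J → P g id := fun h => ⟨L.JS h, J.pat_id (hJ ▸ h)⟩
  have pc : ∀ {g f} (f'), P g f → (∀ v, f v = f' v) → P g f' := fun _ h e => ⟨h.1, h.2.congr e⟩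
  have pt : P F.t (act true false false) := ⟨L.tS, ht ▸ J.pat_t⟩
  have cz : ∀ {j k}, j ∈ J.JJ → k ∈ J.JJ → J.cl k = J.cl j → j⁻¹ * k ∈ L.Z := fun {j k} hj hk e => by
    rw [← hZ, J.memZ_iff (mul_mem (inv_mem hj) hk), J.cl_mul (inv_mem hj) hk, J.cl_inv hj, e]
    exact (by decide : ∀ v : V, v + v = 0) _
  have csS : L.cs ∈ L.S := mul_mem L.cS (pow_mem L.tS _)
  have pcs : P L.cs (act false true true) := by
    obtain ⟨s, p, q, hp⟩ := H.pat (nJ _ (inv_mem csS))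
    have zZ' : F.z ∈ J.Z := hZ ▸ zZ L
    have e1' : ∃ w ∈ J.Z, L.cs⁻¹ * J.a1 * L.cs⁻¹⁻¹ = J.b2 * w := by
      rw [a1, b2, inv_inv, Lj.cs, Lj.b, show (F.c * F.t ^ L.α)⁻¹ * L.x * (F.c * F.t ^ L.α) =
        (F.t ^ L.α)⁻¹ * L.f * F.t ^ L.α by rw [L.hf]; group]
      rcases L.hα with e | e <;> rw [e]
      · exact ⟨1, one_mem _, by simp [← mul_assoc, F.ee]⟩
      · exact ⟨F.z, zZ', by rw [pow_one, inv_of_sq F.tt, L.rel.2.2.1, pow_two, F.ee, one_mul, L.rel.2.1.eq]⟩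
    have e2' : L.cs⁻¹ * F.d * L.cs⁻¹⁻¹ = F.e * F.z := by
      rw [inv_inv, Lj.cs, show (F.c * F.t ^ L.α)⁻¹ * F.d * (F.c * F.t ^ L.α) =
        (F.t ^ L.α)⁻¹ * (F.c⁻¹ * F.d * F.c) * F.t ^ L.α by group, F.cr.dc,
        Fr.cj_fix ((F.te.mul_right F.tz).pow_left _).symm]
    obtain ⟨w, hw, e1'⟩ := e1'
    have k1 := hp _ J.a1J
    have k2 := hp _ J.a2J
    have eJ' : F.e = J.b1 * J.b2 := by rw [b1, b2, beb]
    rw [show L.cs⁻¹ * J.a2 * L.cs⁻¹⁻¹ = L.cs⁻¹ * J.a1 * L.cs⁻¹⁻¹ * (L.cs⁻¹ * F.d * L.cs⁻¹⁻¹) by rw [a1, a2]; group, e2', e1', eJ',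
      J.cl_mul (mul_mem J.b2J (J.memZ hw)) (mul_mem (mul_mem J.b1J J.b2J) (J.memZ zZ')), J.cl_mul J.b2J (J.memZ hw),
      J.cl_mul (mul_mem J.b1J J.b2J) (J.memZ zZ'), J.cl_mul J.b1J J.b2J, J.cl_Z hw, J.cl_Z zZ', J.cl_a2, J.cl_b1,
      J.cl_b2] at k2
    rw [e1', J.cl_mul J.b2J (J.memZ hw), J.cl_Z hw, J.cl_a1, J.cl_b2] at k1
    obtain ⟨rfl, rfl, rfl⟩ := (by decide : ∀ s p q, e1 + 0 = act s p q e0 → e1 + 0 + (e3 + e1 + 0) = act s p q e2 →
      s = false ∧ p = true ∧ q = true) s p q k1 k2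
    have := pm (g := L.cs⁻¹) ⟨inv_mem csS, hp⟩ (pid (L.rel.2.2.2.2.2.2.2.2.2.2.2.1 ▸ mul_mem (AJ L (dA L)) (eJ L)))
    rwa [inv_mul_cancel_left] at this
  have pat : ∀ g ∈ L.S, ∃ s p q, P g (act s p q) := fun g hg =>
    let ⟨s, p, q, h⟩ := H.pat (nJ g hg); ⟨s, p, q, hg, h⟩
  refine or_iff_not_imp_left.2 fun hn => ?_
  obtain ⟨r, pr⟩ : ∃ r, P r (act false true false) := by
    by_contra! n
    refine hn fun g hg => ?_
    obtain ⟨s, p, q, h⟩ := pat g hg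
    cases s <;> cases p <;> cases q
    exacts [.inl (fin h (by decide)), (n _ (pc _ (pm h pcs) (by decide))).elim, (n _ h).elim,
      .inr (.inr (.inl (fin (pm h pcs) (by decide)))), .inr (.inl (fin (pm h pt) (by decide))),
      (n _ (pc _ (pm pt h) (by decide))).elim, (n _ (pc _ (pm h pt) (by decide))).elim,
      .inr (.inr (.inr (fin (pm h (pm pt pcs)) (by decide))))]
  have rr := fin (pm pr pr) (by decide)
  have pr' : P r⁻¹ (act false true false) := by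
    have := pm (pid (inv_mem rr)) pr
    rwa [mul_inv_rev, inv_mul_cancel_right] at this
  have cr : ∀ {j k}, j ∈ J.JJ → k ∈ J.JJ → act false true false (J.cl k) = J.cl j → j⁻¹ * (r⁻¹ * k * r) ∈ L.Z :=
    fun hj hk e => by simpa using cz hj (J.conj_mem (nJ _ pr'.1) hk) ((pr'.2 _ hk).trans e)
  obtain ⟨-, -, h3, h4⟩ := L.rel0 h
  have ry : Commute L.y r := by
    have := (H.comm_z1 (nJ _ pr.1) pr.2).2 rfl
    rwa [show J.zz (1, 0) = L.y by rw [← h3]; simp [JD.zz, cc, a1, b2, mul_assoc]] at this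
  have ptr := pm (pm pt pr) pt
  refine ⟨⟨r, pr.1, ry, ?_, ?_, ?_, ?_, ?_, rr, fin (pm (pm pr ptr) pcs) (by decide),
    fin (pm (pm (pm pr' pt) pr) (pm pt pcs)) (by decide), fun g hg => ?_⟩⟩
  · have := H.conj_zz (nJ _ pr.1) pr.2 (e2 + e3)
    rw [show qq (act false true false (e2 + e3)) = (0, 1) by decide, show qq (e2 + e3) = (0, 1) by decide,
      show J.zz (0, 1) = L.y * F.z by rw [← h4, ← xd]; simp [JD.zz, cc, a2, b1, mul_assoc], mul_inv_eq_iff_eq_mul] at this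
    simpa using ry.inv_left.mul_left (show Commute (L.y * F.z) r from this.symm)
  · exact a1 ▸ b2 ▸ cr J.b2J J.a1J (by rw [J.cl_a1, J.cl_b2]; decide)
  · exact a1 ▸ b2 ▸ cr J.a1J J.b2J (by rw [J.cl_a1, J.cl_b2]; decide)
  · exact xd L ▸ a2 ▸ cr J.a2J J.a2J (by rw [J.cl_a2]; decide)
  · exact b1 ▸ cr J.b1J J.b1J (by rw [J.cl_b1]; decide)
  · obtain ⟨s, p, q, h⟩ := pat g hg
    have nn : act s p q (act s p q e0) ≠ e0 → g * g ∉ L.J := fun e m => e ((pm h h).2.uniq (pid m).2 e0)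
    cases s <;> cases p <;> cases q
    exacts [.inl (fin h (by decide)), .inr (.inr (.inr (.inr (.inr (.inl (fin (pm h ptr) (by decide))))))),
      .inr (.inr (.inr (.inr (.inl (fin (pm h pr) (by decide)))))),
      .inr (.inr (.inl (fin (pm h pcs) (by decide)))), .inr (.inl (fin (pm h pt) (by decide))),
      .inr (.inr (.inr (.inr (.inr (.inr ⟨.inl (fin (pm h (pm pr pt)) (by decide)), nn (by decide)⟩))))),
      .inr (.inr (.inr (.inr (.inr (.inr ⟨.inr (fin (pm h (pm pt pr)) (by decide)), nn (by decide)⟩))))),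
      .inr (.inr (.inr (.inl (fin (pm h (pm pt pcs)) (by decide)))))]

end CL.H3.Lj
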