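import Cfsg.Agent.INV.H3.Def3
import Cfsg.Agent.INV.H3.Loc1
import Cfsg.Agent.INV.H3.Loc2

/-! S3140: helpers for `LJ`: the order of `A`, the structure `LA` of S3139 on `A`, and `JD`. -/

set_option autoImplicit false
set_option linter.unusedSectionVars false
open Subgroup
open scoped Pointwise

namespace CL.H3
open CL.HL
variable {G : Type*} [Group G] [Finite G]

namespace LJx

/-- `a ↦ a ^ u a` on an elementary abelian group normalised by the involution `u` -/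
def ph {A : Subgroup G} (el : ∀ a ∈ A, a * a = 1) {u : G} (uu : u * u = 1)
    (hu : ∀ a ∈ A, u * a * u ∈ A) : A →* G :=
  MonoidHom.mk' (fun a => u * a * u * a) fun a b => by
    have h := (comm_of_el el (hu _ b.2) a.2).eq
    calc u * (a * b : G) * u * (a * b : G) = u * a * (u * u) * b * u * a * b := by
          rw [uu]; group
      _ = u * a * u * (u * b * u * a) * b := by group
      _ = _ := by rw [h]; group

theorem ph_one {u a : G} (uu : u * u = 1) (aa : a * a = 1) :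
    u * a * u * a = 1 ↔ Commute u a := by
  constructor
  · intro h
    have h1 : u * a * (u * a) = 1 := by rw [← mul_assoc, h]
    have := eq_inv_of_mul_eq_one_left h1
    rwa [mul_inv_rev, Jm.inv_of_sq uu, Jm.inv_of_sq aa] at this
  · intro h
    rw [h.eq, mul_assoc a, uu, mul_one, aa]

theorem card_ph {A : Subgroup G} (el : ∀ a ∈ A, a * a = 1) {u : G} (uu : u * u = 1)
    (hu : ∀ a ∈ A, u * a * u ∈ A) :
    Nat.card A = Nat.card ↥(A ⊓ centralizer {u}) * Nat.card (ph el uu hu).range := by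
  rw [← index_ker, ← card_mul_index (ph el uu hu).ker]
  congr 1
  have : (ph el uu hu).ker = (A ⊓ centralizer {u}).subgroupOf A := by
    ext a
    rw [MonoidHom.mem_ker, mem_subgroupOf, mem_inf, Jm.mem_cen]
    exact (ph_one uu (el _ a.2)).trans (by simp)
  rw [this]
  exact Nat.card_congr (subgroupOfEquivOfLe inf_le_left).toEquiv

theorem card_sq {A : Subgroup G} (el : ∀ a ∈ A, a * a = 1) {u : G} (uu : u * u = 1)
    (hu : ∀ a ∈ A, u * a * u ∈ A) :
    Nat.card A ≤ Nat.card ↥(A ⊓ centralizer {u}) * Nat.card ↥(A ⊓ centralizer {u}) := by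
  rw [card_ph el uu hu]
  refine Nat.mul_le_mul_left _ (card_le_of_le ?_)
  rintro _ ⟨a, rfl⟩
  refine mem_inf.2 ⟨mul_mem (hu _ a.2) a.2, Jm.mem_cen.2 ?_⟩
  change u * (u * a * u * a) = u * a * u * a * u
  have h := (comm_of_el el (hu _ a.2) a.2).eq
  rw [h]
  calc u * (a * (u * a * u)) = u * a * (u * a * u) := by group
    _ = u * (a * (u * a * u)) := by group
    _ = u * (u * a * u * a) := by rw [h]
    _ = a * u * a := by rw [show u * (u * a * u * a) = (u * u) * a * u * a by group, uu, one_mul]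
    _ = _ := by rw [show (a : G) * (u * a * u) * u = a * u * a * (u * u) by group, uu, mul_one]

/-- `LA.split` for a given Sylow 2-subgroup. -/
theorem split (L : LA G) (S : Sylow 2 G) (c : La.Cx L S) (hlt : La.HH L S < S) :
    ∃ J : JD L, J.S = S := by
  obtain ⟨x, xS, xN, xH, xx⟩ := La.exists_sq S.isPGroup' hlt
  set B := L.A.comap (MulAut.conj x).toMonoidHom
  have mB : ∀ b, x * b * x⁻¹ ∈ L.A ↔ b ∈ B := fun b => Iff.rfl
  have xA : ∀ a, a ∈ L.A ↔ x⁻¹ * a * x ∈ B := fun a => by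
    rw [← mB, show x * (x⁻¹ * a * x) * x⁻¹ = a by group]
  have xA' : ∀ b, b ∈ B ↔ x⁻¹ * b * x ∈ L.A := fun b => by
    rw [← mB, mem_normalizer_iff.1 xx.2 (x⁻¹ * b * x),
      show x * x * (x⁻¹ * b * x) * (x * x)⁻¹ = x * b * x⁻¹ by group]
  have mA : ∀ a, x * a * x⁻¹ ∈ B ↔ a ∈ L.A := fun a => by
    rw [xA', show x⁻¹ * (x * a * x⁻¹) * x = a by group]
  have hBH : B ≤ La.HH L S := fun b hb => (mem_normalizer_iff.1 xN b).2 (c.AH ((mB b).2 hb))
  have hel : ∀ b ∈ B, b * b = 1 := fun b hb => by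
    have := L.el _ ((mB b).2 hb)
    rwa [conj_mul, conj_eq_one_iff] at this
  have hnA : ∀ h ∈ La.HH L S, ∀ a ∈ L.A, h * a * h⁻¹ ∈ L.A := fun h hh a ha =>
    (mem_normalizer_iff.1 hh.2 a).1 ha
  have hn : ∀ h ∈ La.HH L S, ∀ b ∈ B, h * b * h⁻¹ ∈ B := fun h hh b hb => by
    have := hnA _ ((mem_normalizer_iff.1 xN h).1 hh) _ ((mB b).2 hb)
    rwa [show x * h * x⁻¹ * (x * b * x⁻¹) * (x * h * x⁻¹)⁻¹ = x * (h * b * h⁻¹) * x⁻¹ by group,
      mB] at this
  have hcard : Nat.card B = Nat.card L.A :=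
    Nat.card_congr ((MulAut.conj x).toEquiv.subtypeEquiv fun _ => Iff.rfl)
  have hBA : ¬ B ≤ L.A := fun h => xH (mem_inf.2 ⟨xS, inv_mem_iff.1
    (mem_normalizer_fintype fun a ha => h (by rw [inv_inv]; exact (xA a).1 ha))⟩)
  obtain ⟨tJ, sB, nS, z0, fusJ, card⟩ := c.side hBH hel hn hcard hBA
  have ti := Jm.inv_of_sq L.tt
  have tB : ∀ b ∈ B, L.t * b * L.t ∈ B := fun b hb => by simpa only [ti] using hn L.t c.t'.2 b hb
  have cm : ∀ a ∈ L.A, ∀ b ∈ B, a * b * a * b ∈ L.A ⊓ B := fun a ha b hb => by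
    refine mem_inf.2 ⟨?_, mul_mem ?_ hb⟩
    · have := mul_mem ha (hnA b (hBH hb) a ha)
      rwa [Jm.inv_of_sq (hel b hb), ← mul_assoc, ← mul_assoc] at this
    · have := hn a (c.AH ha) b hb
      rwa [Jm.inv_of_sq (L.el a ha)] at this
  have sA : La.Side B L.A L.t := by
    have h1 : x * L.t * x⁻¹ ∉ L.A ⊔ B := fun h => tJ (by
      have : L.A ⊔ B ≤ (L.A ⊔ B).comap (MulAut.conj x⁻¹).toMonoidHom :=
        sup_le (fun a ha => mem_comap.2 (mem_sup_right (by simpa using (xA a).1 ha)))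
          fun b hb => mem_comap.2 (mem_sup_left (by simpa using (xA' b).1 hb))
      simpa [mul_assoc] using mem_comap.1 (this h))
    have h2 := (nS _ ((mem_normalizer_iff.1 xN _).1 c.t'.2)).resolve_left h1
    obtain ⟨a', ha', b', hb', h4⟩ : x * L.t * x⁻¹ * L.t ∈ ((L.A : Set G) * (B : Set G)) := by
      rw [← coe_mul_of_right_le_normalizer_left _ _ (hBH.trans inf_le_right)]
      exact h2
    refine (sB.map (MulAut.conj x) mA mB).congr fun a ha y hy => ?_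
    have h5 : x * L.t * x⁻¹ = a' * b' * L.t := by
      rw [show a' * b' = _ from h4, mul_assoc _ L.t L.t, L.tt, mul_one]
    have h6 : x * L.t * x⁻¹ = (a' * b' * L.t)⁻¹ := by
      rw [← h5, conj_inv, ti]
    have h7 := L.tA a ha
    have h8 : MulAut.conj x L.t * a * MulAut.conj x L.t =
        L.t * a * L.t * (L.t * a * L.t * b' * (L.t * a * L.t) * b') := by
      rw [MulAut.conj_apply]
      nth_rw 2 [h6]
      rw [h5, show a' * b' * L.t * a * (a' * b' * L.t)⁻¹ =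
        a' * (b' * (L.t * a * L.t⁻¹) * b'⁻¹) * a'⁻¹ by group, ti,
        (Jm.comm_of_el L.el ha' (hnA _ (hBH hb') _ h7)).eq, mul_inv_cancel_right,
        Jm.inv_of_sq (hel _ hb'), ← mul_assoc (L.t * a * L.t), ← mul_assoc (L.t * a * L.t),
        ← mul_assoc (L.t * a * L.t), L.el _ h7, one_mul]
    rw [h8, ← mul_assoc y, B.mul_mem_cancel_right (mem_inf.1 (cm _ h7 _ hb')).2]
  have back : ∀ g, L.t * (L.t * g * L.t) * L.t = g := fun g => by
    rw [show L.t * (L.t * g * L.t) * L.t = (L.t * L.t) * g * (L.t * L.t) by group, L.tt]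
    simp
  obtain ⟨a1, a1A, ha1, b1, b1B, hb1, ty⟩ : ∃ a1 ∈ L.A, a1 * (L.t * a1 * L.t) ∉ B ∧ ∃ b1 ∈ B,
      b1 * (L.t * b1 * L.t) ∉ L.A ∧
      ((∀ a ∈ L.A, a ∉ B → ∀ b ∈ B, b ∉ L.A → ¬ Commute a b) ∨ Commute a1 b1) := by
    by_cases h : ∀ a ∈ L.A, a ∉ B → ∀ b ∈ B, b ∉ L.A → ¬ Commute a b
    · obtain ⟨a1, h1, h2⟩ := sA.ex
      obtain ⟨b1, h3, h4⟩ := sB.ex
      exact ⟨a1, h1, h2, b1, h3, h4, .inl h⟩
    · push Not at h
      obtain ⟨a, ha, h1, b, hb, h2, h3⟩ := h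
      exact ⟨a, ha, fun h4 => h2 (sA.cen a ha h1 h4 b hb h3.symm), b, hb,
        fun h4 => h1 (sB.cen b hb h2 h4 a ha h3), .inr h3⟩
  have a2A := L.tA a1 a1A
  have b2B := tB b1 b1B
  have na1 : a1 ∉ B := fun h => ha1 (mul_mem h (tB _ h))
  have na2 : L.t * a1 * L.t ∉ B := fun h => na1 (back a1 ▸ tB _ h)
  have nb1 : b1 ∉ L.A := fun h => hb1 (mul_mem h (L.tA _ h))
  have nb2 : L.t * b1 * L.t ∉ L.A := fun h => nb1 (back b1 ▸ L.tA _ h)
  refine ⟨⟨S, B, x, a1, L.t * a1 * L.t, b1, L.t * b1 * L.t, c.hA, c.ht, c.he, xS, xA, xA', tB, a1A,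
    a2A, b1B, b2B, ⟨na1, na2, ha1⟩, ⟨nb1, nb2, hb1⟩, card, sA.dec a1 a1A ha1, sB.dec b1 b1B hb1, cm,
    L.el _ a2A ▸ one_mem _, hel _ b2B ▸ one_mem _, tJ, fun g h1 h2 => nS g ⟨h1, h2⟩, z0, fusJ,
    ty.imp_right fun h => ?_⟩, rfl⟩
  have c22 : Commute (L.t * a1 * L.t) (L.t * b1 * L.t) := by
    simpa only [MulAut.conj_apply, ti] using h.map (MulAut.conj L.t)
  have key : ∀ a ∈ L.A, Commute a (b1 * (L.t * b1 * L.t)) → a ∈ B :=
    sB.cen _ (mul_mem b1B b2B) hb1 (by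
      have : L.t * (b1 * (L.t * b1 * L.t)) * L.t = L.t * b1 * L.t * b1 := by
        rw [show L.t * (b1 * (L.t * b1 * L.t)) * L.t = L.t * b1 * L.t * b1 * (L.t * L.t) by group,
          L.tt, mul_one]
      rw [this, ← (Jm.comm_of_el hel b1B b2B).eq, hel _ (mul_mem b1B b2B)]
      exact one_mem _)
  refine ⟨h, c22, fun h1 => na1 (key _ a1A (h.mul_right h1)),
    fun h1 => na2 (key _ a2A (h1.mul_right c22)), fun h1 => ha1 (key _ (mul_mem a1A a2A) ?_)⟩
  generalize L.t * a1 * L.t = a2 at a2A c22 h1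
  generalize L.t * b1 * L.t = b2 at b2B c22 h1
  have sw : ∀ a ∈ L.A, ∀ b ∈ B, b * a = a * b * a * b * (a * b) := fun a ha b hb => by
    have h2 := L.el _ (cm a ha b hb).1
    calc b * a = (a * b * a * b * (a * b * a * b)) * (b * a) := by rw [h2, one_mul]
      _ = a * b * a * b * (a * b) * (a * (b * b) * a) := by group
      _ = _ := by rw [hel b hb, mul_one, L.el a ha, mul_one]
  have s1 := sw a1 a1A b2 b2B
  have s2 := sw a2 a2A b1 b1B
  have zZ := cm a2 a2A b1 b1B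
  rw [h1] at s1
  generalize a2 * b1 * a2 * b1 = z at s1 s2 zZ
  have z1 : Commute b1 z := Jm.comm_of_el hel b1B zZ.2
  have z2 : Commute a1 z := Jm.comm_of_el L.el a1A zZ.1
  symm
  calc b1 * b2 * (a1 * a2) = b1 * (b2 * a1) * a2 := by group
    _ = (b1 * z) * a1 * (b2 * a2) := by rw [s1]; group
    _ = z * (b1 * a1) * (a2 * b2) := by rw [z1.eq, c22.eq]; group
    _ = (z * a1) * (b1 * a2) * b2 := by rw [← h.eq]; group
    _ = a1 * (z * z) * a2 * (b1 * b2) := by rw [s2, ← z2.eq]; group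
    _ = _ := by rw [L.el z zZ.1, mul_one]

end LJx

open LJx
namespace La
variable {F : Fr G} (L : La F)

theorem gen {p : G → Prop} (h1 : p 1) (hm : ∀ a b, a ∈ L.A → b ∈ L.A → p a → p b → p (a * b))
    (s : p F.s) (m : p L.m) (z : p F.z) (d : p F.d) (y : p L.y) (x : p L.x) :
    ∀ a ∈ L.A, p a := by
  intro a ha
  have e := L.hA
  have el := L.el
  rw [e] at ha el hm
  induction ha using closure_induction with
  | mem a h => rcases h with rfl | rfl | rfl | rfl | rfl | rfl <;> assumption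
  | one => exact h1
  | mul a b ha hb p1 p2 => exact hm a b ha hb p1 p2
  | inv a ha p1 => rwa [Jm.inv_of_sq (el a ha)]

theorem sA : F.s ∈ L.A := by rw [L.hA]; exact subset_closure (by simp)
theorem mA : L.m ∈ L.A := by rw [L.hA]; exact subset_closure (by simp)
theorem zA : F.z ∈ L.A := by rw [L.hA]; exact subset_closure (by simp)
theorem dA : F.d ∈ L.A := by rw [L.hA]; exact subset_closure (by simp)
theorem yA : L.y ∈ L.A := by rw [L.hA]; exact subset_closure (by simp)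
theorem xA : L.x ∈ L.A := by rw [L.hA]; exact subset_closure (by simp)

theorem BA : F.B ≤ L.A := (closure_le _).2 (by
  rintro _ (rfl | rfl | rfl); exacts [L.sA, L.zA, L.dA])

theorem cm {a b : G} (ha : a ∈ L.A) (hb : b ∈ L.A) : Commute a b := comm_of_el L.el ha hb

theorem cjm {u : G} (uu : u * u = 1) (a b : G) : u * (a * b) * u = u * a * u * (u * b * u) := by
  rw [show u * a * u * (u * b * u) = u * a * (u * u) * b * u by group, uu]; group

theorem fx {u a : G} (uu : u * u = 1) (h : Commute u a) : u * a * u = a := by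
  rw [h.eq, mul_assoc, uu, mul_one]

theorem tA' : ∀ a ∈ L.A, F.t * a * F.t ∈ L.A := by
  refine L.gen (by simp [F.tt, one_mem]) (fun a b _ _ h k => by rw [cjm F.tt]; exact mul_mem h k)
    ?_ ?_ ?_ ?_ ?_ ?_
  · rw [fx F.tt F.ts]; exact L.sA
  · rcases L.tm with ⟨h, -⟩ | ⟨-, h⟩ <;> rw [h]
    · simp [F.tt, one_mem]
    · exact mul_mem L.mA L.sA
  · rw [fx F.tt F.tz]; exact L.zA
  · rw [fx F.tt F.td]; exact L.dA
  · rw [L.ty]; exact mul_mem L.yA L.zA
  · rw [L.tx]; exact mul_mem L.xA L.dA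

theorem eA' : ∀ a ∈ L.A, F.e * a * F.e ∈ L.A := by
  refine L.gen (by simp [F.ee, one_mem]) (fun a b _ _ h k => by rw [cjm F.ee]; exact mul_mem h k)
    ?_ ?_ ?_ ?_ ?_ ?_
  · rw [fx F.ee F.se.symm]; exact L.sA
  · rw [fx F.ee L.em]; exact L.mA
  · rw [fx F.ee F.ze.symm]; exact L.zA
  · rw [F.ede]; exact mul_mem L.dA L.zA
  · rw [fx F.ee L.ey]; exact L.yA
  · rw [L.ex]; exact mul_mem L.yA L.xA

theorem eB : L.A ⊓ centralizer {F.t} = F.B :=
  le_antisymm (fun a ha => L.ct a ha.1 (mem_centralizer_singleton_iff.1 ha.2).symm)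
    (le_inf L.BA fun _ hb => mem_centralizer_singleton_iff.2 (F.comm_E F.t_E (F.B_E hb)).symm)

/-- `a ↦ a ^ t a` -/
def φ : L.A →* G := ph L.el F.tt L.tA'

theorem φy : F.t * L.y * F.t * L.y = F.z := by
  rw [L.ty, (L.cm L.yA L.zA).eq, mul_assoc, L.el _ L.yA, mul_one]
theorem φx : F.t * L.x * F.t * L.x = F.d := by
  rw [L.tx, (L.cm L.xA L.dA).eq, mul_assoc, L.el _ L.xA, mul_one]
theorem φm (h : L.m ≠ 1) : F.s ≠ 1 ∧ F.t * L.m * F.t * L.m = F.s := by
  obtain ⟨h1, h2⟩ := L.tm.resolve_left fun k => h k.1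
  exact ⟨h1, by rw [h2, (L.cm L.mA L.sA).eq, mul_assoc, L.el _ L.mA, mul_one]⟩

theorem φ_le {K : Subgroup G} (hV : F.V ≤ K) (hm : L.m ≠ 1 → F.s ∈ K) :
    ∀ a ∈ L.A, F.t * a * F.t * a ∈ K := by
  have k : ∀ a ∈ L.A, Commute F.t a → F.t * a * F.t * a ∈ K := fun a ha h => by
    rw [(ph_one F.tt (L.el a ha)).2 h]; exact one_mem _
  refine L.gen (k _ (one_mem _) (Commute.one_right _)) (fun a b ha hb h h' => ?_) (k _ L.sA F.ts) ?_
    (k _ L.zA F.tz) (k _ L.dA F.td) (L.φy ▸ hV F.z_V) (L.φx ▸ hV F.d_V)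
  · have := map_mul L.φ ⟨a, ha⟩ ⟨b, hb⟩
    exact (show F.t * (a * b) * F.t * (a * b) = _ from this) ▸ mul_mem h h'
  · by_cases h : L.m = 1
    · rw [h]; exact k _ (one_mem _) (Commute.one_right _)
    · rw [(L.φm h).2]; exact hm h

theorem V_le : F.V ≤ L.φ.range := (closure_le _).2 (by
  rintro _ (rfl | rfl); exacts [⟨⟨_, L.yA⟩, L.φy⟩, ⟨⟨_, L.xA⟩, L.φx⟩])

theorem rg0 (h : L.m = 1) : L.φ.range = F.V :=
  le_antisymm (by rintro _ ⟨a, rfl⟩; exact L.φ_le le_rfl (fun k => absurd h k) _ a.2) L.V_le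

theorem rg1 (h : L.m ≠ 1) : L.φ.range = F.B :=
  le_antisymm (by rintro _ ⟨a, rfl⟩; exact L.φ_le F.V_B (fun _ => F.s_B) _ a.2) ((closure_le _).2 (by
    rintro _ (rfl | rfl | rfl)
    exacts [⟨⟨_, L.mA⟩, (L.φm h).2⟩, L.V_le F.z_V, L.V_le F.d_V]))

theorem card' : (L.m = 1 ∧ Nat.card L.A = 4 * Nat.card F.B) ∨
    (L.m ≠ 1 ∧ F.s ≠ 1 ∧ Nat.card L.A = 64) := by
  have h : Nat.card L.A = _ * Nat.card L.φ.range := card_ph L.el F.tt L.tA'
  rw [L.eB] at h
  by_cases k : L.m = 1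
  · rw [L.rg0 k, F.card_V] at h
    exact .inl ⟨k, by omega⟩
  · rw [L.rg1 k, F.card_B (L.φm k).1] at h
    exact .inr ⟨k, (L.φm k).1, h⟩

theorem c4 : 4 * Nat.card F.B ≤ Nat.card L.A ∧ Nat.card L.A ≤ 64 := by
  have := F.card_B'
  rcases L.card' with ⟨-, h⟩ | ⟨-, h, h'⟩
  · omega
  · have := F.card_B h; omega

theorem nty : ¬ Commute F.t L.y := fun h =>
  F.z1 (L.φy.symm.trans ((ph_one F.tt (L.el _ L.yA)).2 h))

theorem cj_t {a : G} (ha : a ∈ L.A) : a⁻¹ * F.t * a = F.t * (F.t * a * F.t * a) := by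
  rw [Jm.inv_of_sq (L.el a ha), show F.t * (F.t * a * F.t * a) = (F.t * F.t) * a * F.t * a by group,
    F.tt, one_mul]

include L in
theorem ttz : IsConj F.t (F.t * F.z) := Fr.icj L.y (by rw [L.cj_t L.yA, L.φy])

theorem hfus : ∀ b ∈ F.B, IsConj F.t (F.t * b) → ∃ a ∈ L.A, a⁻¹ * F.t * a = F.t * b := by
  intro b hb h
  suffices k : b ∈ L.φ.range by
    obtain ⟨a, rfl⟩ := k
    exact ⟨a, a.2, L.cj_t a.2⟩
  rcases L.tm with ⟨-, k⟩ | ⟨k1, k⟩
  · obtain ⟨v, hv, rfl | rfl⟩ := F.mem_B.1 hb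
    · exact L.V_le hv
    · by_cases h1 : F.s = 1
      · rw [h1, one_mul]; exact L.V_le hv
      · exact (k h1 (h.trans (F.cj_tsV h1 hv).symm)).elim
  · rw [L.rg1 fun e => k1 (by simpa [e, F.tt] using k.symm)]; exact hb

/-- the subgroup `A1 = {a | a ^ e a ∈ B}` -/
def A1 : Subgroup G := (F.B.comap (ph L.el F.ee L.eA')).map L.A.subtype

theorem mem_A1 {a : G} : a ∈ L.A1 ↔ a ∈ L.A ∧ F.e * a * F.e * a ∈ F.B :=
  ⟨by rintro ⟨b, hb, rfl⟩; exact ⟨b.2, hb⟩, fun ⟨h, k⟩ => ⟨⟨a, h⟩, k, rfl⟩⟩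

theorem B_A1 : F.B ≤ L.A1 := fun _ hb => L.mem_A1.2 ⟨L.BA hb, mul_mem (F.e_nB hb) hb⟩

theorem A1_lt : L.A1 < L.A := by
  refine lt_of_le_of_ne (fun a ha => (L.mem_A1.1 ha).1) fun e => L.nty ?_
  have := (L.mem_A1.1 (e.ge L.xA)).2
  rw [L.ex, mul_assoc, L.el _ L.xA, mul_one] at this
  exact F.comm_E F.t_E (F.B_E this)

theorem he : ∀ a ∈ L.A, Commute F.e a ∨ Commute (F.t * F.e) a → a ∈ L.A1 := by
  rintro a ha (h | h) <;> refine L.mem_A1.2 ⟨ha, ?_⟩
  · rw [(ph_one F.ee (L.el a ha)).2 h]; exact one_mem _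
  · have : F.e * a * F.e = F.t * a * F.t := by
      calc F.e * a * F.e = F.t * (F.t * F.e * a) * F.e := by
            rw [show F.t * (F.t * F.e * a) * F.e = (F.t * F.t) * F.e * a * F.e by group, F.tt, one_mul]
        _ = F.t * a * F.t * (F.e * F.e) := by rw [h.eq]; group
        _ = _ := by rw [F.ee, mul_one]
    rw [this]; exact L.φ_le F.V_B (fun _ => F.s_B) a ha

theorem eT (F : Fr G) : F.B ⊔ closure {F.t, F.e} = F.T0 := by
  refine le_antisymm (sup_le (F.B_E.trans F.E_T0) ((closure_le _).2 ?_)) ((closure_le _).2 ?_)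
  · rintro _ (rfl | rfl); exacts [F.E_T0 F.t_E, F.e_T0]
  · rintro _ (rfl | rfl | rfl | rfl)
    exacts [mem_sup_right (subset_closure (by simp)), mem_sup_left F.s_B, mem_sup_left (F.V_B F.d_V),
      mem_sup_right (subset_closure (by simp))]

theorem ch {u : G} (h1 : ∀ a ∈ L.A, Commute u a → a ∈ L.A1) (h2 : ¬ Commute u F.d) :
    4 * Nat.card ↥(L.A ⊓ centralizer {u}) ≤ Nat.card L.A := by
  have a := Od.two_le L.A1_lt
  have b := Od.two_le (H := L.A ⊓ centralizer {u}) (K := L.A1) (lt_of_le_of_ne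
    (fun a ha => h1 a ha.1 (Jm.mem_cen.1 ha.2))
    fun e => h2 (Jm.mem_cen.1 (e.ge (L.B_A1 (F.V_B F.d_V))).2))
  omega

/-- The structure `LA` of S3139 (`Fr.mkLA`). -/
def M : LA G where
  A := L.A
  t := F.t
  e := F.e
  el := L.el
  card := L.c4.2
  tt := F.tt
  ee := F.ee
  te := F.te
  tA := L.tA'
  eA := L.eA'
  big := by
    rintro u (rfl | rfl | rfl)
    · rw [L.eB]; exact L.c4.1
    · exact L.ch (fun a ha k => L.he a ha (Or.inl k)) fun c => F.not_de c.symm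
    · exact L.ch (fun a ha k => L.he a ha (Or.inr k)) fun c => F.not_de (Commute.symm (by
        simpa [← mul_assoc, F.tt] using F.td.mul_left c))
  big2 := by
    have b := Od.two_le (H := L.A ⊓ centralizer {F.t, F.e}) (K := F.B) (lt_of_le_of_ne
      (fun a ha => L.ct a ha.1 (ha.2 _ (by simp)))
      fun e => F.not_de (Commute.symm ((e.ge (F.V_B F.d_V)).2 _ (by simp))))
    have := L.c4.1
    omega
  fus := fun a ha k => L.hfus a (L.ct a ha (by
    obtain ⟨g, e⟩ := isConj_iff.1 k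
    have : F.t * a * (F.t * a) = 1 := by rw [← e, conj_mul, F.tt]; simp
    exact (ph_one F.tt (L.el a ha)).1 (by rw [← this]; group))) k
  max0 := fun Y hY ht hn => by
    rw [L.eB]
    refine F.sylT0 Y hY ht fun y hy => Od.nm_of fun x hx => ?_
    have yt : y * F.t * y⁻¹ = F.t := by rw [← (ht y hy).eq, mul_inv_cancel_right]
    have k : ∀ b ∈ F.B, y * b * y⁻¹ ∈ F.B := fun b hb => L.ct _ (Od.cj (hn hy) (L.BA hb)) (by
      rw [← yt]; exact (F.comm_E F.t_E (F.B_E hb)).conj y)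
    obtain ⟨b, hb, rfl | rfl⟩ := F.mem_E.1 hx
    · exact F.B_E (k _ hb)
    · rw [← conj_mul, yt]; exact mul_mem F.t_E (F.B_E (k _ hb))
  up := fun Y hY ht lt => by
    rw [L.eB, eT] at lt ⊢
    obtain ⟨c', m, cr, -⟩ := F.exists_c Y hY ht lt
    have dT := F.E_T0 (F.B_E (F.V_B F.d_V))
    refine ⟨c' * F.d, mul_mem m (lt.le dT),
      fun k => cr.not_nE (F.T0_nE ((mul_mem_cancel_right dT).1 k)), ?_⟩
    rw [cr.cd]
    exact ⟨F.z1, L.zA, F.ze.symm⟩
  lc := fun u => F.lc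

/-- `A` is not normal in a Sylow 2-subgroup of `G`. -/
theorem not_nrm {S : Subgroup G} (hS : MSS.SylIn 2 S ⊤) (hA : L.A ≤ S) :
    ¬ S ≤ normalizer (L.A : Set G) := by
  intro hn
  obtain ⟨g, e⟩ := extr F hS
  set u := g⁻¹ * F.t * g with hu
  have cu : IsConj F.t u := Fr.icj g rfl
  have uu : u * u = 1 := sq_cj F.tt g
  have uS : u ∈ S := (e.le (cj_cjs g (F.T0_T (F.E_T0 F.t_E)))).1
  have c4 := L.c4
  have pB : 0 < Nat.card F.B := Nat.card_pos
  have uA : u ∉ L.A := fun h => by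
    have := rkB F cu L.el fun x hx => L.cm h hx
    omega
  have nA : ∀ a ∈ L.A, u * a * u ∈ L.A := fun a ha => by
    have := Od.cj (hn uS) ha
    rwa [Jm.inv_of_sq uu] at this
  have sq := card_sq L.el uu nA
  set C := L.A ⊓ centralizer {u}
  have big : Nat.card F.B ≤ Nat.card C := by
    rcases F.card_B' with h | h
    · by_contra k
      have : Nat.card C ≤ 3 := by omega
      nlinarith
    · obtain ⟨n, hn⟩ := (p2_of_el (X := C) fun x hx => L.el x hx.1).exists_card_eq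
      by_contra k
      have h7 : 2 ^ n < 2 ^ 3 := by omega
      have : 2 ^ n ≤ 2 ^ 2 := Nat.pow_le_pow_right (by norm_num)
        (Nat.lt_succ_iff.1 ((Nat.pow_lt_pow_iff_right (by norm_num)).1 h7))
      nlinarith
  obtain ⟨X, mX, cX⟩ := Jm.exists_ext (C := C) uu (fun c hc => Jm.mem_cen.1 hc.2) fun h => uA h.1
  have dX : ∀ x ∈ X, ∃ c ∈ C, x = c ∨ x = c * u := fun x hx => by
    rcases (mX x).1 hx with h | h
    · exact ⟨x, h, .inl rfl⟩
    · exact ⟨_, h, .inr (by rw [mul_assoc, uu, mul_one])⟩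
  have elX : ∀ x ∈ X, x * x = 1 := fun x hx => by
    obtain ⟨c, hc, rfl | rfl⟩ := dX x hx
    · exact L.el _ hc.1
    · rw [(Jm.mem_cen.1 hc.2).mul_mul_mul_comm, L.el _ hc.1, uu, mul_one]
  have e' : ∀ x, g * x * g⁻¹ ∈ F.T ↔ x ∈ S ∧ Commute u x := fun x => by
    rw [← mem_cjs, e, mem_inf, Jm.mem_cen]
  have h1 : cjs X g⁻¹ ≤ F.T := cjs_ind (p := (· ∈ F.T)) fun x hx => by
    rw [inv_inv, e']
    obtain ⟨c, hc, rfl | rfl⟩ := dX x hx
    · exact ⟨hA hc.1, Jm.mem_cen.1 hc.2⟩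
    · exact ⟨mul_mem (hA hc.1) uS, (Jm.mem_cen.1 hc.2).mul_right (Commute.refl u)⟩
  have h2 := nrmT F h1 (cjs_ind (p := fun x => x * x = 1) fun x hx => sq_cj (elX x hx) _)
    fun y hy => by
      obtain ⟨yS, yu⟩ := (e' (g⁻¹ * y * g)).1 (by simpa [mul_assoc] using hy)
      have kC : ∀ c ∈ C, g⁻¹ * y * g * c * (g⁻¹ * y * g)⁻¹ ∈ C := fun c hc =>
        ⟨Od.cj (hn yS) hc.1, Jm.mem_cen.2 ((yu.mul_right (Jm.mem_cen.1 hc.2)).mul_right yu.inv_right)⟩
      have := norm_cjs (X := X) (y := g⁻¹ * y * g) (Od.nm_of fun x hx => (mX _).2 (by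
        rcases (mX x).1 hx with h | h
        · exact .inl (kC _ h)
        · refine .inr ?_
          have := kC _ h
          rwa [mul_assoc _ _ (g⁻¹ * y * g)⁻¹, mul_assoc x, yu.inv_right.eq, ← mul_assoc,
            ← mul_assoc] at this)) g⁻¹
      simpa [mul_assoc] using this
  rw [card_cjs] at h2
  omega

theorem jd' : ∃ J : JD L.M,
    MSS.SylIn 2 ((J.S : Subgroup G) ⊓ normalizer (L.A : Set G)) (normalizer (L.A : Set G)) := by
  have pz : ∀ u : G, u * u = 1 → IsPGroup 2 (zpowers u) := fun u h =>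
    p2_zpowers (k := 1) (by simpa [pow_two] using h)
  have n1 : zpowers F.t ⊔ zpowers F.e ≤ normalizer (L.A : Set G) :=
    sup_le (zpowers_le_of_mem (JD.t_nA (L := L.M))) (zpowers_le_of_mem (JD.e_nA (L := L.M)))
  obtain ⟨P, hP, hle⟩ := MSS.exists_sylIn_ge ((p2_of_el L.el).to_sup_of_normal_left'
    ((pz _ F.tt).to_sup_of_normal_right' (pz _ F.ee) (zpowers_le_of_mem (norm_of_comm fun n hn => by
      obtain ⟨k, rfl⟩ := hn
      exact F.te.symm.zpow_left k))) n1) (sup_le le_normalizer n1)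
  obtain ⟨S, hS⟩ := hP.pgroup.exists_le_sylow
  have c : HL.La.Cx L.M S := ⟨le_sup_left.trans (hle.trans hS),
    hS (hle (mem_sup_right (mem_sup_left (mem_zpowers _)))),
    hS (hle (mem_sup_right (mem_sup_right (mem_zpowers _))))⟩
  obtain ⟨J, rfl⟩ := split L.M S c (lt_of_le_of_ne inf_le_left fun e =>
    L.not_nrm (MSS.sylIn_top S) c.hA (e.ge.trans inf_le_right))
  exact ⟨J, (hP.max _ (J.S.isPGroup'.to_le inf_le_left) (le_inf hS hP.le) inf_le_right).symm ▸ hP⟩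

end La
end CL.H3
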