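import Cfsg.Agent.INV.H3.LB

/-! S3140: `β = 1`, `s = 1` is impossible, given the element `σ` of `Lj.sigma`. -/

set_option autoImplicit false
set_option linter.unusedSectionVars false
open Subgroup
open scoped commutatorElement

namespace CL.H3.T1b
open CL.HL CL.HL.Jm CL.HL.JD CL.MSS
variable {G : Type*} [Group G] [Finite G] {M : LA G} {J : JD M} {g k τ a b : G}

theorem cl_cong (hg : g ∈ normalizer (J.JJ : Set G)) (ha : a ∈ J.JJ) (hb : b ∈ J.JJ)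
    (h : J.cl a = J.cl b) : J.cl (g * a * g⁻¹) = J.cl (g * b * g⁻¹) := by
  rw [J.pat_gen hg a ha, J.pat_gen hg b hb, h]

/-- An element trivial on `J / Z` has an odd power in `J`. -/
theorem odd_pow (hn : (J.S : Subgroup G) ≤ normalizer (J.JJ : Set G))
    (hk : k ∈ normalizer (J.JJ : Set G)) (h : J.Pat k id) : ∃ n, Odd n ∧ k ^ n ∈ J.JJ := by
  obtain ⟨n, m, o, e⟩ := exists_odd_pow k
  have hp : ∀ i : ℕ, J.Pat (k ^ i) id := fun i => by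
    induction i with
    | zero => rw [pow_zero]; exact J.pat_id (one_mem _)
    | succ i ih => rw [pow_succ]; exact ih.mul h hk
  obtain ⟨x, hx, le⟩ := (sylIn_sylow J.S hn).exists_conj_le (p2_zpowers e)
    (zpowers_le.2 (pow_mem hk n))
  have h1 : x * k ^ n * x⁻¹ ∈ J.JJ := by
    refine J.mem_of_pat (le (conj_mem_cj (mem_zpowers _)))
      (mul_mem (mul_mem hx (pow_mem hk n)) (inv_mem hx)) (f := id) (fun j hj => ?_) fun _ => rfl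
    have h2 := J.conj_mem (inv_mem hx) hj
    have := cl_cong hx (J.conj_mem (pow_mem hk n) h2) h2 (hp n _ h2)
    simpa [mul_assoc] using this
  exact ⟨n, o, by simpa [mul_assoc] using J.conj_mem (inv_mem hx) h1⟩

/-- `τ² + τ + 1 = 0` on `J / Z` and on `Z`. -/
structure R (J : JD M) (τ : G) : Prop where
  n : τ ∈ normalizer (J.JJ : Set G)
  q : ∀ j ∈ J.JJ, J.cl (τ * (τ * j * τ⁻¹) * τ⁻¹) = J.cl j + J.cl (τ * j * τ⁻¹)
  z : ∀ w ∈ J.Z, τ * (τ * w * τ⁻¹) * τ⁻¹ = w * (τ * w * τ⁻¹)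

theorem cj_comm (g a b : G) : g * ⁅a, b⁆ * g⁻¹ = ⁅g * a * g⁻¹, g * b * g⁻¹⁆ := by
  simp only [commutatorElement_def]; group

theorem cjm (g a b : G) : g * (a * b) * g⁻¹ = g * a * g⁻¹ * (g * b * g⁻¹) := by group

theorem comm_symm (ha : a ∈ J.JJ) (hb : b ∈ J.JJ) : ⁅a, b⁆ = ⁅b, a⁆ := by
  rw [← commutatorElement_inv a b, inv_of_sq (J.elZ (J.comm_mem ha hb))]

theorem R.key (h : R J τ) (ha : a ∈ J.JJ) (hb : b ∈ J.JJ) :
    ⁅τ * a * τ⁻¹, b⁆ = ⁅a, τ * b * τ⁻¹⁆ := by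
  have a1 := J.conj_mem h.n ha
  have b1 := J.conj_mem h.n hb
  have e := h.z _ (J.comm_mem ha hb)
  rw [cj_comm, cj_comm, J.comm_congr (J.conj_mem h.n a1) (J.conj_mem h.n b1) (mul_mem ha a1)
    (mul_mem hb b1) (by rw [h.q a ha, J.cl_mul ha a1]) (by rw [h.q b hb, J.cl_mul hb b1]),
    J.comm_mul_right (mul_mem ha a1) hb b1, comm_symm (mul_mem ha a1) hb,
    comm_symm (mul_mem ha a1) b1, J.comm_mul_right hb ha a1, J.comm_mul_right b1 ha a1,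
    comm_symm hb ha, comm_symm hb a1, comm_symm b1 ha, comm_symm b1 a1, mul_assoc,
    mul_right_inj, ← mul_assoc, mul_eq_right] at e
  rw [eq_inv_of_mul_eq_one_left e, inv_of_sq (J.elZ (J.comm_mem ha b1))]

theorem add_add : ∀ v w : V, v + (v + w) = w := by decide

theorem R.same {τ' : G} (h : R J τ) (h' : R J τ')
    (e : ∀ w ∈ J.Z, τ * w * τ⁻¹ = τ' * w * τ'⁻¹) (ha : a ∈ J.JJ) :
    J.cl (τ * a * τ⁻¹) = J.cl (τ' * a * τ'⁻¹) := by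
  have a2 := J.conj_mem h.n (J.conj_mem h.n ha)
  have a2' := J.conj_mem h'.n (J.conj_mem h'.n ha)
  have h1 : τ * (τ * a * τ⁻¹) * τ⁻¹ * (τ' * (τ' * a * τ'⁻¹) * τ'⁻¹) ∈ J.Z := by
    refine J.memZ_of_cen (mul_mem a2 a2') fun b hb => ?_
    rw [← commutatorElement_eq_one_iff_commute, comm_symm (mul_mem a2 a2') hb,
      J.comm_mul_right hb a2 a2', comm_symm hb a2, comm_symm hb a2', h.key (J.conj_mem h.n ha) hb,
      h'.key (J.conj_mem h'.n ha) hb, ← cj_comm, ← cj_comm, ← e _ (J.comm_mem ha hb)]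
    exact J.elZ (J.conj_memZ h.n (J.comm_mem ha hb))
  have h2 := J.cl_Z h1
  rw [J.cl_mul a2 a2', h.q a ha, h'.q a ha] at h2
  revert h2
  generalize J.cl a = v, J.cl (τ * a * τ⁻¹) = v1, J.cl (τ' * a * τ'⁻¹) = v2
  revert v v1 v2
  decide +kernel

theorem R.cj {u : G} (h : R J τ) (hu : u ∈ normalizer (J.JJ : Set G)) : R J (u⁻¹ * τ * u) := by
  refine ⟨mul_mem (mul_mem (inv_mem hu) h.n) hu, fun j hj => ?_, fun w hw => ?_⟩
  · have j1 := J.conj_mem hu hj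
    have j2 := J.conj_mem h.n j1
    have := cl_cong (inv_mem hu) (J.conj_mem h.n j2) (mul_mem j1 j2)
      (by rw [h.q _ j1, J.cl_mul j1 j2])
    rw [cjm u⁻¹ (u * j * u⁻¹), J.cl_mul (J.conj_mem (inv_mem hu) j1) (J.conj_mem (inv_mem hu) j2)] at this
    simpa [mul_assoc] using this
  · have := congrArg (fun x => u⁻¹ * x * u) (h.z _ (J.conj_memZ hu hw))
    simpa [mul_assoc] using this

theorem main (hn : (J.S : Subgroup G) ≤ normalizer (J.JJ : Set G)) (h : R J τ) {u : G}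
    (hu : u ∈ normalizer (J.JJ : Set G)) (uZ : ∀ w ∈ J.Z, Commute u w) (uu : u * u ∈ J.JJ) :
    ∃ j ∈ J.JJ, u * j * (u * j) = 1 := by
  have h' := h.cj hu
  have e : ∀ w ∈ J.Z, τ * w * τ⁻¹ = u⁻¹ * τ * u * w * (u⁻¹ * τ * u)⁻¹ := fun w hw => by
    have e1 := (uZ w hw).eq
    have e2 := (uZ _ (J.conj_memZ h.n hw)).eq
    calc _ = u⁻¹ * (u * (τ * w * τ⁻¹)) := by group
      _ = u⁻¹ * τ * (w * u) * u⁻¹ * τ⁻¹ * u := by rw [e2]; group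
      _ = _ := by rw [← e1]; group
  obtain ⟨k, hk⟩ : ∃ k, k = u⁻¹ * τ * u * τ⁻¹ := ⟨_, rfl⟩
  have kn : k ∈ normalizer (J.JJ : Set G) := hk ▸ mul_mem h'.n (inv_mem h.n)
  have kp : J.Pat k id := fun j hj => by
    have := h.same h' e (J.conj_mem (inv_mem h.n) hj)
    simpa [hk, mul_assoc] using this.symm
  have kZ : ∀ w ∈ J.Z, k * w * k⁻¹ = w := fun w hw => by
    have := e _ (J.conj_memZ (inv_mem h.n) hw)
    simpa [hk, mul_assoc] using this.symm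
  have kk : ∀ j ∈ J.JJ, Commute (k * k) j := fun j hj => by
    have j1 := J.conj_mem kn hj
    have h1 : j⁻¹ * (k * j * k⁻¹) ∈ J.Z := (J.memZ_iff (mul_mem (inv_mem hj) j1)).2 (by
      rw [J.cl_mul (inv_mem hj) j1, J.cl_inv hj, kp j hj]
      generalize J.cl j = v; revert v; decide)
    have h2 := kZ _ h1
    have h3 := J.elZ h1
    calc k * k * j = k * j * k⁻¹ * (k * (j⁻¹ * (k * j * k⁻¹)) * k⁻¹) * (k * k) := by group
      _ = j * (j⁻¹ * (k * j * k⁻¹) * (j⁻¹ * (k * j * k⁻¹))) * (k * k) := by rw [h2]; group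
      _ = _ := by rw [h3, mul_one]
  obtain ⟨_, ⟨m, rfl⟩, j0J⟩ := odd_pow hn kn kp
  obtain ⟨j0, hj0⟩ : ∃ j0, j0 = k ^ (2 * m + 1) := ⟨_, rfl⟩
  rw [← hj0] at j0J
  obtain ⟨k', hk'⟩ : ∃ k', k' = ((k * k) ^ m)⁻¹ := ⟨_, rfl⟩
  have k'c : ∀ j ∈ J.JJ, Commute k' j := fun j hj => hk' ▸ ((kk j hj).pow_left m).inv_left
  have ek : k = j0 * k' := by rw [hj0, hk', ← sq, ← pow_mul, pow_succ']; group
  have j1J := J.conj_mem h.n j0J
  have j2J := J.conj_mem h.n j1J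
  have q := h.q j0 j0J
  generalize τ * j0 * τ⁻¹ = j1 at j1J j2J q
  refine ⟨j1, j1J, ?_⟩
  have z0 : j1⁻¹ * j0 * (τ * j1 * τ⁻¹) ∈ J.Z :=
    (J.memZ_iff (mul_mem (mul_mem (inv_mem j1J) j0J) j2J)).2 (by
      rw [J.cl_mul (mul_mem (inv_mem j1J) j0J) j2J, J.cl_mul (inv_mem j1J) j0J, J.cl_inv j1J, q]
      generalize J.cl j1 = v, J.cl j0 = w; revert v w; decide)
  obtain ⟨w, hw⟩ : ∃ w, w = j1⁻¹ * j0 * (τ * j1 * τ⁻¹) * k' := ⟨_, rfl⟩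
  have wc : ∀ j ∈ J.JJ, Commute w j := fun j hj => hw ▸ (J.cen z0 hj).mul_left (k'c j hj)
  have eg : τ * (u * j1) * τ⁻¹ = u * j1 * w := by
    calc _ = u * k * (τ * j1 * τ⁻¹) := by rw [hk]; group
      _ = u * j0 * (k' * (τ * j1 * τ⁻¹)) := by rw [ek]; group
      _ = _ := by rw [(k'c _ j2J).eq, hw]; group
  have gn : u * j1 ∈ normalizer (J.JJ : Set G) := mul_mem hu (le_normalizer j1J)
  have gZ : ∀ v ∈ J.Z, Commute (u * j1) v := fun v hv => (uZ v hv).mul_left (J.cen hv j1J).symm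
  have gg : u * j1 * (u * j1) ∈ J.JJ := by
    have := mul_mem (mul_mem uu (J.conj_mem (inv_mem hu) j1J)) j1J
    simpa [mul_assoc] using this
  generalize u * j1 = g at eg gn gZ gg
  have e2 : τ * (g * g) * τ⁻¹ = g * g * (g⁻¹ * w * g * w) := by rw [← conj_mul, eg]; group
  have vJ : g⁻¹ * w * g * w ∈ J.JJ := by
    rw [← mul_mem_cancel_left gg, ← e2]; exact J.conj_mem h.n gg
  have vZ : g⁻¹ * w * g * w ∈ J.Z := J.memZ_of_cen vJ fun j hj => Commute.mul_left (by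
    have := (wc _ (J.conj_mem gn hj)).map (MulAut.conj g⁻¹)
    simpa [mul_assoc] using this) (wc j hj)
  obtain ⟨_, ⟨i, rfl⟩, wJ⟩ := odd_pow hn (k := w) (centralizer_le_normalizer _ fun j hj =>
    (wc j hj).eq.symm) fun j hj => by rw [(wc j hj).eq, mul_inv_cancel_right]; rfl
  have wZ := J.memZ_of_cen wJ fun j hj => (wc j hj).pow_left _
  have v1 : g⁻¹ * w * g * w = 1 := by
    have h1 : (g⁻¹ * w * g) ^ (2 * i + 1) = w ^ (2 * i + 1) := by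
      have := conj_pow (i := 2 * i + 1) (a := g⁻¹) (b := w)
      rw [inv_inv] at this
      rw [this, mul_assoc, ← (gZ _ wZ).eq, inv_mul_cancel_left]
    have h2 : (g⁻¹ * w * g) ^ (2 * i + 1) = g⁻¹ * w * g * w * (w ^ (2 * i + 1))⁻¹ := by
      have h3 := J.elZ vZ
      have h4 := (wc _ vJ).symm
      rw [show g⁻¹ * w * g = g⁻¹ * w * g * w * w⁻¹ by group]
      generalize g⁻¹ * w * g * w = v at h3 h4
      rw [h4.inv_right.mul_pow, inv_pow, pow_succ v, pow_mul, sq, h3, one_pow, one_mul,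
        inv_mul_cancel_right]
    rwa [h1, inv_of_sq (J.elZ wZ), eq_comm, mul_eq_right] at h2
  rw [v1, mul_one] at e2
  have h1 := h.q _ gg
  rw [e2, e2, left_eq_add] at h1
  have h2 := h.z _ ((J.memZ_iff gg).2 h1)
  rwa [e2, e2, left_eq_mul] at h2

set_option synthInstance.maxSize 2000 in
set_option synthInstance.maxHeartbeats 200000 in
theorem three : ∀ v0 v1 v2 : V, ((v0.1.2 = 0 ∧ v0.2.2 = 0) ∧ (v1.1.2 = 0 ∧ v1.2.2 = 0) ∧
      (v2.1.2 = 0 ∧ v2.2.2 = 0) ∨ (v0.1.1 = 0 ∧ v0.2.1 = 0) ∧ (v1.1.1 = 0 ∧ v1.2.1 = 0) ∧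
      (v2.1.1 = 0 ∧ v2.2.1 = 0)) → (v1 = 0 → v0 = 0) → (v2 = 0 → v1 = 0) → (v0 = 0 → v1 = 0) →
    (v1 = 0 → v2 = 0) → (v0 + v1 = 0 → v0 = 0) → (v1 + v2 = 0 → v1 = 0) →
    (v0 + v1 + (v1 + v2) = 0 → v0 + v1 = 0) → v2 = v0 + v1 := by
  decide +kernel

theorem q_of (H : J.T1) (hn : τ ∈ normalizer (J.JJ : Set G)) (hA : τ ∈ normalizer (M.A : Set G))
    (fp : ∀ j ∈ J.JJ, j⁻¹ * (τ * j * τ⁻¹) ∈ J.Z → j ∈ J.Z) {j : G} (hj : j ∈ J.JJ) :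
    J.cl (τ * (τ * j * τ⁻¹) * τ⁻¹) = J.cl j + J.cl (τ * j * τ⁻¹) := by
  have hB : ∀ b ∈ J.A', τ * b * τ⁻¹ ∈ J.A' :=
    (H.mapA hn le_sup_right J.el' J.b1A fun h => J.nb.1 h.1).resolve_left fun h =>
      J.nb.1 ((mem_normalizer_iff.1 hA _).2 (h _ J.b1A))
  have hA' : ∀ a ∈ M.A, τ * a * τ⁻¹ ∈ M.A := fun a => (mem_normalizer_iff.1 hA a).1
  have f0 : ∀ j ∈ J.JJ, J.cl (τ * j * τ⁻¹) = 0 → J.cl j = 0 := fun j hj e => J.cl_Z (by
    simpa [mul_assoc] using J.conj_memZ (inv_mem hn) ((J.memZ_iff (J.conj_mem hn hj)).2 e))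
  have f1 : ∀ j ∈ J.JJ, J.cl j = 0 → J.cl (τ * j * τ⁻¹) = 0 := fun j hj e =>
    J.cl_Z (J.conj_memZ hn ((J.memZ_iff hj).2 e))
  have f2 : ∀ j ∈ J.JJ, J.cl j + J.cl (τ * j * τ⁻¹) = 0 → J.cl j = 0 := fun j hj e =>
    J.cl_Z (fp j hj ((J.memZ_iff (mul_mem (inv_mem hj) (J.conj_mem hn hj))).2 (by
      rwa [J.cl_mul (inv_mem hj) (J.conj_mem hn hj), J.cl_inv hj])))
  have key : ∀ j, j ∈ M.A ∨ j ∈ J.A' →
      J.cl (τ * (τ * j * τ⁻¹) * τ⁻¹) = J.cl j + J.cl (τ * j * τ⁻¹) := fun j h => by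
    have j0 : j ∈ J.JJ := h.elim J.memA J.memB
    have j1 := J.conj_mem hn j0
    have j2 := J.conj_mem hn j1
    refine three _ _ _ (h.imp (fun h => ⟨(J.memA_iff j0).1 h, (J.memA_iff j1).1 (hA' _ h),
      (J.memA_iff j2).1 (hA' _ (hA' _ h))⟩) fun h => ⟨(J.memB_iff j0).1 h,
      (J.memB_iff j1).1 (hB _ h), (J.memB_iff j2).1 (hB _ (hB _ h))⟩) (f0 _ j0) (f0 _ j1) (f1 _ j0)
      (f1 _ j1) (f2 _ j0) (f2 _ j1) ?_
    have := f2 _ (mul_mem j0 j1)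
    rwa [← conj_mul, J.cl_mul j0 j1, J.cl_mul j1 j2] at this
  obtain ⟨a, ha, b, hb, rfl⟩ := J.dec hj
  have a0 := J.memA ha
  have b0 := J.memB hb
  rw [cjm τ a b, cjm τ (τ * a * τ⁻¹), J.cl_mul a0 b0, J.cl_mul (J.conj_mem hn a0) (J.conj_mem hn b0),
    J.cl_mul (J.conj_mem hn (J.conj_mem hn a0)) (J.conj_mem hn (J.conj_mem hn b0)),
    key a (.inl ha), key b (.inr hb)]
  abel

theorem z_of {Y : Subgroup G} (c4 : Nat.card Y = 4) (el : ∀ w ∈ Y, w * w = 1)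
    (hn : τ ∈ normalizer (Y : Set G)) (fp : ∀ w ∈ Y, Commute w τ → w = 1) {w : G} (hw : w ∈ Y) :
    τ * (τ * w * τ⁻¹) * τ⁻¹ = w * (τ * w * τ⁻¹) := by
  by_cases w1 : w = 1
  · simp [w1]
  have hc : ∀ v ∈ Y, τ * v * τ⁻¹ ∈ Y := fun v => (mem_normalizer_iff.1 hn v).1
  have fp' : ∀ v ∈ Y, τ * v * τ⁻¹ = v → v = 1 := fun v hv e =>
    fp v hv (mul_inv_eq_iff_eq_mul.1 e).symm
  have : Nontrivial Y := ⟨⟨⟨w, hw⟩, 1, fun e => w1 (congrArg Subtype.val e)⟩⟩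
  have : IsKleinFour Y := ⟨c4, (Monoid.exponent_eq_prime_iff Nat.prime_two).2 fun x hx =>
    orderOf_eq_prime (Subtype.ext ((sq _).trans (el x x.2))) hx⟩
  have n1 : τ * w * τ⁻¹ ≠ 1 := fun e => w1 (conj_eq_one_iff.1 e)
  have n2 : w ≠ τ * w * τ⁻¹ := fun e => w1 (fp' w hw e.symm)
  have := IsKleinFour.eq_mul_of_ne_all (x := (⟨w, hw⟩ : Y)) (y := ⟨_, hc _ hw⟩)
    (z := ⟨_, hc _ (hc _ hw)⟩) (fun e => w1 (congrArg Subtype.val e))
    (fun e => n1 (congrArg Subtype.val e)) (fun e => n2 (congrArg Subtype.val e))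
    (fun e => n1 (conj_eq_one_iff.1 (congrArg Subtype.val e))) (fun e => n2 ?_)
    fun e => n1 (fp' _ (hc _ hw) (congrArg Subtype.val e))
  · exact congrArg Subtype.val this
  have e' : τ * (τ * w * τ⁻¹) * τ⁻¹ = w := congrArg Subtype.val e
  have h1 := fp' _ (mul_mem hw (hc _ hw)) (by
    rw [← conj_mul, e']; exact (Jm.comm_of_el el (hc _ hw) hw).eq)
  rw [eq_inv_of_mul_eq_one_right h1, inv_of_sq (el w hw)]

end CL.H3.T1b

namespace CL.H3.Lj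
open CL.HL T1b
variable {G : Type*} [Group G] [Finite G] {F : Fr G} (L : Lj F)

theorem t1b0 (h : L.β = 1) (h1 : F.s = 1) (σ : G) (hJ : σ ∈ normalizer (L.J : Set G))
    (hA : σ ∈ normalizer (L.A : Set G)) (hY : ∀ w ∈ L.Y, Commute w σ → w = 1)
    (hfp : ∀ j ∈ L.J, j⁻¹ * (σ⁻¹ * j * σ) ∈ L.Z → j ∈ L.Z) : False := by
  obtain ⟨M, J, eA, -, -, eS, -, eJ, eZ, -, -, -, -, H, -⟩ := L.jd
  obtain ⟨YZ, ZA, AJ, Y1, J1J, -, tn, cn, -, dJ, -⟩ := L.le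
  have ZY : L.Z = L.Y := le_antisymm (fun w hw => by
    obtain ⟨v, hv, e⟩ := L.mem_Z.1 hw
    rw [h1, L.ind.2.2.2.2 h1] at e
    simp only [one_mul, or_self] at e
    exact e ▸ hv) YZ
  have JJ1 : L.J ≤ L.J1 := fun j hj => by
    obtain ⟨k, hk, w, hw, rfl⟩ := dJ j hj
    exact mul_mem hk (Y1 (ZY ▸ hw))
  obtain ⟨-, -, -, -, -, -, -, -, cy, cz, -, cc, -⟩ := L.rel
  have hR : R J σ⁻¹ := by
    refine ⟨eJ ▸ inv_mem hJ, fun j hj => q_of (H h) (eJ ▸ inv_mem hJ) (eA ▸ inv_mem hA)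
      (fun j hj e => ?_) hj, fun w hw => z_of L.cen.2.2.2.2 (fun w hw => L.el w (ZA (YZ hw)))
      (inv_mem (L.nZ hJ).2) (fun w hw c => hY w hw (by simpa using c)) (ZY ▸ eZ ▸ hw)⟩
    rw [eZ] at e ⊢
    exact hfp j (eJ ▸ hj) (by simpa using e)
  obtain ⟨j, hj, e⟩ := main (J := J) (by rw [eS, eJ]; exact L.nJ) hR (u := L.cs)
    (eJ ▸ L.nJ (mul_mem L.cS (pow_mem L.tS _))) (fun w hw => by
      rw [eZ, ZY] at hw
      rcases L.mem_Y.1 hw with rfl | rfl | rfl | rfl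
      exacts [Commute.one_right _, cy.symm, cz.symm, (cy.mul_left cz).symm])
    (by
      rw [eJ, cc]
      exact J1J (mul_mem (subset_closure (by simp)) (subset_closure (by simp))))
  exact L.no_inv (JJ1 (eJ ▸ hj)) e

theorem t1b_of (hσ : ∃ σ ∈ normalizer (L.J : Set G), σ ∈ normalizer (L.A : Set G) ∧
    Commute F.s σ ∧ Commute L.m σ ∧ (∀ w ∈ L.Y, Commute w σ → w = 1) ∧
    ∀ j ∈ L.J, j⁻¹ * (σ⁻¹ * j * σ) ∈ L.Z → j ∈ L.Z) (h : L.β = 1) (h1 : F.s = 1) : False := by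
  obtain ⟨σ, hJ, hA, -, -, hY, hfp⟩ := hσ
  exact L.t1b0 h h1 σ hJ hA hY hfp

end CL.H3.Lj
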