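import Cfsg.Agent.INV.H3.LT1a
import Cfsg.Agent.INV.H3.LT1b

/-! S3140: `β = 1` is impossible (`sigma`, `t1a` are in `LT1a`). -/

set_option autoImplicit false
open Subgroup

namespace CL.H3.Lj
open CL.HL
variable {G : Type*} [Group G] [Finite G] {F : Fr G} (L : Lj F)

theorem t1b (h : L.β = 1) (h1 : F.s = 1) : False := L.t1b_of (L.sigma h) h h1

end CL.H3.Lj
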