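import Cfsg.Agent.INV.H3.LB

/-! S3140: `β = 1`, the element `σ` and the case `s ≠ 1`.
`x ^ g = g⁻¹ * x * g`. -/

set_option autoImplicit false
open Subgroup

namespace CL.H3.T1x

/-- coordinates of `z, d, y, x` -/
abbrev W := ZMod 2 × ZMod 2 × ZMod 2 × ZMod 2

def lin (p q r u v : W) : W := v.1 • p + v.2.1 • q + v.2.2.1 • r + v.2.2.2 • u
def mR (v : W) : W := (v.2.1, v.1 + v.2.1, v.2.2.2, v.2.2.1 + v.2.2.2)
def mE (v : W) : W := (v.1 + v.2.1, v.2.1, v.2.2.1 + v.2.2.2, v.2.2.2)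
def mF (a : ZMod 2) (v : W) : W :=
  (v.1 + a * v.2.1 + v.2.2.2, v.2.1, v.2.2.1 + v.2.1 + (a + 1) * v.2.2.2, v.2.2.2)
def ps (a : ZMod 2) (p : ZMod 2 × ZMod 2) (v : W) : W :=
  (v.1 + (p.1 + p.2 * a) * v.2.1 + p.2 * v.2.2.2, v.2.1,
    v.2.2.1 + p.2 * v.2.1 + (p.1 + p.2 * (a + 1)) * v.2.2.2, v.2.2.2)
def mS (a : ZMod 2) (v : W) : W :=
  if a = 0 then (v.2.1 + v.2.2.1 + v.2.2.2, v.2.1 + v.2.2.2, v.1 + v.2.1 + v.2.2.1, v.2.1)
  else (v.1 + v.2.2.1 + v.2.2.2, v.2.2.2, v.1 + v.2.1 + v.2.2.2, v.2.1 + v.2.2.2)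
def τ (p : ZMod 2 × ZMod 2) : ZMod 2 × ZMod 2 := (p.1 + p.2, p.1)

theorem linR : ∀ v, lin (0, 1, 0, 0) (1, 1, 0, 0) (0, 0, 0, 1) (0, 0, 1, 1) v = mR v := by decide
theorem linE : ∀ v, lin (1, 0, 0, 0) (1, 1, 0, 0) (0, 0, 1, 0) (0, 0, 1, 1) v = mE v := by decide
theorem linF : ∀ a v, lin (1, 0, 0, 0) (a, 1, 1, 0) (0, 0, 1, 0) (1, 0, a + 1, 1) v = mF a v := by
  decide
theorem R3 : ∀ v, mR (mR (mR v)) = v := by decide
theorem eqS : ∀ a v, mF a (mR (mF a (mR (mF a (mR (mR (mF a v))))))) = mS a v := by decide +kernel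
theorem S3 : ∀ a v, mS a (mS a (mS a v)) = v := by decide +kernel
theorem ps0 : ∀ a v, v = ps a 0 v := by decide
theorem psE : ∀ a v, mE v = ps a (1, 0) v := by decide
theorem psF : ∀ a v, mF a v = ps a (0, 1) v := by decide
theorem ps_add : ∀ a p q v, ps a q (ps a p v) = ps a (p + q) v := by decide +kernel
theorem ps_ps : ∀ a p v, ps a p (ps a p v) = v := by decide +kernel
theorem psS : ∀ a p v, mS a (ps a p (mS a (mS a v))) = ps a (τ p) v := by decide +kernel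
theorem ps_inj : ∀ a p q, (∀ v, ps a p v = ps a q v) → p = q := by decide +kernel
theorem τ_fix : ∀ p q : ZMod 2 × ZMod 2, q + (p + q + p) = 0 ∧ (q + τ q = 0 → q = 0) := by decide
theorem fixY : ∀ a p v, v.2.1 = 0 → v.2.2.2 = 0 → mS a (ps a p v) = v → v = 0 := by decide +kernel
theorem fixA : ∀ a p v, (v + mS a (ps a p v)).2.1 = 0 → (v + mS a (ps a p v)).2.2.2 = 0 →
    v.2.1 = 0 ∧ v.2.2.2 = 0 := by decide +kernel

open CL.HL CL.HL.Jm
variable {G : Type*} [Group G] {F : Fr G} (L : Lj F)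

theorem gA : F.s ∈ L.A ∧ L.m ∈ L.A ∧ F.z ∈ L.A ∧ F.d ∈ L.A ∧ L.y ∈ L.A ∧ L.x ∈ L.A := by
  rw [L.hA]
  refine ⟨?_, ?_, ?_, ?_, ?_, ?_⟩ <;> exact subset_closure (by simp)

def w (v : W) : G := pw F.z v.1 * pw F.d v.2.1 * pw L.y v.2.2.1 * pw L.x v.2.2.2

theorem w_mem (v : W) : w L v ∈ L.A := by
  obtain ⟨-, -, hz, hd, hy, hx⟩ := gA L
  exact mul_mem (mul_mem (mul_mem (pw_mem hz _) (pw_mem hd _)) (pw_mem hy _)) (pw_mem hx _)

theorem cA {a b : G} (ha : a ∈ L.A) (hb : b ∈ L.A) : Commute a b := CL.HL.comm_of_el L.el ha hb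

theorem w_add (u v : W) : w L (u + v) = w L u * w L v := by
  obtain ⟨-, -, hz, hd, hy, hx⟩ := gA L
  have key : ∀ a a' b b' : G, a' ∈ L.A → b ∈ L.A → a * a' * (b * b') = a * b * (a' * b') :=
    fun a a' b b' h1 h2 => by
      rw [mul_assoc, ← mul_assoc a', (cA L h1 h2).eq]; simp only [mul_assoc]
  simp only [w, Prod.fst_add, Prod.snd_add, pw_add (L.el _ hz), pw_add (L.el _ hd),
    pw_add (L.el _ hy), pw_add (L.el _ hx)]
  rw [key _ _ _ _ (pw_mem hz _) (pw_mem hd _),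
    key _ _ _ _ (mul_mem (pw_mem hz _) (pw_mem hd _)) (pw_mem hy _),
    key _ _ _ _ (mul_mem (mul_mem (pw_mem hz _) (pw_mem hd _)) (pw_mem hy _)) (pw_mem hx _)]

theorem w_zero : w L 0 = 1 := by simp [w]

theorem w_smul (n : ZMod 2) (v : W) : w L (n • v) = pw (w L v) n := by
  rcases z2 n with rfl | rfl <;> simp [w_zero]

theorem cj_pw (g a : G) (n : ZMod 2) : g⁻¹ * pw a n * g = pw (g⁻¹ * a * g) n := by
  rcases z2 n with rfl | rfl <;> simp

/-- `g` centralises `s, m` and acts on `⟨z, d, y, x⟩` as `φ`. -/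
def Act (g : G) (φ : W → W) : Prop :=
  Commute F.s g ∧ Commute L.m g ∧ ∀ v, g⁻¹ * w L v * g = w L (φ v)

variable {L}

theorem act_lin {g : G} {p q r u : W} (hs : Commute F.s g) (hm : Commute L.m g)
    (hz : g⁻¹ * F.z * g = w L p) (hd : g⁻¹ * F.d * g = w L q) (hy : g⁻¹ * L.y * g = w L r)
    (hx : g⁻¹ * L.x * g = w L u) : Act L g (lin p q r u) := ⟨hs, hm, fun v => by
  rw [lin, w_add, w_add, w_add, w_smul, w_smul, w_smul, w_smul, ← hz, ← hd, ← hy, ← hx, ← cj_pw,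
    ← cj_pw, ← cj_pw, ← cj_pw, w, Fr.cj_mul, Fr.cj_mul, Fr.cj_mul]⟩

theorem Act.congr {g : G} {φ ψ : W → W} (h : Act L g φ) (e : ∀ v, φ v = ψ v) : Act L g ψ :=
  ⟨h.1, h.2.1, fun v => e v ▸ h.2.2 v⟩

theorem Act.mul {g k : G} {φ ψ : W → W} (h : Act L g φ) (h' : Act L k ψ) :
    Act L (g * k) fun v => ψ (φ v) := ⟨h.1.mul_right h'.1, h.2.1.mul_right h'.2.1, fun v => by
  rw [← h'.2.2, ← h.2.2]; group⟩

theorem Act.inv {g : G} {φ ψ : W → W} (h : Act L g φ) (e : ∀ v, φ (ψ v) = v) : Act L g⁻¹ ψ :=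
  ⟨h.1.inv_right, h.2.1.inv_right, fun v => by
    have := h.2.2 (ψ v)
    rw [e] at this
    rw [← this]; group⟩

theorem act_cen {g : G} (h : ∀ a ∈ L.A, Commute a g) : Act L g fun v => v :=
  ⟨h _ (gA L).1, h _ (gA L).2.1, fun v => Fr.cj_fix (h _ (w_mem L v))⟩

theorem decA {a : G} (ha : a ∈ L.A) : ∃ u ∈ closure ({F.s, L.m} : Set G), ∃ v, a = u * w L v := by
  have hu : closure ({F.s, L.m} : Set G) ≤ L.A :=
    (closure_le _).2 (by rintro _ (rfl | rfl); exacts [(gA L).1, (gA L).2.1])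
  rw [L.hA] at ha
  induction ha using closure_induction with
  | mem x hx =>
    rcases hx with rfl | rfl | rfl | rfl | rfl | rfl
    · exact ⟨F.s, subset_closure (by simp), 0, by rw [w_zero, mul_one]⟩
    · exact ⟨L.m, subset_closure (by simp), 0, by rw [w_zero, mul_one]⟩
    · exact ⟨1, one_mem _, (1, 0, 0, 0), by simp [w]⟩
    · exact ⟨1, one_mem _, (0, 1, 0, 0), by simp [w]⟩
    · exact ⟨1, one_mem _, (0, 0, 1, 0), by simp [w]⟩
    · exact ⟨1, one_mem _, (0, 0, 0, 1), by simp [w]⟩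
  | one => exact ⟨1, one_mem _, 0, by rw [w_zero, mul_one]⟩
  | mul x y _ _ hx hy =>
    obtain ⟨u, h1, v, rfl⟩ := hx
    obtain ⟨u', h2, v', rfl⟩ := hy
    refine ⟨u * u', mul_mem h1 h2, v + v', ?_⟩
    rw [w_add, mul_assoc, ← mul_assoc (w L v), (cA L (w_mem L v) (hu h2)).eq]
    simp only [mul_assoc]
  | inv x _ hx =>
    obtain ⟨u, h1, v, rfl⟩ := hx
    exact ⟨u, h1, v, inv_of_sq (L.el _ (mul_mem (hu h1) (w_mem L v)))⟩

theorem Act.cu {g u : G} {φ : W → W} (h : Act L g φ) (hu : u ∈ closure ({F.s, L.m} : Set G)) :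
    Commute u g := by
  have : closure ({F.s, L.m} : Set G) ≤ centralizer {g} := (closure_le _).2 (by
    rintro _ (rfl | rfl)
    · exact mem_centralizer_singleton_iff.2 h.1.eq
    · exact mem_centralizer_singleton_iff.2 h.2.1.eq)
  exact mem_centralizer_singleton_iff.1 (this hu)

theorem Act.cen {g : G} {φ : W → W} (h : Act L g φ) (e : ∀ v, φ v = v) {a : G} (ha : a ∈ L.A) :
    Commute a g := by
  obtain ⟨u, hu, v, rfl⟩ := decA ha
  refine (h.cu hu).mul_left (Fr.comm_of_fix ?_)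
  rw [h.2.2, e]

variable [Finite G]

theorem Act.nA {g : G} {φ : W → W} (h : Act L g φ) : g ∈ normalizer (L.A : Set G) :=
  Fr.norm_of fun a ha => by
    obtain ⟨u, hu, v, rfl⟩ := decA ha
    rw [Fr.cj_mul, h.2.2, Fr.cj_fix (h.cu hu)]
    have : u * w L v * (w L v)⁻¹ ∈ L.A := mul_mem ha (inv_mem (w_mem L v))
    exact mul_mem (by simpa using this) (w_mem L _)

variable (L)

omit [Finite G] in
theorem gZ : F.s ∈ L.Z ∧ L.m ∈ L.Z ∧ L.y ∈ L.Z ∧ F.z ∈ L.Z := by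
  refine ⟨?_, ?_, ?_, ?_⟩ <;> exact subset_closure (by simp)

theorem w_Z {v : W} : w L v ∈ L.Z ↔ v.2.1 = 0 ∧ v.2.2.2 = 0 := by
  obtain ⟨-, -, hy, hz⟩ := gZ L
  obtain ⟨a, b, c, e⟩ := v
  have e1 : w L (a, b, c, e) = w L (0, b, 0, e) * w L (a, 0, c, 0) := by
    rw [← w_add]; simp
  have e2 : w L (a, 0, c, 0) ∈ L.Z := by
    simpa [w] using mul_mem (pw_mem hz a) (pw_mem hy c)
  constructor
  · intro h
    rw [e1, mul_mem_cancel_right e2] at h
    rcases z2 b with rfl | rfl <;> rcases z2 e with rfl | rfl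
    · exact ⟨rfl, rfl⟩
    · exact absurd (L.uniq (i := 0) (k := 1) (l := 0) (n := 0) (by omega) (by omega) (by omega)
        (by omega) (by simpa [w] using h)).2.1 (by omega)
    · exact absurd (L.uniq (i := 1) (k := 0) (l := 0) (n := 0) (by omega) (by omega) (by omega)
        (by omega) (by simpa [w] using h)).1 (by omega)
    · exact absurd (L.uniq (i := 1) (k := 1) (l := 0) (n := 0) (by omega) (by omega) (by omega)
        (by omega) (by simpa [w] using h)).1 (by omega)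
  · rintro ⟨rfl, rfl⟩
    exact e2

theorem w_inj {u v : W} (h : w L u = w L v) : u = v := by
  have h1 : w L (u + v) = 1 := by rw [w_add, h]; exact L.el _ (w_mem L v)
  have key : ∀ u v : W, u + v = 0 → u = v := by decide +kernel
  refine key _ _ ?_
  generalize u + v = k at h1
  obtain ⟨a, b, c, e⟩ := k
  obtain ⟨rfl, rfl⟩ : b = 0 ∧ e = 0 := (w_Z L).1 (h1 ▸ one_mem _)
  obtain ⟨y1, yz, -⟩ := L.ind
  rcases z2 a with rfl | rfl <;> rcases z2 c with rfl | rfl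
  · rfl
  · exact absurd (by simpa [w] using h1) y1
  · exact absurd (by simpa [w] using h1) F.z1
  · refine absurd ?_ yz
    have : F.z * L.y = 1 := by simpa [w] using h1
    rw [← inv_of_sq F.zz]; exact eq_inv_of_mul_eq_one_right this

theorem Act.uniq {g : G} {φ ψ : W → W} (h : Act L g φ) (h' : Act L g ψ) (v : W) : φ v = ψ v :=
  w_inj L ((h.2.2 v).symm.trans (h'.2.2 v))

omit [Finite G] in
theorem eJ : F.e ∈ L.J ∧ L.f ∈ L.J := by
  rw [L.hJ]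
  exact ⟨mem_sup_right (subset_closure (by simp)), mem_sup_right (subset_closure (by simp))⟩

omit [Finite G] in
theorem actR : Act L F.ρ mR := by
  obtain ⟨-, -, hz, hd, -, -⟩ := gA L
  refine (act_lin F.sρ L.ρm ?_ ?_ ?_ ?_).congr linR
  · simpa [w] using F.zρ'
  · simpa [w, (cA L hz hd).eq] using F.dρ'
  · simpa [w] using L.ρy
  · simpa [w] using L.ρx

omit [Finite G] in
theorem actE : Act L F.e mE := by
  obtain ⟨-, -, hz, hd, -, -⟩ := gA L
  refine (act_lin F.se L.em.symm ?_ ?_ ?_ ?_).congr linE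
  · simpa [w] using Fr.cj_fix F.ze
  · simpa [w, (cA L hz hd).eq, F.e_inv] using F.ede
  · simpa [w] using Fr.cj_fix L.ey.symm
  · simpa [w, F.e_inv] using L.ex

theorem actF (h : L.β = 1) : Act L L.f (mF L.α) := by
  obtain ⟨hs, hm, hy, hz⟩ := gZ L
  obtain ⟨-, -, az, ad, ay, ax⟩ := gA L
  obtain ⟨ff, -, -, -, fd, -⟩ := L.rel
  have fx := L.fx
  have fi := inv_of_sq ff
  have hf := (eJ L).2
  refine (act_lin (L.cenZ hs hf) (L.cenZ hm hf) ?_ ?_ ?_ ?_).congr (linF _)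
  · simpa [w] using Fr.cj_fix (L.cenZ hz hf)
  · rw [fi, fd]
    rcases L.hα with e | e <;> rw [e]
    · simp [w]
    · simp only [w, Nat.cast_one, pw_one, pw_zero, pow_one, mul_one]
      rw [(cA L ay az).eq, ← mul_assoc, (cA L ad az).eq]
  · simpa [w] using Fr.cj_fix (L.cenZ hy hf)
  · rw [fi, fx, h]
    rcases L.hα with e | e <;> rw [e]
    · simp only [w, Nat.cast_zero, zero_add, pw_one, pw_zero, pow_one, mul_one]
      rw [(cA L ax (mul_mem ay az)).eq, (cA L ay az).eq]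
    · have : (1 : ZMod 2) + 1 = 0 := rfl
      simp only [w, Nat.cast_one, this, pw_one, pw_zero, pow_one, mul_one]
      rw [show 1 + 1 = 2 from rfl, pow_two, L.el _ ay, one_mul, (cA L ax az).eq]

theorem act_ef (h : L.β = 1) (p : ZMod 2 × ZMod 2) :
    Act L (pw F.e p.1 * pw L.f p.2) (ps L.α p) := by
  obtain ⟨l, n⟩ := p
  have h0 : Act L 1 (ps L.α 0) := (act_cen fun a _ => Commute.one_right a).congr (ps0 _)
  have h1 := (actE L).congr (psE L.α)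
  have h2 := (actF L h).congr (psF L.α)
  rcases z2 l with rfl | rfl <;> rcases z2 n with rfl | rfl
  · rw [pw_zero, pw_zero, one_mul]; exact h0
  · simpa using h2
  · simpa using h1
  · simpa using (h1.mul h2).congr (ps_add _ _ _)

/-- The elements acting on `A` like an element of `⟨e, f⟩`. -/
def K : Subgroup G where
  carrier := {g | ∃ p, Act L g (ps L.α p)}
  one_mem' := ⟨0, (act_cen fun a _ => Commute.one_right a).congr (ps0 _)⟩
  mul_mem' := by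
    rintro _ _ ⟨p, hp⟩ ⟨q, hq⟩
    exact ⟨p + q, (hp.mul hq).congr (ps_add _ _ _)⟩
  inv_mem' := by
    rintro _ ⟨p, hp⟩
    exact ⟨p, hp.inv (ps_ps _ _)⟩

theorem J_K (h : L.β = 1) : L.J ≤ K L := by
  rw [L.hJ]
  refine sup_le (fun a ha => ⟨0, (act_cen fun b hb => cA L hb ha).congr (ps0 _)⟩)
    ((closure_le _).2 ?_)
  rintro _ (rfl | rfl)
  · exact ⟨_, (actE L).congr (psE L.α)⟩
  · exact ⟨_, (actF L h).congr (psF L.α)⟩

theorem memA_of {Q : Subgroup G} (hQ : IsPGroup 2 Q) (hA : L.A ≤ Q) {g : G} (hg : g ∈ Q)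
    (h : ∀ a ∈ L.A, Commute a g) : g ∈ L.A := by
  have h1 := L.sylA.inf_normal_of_le (N := centralizer (L.A : Set G))
    (normalizer_le_normalizer_centralizer _) (centralizer_le_normalizer _)
  have h2 : L.S ⊓ normalizer (L.A : Set G) ⊓ centralizer (L.A : Set G) ≤ L.A := fun x hx =>
    L.cen.1 x hx.1.1 fun a ha => (show Commute a x from hx.2 a ha).symm
  have h3 := h1.max (Q ⊓ centralizer (L.A : Set G)) (hQ.to_le inf_le_left)
    (le_inf (h2.trans hA) inf_le_right) inf_le_right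
  exact h2 (h3 ▸ (⟨hg, fun a ha => (h a ha).eq⟩ : g ∈ Q ⊓ centralizer (L.A : Set G)))

theorem sylK (h : L.β = 1) : MSS.SylIn 2 L.J (K L) := by
  refine ⟨J_K L h, L.syl.pgroup.to_le L.JS, fun Q hQ h1 h2 => le_antisymm (fun q hq => ?_) h1⟩
  obtain ⟨p, hp⟩ := h2 hq
  have hj : pw F.e p.1 * pw L.f p.2 ∈ L.J := mul_mem (pw_mem (eJ L).1 _) (pw_mem (eJ L).2 _)
  have hA := L.le.2.2.1
  have := memA_of L hQ (hA.trans h1) (mul_mem hq (h1 hj))
    fun a ha => (hp.mul (act_ef L h p)).cen (ps_ps _ _) ha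
  exact (mul_mem_cancel_right hj).1 (hA this)

theorem actS (h : L.β = 1) : Act L (L.f * F.ρ⁻¹ * L.f * F.ρ * L.f * F.ρ * L.f) (mS L.α) := by
  have r := actR L
  have f := actF L h
  have r' : Act L F.ρ⁻¹ fun v => mR (mR v) := r.inv R3
  exact ((((((f.mul r').mul f).mul r).mul f).mul r).mul f).congr (eqS _)

/-- Two fixed-point-free automorphisms of a four-group. -/
theorem fpf {g : G} (hn : g ∈ normalizer (L.Y : Set G)) (h : ∀ v ∈ L.Y, Commute v g → v = 1) :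
    (g⁻¹ * L.y * g = F.z ∧ g⁻¹ * F.z * g = L.y * F.z) ∨
      (g⁻¹ * L.y * g = L.y * F.z ∧ g⁻¹ * F.z * g = L.y) := by
  obtain ⟨y1, yz, -⟩ := L.ind
  obtain ⟨-, -, az, -, ay, -⟩ := gA L
  have hy : L.y ∈ L.Y := L.mem_Y.2 (by simp)
  have hz : F.z ∈ L.Y := L.mem_Y.2 (by simp)
  have yz1 : L.y * F.z ≠ 1 := fun e => yz (by
    rw [← inv_of_sq F.zz]; exact eq_inv_of_mul_eq_one_left e)
  have n1 : g⁻¹ * L.y * g ≠ L.y := fun e => y1 (h _ hy (Fr.comm_of_fix e))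
  have n2 : g⁻¹ * F.z * g ≠ F.z := fun e => F.z1 (h _ hz (Fr.comm_of_fix e))
  have n3 : g⁻¹ * L.y * g * (g⁻¹ * F.z * g) ≠ L.y * F.z := fun e =>
    yz1 (h _ (mul_mem hy hz) (Fr.comm_of_fix (by rw [Fr.cj_mul, e])))
  have n4 : g⁻¹ * L.y * g ≠ g⁻¹ * F.z * g := fun e => yz (by simpa using e)
  rcases L.mem_Y.1 (norm_cj hn hy) with e | e | e | e
  · exact absurd (cj_eq_one.1 e) y1
  · exact absurd e n1
  · rcases L.mem_Y.1 (norm_cj hn hz) with e' | e' | e' | e'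
    · exact absurd (cj_eq_one.1 e') F.z1
    · exact absurd (by rw [e, e', (cA L az ay).eq]) n3
    · exact absurd e' n2
    · exact .inl ⟨e, e'⟩
  · rcases L.mem_Y.1 (norm_cj hn hz) with e' | e' | e' | e'
    · exact absurd (cj_eq_one.1 e') F.z1
    · exact .inr ⟨e, e'⟩
    · exact absurd e' n2
    · exact absurd (e.trans e'.symm) n4

end CL.H3.T1x

namespace CL.H3.Lj
open CL.HL CL.HL.Jm T1x
variable {G : Type*} [Group G] [Finite G] {F : Fr G} (L : Lj F)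

/-- `g = f ρ f`, `σ0 = g⁻¹ ρ g ∈ N(A)` centralises `s, m`; on `A` (checked by machine):
`α = 0`: `z ↦ y`, `d ↦ z d y x`, `y ↦ z y`, `x ↦ z d`; `α = 1`: `z ↦ z y`, `d ↦ y x`, `y ↦ z`,
`x ↦ z d y x`; `e ^ σ0` acts on `A` as `e f`, `f ^ σ0` as `e`. So `σ0` normalises
`K = J ⊔ C(A)`. `A` is Sylow in `C(A)` (`sylA`, `cen`), so `J` is Sylow in `K`; `HS8.frattini`
gives `σ ∈ K σ0` normalising `J`. -/
theorem sigma (h : L.β = 1) : ∃ σ ∈ normalizer (L.J : Set G), σ ∈ normalizer (L.A : Set G) ∧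
    Commute F.s σ ∧ Commute L.m σ ∧ (∀ w ∈ L.Y, Commute w σ → w = 1) ∧
    ∀ j ∈ L.J, j⁻¹ * (σ⁻¹ * j * σ) ∈ L.Z → j ∈ L.Z := by
  have h0 := actS L h
  set σ0 := L.f * F.ρ⁻¹ * L.f * F.ρ * L.f * F.ρ * L.f
  have h0' : Act L σ0⁻¹ fun v => mS L.α (mS L.α v) := h0.inv (S3 _)
  have nK : σ0 ∈ normalizer (K L : Set G) := Fr.norm_of fun g ⟨p, hp⟩ =>
    ⟨τ p, ((h0'.mul hp).mul h0).congr (psS _ _)⟩
  obtain ⟨n, hn, σ, hσ, e⟩ := (sylK L h).frattini nK
  obtain ⟨p, hp⟩ := inv_mem hn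
  have eσ : σ = n⁻¹ * σ0 := by rw [e, inv_mul_cancel_left]
  have h1 : Act L σ fun v => mS L.α (ps L.α p v) := eσ ▸ hp.mul h0
  refine ⟨σ, hσ, h1.nA, h1.1, h1.2.1, fun y hy hc => ?_, fun j hj hz => ?_⟩
  · obtain ⟨v, h2, h3, rfl⟩ : ∃ v : W, v.2.1 = 0 ∧ v.2.2.2 = 0 ∧ y = w L v := by
      obtain ⟨-, -, az, -, ay, -⟩ := gA L
      rcases L.mem_Y.1 hy with rfl | rfl | rfl | rfl
      · exact ⟨0, rfl, rfl, (w_zero L).symm⟩
      · exact ⟨(0, 0, 1, 0), rfl, rfl, by simp [w]⟩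
      · exact ⟨(1, 0, 0, 0), rfl, rfl, by simp [w]⟩
      · exact ⟨(1, 0, 1, 0), rfl, rfl, by simp [w, (cA L ay az).eq]⟩
    rw [fixY _ p v h2 h3 (w_inj L ((h1.2.2 v).symm.trans (Fr.cj_fix hc))), w_zero]
  · obtain ⟨q, hq⟩ := J_K L h hj
    obtain ⟨p', hp'⟩ := hn
    have hZA := L.le.2.1
    have h2 : Act L (j⁻¹ * (σ0⁻¹ * (n * j * n⁻¹) * σ0)) (ps L.α (q + τ (p' + q + p))) :=
      ((hq.inv (ps_ps _ _)).mul (((h0'.mul (((hp'.mul hq).congr (ps_add _ _ _)).mul hp |>.congr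
        (ps_add _ _ _))).mul h0).congr (psS _ _))).congr (ps_add _ _ _)
    have e2 : σ0⁻¹ * (n * j * n⁻¹) * σ0 = σ⁻¹ * j * σ := by rw [eσ]; group
    rw [e2] at h2
    have pp : p' = p := ps_inj _ _ _ (Act.uniq L hp' (by simpa using hp.inv (ps_ps _ _)))
    have h3 := ps_inj _ _ _ (Act.uniq L h2 ((act_cen fun a ha => cA L ha (hZA hz)).congr (ps0 _)))
    have h4 : p + q + p = q := by
      have := (τ_fix p q).1
      have k : ∀ a b : ZMod 2 × ZMod 2, a + b = 0 → b = a := by decide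
      exact k _ _ this
    rw [pp, h4] at h3
    have h5 := (τ_fix p q).2 h3
    subst h5
    have jA : j ∈ L.A := L.cen.1 j (L.JS hj) fun a ha =>
      (hq.cen (fun v => (ps0 _ v).symm) ha).symm
    obtain ⟨u, hu, v, rfl⟩ := decA jA
    have uZ : u ∈ L.Z := (closure_le (K := L.Z)).2
      (by rintro _ (rfl | rfl); exacts [(gZ L).1, (gZ L).2.1]) hu
    rw [Fr.cj_mul, h1.2.2, Fr.cj_fix (h1.cu hu), mul_inv_rev, mul_assoc, inv_mul_cancel_left,
      inv_of_sq (L.el _ (w_mem L v)), ← w_add, w_Z] at hz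
    exact mul_mem uZ ((w_Z L).2 (fixA _ p v hz.1 hz.2))

/-- `σ' = σ ^ c` normalises `J`, `A` (`N(J)` permutes `A, A'`: `T1.mapA`), fixes `s z`; `σ, σ'`
act on `Y` with order 3 and trivially on `Z / Y`. So `g = σ ^ ±1 σ'` centralises `Y`, and
`s ^ g = s v`, `1 ≠ v ∈ Y` (else `σ'` fixes `s`, `s z`, `z`). An odd power `g'` of `g` is a
2-element with the same properties. `S ∩ N(A) = J ∪ J t` is Sylow in `N(J) ∩ N(A)`; a conjugate
of `g'` lies in it, centralises `Y` and not `Z` (`nZ`); but `J` centralises `Z`, `y ^ t = y z`. -/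
theorem t1a (h : L.β = 1) (h2 : F.s ≠ 1) : False := by
  obtain ⟨σ, nJ, nA, hs, -, hY, -⟩ := L.sigma h
  obtain ⟨M, J, eA, -, -, -, eB, eJ, -, -, -, -, -, T1, -⟩ := L.jd
  have cJ : F.c ∈ normalizer (L.J : Set G) := L.nJ L.cS
  obtain ⟨σ', hσ'⟩ : ∃ σ', σ' = F.c * σ * F.c⁻¹ := ⟨_, rfl⟩
  have nJ' : σ' ∈ normalizer (L.J : Set G) := hσ' ▸ mul_mem (mul_mem cJ nJ) (inv_mem cJ)
  have nA' : σ' ∈ normalizer (L.A : Set G) := by
    rcases (T1 h).mapA (g := σ⁻¹) (eJ ▸ inv_mem nJ) (X := J.A') le_sup_right J.el' J.b1A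
      (fun hz => J.nb.1 hz.1) with k | k
    · refine absurd ?_ J.nb.1
      have := norm_cj (inv_mem nA) (eA ▸ k _ J.b1A)
      rw [eA]; simpa [mul_assoc] using this
    · refine Fr.norm_of fun a ha => ?_
      have := mem_cjs.1 (eB ▸ k _ (eB ▸ cj_cjs F.c ha))
      rw [hσ']; simpa [mul_assoc] using this
  have cY := (L.nZ cJ).2
  have hY' : ∀ v ∈ L.Y, Commute v σ' → v = 1 := fun v hv hc => by
    refine cj_eq_one.1 (hY _ (norm_cj cY hv) ?_)
    have := comm_cj hc F.c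
    rwa [show F.c⁻¹ * σ' * F.c = σ by rw [hσ']; group] at this
  have hz : F.z ∈ L.Y := L.mem_Y.2 (by simp)
  have hy : L.y ∈ L.Y := L.mem_Y.2 (by simp)
  obtain ⟨-, -, az, -, ay, -⟩ := gA L
  have sz : Commute (F.s * F.z) σ' := by
    have e1 : F.c * F.s * F.c⁻¹ = F.s * F.z := by
      have e2 := F.cr.sc h2
      have e3 : F.s = F.c⁻¹ * (F.s * F.z) * F.c := by
        rw [Fr.cj_mul, e2, Fr.cj_fix F.cr.zc, mul_assoc, F.zz, mul_one]
      conv_lhs => rw [e3]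
      group
    have := comm_cj hs F.c⁻¹
    rwa [inv_inv, e1, ← hσ'] at this
  obtain ⟨v, hv, v1, sv⟩ : ∃ v ∈ L.Y, v ≠ 1 ∧ σ'⁻¹ * F.s * σ' = F.s * v := by
    have m1 := norm_cj (L.nZ nJ').2 hz
    refine ⟨F.z * (σ'⁻¹ * F.z * σ')⁻¹, mul_mem hz (inv_mem m1), fun e => F.z1 (hY' _ hz
      (Fr.comm_of_fix (mul_inv_eq_one.1 e).symm)), ?_⟩
    have := Fr.cj_fix sz
    rw [Fr.cj_mul] at this
    rw [← mul_assoc, ← this, mul_inv_cancel_right]
  obtain ⟨g, gJ, gA, gy, gz, gs⟩ : ∃ g ∈ normalizer (L.J : Set G), g ∈ normalizer (L.A : Set G) ∧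
      Commute L.y g ∧ Commute F.z g ∧ g⁻¹ * F.s * g = F.s * v := by
    have k1 : ∀ a : G, (σ * σ')⁻¹ * a * (σ * σ') = σ'⁻¹ * (σ⁻¹ * a * σ) * σ' := fun a => by group
    have k2 : ∀ a b : G, σ⁻¹ * a * σ = b → σ'⁻¹ * a * σ' = b → Commute b (σ⁻¹ * σ') :=
      fun a b e1 e2 => Fr.comm_of_fix (by
        calc _ = σ'⁻¹ * (σ * b * σ⁻¹) * σ' := by group
          _ = _ := by rw [← e2]; conv_lhs => rw [e2, ← e1]
                      group)
    have s1 : (σ * σ')⁻¹ * F.s * (σ * σ') = F.s * v := by rw [k1, Fr.cj_fix hs, sv]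
    have s2 : (σ⁻¹ * σ')⁻¹ * F.s * (σ⁻¹ * σ') = F.s * v := by
      rw [← sv]; conv_rhs => rw [← Fr.cj_fix hs.inv_right]
      group
    have zi := F.zz
    have yi := L.el _ ay
    have zy := (cA L az ay).eq
    rcases fpf L (L.nZ nJ).2 hY with ⟨a1, a2⟩ | ⟨a1, a2⟩ <;>
      rcases fpf L (L.nZ nJ').2 hY' with ⟨b1, b2⟩ | ⟨b1, b2⟩
    · have c1 := k2 _ _ a1 b1
      have c2 := (k2 _ _ a2 b2).mul_left c1
      rw [mul_assoc, zi, mul_one] at c2
      exact ⟨_, mul_mem (inv_mem nJ) nJ', mul_mem (inv_mem nA) nA', c2, c1, s2⟩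
    · refine ⟨_, mul_mem nJ nJ', mul_mem nA nA', Fr.comm_of_fix ?_, Fr.comm_of_fix ?_, s1⟩
      · rw [k1, a1, b2]
      · rw [k1, a2, Fr.cj_mul, b1, b2, mul_assoc, zy, ← mul_assoc, yi, one_mul]
    · refine ⟨_, mul_mem nJ nJ', mul_mem nA nA', Fr.comm_of_fix ?_, Fr.comm_of_fix ?_, s1⟩
      · rw [k1, a1, Fr.cj_mul, b1, b2, ← mul_assoc, zy, mul_assoc, zi, mul_one]
      · rw [k1, a2, b1]
    · have c1 := k2 _ _ a2 b2
      have c2 := c1.mul_left (k2 _ _ a1 b1)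
      rw [← mul_assoc, yi, one_mul] at c2
      exact ⟨_, mul_mem (inv_mem nJ) nJ', mul_mem (inv_mem nA) nA', c1, c2, s2⟩
  have gY : ∀ u ∈ L.Y, Commute u g := fun u hu => by
    rcases L.mem_Y.1 hu with rfl | rfl | rfl | rfl
    exacts [Commute.one_left _, gy, gz, gy.mul_left gz]
  obtain ⟨n, k, ⟨n', rfl⟩, hk⟩ := exists_odd_pow g
  have vv : v * v = 1 := L.el _ (L.le.2.1 (L.le.1 hv))
  have gs' := pow_cj gs (gY v hv) (2 * n' + 1)
  rw [pow_succ v, pow_mul, pow_two v, vv, one_pow, one_mul] at gs'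
  set g' := g ^ (2 * n' + 1)
  have syl := L.sylA.of_le (K := normalizer (L.J : Set G) ⊓ normalizer (L.A : Set G))
    (inf_le_inf_right _ L.nJ) inf_le_right
  obtain ⟨x, hx, hle⟩ := syl.exists_conj_le (p2_zpowers hk)
    ((zpowers_le).2 ⟨pow_mem gJ _, pow_mem gA _⟩)
  have hm := hle (MSS.mem_cj'.2 ⟨g', mem_zpowers _, rfl⟩)
  obtain ⟨xZ, xY⟩ := L.nZ hx.1
  rcases L.nS _ hm.1 hm.2 with k | k
  · have := comm_cj (L.cenZ (norm_cj (inv_mem xZ) (gZ L).1) k) x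
    have c1 : Commute F.s g' := by simpa [mul_assoc] using this
    rw [Fr.cj_fix c1] at gs'
    exact v1 (by simpa using gs'.symm)
  · have c1 : Commute L.y (x * g' * x⁻¹) := by
      have := comm_cj ((gY _ (norm_cj xY hy)).pow_right (2 * n' + 1)) x⁻¹
      simpa [mul_assoc] using this
    have c2 := c1.inv_right.mul_right (L.cenZ (gZ L).2.2.1 k)
    rw [inv_mul_cancel_left] at c2
    have := L.ty
    rw [← c2.eq, mul_assoc, F.tt, mul_one] at this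
    exact F.z1 (by simpa using this.symm)

end CL.H3.Lj
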