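import Cfsg.Agent.INV.H3.LB
import Cfsg.Agent.INV.HL.LA3

/-! STUB (S3140, captain h73). Keep the statements verbatim. `β = 0`, `s ≠ 1`: weak closure and
control of fusion. `p = y`, `q = y z`, `x ^ g = g⁻¹ * x * g`. Use `Lj.jd` and the patterns
`act s p q` of `HL/LA2a` (`T2.pat`, `T2.sq_iff`, `T2.comm_z1`, `mem_of_pat`). -/

set_option autoImplicit false
set_option maxRecDepth 100000
set_option synthInstance.maxSize 2000
open Subgroup

namespace CL.H3.Lj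
open CL.HL
variable {G : Type*} [Group G] [Finite G] {F : Fr G} (L : Lj F)

namespace T2x
open Jm

theorem D0 : ∀ p q : Bool, (∀ v, (act true false false ∘ act false p q) v = (act false p q ∘ act true false false) v) →
    (¬ ∀ v, act false p q v = v) → p = true ∧ q = true := by decide +kernel

theorem D1 : ∀ s p q : Bool, (¬ ∀ v, act s p q v = v) → ∀ v, act s p q v = v → qq v = 0 → ∀ w, act s p q w = w →
    qq w = 0 → qq (v + w) = 0 → decide (v = 0) = decide (w = 0) → v + w = 0 := by decide +kernel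

theorem D2 : ∀ v, act false true true v = v → qq v = 0 → v = 0 := by decide +kernel

theorem D3 : ∀ s p q s' p' q' : Bool, (p, xor q s) = (p', xor q' s') → (∀ v, act s p q (act s p q v) = v) →
    (∀ v, act s' p' q' (act s' p' q' v) = v) → (∀ v, (act s' p' q' ∘ act s p q) ((act s' p' q' ∘ act s p q) v) = v) → ∀ v, (act s' p' q' ∘ act s p q) v = v := by
  decide +kernel

theorem D4 : ∀ s p q s' p' q' : Bool, (s || p || q) = (s' || p' || q') → (∀ v, act s p q (act s p q v) = v) →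
    (∀ v, act s' p' q' (act s' p' q' v) = v) → (∀ v, (act s' p' q' ∘ act s p q) ((act s' p' q' ∘ act s p q) v) = v) →
    (¬ ∀ v, act s p q v = act false true true v) → (¬ ∀ v, act s' p' q' v = act false true true v) →
    (¬ ∀ v, (act s' p' q' ∘ act s p q) v = act false true true v) → ∀ v, (act s' p' q' ∘ act s p q) v = v := by
  decide +kernel

theorem D5 : ∀ p q : Bool, (¬ ∀ v, act false p q v = v) → (∀ v, act false p q v = act false true true v) ∨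
    ∀ v, (((act true false false ∘ act false p q) ∘ act true false false) ∘ act false p q) v = act false true true v := by
  decide +kernel

/-- The four-bit model of `J` for `β = 0`. -/
structure Ap (L : Lj F) where
  cl : G → V
  zz : ZMod 2 × ZMod 2 → G
  mul : ∀ {j k}, j ∈ L.J → k ∈ L.J → cl (j * k) = cl j + cl k
  zero : ∀ {j}, j ∈ L.J → (j ∈ L.Z ↔ cl j = 0)
  sq : ∀ {j}, j ∈ L.J → j * j = zz (qq (cl j))
  one : ∀ {a}, zz a = 1 ↔ a = 0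
  z10 : zz (1, 0) = L.y
  z01 : zz (0, 1) = L.y * F.z
  z11 : zz (1, 1) = F.z
  pat' : ∀ {g}, g ∈ normalizer (L.J : Set G) → ∃ s p q, ∀ j ∈ L.J, cl (g⁻¹ * j * g) = act s p q (cl j)
  mem' : ∀ {g}, g ∈ L.S → (∀ j ∈ L.J, cl (g⁻¹ * j * g) = cl j) → g ∈ L.J
  surj : ∀ v, ∃ j ∈ L.J, cl j = v
  c0 : cl L.x = e0
  c1 : cl (F.e * L.b) = e1
  c2 : cl (L.x * F.d) = e2
  c3 : cl L.b = e3
  pt' : ∀ j ∈ L.J, cl (F.t⁻¹ * j * F.t) = act true false false (cl j)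

omit [Finite G] in
theorem mA : F.s ∈ L.A ∧ L.m ∈ L.A ∧ F.z ∈ L.A ∧ F.d ∈ L.A ∧ L.y ∈ L.A ∧ L.x ∈ L.A := by
  rw [L.hA]; refine ⟨?_, ?_, ?_, ?_, ?_, ?_⟩ <;> exact subset_closure (by simp)

omit [Finite G] in
theorem mZ : F.s ∈ L.Z ∧ L.m ∈ L.Z ∧ L.y ∈ L.Z ∧ F.z ∈ L.Z := by
  refine ⟨?_, ?_, ?_, ?_⟩ <;> exact subset_closure (by simp)

omit [Finite G] in
theorem mY : L.y ∈ L.Y ∧ F.z ∈ L.Y := by
  refine ⟨?_, ?_⟩ <;> exact subset_closure (by simp)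

omit [Finite G] in
theorem m1 : F.d ∈ L.J1 ∧ L.x ∈ L.J1 ∧ F.e ∈ L.J1 ∧ L.f ∈ L.J1 ∧ L.b ∈ L.J1 := by
  have he : F.e ∈ L.J1 := subset_closure (by simp)
  have hf : L.f ∈ L.J1 := subset_closure (by simp)
  exact ⟨subset_closure (by simp), subset_closure (by simp), he, hf, mul_mem (pow_mem he _) hf⟩

theorem ap (h : L.β = 0) : Nonempty (Ap L) := by
  obtain ⟨M, J, hA, ht, -, hS, -, hJ, hZ, a1, a2, b1, b2, -, H⟩ := L.jd
  have H := H h
  obtain ⟨-, -, r1, r2⟩ := L.rel0 h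
  have z10 : J.zz (1, 0) = L.y := by
    simp only [JD.zz, pw_zero, pw_one, mul_one, cc, a1, b2]; rw [← r1]; simp only [mul_assoc]
  have z01 : J.zz (0, 1) = L.y * F.z := by
    simp only [JD.zz, pw_zero, pw_one, one_mul, cc, a2, b1]
    rw [← r2, (Jm.comm_of_el L.el (mA L).2.2.2.1 (mA L).2.2.2.2.2).eq]; simp only [mul_assoc]
  refine ⟨⟨J.cl, J.zz, fun a b => J.cl_mul (hJ ▸ a) (hJ ▸ b), fun a => hZ ▸ J.memZ_iff (hJ ▸ a), fun a => H.sq (hJ ▸ a),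
    H.zz_eq_one, z10, z01, ?_, fun hg => ?_, fun hg k => ?_, fun v => hJ ▸ J.cl_surj v, a1 ▸ J.cl_a1, b2 ▸ J.cl_b2,
    a2 ▸ J.cl_a2, b1 ▸ J.cl_b1, fun j hj => ?_⟩⟩
  · rw [show ((1, 1) : ZMod 2 × ZMod 2) = (1, 0) + (0, 1) from rfl, J.zz_add, z10, z01, ← mul_assoc,
      L.el _ (mA L).2.2.2.2.1, one_mul]
  · obtain ⟨s, p, q, k⟩ := H.pat (hJ ▸ inv_mem hg)
    exact ⟨s, p, q, fun j hj => by simpa using k j (hJ ▸ hj)⟩
  · have := J.mem_of_pat (f := id) (show _ ∈ (J.S : Subgroup G) from hS ▸ inv_mem hg) (hJ ▸ L.nJ (inv_mem hg))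
      (fun j hj => by simpa using k j (hJ ▸ hj)) fun _ => rfl
    exact hJ ▸ inv_mem_iff.1 this
  · have := J.pat_t j (hJ ▸ hj)
    rwa [ht, inv_of_sq F.tt, ← show F.t⁻¹ * j * F.t = F.t * j * F.t by rw [inv_of_sq F.tt]] at this

variable {L} (A : Ap L) {g k j u w : G} {f f' : V → V}

/-- `g` normalises `J` and induces `f`. -/
def Ap.P (g : G) (f : V → V) : Prop :=
  g ∈ normalizer (L.J : Set G) ∧ ∀ j ∈ L.J, A.cl (g⁻¹ * j * g) = f (A.cl j)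

namespace Ap
omit [Finite G]

theorem pat (hg : g ∈ normalizer (L.J : Set G)) : ∃ s p q, A.P g (act s p q) :=
  let ⟨s, p, q, h⟩ := A.pat' hg; ⟨s, p, q, hg, h⟩

theorem pt : A.P F.t (act true false false) := ⟨L.nJ L.tS, A.pt'⟩

variable {A}

theorem P.mul (h1 : A.P g f) (h2 : A.P k f') : A.P (g * k) (f' ∘ f) :=
  ⟨mul_mem h1.1 h2.1, fun j hj => by
    rw [show (g * k)⁻¹ * j * (g * k) = k⁻¹ * (g⁻¹ * j * g) * k by group, h2.2 _ (norm_cj h1.1 hj), h1.2 j hj]; rfl⟩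

theorem P.uniq (h1 : A.P g f) (h2 : A.P g f') (v : V) : f v = f' v := by
  obtain ⟨j, hj, rfl⟩ := A.surj v
  rw [← h1.2 j hj, h2.2 j hj]

theorem P.congr (h1 : A.P g f) (h : ∀ v, f v = f' v) : A.P g f' := ⟨h1.1, fun j hj => (h1.2 j hj).trans (h _)⟩

theorem P.mem (h : A.P g f) (hS : g ∈ L.S) (hf : ∀ v, f v = v) : g ∈ L.J := A.mem' hS (h.congr hf).2

theorem P.cz (h : A.P g f) (v : V) : g⁻¹ * A.zz (qq v) * g = A.zz (qq (f v)) := by
  obtain ⟨j, hj, rfl⟩ := A.surj v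
  rw [← A.sq hj, ← h.2 j hj, ← A.sq (norm_cj h.1 hj), Fr.cj_mul]

theorem cl_inv (hj : j ∈ L.J) : A.cl j⁻¹ = A.cl j := by
  have := A.mul (inv_mem hj) hj
  rw [inv_mul_cancel, (A.zero (one_mem _)).1 (one_mem _)] at this
  exact (by decide +kernel : ∀ v w : V, 0 = v + w → v = w) _ _ this

theorem pid (hk : k ∈ L.J) : A.P k id := ⟨le_normalizer hk, fun j hj => by
  rw [A.mul (mul_mem (inv_mem hk) hj) hk, A.mul (inv_mem hk) hj, cl_inv hk]
  exact (by decide +kernel : ∀ v w : V, v + w + v = w) _ _⟩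

theorem P.of_mul (h1 : A.P g f) (h2 : A.P k f') (h : g * k ∈ L.J) (v : V) : f' (f v) = v :=
  (h1.mul h2).uniq (pid h) v

theorem P.fix (h : A.P g f) {v : V} (hv : qq (f v) = qq v) : Commute (A.zz (qq v)) g :=
  Fr.comm_of_fix (by rw [h.cz, hv])

end Ap

omit [Finite G] in
theorem csS : L.cs ∈ L.S := mul_mem L.cS (pow_mem L.tS _)

omit [Finite G] in
theorem Ap.sF {s p q : Bool} (h : A.P g (act s p q)) (hc : Commute L.y g) : s = false := by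
  cases s
  · rfl
  have := h.cz (e0 + e1)
  rw [(by decide : ∀ p q, qq (act true p q (e0 + e1)) = (0, 1)),
    show qq (e0 + e1) = (1, 0) from rfl, A.z10, A.z01, Fr.cj_fix hc] at this
  exact absurd (left_eq_mul.1 this) F.z1

theorem Ap.pcs : A.P L.cs (act false true true) := by
  obtain ⟨s, p, q, h⟩ := A.pat (L.nJ (csS (L := L)))
  obtain ⟨-, -, -, -, -, -, -, -, cy, -, ct, -⟩ := L.rel
  obtain rfl := A.sF h cy
  have h1 := (h.mul A.pt).uniq (ct.eq ▸ A.pt.mul h)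
  have h2 : ¬ ∀ v, act false p q v = v := fun k => L.le.2.2.2.2.2.2.2.2.2.2.2.1 (h.mem csS k)
  obtain ⟨rfl, rfl⟩ := D0 p q h1 h2
  exact h

theorem Ap.mem_cs (h : A.P u (act false true true)) (hS : u ∈ L.S) : u * L.cs ∈ L.J :=
  (h.mul A.pcs).mem (mul_mem hS csS) (by decide +kernel)

theorem cj_cs (hu : u * L.cs ∈ L.J) (hw : w ∈ L.Z) : u⁻¹ * w * u = L.cs⁻¹ * w * L.cs := by
  have h1 := Fr.cj_fix (L.cenZ hw hu)
  have h2 := Fr.cj_fix (L.cenZ (norm_cj (L.nZ (L.nJ (csS (L := L)))).1 hw) (j := L.cs * L.cs)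
    (L.rel.2.2.2.2.2.2.2.2.2.2.2.1 ▸ L.le.2.2.2.2.1 (mul_mem (m1 L).1 (m1 L).2.2.1)))
  have h3 := Fr.cj_fix (L.cenZ hw (j := L.cs * L.cs)
    (L.rel.2.2.2.2.2.2.2.2.2.2.2.1 ▸ L.le.2.2.2.2.1 (mul_mem (m1 L).1 (m1 L).2.2.1)))
  calc _ = L.cs * ((u * L.cs)⁻¹ * w * (u * L.cs)) * L.cs⁻¹ := by group
    _ = L.cs * ((L.cs * L.cs)⁻¹ * w * (L.cs * L.cs)) * L.cs⁻¹ := by rw [h1, h3]
    _ = _ := by group

theorem not_cen (h2 : F.s ≠ 1) (hu : u * L.cs ∈ L.J) : ¬ Commute F.s u := fun k => by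
  have := cj_cs hu (mZ L).1
  rw [Fr.cj_fix k, L.rel.2.2.2.2.2.2.2.2.2.2.2.2 h2] at this
  exact F.z1 (left_eq_mul.1 this)

theorem cj_x (h : L.β = 0) (hw : w ∈ L.Z) : ∃ w' ∈ L.Z, IsConj w' (L.x * w) ∧ (w' ∈ L.Y → w ∈ L.Y) := by
  obtain ⟨ms, mm, mz, md, my, mx⟩ := mA L
  obtain ⟨zs, zm, zy, zz⟩ := mZ L
  have bJ := L.le.2.2.2.2.1 (m1 L).2.2.2.2
  have c := fun a b => HL.comm_of_el L.el (x := a) (y := b)
  obtain ⟨xb, -, -, r⟩ := L.rel0 h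
  have bb := L.rel.2.2.2.2.2.1
  have bdx : L.b⁻¹ * (L.x * F.d) * L.b = L.x * F.d * (L.y * F.z) := by
    rw [← r, ← (c _ _ md mx).eq, inv_of_sq bb]
    calc _ = F.d * L.x * (F.d * L.x) * (L.b * (F.d * L.x) * L.b) := by rw [L.el _ (mul_mem md mx), one_mul]
      _ = _ := by simp only [mul_assoc]
  let ρ := F.ρ * L.b * F.ρ
  have cj : ∀ a, ρ⁻¹ * a * ρ = F.ρ⁻¹ * (L.b⁻¹ * (F.ρ⁻¹ * a * F.ρ) * L.b) * F.ρ := fun a => by simp only [ρ]; group
  have h1 : ρ⁻¹ * L.y * ρ = L.y * L.x := by rw [cj, L.ρy, Fr.cj_fix xb, L.ρx]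
  have h2 : ρ⁻¹ * L.x * ρ = L.y := by
    rw [cj, L.ρx, Fr.cj_mul L.b, Fr.cj_fix xb, Fr.cj_fix (L.cenZ zy bJ), Fr.cj_mul, L.ρx, L.ρy, ← mul_assoc,
      (c _ _ mx my).eq, mul_assoc, L.el _ mx, mul_one]
  have h3 : Commute (L.y * F.z) ρ := Fr.comm_of_fix (by
    rw [cj, Fr.cj_mul F.ρ L.y, L.ρy, F.zρ', bdx]
    simp only [Fr.cj_mul F.ρ, L.ρx, L.ρy, F.zρ', F.dρ']
    calc _ = L.y * (L.x * (F.d * F.z) * (L.x * F.d)) := by simp only [mul_assoc]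
      _ = L.y * (F.z * (L.x * F.d * (L.x * F.d))) := by
        rw [← (c _ _ mz md).eq, ← mul_assoc L.x, ← (c _ _ mz mx).eq]; simp only [mul_assoc]
      _ = _ := by rw [L.el _ (mul_mem mx md), mul_one])
  have h4 : Commute F.s ρ := (F.sρ.mul_right (L.cenZ zs bJ)).mul_right F.sρ
  have h5 : Commute L.m ρ := (L.ρm.mul_right (L.cenZ zm bJ)).mul_right L.ρm
  have yy := L.el _ my
  have key : ∀ a ∈ L.Z, Commute a ρ → ∀ v ∈ L.Y,
      ∃ w' ∈ L.Z, IsConj w' (L.x * (a * v)) ∧ (w' ∈ L.Y → a * v ∈ L.Y) := fun a ha ca v hv => by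
    have k1 : ∀ b ∈ L.Z, Commute b ρ → IsConj (L.y * b) (L.x * b) ∧ IsConj (L.y * b) (L.x * (L.y * b)) := fun b _ cb =>
      ⟨(Fr.icj ρ (by rw [Fr.cj_mul, h2, Fr.cj_fix cb])).symm,
        Fr.icj ρ (by rw [Fr.cj_mul, h1, Fr.cj_fix cb, ← mul_assoc, (c _ _ my mx).eq])⟩
    have ay := (c _ _ (L.le.2.1 ha) my).eq
    have k2 : ∀ b, L.y * b ∈ L.Y → b ∈ L.Y := fun b => (L.Y.mul_mem_cancel_left (mY L).1).1
    rcases L.mem_Y.1 hv with rfl | rfl | rfl | rfl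
    · exact ⟨_, mul_mem zy ha, by simpa using (k1 a ha ca).1, by simpa using k2 a⟩
    · exact ⟨_, mul_mem ha zy, ay ▸ (k1 a ha ca).2, id⟩
    · have e : a * F.z = L.y * (a * (L.y * F.z)) := by rw [← mul_assoc, ← ay, mul_assoc, ← mul_assoc L.y, yy, one_mul]
      exact ⟨_, mul_mem ha zz, e ▸ (k1 _ (mul_mem ha (mul_mem zy zz)) (ca.mul_left h3)).2, id⟩
    · exact ⟨_, mul_mem zy (mul_mem ha (mul_mem zy zz)), (k1 _ (mul_mem ha (mul_mem zy zz)) (ca.mul_left h3)).1, k2 _⟩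
  obtain ⟨v, hv, rfl | rfl | rfl | rfl⟩ := L.mem_Z.1 hw
  exacts [by simpa using key 1 (one_mem _) (Commute.one_left _) _ hv, key _ zs h4 v hv, key _ zm h5 v hv,
    key _ (mul_mem zs zm) (h4.mul_left h5) v hv]

theorem norm_of_cjs {H : Subgroup G} (h : cjs H g ≤ H) : g ∈ normalizer (H : Set G) :=
  mem_normalizer_iff.2 fun x => by rw [← mem_cjs, eq_of_le_of_card_ge h (card_cjs _ _).ge]

theorem D6 : ∀ s p q : Bool, act s p q e0 = e0 ∨ act true false false (act s p q e0) = e0 ∨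
    act false true true (act s p q e0) = e0 ∨ (act false true true ∘ act true false false) (act s p q e0) = e0 := by
  decide +kernel

theorem D7 : ∀ s p q s' p' q' : Bool, (∀ v, act s' p' q' (act s p q v) = v) →
    ∀ v, ((act s' p' q' ∘ act false true true ∘ act s p q) ∘ act false true true) v = id v := by decide +kernel

theorem D8 : ∀ s p q : Bool, act s p q e0 = e1 → act s p q e3 = e3 → ∀ v, act s p q v = act false true false v := by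
  decide +kernel

theorem D9 : ∀ s p q : Bool, (∀ v, act false true false (act s p q v) = v) → ∀ v, act s p q v = act false true false v := by
  decide +kernel

theorem D10 : ∀ s p q : Bool, (∀ v, act false true true (act s p q v) = v) → ∀ v, act s p q v = act false true true v := by
  decide +kernel

theorem D11 : ∀ v w : V, (v = e2 ∨ v = e2 + (e0 + e1)) → (w = e3 ∨ w = e3 + (e0 + e1)) →
    qq v = (1, 0) ∨ qq w = (1, 0) ∨ qq (v + w) = (0, 1) := by decide +kernel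

omit [Finite G] in
/-- `r = x x ^ u`. -/
theorem Ap.r1 (h : A.P u f) (hf : f e0 = e1) (uu : u * u = 1) (xJ : L.x ∈ L.J) : ∃ r ∈ L.J, A.cl r = e0 + e1 ∧
    r * r = L.y ∧ u⁻¹ * r * u = r * L.y := by
  have m := norm_cj h.1 xJ
  have c : A.cl (L.x * (u⁻¹ * L.x * u)) = e0 + e1 := by rw [A.mul xJ m, h.2 _ xJ, A.c0, hf]
  have s := A.sq (mul_mem xJ m)
  rw [c, show qq (e0 + e1) = (1, 0) from rfl, A.z10] at s
  refine ⟨_, mul_mem xJ m, c, s, ?_⟩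
  have xx := L.el _ (mA L).2.2.2.2.2
  have : u⁻¹ * (L.x * (u⁻¹ * L.x * u)) * u = (L.x * (u⁻¹ * L.x * u))⁻¹ := by
    simp only [mul_inv_rev, inv_of_sq uu, inv_of_sq xx, mul_assoc, uu, mul_one]
  rw [this, inv_eq_iff_mul_eq_one, ← mul_assoc, s, L.el _ (mA L).2.2.2.2.1]

omit [Finite G] in
theorem cs_m (hm : L.m ≠ 1) : L.cs⁻¹ * L.m * L.cs = L.m * (L.y * F.z ^ L.α) := by
  obtain ⟨ms, mm, mz, md, my, mx⟩ := mA L
  have := L.cm hm
  rcases L.hα with e | e <;> simp only [cs, e, pow_zero, pow_one, mul_one] at this ⊢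
  · exact this
  · rw [show (F.c * F.t)⁻¹ * L.m * (F.c * F.t) = F.t⁻¹ * (F.c⁻¹ * L.m * F.c) * F.t by group, this, Fr.cj_mul, Fr.cj_mul,
      Fr.cj_fix F.ts.symm, inv_of_sq F.tt, L.ty, (L.tm.resolve_left fun k => hm k.1).2, mul_assoc L.m,
      (HL.comm_of_el L.el ms (mul_mem my mz)).eq, mul_assoc, mul_assoc, F.ss, mul_one]

theorem cY {v : G} (hv : v ∈ L.Y) : Commute v L.cs := by
  obtain ⟨-, -, -, -, -, -, -, -, cy, cz, -⟩ := L.rel
  rcases L.mem_Y.1 hv with rfl | rfl | rfl | rfl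
  exacts [Commute.one_left _, cy, cz, cy.mul_left cz]

theorem dl (h2 : F.s ≠ 1) (hw : w ∈ L.Z) : ∃ v ∈ L.Y, L.cs⁻¹ * w * L.cs = w * v ∧ (v = F.z → w * F.s ∈ L.Y) := by
  obtain ⟨my, mz⟩ := mY L
  obtain ⟨zs, zm, zy, zz⟩ := mZ L
  have c : ∀ {a b}, a ∈ L.Z → b ∈ L.Z → Commute a b := fun a b => HL.comm_of_el L.el (L.le.2.1 a) (L.le.2.1 b)
  have hs := L.rel.2.2.2.2.2.2.2.2.2.2.2.2 h2
  have key : ∀ a ∈ L.Z, ∀ u ∈ L.Y, L.cs⁻¹ * a * L.cs = a * u → (u = F.z → a = F.s) → ∀ v ∈ L.Y,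
      ∃ u ∈ L.Y, L.cs⁻¹ * (a * v) * L.cs = a * v * u ∧ (u = F.z → a * v * F.s ∈ L.Y) := fun a ha u hu e k v hv =>
    ⟨u, hu, by rw [Fr.cj_mul, e, Fr.cj_fix (cY hv), mul_assoc, (c (L.le.1 hu) (L.le.1 hv)).eq, mul_assoc], fun e => by
      rwa [k e, (c zs (L.le.1 hv)).eq, mul_assoc, F.ss, mul_one]⟩
  have k1 := key 1 (one_mem _) 1 (one_mem _) (by simp) fun e => absurd e.symm F.z1
  have k2 := key _ zs _ mz hs fun _ => rfl
  have n1 : L.y * F.z ^ L.α ≠ 1 ∧ L.y * F.z ^ L.α ≠ F.z := by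
    rcases L.hα with e | e <;> simp only [e, pow_zero, pow_one, mul_one]
    · exact ⟨L.ind.1, L.ind.2.1⟩
    · exact ⟨fun k => L.ind.2.1 ((eq_inv_of_mul_eq_one_left k).trans (inv_of_sq F.zz)),
        fun k => L.ind.1 (mul_eq_right.1 k)⟩
  have mu := mul_mem my (pow_mem mz L.α)
  obtain ⟨v, hv, e⟩ := L.mem_Z.1 hw
  by_cases hm : L.m = 1
  · rw [hm, mul_one] at e
    rcases e with rfl | rfl | rfl | rfl
    exacts [by simpa using k1 _ hv, k2 v hv, k1 v hv, k2 v hv]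
  rcases e with rfl | rfl | rfl | rfl
  · simpa using k1 _ hv
  · exact k2 v hv
  · exact key _ zm _ mu (cs_m hm) (fun e => absurd e n1.2) v hv
  · exact key _ (mul_mem zs zm) _ (mul_mem mz mu) (by
      rw [Fr.cj_mul, hs, cs_m hm, mul_assoc, ← mul_assoc F.z, (c zz zm).eq]; simp only [mul_assoc])
      (fun e => absurd (mul_eq_left.1 e) n1.1) v hv

/-- A 2-element with the trivial pattern centralises `Z`. -/
theorem Ap.two (h : A.P k id) {n : ℕ} (hk : k ^ 2 ^ n = 1) (hw : w ∈ L.Z) : Commute w k := by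
  obtain ⟨x, hx, e⟩ := (L.syl.of_le L.nJ le_top).exists_conj_le (p2_zpowers hk) (zpowers_le.2 h.1)
  obtain ⟨s, p, q, a⟩ := A.pat hx
  obtain ⟨s', p', q', b⟩ := A.pat (inv_mem hx)
  have := ((a.mul h).mul b).mem (e (MSS.conj_mem_cj (mem_zpowers k))) (a.of_mul b (by simp))
  simpa [mul_assoc] using comm_cj (L.cenZ (norm_cj (L.nZ (inv_mem hx)).1 hw) this) x

omit [Finite G] in
theorem sq_t (hu : IsConj F.t u) : u * u = 1 := by
  obtain ⟨g, rfl⟩ := isConj_iff.1 hu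
  rw [conj_mul, F.tt]; simp

end T2x

open T2x Jm

/-- `I = X ∩ J`, `|X : I| ≤ 4` (an elementary subgroup of `S / J ≤ D₈`), `|X| ≥ 4 |Z|`. The classes
of `I` form a subspace of classes with `qq = 0`, fixed by the patterns of `X`.
If `u ∈ X` lies in `cs J`: the fixed classes `e0 + e1, e2 + e3, sum` have non-trivial squares, so
`I ≤ C_Z(u) = C_Z(cs) ∌ s`, `|X| ≤ 4 |Z| / 2`. Otherwise `|X : I| ≤ 2`; let `u ∈ X \ J`. If `u`
swaps `p, q`, `I` has at most 2 classes and `|I ∩ Z| ≤ |Z| / 2`. If `u` swaps exactly one pair,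
`I` has at most two classes, so `u` centralises `Z`, so does `u u ^ t ∈ cs J`; absurd. -/
theorem wcE (h : L.β = 0) (h2 : F.s ≠ 1) {X : Subgroup G} (hX : X ≤ L.S) (el : ∀ x ∈ X, x * x = 1)
    (hc : Nat.card L.A ≤ Nat.card X) : X ≤ L.J := by
  obtain ⟨A⟩ := ap L h
  by_contra hn
  obtain ⟨u, hu, uJ⟩ := SetLike.not_le_iff_exists.1 hn
  choose! s p q hp using fun x (hx : x ∈ X) => A.pat (L.nJ (hX hx))
  have nu : ¬ ∀ v, act (s u) (p u) (q u) v = v := fun k => uJ ((hp u hu).mem (hX hu) k)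
  have h1 : 2 * Nat.card ↥(X ⊓ L.Z) ≤ Nat.card L.Z := by
    refine card_two_mul_le (lt_of_le_of_ne inf_le_right fun e => ?_)
    have hZ : L.Z ≤ X := e ▸ inf_le_left
    have cs := HL.comm_of_el el (hZ (mZ L).1) hu
    have pu := hp u hu
    have hs := A.sF pu (HL.comm_of_el el (hZ (mZ L).2.2.1) hu)
    rw [hs] at pu nu
    rcases D5 _ _ nu with k | k
    · exact not_cen h2 (A.mem_cs (pu.congr k) (hX hu)) cs
    · exact not_cen h2 (A.mem_cs ((pu.mul ((A.pt.mul pu).mul A.pt)).congr k)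
        (mul_mem (hX hu) (mul_mem (mul_mem L.tS (hX hu)) L.tS)))
        (cs.mul_right ((F.ts.symm.mul_right cs).mul_right F.ts.symm))
  have fx : ∀ i ∈ X, i ∈ L.J → qq (A.cl i) = 0 ∧ ∀ x ∈ X, act (s x) (p x) (q x) (A.cl i) = A.cl i := fun i hi hj =>
    ⟨A.one.1 (A.sq hj ▸ el i hi), fun x hx => by rw [← (hp x hx).2 i hj, Fr.cj_fix (HL.comm_of_el el hi hx)]⟩
  have pm := fun x hx y hy => (hp x hx).mul (hp y hy)
  have sq : ∀ {x f}, x ∈ X → A.P x f → ∀ v, f (f v) = v := fun hx k => k.of_mul k (el _ hx ▸ one_mem _)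
  have h3 : Nat.card X ≤ 4 * Nat.card ↥(X ⊓ L.Z) := by
    by_cases k : ∃ x ∈ X, A.P x (act false true true)
    · obtain ⟨x0, m0, k⟩ := k
      have := card_le_cover (X : Set G) (X ⊓ L.Z) (fun x => (p x, xor (q x) (s x))) fun x y e => by
        have m := mul_mem x.2 y.2
        have j := (pm _ x.2 _ y.2).mem (hX m) 
          (D3 _ _ _ _ _ _ e (sq x.2 (hp _ x.2)) (sq y.2 (hp _ y.2)) (sq m (pm _ x.2 _ y.2)))
        rw [inv_of_sq (el _ x.2)]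
        exact ⟨m, (A.zero j).2 (D2 _ (((hp x0 m0).uniq k _).symm.trans ((fx _ m j).2 x0 m0)) (fx _ m j).1)⟩
      simpa using this
    · push Not at k
      have h4 := card_le_cover (X : Set G) (X ⊓ L.J) (fun x => (s x || p x || q x)) fun x y e => by
        have m := mul_mem x.2 y.2
        rw [inv_of_sq (el _ x.2)]
        exact ⟨m, (pm _ x.2 _ y.2).mem (hX m) (D4 _ _ _ _ _ _ e (sq x.2 (hp _ x.2)) (sq y.2 (hp _ y.2))
          (sq m (pm _ x.2 _ y.2)) (fun a => k _ x.2 ((hp _ x.2).congr a)) (fun a => k _ y.2 ((hp _ y.2).congr a))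
          fun a => k _ m ((pm _ x.2 _ y.2).congr a))⟩
      have h5 := card_le_cover ((X ⊓ L.J : Subgroup G) : Set G) (X ⊓ L.Z) (fun x => decide (A.cl x = 0)) fun x y e => by
        have m := mul_mem x.2.1 y.2.1
        have j := mul_mem x.2.2 y.2.2
        rw [inv_of_sq (el _ x.2.1)]
        refine ⟨m, (A.zero j).2 ?_⟩
        rw [A.mul x.2.2 y.2.2]
        exact D1 _ _ _ nu _ ((fx _ x.2.1 x.2.2).2 u hu) (fx _ x.2.1 x.2.2).1 _ ((fx _ y.2.1 y.2.2).2 u hu)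
          (fx _ y.2.1 y.2.2).1 (A.mul x.2.2 y.2.2 ▸ (fx _ m j).1) e
      simp only [Nat.card_eq_fintype_card (α := Bool), Fintype.card_bool, SetLike.coe_sort_coe] at h4 h5
      omega
  have := L.cen.2.2.1
  have := Nat.card_pos (α := L.Z)
  omega

/-- `J = A ⊔ A ^ c`; `wcE`. -/
theorem wc (h : L.β = 0) (h2 : F.s ≠ 1) (g : G) (hg : cjs L.J g ≤ L.S) :
    g ∈ normalizer (L.J : Set G) := by
  obtain ⟨M, J, hA, -, -, -, hB, hJ, -⟩ := L.jd
  have key : ∀ k, cjs L.A k ≤ L.J → ∀ a ∈ cjs L.A k, g⁻¹ * a * g ∈ L.J := fun k hk a ha =>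
    L.wcE h h2 (X := cjs (cjs L.A k) g) ((map_mono hk).trans hg)
      (cjs_ind (p := fun x => x * x = 1) fun x hx => sq_cj (cjs_ind (p := fun x => x * x = 1)
        (fun x hx => sq_cj (L.el x hx) k) x hx) g) (by rw [card_cjs, card_cjs]) (cj_cjs g ha)
  have e : L.J = L.A ⊔ cjs L.A F.c := by rw [← hJ, ← hB, ← hA]
  have h1 : cjs L.J g ≤ L.J := cjs_ind fun j hj => by
    rw [← hJ] at hj
    obtain ⟨a, ha, b, hb, rfl⟩ := J.dec hj
    rw [Fr.cj_mul]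
    refine mul_mem (key 1 (cjs_ind fun y hy => by simpa using L.le.2.2.1 hy) a ?_) (key F.c (e ▸ le_sup_right) b (hB ▸ hb))
    exact mem_cjs.2 (by simpa [hA] using ha)
  exact norm_of_cjs h1

/-- `ctrlZ`; `N(J)` fixes `z = zz (qq (e0 + e1 + e2 + e3))` (`T2.pat`, `T2.conj_zz`) and
normalises `Y`; `q = p ^ t`. -/
theorem pz (h : L.β = 0) (h2 : F.s ≠ 1) : (∀ n ∈ normalizer (L.J : Set G), Commute F.z n) ∧
    ¬ IsConj F.z L.y ∧ ¬ IsConj F.z (L.y * F.z) ∧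
    ∀ w ∈ L.Z, ∀ v ∈ L.Y, IsConj v w → w ∈ L.Y := by
  obtain ⟨A⟩ := ap L h
  have h1 : ∀ n ∈ normalizer (L.J : Set G), Commute F.z n := fun n hn => by
    obtain ⟨s, p, q, k⟩ := A.pat hn
    exact A.z11 ▸ k.fix (v := e0 + e1 + e2 + e3) ((by decide : ∀ s p q, qq (act s p q (e0 + e1 + e2 + e3)) = _) s p q)
  have key : ∀ {v w}, v ∈ L.Z → w ∈ L.Z → IsConj v w → ∃ n ∈ normalizer (L.J : Set G), n⁻¹ * v * n = w :=
    fun hv hw k => by
      obtain ⟨g, e⟩ := isConj_iff.1 k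
      exact ctrlZ L.syl L.JS (L.wc h h2) (fun j => L.cenZ hv) (fun j => L.cenZ hw) (g := g⁻¹) (by rwa [inv_inv])
  obtain ⟨-, -, my, mz⟩ := mZ L
  refine ⟨h1, fun k => ?_, fun k => ?_, fun w hw v hv k => ?_⟩
  · obtain ⟨n, hn, e⟩ := key mz my k
    exact L.ind.2.1 (e ▸ Fr.cj_fix (h1 n hn))
  · obtain ⟨n, hn, e⟩ := key mz (mul_mem my mz) k
    rw [Fr.cj_fix (h1 n hn)] at e
    exact L.ind.1 (right_eq_mul.1 e)
  · obtain ⟨n, hn, rfl⟩ := key (L.le.1 hv) hw k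
    exact norm_cj (L.nZ hn).2 hv

/-- `ρ1 = ρ b ρ b` fixes `s, m, y z, d x` and maps `y ↦ y x`, `x ↦ y`. So `x w`, `w ∈ Z \ Y`, is
conjugate to an element of `Z \ Y`, so not to `p` (`pz`), while `x ~ p`. Conjugating by `t`, `c`,
`t c` we get the same for the classes of `d x`, `b`, `e b` (all four are conjugate to `p`). An
element of `N(J)` permutes the four classes (`T2.pat`). `J1 = ⟨x, d x, b, e b⟩`. -/
theorem nJ1 (h : L.β = 0) (h2 : F.s ≠ 1) : normalizer (L.J : Set G) ≤ normalizer (L.J1 : Set G) := by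
  obtain ⟨A⟩ := ap L h
  obtain ⟨md, mx, me, mf, -⟩ := m1 L
  obtain ⟨-, -, -, Y1, JJ, -, nt, nc, -⟩ := L.le
  have ncs : L.cs ∈ normalizer (L.J1 : Set G) := mul_mem nc (pow_mem nt _)
  have k0 : ∀ j ∈ L.J, A.cl j = e0 → IsConj L.y j → j ∈ L.J1 := fun j hj e k => by
    have hw : L.x⁻¹ * j ∈ L.Z := (A.zero (mul_mem (inv_mem (JJ mx)) hj)).2 (by
      rw [A.mul (inv_mem (JJ mx)) hj, Ap.cl_inv (JJ mx), A.c0, e]; rfl)
    obtain ⟨w, m, k1, k2⟩ := cj_x h hw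
    rw [mul_inv_cancel_left] at k1
    simpa using mul_mem mx (Y1 (k2 ((L.pz h h2).2.2.2 w m _ (mY L).1 (k.trans k1.symm))))
  have k1 : ∀ n ∈ normalizer (L.J : Set G), n⁻¹ * L.x * n ∈ L.J1 := fun n hn => by
    obtain ⟨s, p, q, k⟩ := A.pat hn
    have m := norm_cj hn (JJ mx)
    have c := (Fr.icj _ L.ρy).trans (Fr.icj n rfl)
    have e := k.2 _ (JJ mx)
    rw [A.c0] at e
    have k2 : ∀ {g f}, g ∈ normalizer (L.J1 : Set G) → A.P g f → f (act s p q e0) = e0 → n⁻¹ * L.x * n ∈ L.J1 :=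
      fun {g f} hg a b => by
        simpa [mul_assoc] using norm_cj (inv_mem hg)
          (k0 _ (norm_cj a.1 m) (by rw [a.2 _ m, e, b]) (c.trans (Fr.icj g rfl)))
    rcases D6 s p q with b | b | b | b
    exacts [k0 _ m (e.trans b) c, k2 nt A.pt b, k2 ncs A.pcs b, k2 (mul_mem nt ncs) (A.pt.mul A.pcs) b]
  intro n hn
  have t1 := k1 _ (mul_mem (L.nJ L.tS) hn)
  have t2 := k1 _ (mul_mem (L.nJ L.cS) hn)
  have t3 := k1 _ (mul_mem (L.nJ (mul_mem L.tS L.cS)) hn)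
  have cj : ∀ g, (g * n)⁻¹ * L.x * (g * n) = n⁻¹ * (g⁻¹ * L.x * g) * n := fun g => by group
  rw [cj, inv_of_sq F.tt, L.tx, Fr.cj_mul] at t1
  rw [cj, ← L.hf] at t2
  rw [cj, show (F.t * F.c)⁻¹ * L.x * (F.t * F.c) = F.c⁻¹ * (F.t⁻¹ * L.x * F.t) * F.c by group, inv_of_sq F.tt, L.tx,
    Fr.cj_mul F.c, ← L.hf, F.cr.dc, Fr.cj_mul, Fr.cj_mul, Fr.cj_fix ((L.pz h h2).1 n hn)] at t3
  refine norm_of_cjs (map_le_iff_le_comap.2 ((closure_le _).2 ?_))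
  have i : ∀ a, n⁻¹ * a * n ∈ L.J1 → a ∈ (L.J1.comap (MulAut.conj n⁻¹).toMonoidHom : Set G) := fun a ha => by
    simpa using ha
  rintro _ (rfl | rfl | rfl | rfl)
  exacts [i _ ((L.J1.mul_mem_cancel_left (k1 n hn)).1 t1), i _ (k1 n hn),
    i _ ((L.J1.mul_mem_cancel_right (Y1 (mY L).2)).1 ((L.J1.mul_mem_cancel_left t2).1 t3)), i _ t2]

/-- Clear if `m = 1`. Let `m ≠ 1`; `N(J)` acts on `Z / Y = ⟨s, m⟩`, `t` fixes `s` only. If the
claim fails, some `g ∈ N(J)` acts with order 3; replacing it by a power, `g` has odd order. Then `g`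
has the trivial pattern, fixes `p, q`, normalises `J1` (`nJ1`), so centralises `J1`. `K = N(J) ∩
C(J1)` is normal in `N(J)`; its 2-elements are conjugate into `S ∩ C(J1) ≤ J`, so centralise `Z`.
`g' = g ^ c ∈ K`; `k = g ^ ±1 g'` is trivial on `Z / Y` and `Y`, so `k²` centralises `Z`, an odd
power of `k` is a 2-element acting as `k`: `k` centralises `Z`. So `U = {w⁻¹ w ^ g | w ∈ Z}`, a
complement to `Y` in `Z`, is normalised by `c`, and `c` fixes the element of `U` in `s Y`; but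
`(s v) ^ c = s v` needs `v ^ c = v z`... use `cs` in place of `c`: it centralises `Y`. -/
theorem n3 (h : L.β = 0) (h2 : F.s ≠ 1) {n : G} (hn : n ∈ normalizer (L.J : Set G)) :
    n⁻¹ * F.s * n * F.s ∈ L.Y := by
  obtain ⟨A⟩ := ap L h
  have hw := norm_cj (L.nZ hn).1 (mZ L).1
  obtain ⟨v, hv, e, hz⟩ := dl h2 hw
  refine hz ?_
  obtain ⟨s, p, q, a⟩ := A.pat (inv_mem hn)
  obtain ⟨s', p', q', b⟩ := A.pat hn
  have pk := (A.pcs.mul ((a.mul A.pcs).mul b)).congr (D7 _ _ _ _ _ _ (a.of_mul b (by simp)))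
  have cv : ∀ u ∈ L.Y, Commute u (n⁻¹ * L.cs * n) := fun u hu => by
    simpa [mul_assoc] using comm_cj (cY (norm_cj (inv_mem (L.nZ hn).2) hu)) n
  set k := L.cs * (n⁻¹ * L.cs * n)
  have mu := mul_mem (mY L).2 hv
  have e1 : k⁻¹ * (n⁻¹ * F.s * n) * k = n⁻¹ * F.s * n * (F.z * v) := by
    calc _ = (n⁻¹ * L.cs * n)⁻¹ * (L.cs⁻¹ * (n⁻¹ * F.s * n) * L.cs) * (n⁻¹ * L.cs * n) := by simp only [k]; group
      _ = n⁻¹ * (L.cs⁻¹ * F.s * L.cs) * n * v := by rw [e, Fr.cj_mul, Fr.cj_fix (cv v hv)]; group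
      _ = _ := by rw [L.rel.2.2.2.2.2.2.2.2.2.2.2.2 h2, Fr.cj_mul, Fr.cj_fix ((L.pz h h2).1 n hn), mul_assoc]
  obtain ⟨N, r, ⟨N, rfl⟩, hk⟩ := exists_odd_pow k
  have pN : ∀ N : ℕ, A.P (k ^ N) id := fun N => by
    induction N with
    | zero => exact pow_zero k ▸ Ap.pid (one_mem _)
    | succ N ih => exact pow_succ k N ▸ ih.mul pk
  have e2 := pow_cj e1 ((cY mu).mul_right (cv _ mu)) (2 * N + 1)
  rw [Fr.cj_fix (A.two (pN _) hk hw), pow_succ, pow_mul, pow_two, L.el _ (L.le.2.1 (L.le.1 mu)), one_pow, one_mul] at e2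
  exact (eq_inv_of_mul_eq_one_right (left_eq_mul.1 e2)).trans (inv_of_sq F.zz)

/-- No conjugate `u` of `t` in `cs J` if `m ≠ 1`. `r1 = x x ^ u ∈ x e b Z` has `r1² = p`,
`r1 ^ u = r1⁻¹ = r1 p`; `w = m s ^ α` has `w ^ u = w ^ cs = w p`; so `r1 w` commutes with `u` and
has square `p`: `sqz`, `pz`. In particular `α = 0`: for `α = 1`, `t s d c ∈ cs J` is conjugate to
`t s` (`cj_sdc`), `t s = t ^ m`. -/
theorem noC (E : Ex F) (h : L.β = 0) (hm : L.m ≠ 1) :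
    (∀ u, u * L.cs ∈ L.J → ¬ IsConj F.t u) ∧ L.α = 0 := by
  obtain ⟨A⟩ := ap L h
  have h2 : F.s ≠ 1 := fun k => hm (L.ind.2.2.2.2 k)
  obtain ⟨zs, zm, zy, zz⟩ := mZ L
  have c : ∀ {a b}, a ∈ L.Z → b ∈ L.Z → Commute a b := fun a b => HL.comm_of_el L.el (L.le.2.1 a) (L.le.2.1 b)
  have key : ∀ u, u * L.cs ∈ L.J → ¬ IsConj F.t u := fun u hu k => by
    have uS : u ∈ L.S := (L.S.mul_mem_cancel_right csS).1 (L.JS hu)
    obtain ⟨s, p, q, a⟩ := A.pat (L.nJ uS)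
    obtain ⟨r, rJ, -, r2, ru⟩ := A.r1 (a.congr (D10 _ _ _ (a.of_mul A.pcs hu))) rfl (sq_t k) (L.le.2.2.1 (mA L).2.2.2.2.2)
    have hw := mul_mem zm (pow_mem zs L.α)
    have e : u⁻¹ * (L.m * F.s ^ L.α) * u = L.m * F.s ^ L.α * L.y := by
      rw [cj_cs hu hw, Fr.cj_mul, cs_m hm]
      rcases L.hα with e | e <;> simp only [e, pow_zero, pow_one, mul_one]
      · simp
      · rw [L.rel.2.2.2.2.2.2.2.2.2.2.2.2 h2, mul_assoc, mul_assoc, ← mul_assoc F.z, (c zz zs).eq, mul_assoc, F.zz, mul_one,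
          (c zy zs).eq, mul_assoc]
    have yy := L.el _ (mA L).2.2.2.2.1
    have sq : r * (L.m * F.s ^ L.α) * (r * (L.m * F.s ^ L.α)) = L.y := by
      rw [(L.cenZ hw rJ).mul_mul_mul_comm, r2, L.el _ (L.le.2.1 hw), mul_one]
    refine (L.pz h h2).2.1 (sq ▸ sqz F k (Fr.comm_of_fix ?_).symm (sq ▸ L.ind.1) (by rw [sq, yy]))
    rw [Fr.cj_mul, ru, e, mul_assoc, ← mul_assoc L.y, (c zy hw).eq, mul_assoc _ L.y, yy, mul_one]
  refine ⟨key, L.hα.resolve_right fun e => key (F.t * (F.s * F.d * F.c)) ?_ ?_⟩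
  · have : F.t * (F.s * F.d * F.c) * L.cs = F.s * F.e := by rw [cs, e, pow_one]; hl_w2 h2
    exact this ▸ mul_mem (L.le.2.2.1 (mA L).1) (L.le.2.2.2.2.1 (m1 L).2.2.1)
  · obtain ⟨g, cg, eg⟩ := cj_sdc E h2
    have mm := L.el _ (mA L).2.1
    refine (Fr.icj L.m (y := F.t * F.s) ?_).trans (Fr.icj g (by rw [Fr.cj_mul, eg, Fr.cj_fix cg]))
    rw [inv_of_sq mm, F.ts.eq]
    calc _ = L.m * (F.t * L.m * F.t) * F.t := by simp only [mul_assoc, F.tt, mul_one]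
      _ = _ := by rw [(L.tm.resolve_left fun k => hm k.1).2, ← mul_assoc, mm, one_mul]

/-- Let `u ∈ r J`, `u ~ t`. `u` normalises `J1`, centralises `p, q`; `s ^ u = s w`, `w ∈ Y`
(`n3`), `u u ^ t ∈ cs J` gives `w w ^ t = z`, `w ∈ {p, q}`. `r1 = x x ^ u`, `r1² = p`,
`r1 ^ u = r1 p`. If `w = p`, `r1 s` commutes with `u`. If `w = q`: `(d x) ^ u ∈ d x Y`,
`b ^ u ∈ b Y`, so `k1 = d x r1ⁱ sʲ`, `k2 = b r1ᵏ sˡ` commute with `u`, `k1² = pⁱ`, `k2² = pᵏ`,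
`(k1 k2)² = q pⁱ⁺ᵏ`: one of them is `p` or `q`. `sqz`, `pz`. -/
theorem noR (h : L.β = 0) (h2 : F.s ≠ 1) (R : Lr L) {u : G} (hu : u * R.r ∈ L.J) :
    ¬ IsConj F.t u := by
  intro k
  obtain ⟨A⟩ := ap L h
  obtain ⟨zs, zm, zy, zz⟩ := mZ L
  obtain ⟨md, mx, me, -, mb⟩ := m1 L
  obtain ⟨YZ, ZA, AJ, -, JJ, JZ, -⟩ := L.le
  have c : ∀ {a b}, a ∈ L.Z → b ∈ L.Z → Commute a b := fun a b => HL.comm_of_el L.el (ZA a) (ZA b)
  have el : ∀ {a}, a ∈ L.Z → a * a = 1 := fun a => L.el _ (ZA a)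
  have cz : ∀ {a b}, a ∈ L.J → b ∈ L.Z → A.cl (a * b) = A.cl a := fun a b => by
    rw [A.mul a (AJ (ZA b)), (A.zero (AJ (ZA b))).1 b, add_zero]
  have uS : u ∈ L.S := (L.S.mul_mem_cancel_right R.rS).1 (L.JS hu)
  have pr : A.P R.r (act false true false) := by
    obtain ⟨s, p, q, a⟩ := A.pat (L.nJ R.rS)
    refine a.congr (D8 _ _ _ ?_ ?_)
    · rw [← A.c0, ← a.2 _ (JJ mx), ← A.c1, ← cz (JJ (mul_mem me mb)) R.rx, mul_inv_cancel_left]
    · nth_rw 1 [← A.c3]; rw [← a.2 _ (JJ mb), ← A.c3, ← cz (JJ mb) R.rb, mul_inv_cancel_left]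
  have pu : A.P u (act false true false) := by
    obtain ⟨s, p, q, a⟩ := A.pat (L.nJ uS)
    exact a.congr (D9 _ _ _ (a.of_mul pr hu))
  have no : ∀ j ∈ L.J, Commute j u → qq (A.cl j) ≠ (1, 0) ∧ qq (A.cl j) ≠ (0, 1) := fun j hj cj => by
    have sq := A.sq hj
    constructor <;> intro e <;> rw [e] at sq
    · rw [A.z10] at sq
      exact (L.pz h h2).2.1 (sq ▸ sqz F k cj.symm (sq ▸ L.ind.1) (by rw [sq, el zy]))
    · refine (L.pz h h2).2.2.1 (A.z01 ▸ sq ▸ sqz F k cj.symm (sq ▸ fun e => ?_) (by rw [sq, A.z01, el (mul_mem zy zz)]))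
      exact absurd (A.one.1 e) (by decide)
  obtain ⟨r, rJ, rc, -, ru⟩ := A.r1 pu rfl (sq_t k) (JJ mx)
  have uy : Commute L.y u := A.z10 ▸ pu.fix (v := e0 + e1) rfl
  have uz : Commute F.z u := (L.pz h h2).1 u pu.1
  have mul : ∀ {a b v w}, b ∈ L.J → v ∈ L.Z → u⁻¹ * a * u = a * v → u⁻¹ * b * u = b * w →
      u⁻¹ * (a * b) * u = a * b * (v * w) := fun hb hv e1 e2 => by
    rw [Fr.cj_mul, e1, e2, (L.cenZ hv hb).mul_mul_mul_comm]
  have fix : ∀ {a v}, v = 1 → u⁻¹ * a * u = a * v → Commute a u := fun e1 e2 => Fr.comm_of_fix (by rw [e2, e1, mul_one])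
  have sJ := AJ (ZA zs)
  obtain ⟨w, hw, su⟩ : ∃ w ∈ L.Y, u⁻¹ * F.s * u = F.s * w := ⟨_, L.n3 h h2 pu.1, by
    rw [← (c (YZ (L.n3 h h2 pu.1)) zs).eq, mul_assoc _ F.s F.s, F.ss, mul_one]⟩
  have ns : ¬ (Commute w u ∧ Commute w F.t) := fun ⟨k1, k2⟩ => by
    refine not_cen h2 (A.mem_cs ((pu.mul ((A.pt.mul pu).mul A.pt)).congr (by decide +kernel))
      (mul_mem uS (mul_mem (mul_mem L.tS uS) L.tS))) (Fr.comm_of_fix ?_)
    calc _ = F.t⁻¹ * (u⁻¹ * (F.t⁻¹ * (u⁻¹ * F.s * u) * F.t) * u) * F.t := by group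
      _ = _ := by
        rw [su, Fr.cj_fix (F.ts.symm.mul_left k2), Fr.cj_mul u, su, Fr.cj_fix k1, mul_assoc F.s, el (YZ hw), mul_one,
          Fr.cj_fix F.ts.symm]
  rcases L.mem_Y.1 hw with rfl | rfl | rfl | rfl
  · exact ns ⟨Commute.one_left _, Commute.one_left _⟩
  · exact (no _ (mul_mem rJ sJ) (fix (el zy) (mul sJ zy ru su))).1 (by rw [cz rJ zs, rc]; rfl)
  · exact ns ⟨uz, F.tz.symm⟩
  have key : ∀ j ∈ L.J1, act false true false (A.cl j) = A.cl j →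
      ∃ i ∈ L.J, Commute i u ∧ (A.cl i = A.cl j ∨ A.cl i = A.cl j + (e0 + e1)) := fun j hj e => by
    have jJ := JJ hj
    have m : j⁻¹ * (u⁻¹ * j * u) ∈ L.Y := JZ ▸ mem_inf.2 ⟨mul_mem (inv_mem hj) (norm_cj (L.nJ1 h h2 pu.1) hj),
      (A.zero (mul_mem (inv_mem jJ) (norm_cj pu.1 jJ))).2 (by
        rw [A.mul (inv_mem jJ) (norm_cj pu.1 jJ), Ap.cl_inv jJ, pu.2 j jJ, e]
        exact (by decide +kernel : ∀ v : V, v + v = 0) _)⟩
    have ju := (mul_inv_cancel_left j (u⁻¹ * j * u)).symm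
    have jr := mul_mem jJ rJ
    have cr : A.cl (j * r) = A.cl j + (e0 + e1) := by rw [A.mul jJ rJ, rc]
    rcases L.mem_Y.1 m with v | v | v | v <;> rw [v] at ju
    · exact ⟨j, jJ, fix rfl ju, .inl rfl⟩
    · exact ⟨_, jr, fix (el zy) (mul rJ zy ju ru), .inr cr⟩
    · exact ⟨_, mul_mem jr sJ, fix (by rw [(c zz zy).eq, el (mul_mem zy zz)]) (mul sJ (mul_mem zz zy) (mul rJ zz ju ru) su),
        .inr ((cz jr zs).trans cr)⟩
    · exact ⟨_, mul_mem jJ sJ, fix (el (mul_mem zy zz)) (mul sJ (mul_mem zy zz) ju su), .inl (cz jJ zs)⟩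
  obtain ⟨i, hi, ci, ei⟩ := key _ (mul_mem mx md) (by rw [A.c2]; rfl)
  obtain ⟨j, hj, cj, ej⟩ := key _ mb (by rw [A.c3]; rfl)
  rw [A.c2] at ei
  rw [A.c3] at ej
  rcases D11 _ _ ei ej with e | e | e
  exacts [(no i hi ci).1 e, (no j hj cj).1 e, (no _ (mul_mem hi hj) (ci.mul_left cj)).2 (A.mul hi hj ▸ e)]

end CL.H3.Lj
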