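import Cfsg.Agent.INV.H3.LT2
import Cfsg.Agent.INV.H3.Loc2

/-! S3140. `β = 0`, `s ≠ 1` is impossible:
`Ex.tr2` with `R = J`. `x ^ g = g⁻¹ * x * g`. If `u ^ g ∈ S`, `J ^ g ≤ S`, `u ∈ Z`, then
`g ∈ N(J)` (`wc`), `u ^ g ∈ Z`. A conjugate of `t` in `t J` is `t ^ k`, `k ∈ J` (`fus`). -/

set_option autoImplicit false
set_option linter.unusedSectionVars false
set_option linter.unusedVariables false
open Subgroup

namespace CL.H3.Lj
open CL.HL
variable {G : Type*} [Group G] [Finite G] {F : Fr G} (L : Lj F)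

namespace T3x
open Jm Fr

theorem quo.{v} {G : Type v} [Group G] {S K : Subgroup G} (h : ∀ g ∈ S, ∀ a ∈ K, g * a * g⁻¹ ∈ K) :
    ∃ (Q : Type v) (_ : Group Q) (φ : G → Q), (∀ a ∈ S, ∀ b ∈ S, φ (a * b) = φ a * φ b) ∧
      ∀ a ∈ S, (φ a = 1 ↔ a ∈ K) := by
  classical
  have : (K.subgroupOf S).Normal := ⟨fun n hn g => h g g.2 n hn⟩
  refine ⟨S ⧸ K.subgroupOf S, inferInstance, fun a => if k : a ∈ S then ((⟨a, k⟩ : S) : S ⧸ K.subgroupOf S) else 1,
    fun a ha b hb => ?_, fun a ha => ?_⟩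
  · simp only [dif_pos ha, dif_pos hb, dif_pos (mul_mem ha hb)]; rfl
  · simp only [dif_pos ha]; exact QuotientGroup.eq_one_iff _

section
variable {S : Subgroup G} {Q : Type*} [Group Q] {φ : G → Q} (hφ : ∀ a ∈ S, ∀ b ∈ S, φ (a * b) = φ a * φ b)
include hφ

theorem φ1 : φ 1 = 1 := by simpa using hφ 1 (one_mem _) 1 (one_mem _)

theorem φi {a : G} (ha : a ∈ S) : φ a⁻¹ = (φ a)⁻¹ :=
  eq_inv_of_mul_eq_one_left (by rw [← hφ _ (inv_mem ha) _ ha, inv_mul_cancel, φ1 hφ])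

theorem φ4 {a b c d : G} (ha : a ∈ S) (hb : b ∈ S) (hc : c ∈ S) (hd : d ∈ S) :
    φ (a * b * c * d) = φ a * φ b * φ c * φ d := by
  rw [hφ _ (mul_mem (mul_mem ha hb) hc) _ hd, hφ _ (mul_mem ha hb) _ hc, hφ _ ha _ hb]

/-- the preimage -/
def pull (N : Subgroup Q) : Subgroup G where
  carrier := {a | a ∈ S ∧ φ a ∈ N}
  one_mem' := ⟨one_mem _, (φ1 hφ).symm ▸ one_mem _⟩
  mul_mem' ha hb := ⟨mul_mem ha.1 hb.1, (hφ _ ha.1 _ hb.1).symm ▸ mul_mem ha.2 hb.2⟩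
  inv_mem' ha := ⟨inv_mem ha.1, (φi hφ ha.1).symm ▸ inv_mem ha.2⟩

theorem cen_of {J : Subgroup G} {t r : G} (gen : ∀ W : Subgroup G, J ≤ W → t ∈ W → r ∈ W → S ≤ W) (hJ : J ≤ S)
    (ht : t ∈ S) (hr : r ∈ S) {q : Q} (h1 : ∀ j ∈ J, Commute q (φ j)) (h2 : Commute q (φ t)) (h3 : Commute q (φ r)) :
    ∀ g ∈ S, Commute q (φ g) := fun g hg => mem_cen.1 (gen (pull hφ (centralizer {q}))
  (fun j hj => ⟨hJ hj, mem_cen.2 (h1 j hj)⟩) ⟨ht, mem_cen.2 h2⟩ ⟨hr, mem_cen.2 h3⟩ hg).2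

end

/-- involutions of `w J` are conjugate into `w Z` -/
theorem red {M : LA G} (J : JD M) {w j : G} (hn : w ∈ normalizer (J.JJ : Set G)) (ww : w * w = 1) {f : V → V}
    (hp : J.Pat w f) (hf : ∀ v, f v = v → ∃ u, f u + v + u = 0) (hj : j ∈ J.JJ) (h : w * j * (w * j) = 1) :
    ∃ k ∈ J.JJ, ∃ z ∈ J.Z, Commute w z ∧ k⁻¹ * (w * j) * k = w * z := by
  have wi := inv_of_sq ww
  obtain ⟨u, hu⟩ := hf (J.cl j) (by
    rw [← hp j hj, wi, eq_inv_of_mul_eq_one_left ((mul_assoc _ _ _).trans h), J.cl_inv hj])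
  obtain ⟨k, hk, rfl⟩ := J.cl_surj u
  have a := J.conj_mem hn (inv_mem hk)
  have hz := (J.memZ_iff (mul_mem (mul_mem a hj) hk)).2 (by
    rw [J.cl_mul (mul_mem a hj) hk, J.cl_mul a hj, hp _ (inv_mem hk), J.cl_inv hk, hu])
  have e : k⁻¹ * (w * j) * k = w * (w * k⁻¹ * w⁻¹ * j * k) := by
    rw [wi]
    calc _ = w * w * (k⁻¹ * (w * j) * k) := by rw [ww, one_mul]
      _ = _ := by group
  refine ⟨k, hk, _, hz, ?_, e⟩
  have z2 := J.elZ hz
  generalize w * k⁻¹ * w⁻¹ * j * k = z at e z2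
  have : w * z * (w * z) = 1 := by
    rw [← e, show k⁻¹ * (w * j) * k * (k⁻¹ * (w * j) * k) = k⁻¹ * (w * j * (w * j)) * k by group, h]; group
  rw [commute_iff_eq, eq_inv_of_mul_eq_one_left this, mul_inv_rev, wi, inv_of_sq z2]

theorem csS : L.cs ∈ L.S := mul_mem L.cS (pow_mem L.tS _)

theorem cjJ {g j : G} (hg : g ∈ L.S) (hj : j ∈ L.J) : g * j * g⁻¹ ∈ L.J := (mem_normalizer_iff.1 (L.nJ hg) j).1 hj

theorem cs2 : L.cs * L.cs ∈ L.J1 := L.rel.2.2.2.2.2.2.2.2.2.2.2.1 ▸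
  mul_mem (subset_closure (by simp)) (subset_closure (by simp))

theorem tcs : Commute F.t L.cs := L.rel.2.2.2.2.2.2.2.2.2.2.1

theorem tcs2 : F.t * L.cs * (F.t * L.cs) = L.cs * L.cs := by
  rw [(tcs L).symm.mul_mul_mul_comm, F.tt, one_mul]

theorem ZJ : L.Z ≤ L.J := L.le.2.1.trans L.le.2.2.1

theorem sZ : F.s ∈ L.Z := subset_closure (by simp)

theorem fin (E : Ex F) (h : L.β = 0) (h2 : F.s ≠ 1) {K : Subgroup G} {u : G} (hK1 : L.J1 ≤ K) (hKJ : K ≤ L.J)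
    (nK : ∀ g ∈ L.S, ∀ a ∈ K, g * a * g⁻¹ ∈ K) (uZ : u ∈ L.Z) (uK : u ∉ K) (dec : ∀ j ∈ L.J, j ∈ K ∨ j * u ∈ K)
    (nu : ∀ g ∈ normalizer (L.J : Set G), g⁻¹ * u * g * u ∈ K) (noC : ∀ v, v * L.cs ∈ L.J → ¬ IsConj F.t v)
    (noT : ∀ v, v * (F.t * L.cs) * u ∈ K → ¬ IsConj F.t v) : False := by
  obtain ⟨Q, _, φ, hφ, ker⟩ := quo nK
  have tS := L.tS
  have cS := csS L
  have uJ := ZJ L uZ
  have uS := L.JS uJ
  have uu : u * u = 1 := L.el u (L.le.2.1 uZ)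
  have UU : φ u * φ u = 1 := by rw [← hφ _ uS _ uS, uu, φ1 hφ]
  have TT : φ F.t * φ F.t = 1 := by rw [← hφ _ tS _ tS, F.tt, φ1 hφ]
  have CC : φ L.cs * φ L.cs = 1 := by rw [← hφ _ cS _ cS, ker _ (mul_mem cS cS)]; exact hK1 (cs2 L)
  have hJ : ∀ j ∈ L.J, φ j = 1 ∨ φ j = φ u := fun j hj => (dec j hj).imp (ker _ (L.JS hj)).2 fun a => by
    rw [← ker _ (mul_mem (L.JS hj) uS), hφ _ (L.JS hj) _ uS] at a
    exact mul_right_cancel (a.trans UU.symm)
  have cJ : ∀ j ∈ L.J, ∀ g ∈ L.S, Commute (φ j) (φ g) := fun j hj g hg => by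
    rcases hJ j hj with a | a <;> rw [a]
    · exact Commute.one_left _
    · have := (ker _ (mul_mem (mul_mem (mul_mem (inv_mem hg) uS) hg) uS)).2 (nu g (L.nJ hg))
      rw [φ4 hφ (inv_mem hg) uS hg uS, φi hφ hg] at this
      rw [commute_iff_eq, ← inv_mul_eq_iff_eq_mul, ← mul_assoc]
      exact mul_right_cancel (this.trans UU.symm)
  have J2 : ∀ j ∈ L.J, φ j * φ j = 1 := fun j hj => by
    rcases hJ j hj with a | a <;> rw [a]
    exacts [one_mul _, UU]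
  have sq : ∀ k ∈ L.S, k * L.cs ∈ L.J → φ k * φ k = 1 := fun k hk a => by
    have e : φ k = φ (k * L.cs) * φ L.cs := by rw [hφ _ hk _ cS, mul_assoc, CC, mul_one]
    rw [e, (cJ _ a _ cS).symm.mul_mul_mul_comm, J2 _ a, CC, one_mul]
  have key : ∀ k ∈ L.S, ∀ r ∈ L.S, k * L.cs ∈ L.J → (∀ W : Subgroup G, L.J ≤ W → F.t ∈ W → r ∈ W → L.S ≤ W) →
      Commute (φ k) (φ F.t) → Commute (φ k) (φ r) → φ (r⁻¹ * F.t⁻¹ * r * F.t) ∈ zpowers (φ k) →
      (∀ v ∈ L.S, IsConj F.t v → (∃ g ∈ L.S, g⁻¹ * F.t * g = v) ∨ φ (v * F.t) = φ k) → False := by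
    intro k hk r hr kc gen c1 c2 c3 cj
    have ck := cen_of hφ gen L.JS tS hr (fun j hj => (cJ j hj k hk).symm) c1 c2
    have mZ : ∀ q ∈ zpowers (φ k), q = 1 ∨ q = φ k := by
      rintro _ ⟨n, rfl⟩
      have : φ k ^ (2 : ℤ) = 1 := by rw [zpow_two, sq k hk kc]
      rcases n.emod_two_eq_zero_or_one with a | a <;> simp only [zpow_eq_zpow_emod n this, a]
      exacts [.inl (zpow_zero _), .inr (zpow_one _)]
    obtain ⟨Q', _, ψ, hψ, ker'⟩ := quo (S := L.S) (K := pull hφ (zpowers (φ k))) fun g hg a ha =>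
      ⟨mul_mem (mul_mem hg ha.1) (inv_mem hg), by
        rw [hφ _ (mul_mem hg ha.1) _ (inv_mem hg), hφ _ hg _ ha.1, φi hφ hg]
        rcases mZ _ ha.2 with e | e <;> rw [e]
        · simp
        · rw [← (ck g hg).eq, mul_inv_cancel_right]; exact mem_zpowers _⟩
    have iff : ∀ a ∈ L.S, ∀ b ∈ L.S, (a⁻¹ * b⁻¹ * a * b ∈ pull hφ (zpowers (φ k)) ↔ Commute (ψ a) (ψ b)) :=
      fun a ha b hb => by
        rw [← ker' _ (mul_mem (mul_mem (mul_mem (inv_mem ha) (inv_mem hb)) ha) hb),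
          φ4 hψ (inv_mem ha) (inv_mem hb) ha hb, φi hψ ha, φi hψ hb, commute_iff_eq, mul_assoc, ← mul_inv_rev,
          inv_mul_eq_one, eq_comm]
    have dJ : ∀ g ∈ L.S, ∀ j ∈ L.J, Commute (ψ g) (ψ j) := fun g hg j hj => (iff g hg j (L.JS hj)).1
      ⟨mul_mem (mul_mem (mul_mem (inv_mem hg) (inv_mem (L.JS hj))) hg) (L.JS hj), by
        rw [φ4 hφ (inv_mem hg) (inv_mem (L.JS hj)) hg (L.JS hj), φi hφ hg, φi hφ (L.JS hj), mul_assoc,
          ← (cJ j hj g hg).eq]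
        simp [mul_assoc]⟩
    have d1 := (iff r hr _ tS).1 ⟨mul_mem (mul_mem (mul_mem (inv_mem hr) (inv_mem tS)) hr) tS, c3⟩
    have cm : ∀ g ∈ L.S, ∀ g' ∈ L.S, g⁻¹ * g'⁻¹ * g * g' ∈ pull hφ (zpowers (φ k)) := fun g hg g' hg' =>
      (iff g hg g' hg').2 (cen_of hψ gen L.JS tS hr (dJ g hg)
        (cen_of hψ gen L.JS tS hr (dJ _ tS) (.refl _) d1.symm g hg).symm
        (cen_of hψ gen L.JS tS hr (dJ _ hr) d1 (.refl _) g hg).symm g' hg')
    have nk : ∀ a ∈ L.S, φ a = φ k → a * L.cs ∈ L.J := fun a ha e => by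
      have : a * k⁻¹ ∈ K := by
        rw [← ker _ (mul_mem ha (inv_mem hk)), hφ _ ha _ (inv_mem hk), φi hφ hk, e, mul_inv_cancel]
      simpa [mul_assoc] using mul_mem (hKJ this) kc
    obtain ⟨-, -, -, -, -, -, -, -, -, -, n1, n2, n3⟩ := L.le
    refine E.tr2 (M := pull hφ (zpowers (φ k))) L.syl (fun g hg => hg.1) cm tS uS uu (fun a => (mZ _ a.2).elim (fun e => uK ((ker _ uS).1 e)) fun e =>
      n2 ((mul_mem_cancel_left uJ).1 (nk _ uS e))) (fun a => (mZ _ a.2).elim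
        (fun e => n1 ((mul_mem_cancel_left uJ).1 (hKJ ((ker _ a.1).1 e)))) fun e =>
        n3 ((mul_mem_cancel_left uJ).1 (mul_assoc u _ _ ▸ nk _ a.1 e))) (fun g hg => ?_)
      (L.syl.pgroup.to_le L.JS) (fun j hj => (L.cenZ uZ hj).symm) fun g hg a =>
        ⟨mul_mem hg uS, (ker _ (mul_mem hg uS)).2 (nu g (L.wc h h2 g a)) ▸ one_mem _⟩
    rcases cj _ hg (icj g rfl) with ⟨g', hg', e⟩ | e
    · have := cm g' hg' _ tS
      rwa [inv_of_sq F.tt, e] at this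
    · exact ⟨mul_mem hg tS, e ▸ mem_zpowers _⟩
  have ft : ∀ v, v * F.t ∈ L.J → IsConj F.t v → ∃ g ∈ L.S, g⁻¹ * F.t * g = v := fun v a b => by
    have e : F.t * (F.t * (v * F.t) * F.t⁻¹) = v := by rw [← mul_assoc, ← mul_assoc, F.tt]; group
    obtain ⟨k, hk, e'⟩ := L.fus _ (cjJ L tS a) (e.symm ▸ b)
    exact ⟨k, L.JS hk, e'.trans e⟩
  have TC : Commute (φ F.t) (φ L.cs) := by rw [commute_iff_eq, ← hφ _ tS _ cS, ← hφ _ cS _ tS, (tcs L).eq]
  rcases L.small_or h with sm | ⟨⟨R⟩⟩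
  · refine key _ cS _ cS (L.le.2.2.2.2.1 (cs2 L)) (fun W a b c g hg => ?_) TC.symm (.refl _) (by
      rw [mul_assoc, mul_assoc, ← (tcs L).eq, inv_mul_cancel_left, inv_mul_cancel, φ1 hφ]; exact one_mem _)
      fun v hv b => ?_
    · rcases sm g hg with e | e | e | e
      exacts [a e, (mul_mem_cancel_right b).1 (a e), (mul_mem_cancel_right c).1 (a e),
        (mul_mem_cancel_right (mul_mem b c)).1 (a e)]
    rcases sm v hv with e | e | e | e
    · exact (L.noJ v e b).elim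
    · exact .inl (ft v e b)
    · exact (noC v e b).elim
    · have := (ker _ (L.JS e)).2 ((dec _ e).resolve_right fun a => noT v a b)
      rw [← mul_assoc, hφ _ (mul_mem hv tS) _ cS] at this
      exact .inr (mul_right_cancel (this.trans CC.symm))
  have rS := R.rS
  have kS := mul_mem (mul_mem (mul_mem (inv_mem rS) tS) rS) tS
  have kc : R.r⁻¹ * F.t * R.r * F.t * L.cs ∈ L.J := mul_assoc _ F.t L.cs ▸ R.tr
  have k2 := sq _ kS kc
  have r2 := sq _ (mul_mem rS (mul_mem (mul_mem tS rS) tS)) R.rc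
  have r3 := cJ _ R.rr _ tS
  have r4 := J2 _ R.rr
  rw [hφ _ rS _ (mul_mem (mul_mem tS rS) tS), hφ _ (mul_mem tS rS) _ tS, hφ _ tS _ rS] at r2
  rw [hφ _ rS _ rS] at r3 r4
  have ek := φ4 hφ (inv_mem rS) tS rS tS
  rw [φi hφ rS] at ek
  refine key _ kS _ rS kc (fun W a b c g hg => ?_) ?_ ?_ (by rw [inv_of_sq F.tt]; exact mem_zpowers _) fun v hv b => ?_
  · have c' : L.cs ∈ W := (mul_mem_cancel_left (mul_mem c (mul_mem (mul_mem b c) b))).1 (a R.rc)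
    rcases R.dec g hg with e | e | e | e | e | e | ⟨e | e, -⟩
    exacts [a e, (mul_mem_cancel_right b).1 (a e), (mul_mem_cancel_right c').1 (a e),
      (mul_mem_cancel_right (mul_mem b c')).1 (a e), (mul_mem_cancel_right c).1 (a e),
      (mul_mem_cancel_right (mul_mem (mul_mem b c) b)).1 (a e), (mul_mem_cancel_right (mul_mem c b)).1 (a e),
      (mul_mem_cancel_right (mul_mem b c)).1 (a e)]
  · rw [ek] at k2 ⊢
    generalize φ R.r = a at k2
    generalize φ F.t = b at k2 TT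
    rw [commute_iff_eq]
    conv_rhs => rw [← inv_of_sq k2]
    rw [mul_assoc, TT]
    simp only [mul_inv_rev, inv_of_sq TT, inv_inv, ← mul_assoc, TT, one_mul, mul_one]
  · rw [ek]
    generalize φ R.r = a at r2 r3 r4
    generalize φ F.t = b at r2 r3 TT
    have e1 : b * a * b * (b * a * b) = a * a := by
      calc _ = b * (a * (b * b) * a) * b := by group
        _ = _ := by rw [TT, mul_one, ← r3.eq, mul_assoc, TT, mul_one]
    have e2 : Commute a (b * a * b) := by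
      generalize b * a * b = c at r2 e1
      calc a * c = (a * c)⁻¹ := (inv_of_sq r2).symm
        _ = c * ((c * c)⁻¹ * (a * a)⁻¹) * a := by group
        _ = _ := by rw [e1, ← mul_inv_rev, r4, inv_one, mul_one]
    rw [mul_assoc, mul_assoc, ← mul_assoc b]
    exact ((Commute.refl a).inv_left).mul_left e2.symm
  rcases R.dec v hv with e | e | e | e | e | e | ⟨-, e⟩
  · exact (L.noJ v e b).elim
  · exact .inl (ft v e b)
  · exact (noC v e b).elim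
  · have g2 : F.t * L.cs * (F.t * L.cs) ∈ L.J := tcs2 L ▸ L.le.2.2.2.2.1 (cs2 L)
    have a1 := cjJ L rS (mul_mem (mul_mem e (inv_mem g2)) (cjJ L (mul_mem tS cS) R.tr))
    obtain ⟨g, hg, e'⟩ := ft (R.r * v * R.r⁻¹) (by convert a1 using 1; group) (b.trans (isConj_iff.2 ⟨_, rfl⟩))
    exact .inl ⟨g * R.r, mul_mem hg rS, by
      rw [show (g * R.r)⁻¹ * F.t * (g * R.r) = R.r⁻¹ * (g⁻¹ * F.t * g) * R.r by group, e']; group⟩
  · exact (L.noR h h2 R e b).elim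
  · refine (L.noR h h2 R (u := F.t⁻¹ * v * F.t) ?_ (b.trans (icj _ rfl))).elim
    have := cjJ L (inv_mem tS) e
    rwa [show F.t⁻¹ * (v * (F.t * R.r * F.t)) * F.t⁻¹⁻¹ = F.t⁻¹ * v * F.t * R.r * (F.t * F.t) by group, F.tt,
      mul_one] at this
  · obtain ⟨g, rfl⟩ := isConj_iff.1 b
    exact (e (by rw [show g * F.t * g⁻¹ * (g * F.t * g⁻¹) = g * (F.t * F.t) * g⁻¹ by group, F.tt]; simp)).elim

end T3x

open T3x Jm Fr

/-- `m = 1`, `J = J1 × ⟨s⟩`, `u = s`, `s ^ g ∈ s Y` (`n3`). An involution of `cs J` lies in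
`cs s J1` (`no_inv`) and is `J`-conjugate to `t ^ α s d c ~ t ^ α s ≁ t` (16 involutions, one
class: compute with the normal form; `cj_sdc`, `nB`, `tm`). `Small`: `M = J1 ⟨cs⟩`; an involution
of `t cs J` lies in `t cs J1 ⊆ t M`, or in `t cs s J1` and then it is `J`-conjugate to
`t ^ (α + 1) s d c ≁ t` (8 involutions). `Lr`: `M = J1 ⟨k⟩`, `k = r⁻¹ r ^ t ∈ cs J`. Modulo `J1`
(normal in `S`, `nJ1`) `s` is central, `r² ∈ ⟨s⟩`, `(r ^ t)² = r²`, `(cs j)² = 1`, so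
`r, r ^ t` commute, `k` is central of order 2, `S / M` is abelian (generated by `s, r, t`),
`M ∩ J = J1`. Conjugates of `t`: none in `J`, `cs J`, `r J`, `r ^ t J` (`noJ`, `noR`); those in
`t cs J` are conjugate under `r` to elements of `t J` (`tr`). -/
theorem t2a (E : Ex F) (h : L.β = 0) (h2 : F.s ≠ 1) (hm : L.m = 1) : False := by
  obtain ⟨M, J, mA, mt, -, mS, -, mJ, mZ, a1, -, -, b2, -, H⟩ := L.jd
  replace H := H h
  obtain ⟨lY, lZ, lA, lY1, l1, inf, -, -, -, dec, n1, n2, n3⟩ := L.le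
  obtain ⟨-, -, -, -, -, -, -, -, yc, zc, tc, -, sc⟩ := L.rel
  replace sc := sc h2
  have sJ := ZJ L (sZ L)
  have dJ : F.d ∈ L.J := l1 (subset_closure (by simp))
  have d1 : F.d ∈ L.J1 := subset_closure (by simp)
  have yZ : L.y ∈ L.Z := subset_closure (by simp)
  have zZ : F.z ∈ L.Z := subset_closure (by simp)
  have nt : ∀ n, ¬ IsConj F.t (F.t ^ n * (F.s * F.d * F.c)) := fun n a => by
    obtain ⟨g, c, e⟩ := cj_sdc E h2
    rw [← e, ← cj_fix (c.pow_left n), ← cj_mul] at a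
    replace a := a.trans (icj g rfl).symm
    rw [pow_eq_pow_mod n ((pow_two _).trans F.tt)] at a
    rcases n.mod_two_eq_zero_or_one with b | b <;> rw [b] at a
    · exact L.nB _ F.s_B (by simpa using a)
    · exact (L.tm.elim (fun k => k.2 h2) fun k => (h2 (by simpa [hm, F.tt] using k.2.symm)).elim) (by simpa using a)
  obtain ⟨w, hw⟩ : ∃ w, w = F.s * F.d * L.cs := ⟨_, rfl⟩
  have ew : w = F.t ^ L.α * (F.s * F.d * F.c) := by
    rw [hw, cs, ← mul_assoc, (((F.ts.mul_right F.td).mul_right F.tc).pow_left _).eq]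
  have tw : Commute F.t w := hw ▸ (F.ts.mul_right F.td).mul_right tc
  have ww : w * w = 1 := by
    obtain ⟨g, c, e⟩ := cj_sdc E h2
    rw [ew, (((F.ts.mul_right F.td).mul_right F.tc).pow_left _).symm.mul_mul_mul_comm, ← e, ← cj_mul, F.ss, ← pow_two,
      ← pow_mul, mul_comm, pow_mul, pow_two, F.tt]
    simp
  have wS : w ∈ L.S := hw ▸ mul_mem (L.JS (mul_mem sJ dJ)) (csS L)
  have yw : Commute L.y w := hw ▸ (L.cenZ yZ (mul_mem sJ dJ)).mul_right yc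
  have zw : Commute F.z w := hw ▸ (L.cenZ zZ (mul_mem sJ dJ)).mul_right zc
  have sw : F.s * w = w * (F.s * F.z) := by
    rw [hw, ← sc, ← mul_assoc F.s, (L.cenZ (sZ L) (mul_mem sJ dJ)).eq]; group
  have Yw : ∀ v ∈ L.Y, Commute v w := fun v hv => by
    rcases L.mem_Y.1 hv with rfl | rfl | rfl | rfl
    exacts [Commute.one_left _, yw, zw, yw.mul_left zw]
  have sj : ∀ x, Commute F.s x → ∀ v ∈ L.Y, IsConj (x * w * v) (x * w * (v * F.z)) := fun x b v hv =>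
    isConj_iff.2 ⟨F.s, by
      rw [← mul_assoc, ← mul_assoc, b.eq, mul_assoc x, sw, ← (L.cenZ zZ (ZJ L (lY hv))).eq]
      have := (L.cenZ (sZ L) (mul_mem (ZJ L zZ) (ZJ L (lY hv)))).eq
      calc _ = x * w * (F.s * (F.z * v)) * F.s⁻¹ := by group
        _ = _ := by rw [this]; group⟩
  have wn : w ∈ normalizer (J.JJ : Set G) := mJ ▸ L.nJ wS
  have tn : F.t ∈ normalizer (J.JJ : Set G) := mJ ▸ L.nJ L.tS
  have pt : J.Pat F.t (act true false false) := mt ▸ J.pat_t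
  have z1 : J.zz (1, 0) = L.y := by
    rw [← (L.rel0 h).2.2.1, JD.zz, a1, b2]; simp [pw, cc, mul_assoc]
  have pw : J.Pat w (act false true true) := by
    obtain ⟨a, p, q, k⟩ := H.pat wn
    obtain rfl := (H.comm_z1 wn k).1 (z1 ▸ yw)
    rcases (by decide : ∀ p q, (∀ v, (act true false false ∘ act false p q) v = (act false p q ∘ act true false false) v) →
      (∀ v, act false p q v = v) ∨ (p = true ∧ q = true)) p q ((pt.mul k wn).uniq (tw.eq ▸ k.mul pt tn)) with a | ⟨rfl, rfl⟩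
    · have := J.mem_of_pat (mS ▸ wS :) wn k a
      rw [mJ, hw, mul_mem_cancel_left (mul_mem sJ dJ)] at this
      exact (n2 this).elim
    · exact k
  have coset : ∀ {g v : G}, g ∈ L.S → g * g ∈ L.J → v * g ∈ L.J → g⁻¹ * v ∈ L.J := fun {g v} hg a b => by
    have := mul_mem (cjJ L (inv_mem hg) b) (inv_mem a)
    rwa [show g⁻¹ * (v * g) * g⁻¹⁻¹ * (g * g)⁻¹ = g⁻¹ * v by group] at this
  have sqt : ∀ {v : G}, IsConj F.t v → v * v = 1 := fun b => by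
    obtain ⟨g, rfl⟩ := isConj_iff.1 b
    rw [show g * F.t * g⁻¹ * (g * F.t * g⁻¹) = g * (F.t * F.t) * g⁻¹ by group, F.tt]; simp
  have sY : F.s ∉ L.Y := L.ind.2.2.1 h2
  have Zd : ∀ z ∈ L.Z, z ∈ L.Y ∨ ∃ v ∈ L.Y, z = F.s * v := fun z hz => by
    obtain ⟨v, hv, e⟩ := L.mem_Z.1 hz
    simp only [hm, one_mul, mul_one] at e
    have : z = v ∨ z = F.s * v := by tauto
    exact this.imp (fun e : z = v => e ▸ hv) fun e => ⟨v, hv, e⟩
  have dc : ∀ j ∈ L.J, j ∈ L.J1 ∨ j * F.s ∈ L.J1 := fun j hj => by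
    obtain ⟨k, hk, z, hz, rfl⟩ := dec j hj
    rcases Zd z hz with hv | ⟨v, hv, rfl⟩
    · exact .inl (mul_mem hk (lY1 hv))
    · refine .inr ?_
      rw [(L.cenZ (sZ L) (l1 (lY1 hv))).eq, mul_assoc, mul_assoc, F.ss, mul_one]; exact mul_mem hk (lY1 hv)
  have nK : ∀ g ∈ L.S, ∀ a ∈ L.J1, g * a * g⁻¹ ∈ L.J1 := fun g hg a =>
    (mem_normalizer_iff.1 (L.nJ1 h h2 (L.nJ hg)) a).1
  refine fin L E h h2 le_rfl l1 nK (sZ L) (fun a => sY (inf ▸ mem_inf.2 ⟨a, sZ L⟩)) dc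
    (fun g hg => lY1 (L.n3 h h2 hg)) (fun v a b => ?_) fun v a b => ?_
  · have a' : v * w ∈ L.J := by
      have := mul_mem a (cjJ L (inv_mem (csS L)) (mul_mem sJ dJ))
      rwa [show v * L.cs * (L.cs⁻¹ * (F.s * F.d) * L.cs⁻¹⁻¹) = v * (F.s * F.d * L.cs) by group, ← hw] at this
    obtain ⟨k, -, z, hz, c, e⟩ := red J wn ww pw (by decide) (mJ ▸ coset wS (ww ▸ one_mem _) a')
      (by simpa using sqt b)
    rw [mul_inv_cancel_left] at e
    replace b := b.trans (icj k e)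
    have zY : z ∈ L.Y := (Zd z (mZ ▸ hz)).resolve_right fun ⟨v, hv, e⟩ => by
      have : Commute w F.s := by simpa [e] using c.mul_right (Yw v hv).symm.inv_right
      rw [← this.eq, mul_right_inj, left_eq_mul] at sw
      exact F.z1 sw
    have xJ : L.x ∈ J.JJ := a1 ▸ J.a1J
    have x2 : L.x * L.x = 1 := L.el _ (L.hA ▸ subset_closure (by simp))
    have x' := J.conj_mem wn xJ
    have cy : IsConj w (w * L.y) := icj (L.x * (w * L.x * w⁻¹)) (by
      have := H.sq (mul_mem xJ x')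
      rw [J.cl_mul xJ x', pw _ xJ, ← a1, J.cl_a1, a1, show qq (e0 + act false true true e0) = (1, 0) by decide,
        z1] at this
      rw [← this]
      simp only [mul_inv_rev, inv_of_sq ww, inv_of_sq x2, mul_assoc])
    have s1 := sj 1 (Commute.one_right _) 1 (one_mem _)
    have s2 := sj 1 (Commute.one_right _) L.y (subset_closure (by simp))
    simp only [one_mul, mul_one] at s1 s2
    refine nt L.α (ew ▸ b.trans ?_)
    rcases L.mem_Y.1 zY with rfl | rfl | rfl | rfl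
    exacts [by rw [mul_one], cy.symm, s1.symm, (cy.trans s2).symm]
  · have w2 : F.t * w * (F.t * w) = 1 := by rw [tw.symm.mul_mul_mul_comm, F.tt, ww, one_mul]
    have w1S := mul_mem L.tS wS
    have a' : v * (F.t * w) ∈ L.J1 := by
      have := mul_mem (mul_mem a (lY1 (subset_closure (by simp) : F.z ∈ L.Y))) (nK _ (inv_mem (csS L)) _ d1)
      rwa [mul_assoc _ F.s, ← sc, show v * (F.t * L.cs) * (L.cs⁻¹ * F.s * L.cs) * (L.cs⁻¹ * F.d * L.cs⁻¹⁻¹) =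
        v * (F.t * (F.s * F.d * L.cs)) by group, ← hw] at this
    have j1 : (F.t * w)⁻¹ * v ∈ L.J1 := by
      have := nK _ (inv_mem w1S) _ a'
      rwa [inv_inv, mul_assoc, mul_assoc, w2, mul_one] at this
    obtain ⟨k, hk, z, hz, c, e⟩ := red J (mul_mem tn wn) w2 (pt.mul pw wn) (by decide) (mJ ▸ l1 j1)
      (by rw [mul_inv_cancel_left]; exact sqt b)
    rw [mJ] at hk
    have ck : (F.t * w)⁻¹ * k⁻¹ * (F.t * w) * k ∈ L.J1 := by
      generalize F.t * w = g at w1S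
      have q : ∀ k ∈ L.J1, g⁻¹ * k⁻¹ * g * k ∈ L.J1 := fun k a =>
        mul_mem (by simpa using nK _ (inv_mem w1S) _ (inv_mem a)) a
      rcases dc k hk with a | a
      · exact q k a
      · have := mul_mem (lY1 (L.n3 h h2 (L.nJ w1S))) (q _ a)
        rw [mul_assoc _ F.s, (L.cenZ (sZ L) (l1 (q _ a))).eq, ← (L.cenZ (sZ L) hk).eq] at this
        convert this using 1
        rw [(L.cenZ (sZ L) hk).eq, mul_inv_rev, inv_of_sq F.ss]
        calc _ = g⁻¹ * (F.s * F.s) * k⁻¹ * g * k * (F.s * F.s) := by rw [F.ss]; group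
          _ = _ := by group
    have zY : z ∈ L.Y := inf ▸ mem_inf.2 ⟨by
      have := mul_mem ck (nK _ (inv_mem (L.JS hk)) _ j1)
      rwa [show (F.t * w)⁻¹ * k⁻¹ * (F.t * w) * k * (k⁻¹ * ((F.t * w)⁻¹ * v) * k⁻¹⁻¹) =
        (F.t * w)⁻¹ * (k⁻¹ * (F.t * w * ((F.t * w)⁻¹ * v)) * k) by group, e, inv_mul_cancel_left] at this,
      mZ ▸ hz⟩
    rw [mul_inv_cancel_left] at e
    replace b := b.trans (icj k e)
    have ct : Commute F.t z := by simpa using c.mul_left (Yw z zY).symm.inv_left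
    have ny : ¬ Commute F.t L.y := fun c => F.z1 (by
      have := L.ty
      rwa [c.eq, mul_assoc, F.tt, mul_one, left_eq_mul] at this)
    have s1 := sj F.t F.ts.symm 1 (one_mem _)
    simp only [one_mul, mul_one] at s1
    refine nt (L.α + 1) ?_
    rw [pow_succ', mul_assoc, ← ew]
    rcases L.mem_Y.1 zY with rfl | rfl | rfl | rfl
    exacts [by simpa using b, (ny ct).elim, b.trans s1.symm,
      (ny (by simpa using ct.mul_right F.tz.inv_right)).elim]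

/-- `m ≠ 1`, `α = 0` (`noC`), `J3 = J1 ⟨s⟩` is normal in `N(J)` (`nJ1`, `n3`), `J = J3 ∪ m J3`,
`u = m`, `m ^ g ∈ Z \ ⟨s, Y⟩ ⊆ m J3`. `Small`: `M = J3 ⟨c⟩`; `(t c j)² ≠ 1` for `j ∈ m J3`
(modulo `J1`: `(t c m)² = s`). `Lr`: `M = J3 ⟨k⟩` as in `t2a` with `J3, m` in place of `J1, s`;
`noC`, `noR`. -/
theorem t2b (E : Ex F) (h : L.β = 0) (hm : L.m ≠ 1) : False := by
  have h2 : F.s ≠ 1 := fun e => hm (L.ind.2.2.2.2 e)
  have tm := (L.tm.resolve_left fun k => hm k.1).2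
  obtain ⟨noC, a0⟩ := L.noC E h hm
  obtain ⟨lY, lZ, lA, lY1, l1, inf, -, -, -, dec, -⟩ := L.le
  obtain ⟨-, -, -, -, -, -, -, -, -, -, -, -, sc⟩ := L.rel
  replace sc := sc h2
  have mZ : L.m ∈ L.Z := subset_closure (by simp)
  have mm : L.m * L.m = 1 := L.el _ (lZ mZ)
  have sJ := ZJ L (sZ L)
  have Y1 : ∀ {a}, a ∈ L.J1 → a ∈ L.Z → a ∈ L.Y := fun a b => inf ▸ mem_inf.2 ⟨a, b⟩
  have s1 : F.s ∉ L.J1 := fun a => L.ind.2.2.1 h2 (Y1 a (sZ L))
  obtain ⟨K, hK, -⟩ := exists_ext F.ss (fun c hc => L.cenZ (sZ L) (l1 hc)) s1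
  have K1 : L.J1 ≤ K := fun a ha => (hK a).2 (.inl ha)
  have sK : F.s ∈ K := (hK _).2 (.inr (F.ss ▸ one_mem _))
  have KJ : K ≤ L.J := fun a ha => ((hK a).1 ha).elim (fun b => l1 b) fun b => (mul_mem_cancel_right sJ).1 (l1 b)
  have n1 : ∀ g ∈ normalizer (L.J : Set G), ∀ a ∈ L.J1, g * a * g⁻¹ ∈ L.J1 := fun g hg a =>
    (mem_normalizer_iff.1 (L.nJ1 h h2 hg) a).1
  have nK : ∀ g ∈ normalizer (L.J : Set G), ∀ a ∈ K, g * a * g⁻¹ ∈ K := fun g hg a ha => by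
    refine (hK _).2 (((hK a).1 ha).imp (n1 g hg a) fun b => ?_)
    have := mul_mem (n1 g hg _ b) (lY1 (L.n3 h h2 (inv_mem hg)))
    rwa [show g * (a * F.s) * g⁻¹ * (g⁻¹⁻¹ * F.s * g⁻¹ * F.s) = g * a * (F.s * F.s) * g⁻¹ * F.s by group, F.ss,
      mul_one] at this
  have mK : L.m ∉ K := fun a => ((hK _).1 a).elim (fun b => (L.ind.2.2.2.1 hm).1 (Y1 b mZ)) fun b =>
    (L.ind.2.2.2.1 hm).2 ((L.cenZ mZ sJ).eq ▸ Y1 b (mul_mem mZ (sZ L)))
  have dc : ∀ j ∈ L.J, j ∈ K ∨ j * L.m ∈ K := fun j hj => by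
    obtain ⟨k, hk, z, hz, rfl⟩ := dec j hj
    obtain ⟨v, hv, e⟩ := L.mem_Z.1 hz
    have c := (L.cenZ mZ (l1 (lY1 hv))).eq
    have v1 := K1 (lY1 hv)
    rcases e with rfl | rfl | rfl | rfl
    · exact .inl (mul_mem (K1 hk) v1)
    · exact .inl (mul_mem (K1 hk) (mul_mem sK v1))
    · refine .inr ?_
      rw [c, mul_assoc, mul_assoc, mm, mul_one]; exact mul_mem (K1 hk) v1
    · refine .inr ?_
      rw [mul_assoc F.s, c, mul_assoc, mul_assoc, mul_assoc, mm, mul_one]; exact mul_mem (K1 hk) (mul_mem sK v1)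
  refine fin L E h h2 K1 KJ (fun g hg => nK g (L.nJ hg)) mZ mK dc (fun g hg => (dc _ ?_).resolve_left fun a => mK ?_)
    noC fun v a b => s1 ?_
  · simpa using (mem_normalizer_iff.1 (inv_mem hg) _).1 (ZJ L mZ)
  · simpa [mul_assoc] using nK g hg _ a
  have vv : v * v = 1 := by
    obtain ⟨g, rfl⟩ := isConj_iff.1 b
    rw [show g * F.t * g⁻¹ * (g * F.t * g⁻¹) = g * (F.t * F.t) * g⁻¹ by group, F.tt]; simp
  have gn := inv_mem (L.nJ (mul_mem L.tS (csS L)))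
  have g2 : F.t * L.cs * (F.t * L.cs) ∈ L.J1 := tcs2 L ▸ cs2 L
  have mg : (F.t * L.cs)⁻¹ * L.m * (F.t * L.cs) = L.m * L.y * (F.s * F.z) := by
    have := L.cm hm
    have e : L.cs = F.c := by rw [cs, a0, pow_zero, mul_one]
    rw [a0, pow_zero, mul_one, ← e] at this
    rw [← this, ← sc, mul_inv_rev, inv_of_sq F.tt]
    calc _ = L.cs⁻¹ * (F.t * L.m * F.t) * L.cs := by group
      _ = _ := by rw [tm]; group
  generalize F.t * L.cs = g at a gn g2 mg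
  obtain ⟨x, hx⟩ : ∃ x, x = v * g * L.m := ⟨_, rfl⟩
  rw [← hx] at a
  have ev : v = x * L.m * g⁻¹ := by rw [hx, mul_assoc (v * g), mm]; group
  have x' : g⁻¹ * x * g ∈ L.J := by simpa using KJ (nK _ gn _ a)
  have q : x * (g⁻¹ * x * g) ∈ L.J1 := by
    rcases (hK x).1 a with c | c
    · exact mul_mem c (by simpa using n1 _ gn _ c)
    · have := mul_mem (mul_mem c (n1 _ gn _ c)) (lY1 (L.n3 h h2 (inv_mem_iff.1 gn)))
      rwa [show x * F.s * (g⁻¹ * (x * F.s) * g⁻¹⁻¹) * (g⁻¹ * F.s * g * F.s) =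
        x * F.s * (g⁻¹ * x * (F.s * F.s) * g * F.s) by group, F.ss, mul_one, ← (L.cenZ (sZ L) x').eq, mul_assoc,
        ← mul_assoc F.s, F.ss, one_mul] at this
  have e : x * (g⁻¹ * x * g) * L.y * F.s * F.z * (g * g)⁻¹ = 1 := by
    rw [← vv, ev]
    calc _ = x * ((g⁻¹ * x * g) * L.m) * (L.m * L.y * (F.s * F.z)) * (g * g)⁻¹ := by
          simp only [mul_assoc]; rw [← mul_assoc L.m L.m, mm, one_mul]
      _ = _ := by rw [← mg, ← (L.cenZ mZ x').eq]; group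
  have := (one_mem L.J1 : (1 : G) ∈ L.J1)
  rwa [← e, mul_mem_cancel_right (inv_mem g2), mul_mem_cancel_right (lY1 (subset_closure (by simp))),
    mul_mem_cancel_left (mul_mem q (lY1 (subset_closure (by simp))))] at this

end CL.H3.Lj
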