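import Cfsg.Agent.INV.H3.LB
import Cfsg.Agent.INV.H3.LJa
import Cfsg.Agent.INV.TwoS6.Mod

/-! S3140, `β = 0`, `s = 1`: the model `D = D₈ × D₈` of `J`, and extensions by one element. -/

set_option autoImplicit false
set_option linter.unusedSectionVars false
open Subgroup

namespace CL.H3.T4
open CL.HL CL.TwoS

/-- `u1 ^ a v1 ^ b u2 ^ c v2 ^ d P ^ p Q ^ q` -/
@[ext] structure D where
  a : Bool
  b : Bool
  c : Bool
  d : Bool
  p : Bool
  q : Bool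
deriving DecidableEq

namespace D

instance : Mul D := ⟨fun x y => ⟨xor x.a y.a, xor x.b y.b, xor x.c y.c, xor x.d y.d,
  xor (xor x.p y.p) (x.b && y.a), xor (xor x.q y.q) (x.d && y.c)⟩⟩
instance : One D := ⟨⟨false, false, false, false, false, false⟩⟩
instance : Inv D := ⟨fun x => ⟨x.a, x.b, x.c, x.d, xor x.p (x.a && x.b), xor x.q (x.c && x.d)⟩⟩

instance (P : D → Prop) [DecidablePred P] : Decidable (∀ w, P w) :=
  decidable_of_iff (∀ a b c d p q, P ⟨a, b, c, d, p, q⟩) ⟨fun h _ => h _ _ _ _ _ _, fun h _ _ _ _ _ _ => h _⟩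
instance (P : D → Prop) [DecidablePred P] : Decidable (∃ w, P w) :=
  decidable_of_iff (∃ a b c d p q, P ⟨a, b, c, d, p, q⟩)
    ⟨fun ⟨_, _, _, _, _, _, h⟩ => ⟨_, h⟩, fun ⟨_, h⟩ => ⟨_, _, _, _, _, _, h⟩⟩

theorem coc : ∀ b p a' b' p' a'' p'' : Bool, xor (xor (xor (xor p p') (b && a')) p'') (xor b b' && a'') =
    xor (xor p (xor (xor p' p'') (b' && a''))) (b && xor a' a'') := by decide

instance : Group D := Group.ofLeftAxioms
  (fun _ _ _ => D.ext (Bool.xor_assoc _ _ _) (Bool.xor_assoc _ _ _) (Bool.xor_assoc _ _ _) (Bool.xor_assoc _ _ _)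
    (coc _ _ _ _ _ _ _) (coc _ _ _ _ _ _ _)) (by decide) (by decide)

def u1 : D := ⟨true, false, false, false, false, false⟩
def v1 : D := ⟨false, true, false, false, false, false⟩
def u2 : D := ⟨false, false, true, false, false, false⟩
def v2 : D := ⟨false, false, false, true, false, false⟩
/-- the centre -/
def yy (p q : Bool) : D := ⟨false, false, false, false, p, q⟩
def P : D := yy true false
def Q : D := yy false true
def Z : D := yy true true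

/-- the map with given images of the generators -/
def ap (A B C E P Q w : D) : D := bp A w.a * bp B w.b * bp C w.c * bp E w.d * bp P w.p * bp Q w.q

theorem dec : ∀ w, w = ap u1 v1 u2 v2 P Q w := by decide

/-- the action of `t` -/
def τ : D → D := ap u2 (v2 * Z) u1 (v1 * Z) Q P
/-- the action of `c` for `α = 0`, `α = 1` -/
def γ0 : D → D := ap v1 (u1 * P) (v2 * Z) (u2 * P) P Q
def γ1 : D → D := ap v2 (u2 * P) (v1 * Z) (u1 * P) Q P

end D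
open D

variable {G : Type*} [Group G]

def δ (u v p : G) (a b e : Bool) : G := bp u a * bp v b * bp p e

theorem δ_mul {u v p : G} (uu : u * u = 1) (vv : v * v = 1) (pp : p * p = 1) (h : u * v * (u * v) = p)
    (pu : Commute p u) (pv : Commute p v) (a b e a' b' e' : Bool) :
    δ u v p (xor a a') (xor b b') (xor (xor e e') (b && a')) = δ u v p a b e * δ u v p a' b' e' := by
  have vu : v * u = u * (v * p) := by
    calc _ = u * (u * v * (u * v)) * v := by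
          rw [mul_assoc u v, ← mul_assoc u u, uu, one_mul, mul_assoc, mul_assoc, vv, mul_one]
      _ = _ := by rw [h, mul_assoc, pv.eq]
  have c : ∀ {x y : G}, x * x = 1 → x * (x * y) = y := fun k => by rw [← mul_assoc, k, one_mul]
  have vu' : ∀ y, v * (u * y) = u * (v * (p * y)) := fun y => by rw [← mul_assoc, vu]; simp only [mul_assoc]
  cases a <;> cases b <;> cases e <;> cases a' <;> cases b' <;> cases e' <;>
    simp [δ, mul_assoc, uu, vv, pp, c uu, c vv, vu, vu', pu.eq, pv.eq, pu.left_comm, pv.left_comm]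

theorem δ_comm {u v p g : G} (hu : Commute g u) (hv : Commute g v) (hp : Commute g p) (a b e : Bool) :
    Commute g (δ u v p a b e) := ((comm_bp hu a).mul_right (comm_bp hv b)).mul_right (comm_bp hp e)

theorem act {ι : D →* G} {g : G} {A B C E P' Q' : D} (h1 : g⁻¹ * ι u1 * g = ι A) (h2 : g⁻¹ * ι v1 * g = ι B)
    (h3 : g⁻¹ * ι u2 * g = ι C) (h4 : g⁻¹ * ι v2 * g = ι E) (h5 : g⁻¹ * ι P * g = ι P')
    (h6 : g⁻¹ * ι Q * g = ι Q') (w : D) : g⁻¹ * ι w * g = ι (ap A B C E P' Q' w) := by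
  have k : ∀ {x y : D} (i : Bool), g⁻¹ * ι x * g = ι y → g⁻¹ * ι (bp x i) * g = ι (bp y i) := fun i h => by
    cases i
    · simp
    · exact h
  have m : ∀ {x y x' y' : D}, g⁻¹ * ι x * g = ι y → g⁻¹ * ι x' * g = ι y' → g⁻¹ * ι (x * x') * g = ι (y * y') :=
    fun h h' => by rw [map_mul, map_mul, ← h, ← h']; group
  conv_lhs => rw [dec w]
  exact m (m (m (m (m (k _ h1) (k _ h2)) (k _ h3)) (k _ h4)) (k _ h5)) (k _ h6)

/-- a faithful model of a subgroup -/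
structure Md {M : Type} (mul : M → M → M) (ev : M → G) : Prop where
  mul : ∀ x y, ev (mul x y) = ev x * ev y
  inj : Function.Injective ev
  one : ∃ x, ev x = 1

/-- extension by an element acting as `φ`, with square `s` -/
def mulE {M : Type} (mul : M → M → M) (φ : M → M) (s : M) (x y : M × Bool) : M × Bool :=
  (cond x.2 (cond y.2 (mul (mul x.1 (φ y.1)) s) (mul x.1 (φ y.1))) (mul x.1 y.1), xor x.2 y.2)

def evE {M : Type} (ev : M → G) (g : G) (x : M × Bool) : G := ev x.1 * bp g x.2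

namespace Md
variable [Finite G] {M : Type} {mul : M → M → M} {ev : M → G} (h : Md mul ev)
include h

def sub : Subgroup G := subOfMul {g | ∃ x, ev x = g} h.one (by
  rintro _ ⟨x, rfl⟩ _ ⟨y, rfl⟩; exact ⟨_, h.mul x y⟩)

theorem step {g : G} {φ : M → M} {s : M} (hφ : ∀ x, g * ev x = ev (φ x) * g) (hs : g * g = ev s)
    (out : ∀ m, ∃ x, mul m x ≠ mul (φ x) m) : Md (mulE mul φ s) (evE ev g) := by
  have no : ∀ x y, ev x * g ≠ ev y := fun x y e => by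
    obtain ⟨m, hm⟩ : g ∈ h.sub := (mul_mem_cancel_left (show ev x ∈ h.sub from ⟨x, rfl⟩)).1 ⟨y, e.symm⟩
    obtain ⟨x, hx⟩ := out m
    exact hx (h.inj (by rw [h.mul, h.mul, hm, hφ]))
  refine ⟨?_, ?_, h.one.elim fun x e => ⟨(x, false), by simp [evE, e]⟩⟩
  · rintro ⟨x, _ | _⟩ ⟨y, _ | _⟩ <;> simp only [evE, mulE, cond, bp_true, bp_false, mul_one, h.mul, Bool.xor_false,
      Bool.xor_true, Bool.not_true, Bool.not_false, mul_assoc, ← hφ]
    rw [← hs, ← mul_assoc (ev (φ y)), ← hφ, mul_assoc]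
  · rintro ⟨x, _ | _⟩ ⟨y, _ | _⟩ e <;> simp only [evE, bp_true, bp_false, mul_one, mul_left_inj] at e
    exacts [by rw [h.inj e], (no _ _ e.symm).elim, (no _ _ e).elim, by rw [h.inj e]]

end Md

variable [Finite G] {F : Fr G}

/-- `ι` is an isomorphism of `D` onto `J` -/
structure Io (L : Lj F) (ι : D →* G) : Prop where
  inj : Function.Injective ι
  memJ : ∀ {g}, g ∈ L.J ↔ ∃ w, ι w = g
  memY : ∀ {g}, g ∈ L.Y ↔ ∃ p q, ι (yy p q) = g
  ZY : L.Z = L.Y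
  J1 : L.J = L.J1
  u1 : ι u1 = L.x
  v1 : ι v1 = F.e * L.b
  u2 : ι u2 = F.d * L.x
  v2 : ι v2 = L.b
  P : ι P = L.y
  Q : ι Q = L.y * F.z
  Z : ι Z = F.z

theorem exists_io (L : Lj F) (h : L.β = 0) (h1 : F.s = 1) : ∃ ι, Io L ι := by
  obtain ⟨ff, ef, -, -, -, bb, eb, -⟩ := L.rel
  obtain ⟨r1, r2, r3, r4⟩ := L.rel0 h
  obtain ⟨y1, yz, -, -, m1⟩ := L.ind
  obtain ⟨YZ, ZA, AJ, YJ, J1J, -, -, -, -, dec, -⟩ := L.le
  have ZY : L.Z = L.Y := le_antisymm (fun w hw => by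
    obtain ⟨v, hv, e⟩ := L.mem_Z.1 hw
    simp only [h1, m1 h1, one_mul, or_self] at e
    exact e ▸ hv) YZ
  have yY : L.y ∈ L.Y := subset_closure (by simp)
  have zY : F.z ∈ L.Y := subset_closure (by simp)
  have qY := mul_mem yY zY
  have xJ := AJ L.toLa.xA
  have dJ := AJ L.toLa.dA
  have eJ : F.e ∈ L.J := J1J (subset_closure (by simp))
  have fJ : L.f ∈ L.J := J1J (subset_closure (by simp))
  have bJ : L.b ∈ L.J := mul_mem (pow_mem eJ _) fJ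
  have cy : ∀ {w j}, w ∈ L.Y → j ∈ L.J → Commute w j := fun hw hj => L.cenZ (YZ hw) hj
  have xx := L.el _ L.toLa.xA
  have yy' := L.el _ L.toLa.yA
  have dx := L.toLa.cm L.toLa.dA L.toLa.xA
  have qq := L.el _ (mul_mem L.toLa.yA L.toLa.zA)
  have e2 : F.e * L.b * (F.e * L.b) = 1 := by rw [eb.symm.mul_mul_mul_comm, F.ee, bb, one_mul]
  let ι : D →* G := MonoidHom.mk' (fun w => δ L.x (F.e * L.b) L.y w.a w.b w.p *
    δ (F.d * L.x) L.b (L.y * F.z) w.c w.d w.q) fun v w => by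
      refine (congrArg₂ _ (δ_mul xx e2 yy' r3 (cy yY xJ) (cy yY (mul_mem eJ bJ)) _ _ _ _ _ _)
        (δ_mul (L.el _ (mul_mem L.toLa.dA L.toLa.xA)) bb qq r4 (cy qY (mul_mem dJ xJ)) (cy qY bJ) _ _ _ _ _ _)).trans
        (Commute.mul_mul_mul_comm (δ_comm (δ_comm ?_ ?_ ?_ _ _ _).symm (δ_comm ?_ ?_ ?_ _ _ _).symm
          (δ_comm ?_ ?_ ?_ _ _ _).symm _ _ _) _ _)
      exacts [dx.mul_left (Commute.refl _), r2, (cy yY (mul_mem dJ xJ)).symm, r1.symm,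
        eb.symm.mul_right (Commute.refl _), (cy yY bJ).symm, cy qY xJ, cy qY (mul_mem eJ bJ), cy qY (AJ L.toLa.yA)]
  have a1 : ι u1 = L.x := by simp [ι, δ, u1]
  have a2 : ι v1 = F.e * L.b := by simp [ι, δ, v1]
  have a3 : ι u2 = F.d * L.x := by simp [ι, δ, u2]
  have a4 : ι v2 = L.b := by simp [ι, δ, v2]
  have a5 : ι P = L.y := by simp [ι, δ, P, yy]
  have a6 : ι Q = L.y * F.z := by simp [ι, δ, Q, yy]
  have a7 : ι Z = F.z := by rw [show Z = P * Q from rfl, map_mul, a5, a6, ← mul_assoc, yy', one_mul]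
  have mY : ∀ {g}, g ∈ L.Y ↔ ∃ p q, ι (yy p q) = g := fun {g} => ⟨fun k => by
    rcases L.mem_Y.1 k with rfl | rfl | rfl | rfl
    exacts [⟨false, false, map_one ι⟩, ⟨_, _, a5⟩, ⟨_, _, a7⟩, ⟨_, _, a6⟩], by
    rintro ⟨_ | _, _ | _, rfl⟩
    exacts [(map_one ι).symm ▸ one_mem _, a6.symm ▸ qY, a5.symm ▸ yY, a7.symm ▸ zY]⟩
  have n : ∀ {w}, w = P ∨ w = Q ∨ w = Z → ι w ≠ 1 := by
    rintro _ (rfl | rfl | rfl)
    exacts [a5 ▸ y1, a6 ▸ fun e => yz (by rw [eq_inv_of_mul_eq_one_left e, inv_eq_of_mul_eq_one_right F.zz]),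
      a7 ▸ F.z1]
  have JJ : L.J = L.J1 := le_antisymm (fun j hj => by
    obtain ⟨k, hk, w, hw, rfl⟩ := dec j hj
    exact mul_mem hk (YJ (ZY ▸ hw))) J1J
  refine ⟨ι, (injective_iff_map_eq_one _).2 fun w e => by_contra fun k => ?_, fun {g} => ⟨fun k => ?_, ?_⟩, mY, ZY, JJ,
    a1, a2, a3, a4, a5, a6, a7⟩
  · rcases (by decide : ∀ w : D, w ≠ 1 → (w = P ∨ w = Q ∨ w = Z) ∨
      ∃ g, w * g * w⁻¹ * g⁻¹ = P ∨ w * g * w⁻¹ * g⁻¹ = Q ∨ w * g * w⁻¹ * g⁻¹ = Z) w k with k | ⟨g, k⟩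
    exacts [n k e, n k (by simp [e])]
  · refine (closure_le ι.range).2 ?_ (JJ ▸ k :)
    have he : F.e ∈ ι.range := ⟨v1 * v2, by rw [map_mul, a2, a4, mul_assoc, bb, mul_one]⟩
    rintro _ (rfl | rfl | rfl | rfl)
    exacts [⟨u2 * u1, by rw [map_mul, a3, a1, mul_assoc, xx, mul_one]⟩, ⟨_, a1⟩, he,
      (mul_mem_cancel_left (pow_mem he (L.α + 1))).1 ⟨_, a4⟩]
  · rintro ⟨w, rfl⟩
    have k : ∀ {x} (i : Bool), ι x ∈ L.J → ι (bp x i) ∈ L.J := fun i h => by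
      cases i
      exacts [(map_one ι).symm ▸ one_mem _, h]
    rw [D.dec w, ap]
    simp only [map_mul]
    exact mul_mem (mul_mem (mul_mem (mul_mem (mul_mem (k _ (a1 ▸ xJ)) (k _ (a2 ▸ mul_mem eJ bJ)))
      (k _ (a3 ▸ mul_mem dJ xJ))) (k _ (a4 ▸ bJ))) (k _ (a5 ▸ J1J (YJ yY)))) (k _ (a6 ▸ J1J (YJ qY)))

namespace Io
variable {L : Lj F} {ι : D →* G} (I : Io L ι)
include I

theorem md : Md (· * ·) ι := ⟨map_mul ι, I.inj, 1, map_one ι⟩
theorem mem (w : D) : ι w ∈ L.J := I.memJ.2 ⟨w, rfl⟩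
theorem d : ι (D.u2 * D.u1) = F.d := by rw [map_mul, I.u2, I.u1, mul_assoc, L.el _ L.toLa.xA, mul_one]
theorem e : ι (D.v1 * D.v2) = F.e := by rw [map_mul, I.v1, I.v2, mul_assoc, L.rel.2.2.2.2.2.1, mul_one]
theorem cc : ι (D.u2 * D.u1 * (D.v1 * D.v2)) = F.c * F.c := by rw [map_mul, I.d, I.e, F.cr.cc]

theorem tau (w : D) : F.t * ι w * F.t = ι (τ w) := by
  have ti : F.t⁻¹ = F.t := inv_eq_of_mul_eq_one_right F.tt
  have sw : ∀ {x y}, F.t * x * F.t = y → F.t * y * F.t = x := fun k => by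
    rw [← k, ← mul_assoc, ← mul_assoc, F.tt, one_mul, mul_assoc, F.tt, mul_one]
  have k1 : F.t * ι D.u1 * F.t = ι D.u2 := by rw [I.u1, I.u2, L.tx, (L.toLa.cm L.toLa.dA L.toLa.xA).eq]
  have k2 : F.t * ι D.v2 * F.t = ι (D.v1 * D.Z) := by rw [map_mul, I.v2, I.v1, I.Z, L.rel.2.2.2.2.2.2.2.1]
  have k3 : F.t * ι D.P * F.t = ι D.Q := by rw [I.P, I.Q, L.ty]
  have k4 : F.t * ι D.v1 * F.t = ι (D.v2 * D.Z) := by
    rw [show D.v1 = D.v1 * D.Z * D.Z from rfl, map_mul, La.cjm F.tt, sw k2, map_mul, I.Z, La.fx F.tt F.tz]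
  have cv : ∀ {x y}, F.t * x * F.t = y → F.t⁻¹ * x * F.t = y := fun k => by rwa [ti]
  have := act (ι := ι) (cv k1) (cv k4) (cv (sw k1)) (cv k2) (cv k3) (cv (sw k3)) w
  rwa [ti] at this

theorem f0 (ha : L.α = 0) : ι D.v1 = L.f := by
  rw [I.v1, Lj.b, ha, zero_add, pow_one, ← mul_assoc, F.ee, one_mul]
theorem f1 (ha : L.α = 1) : ι D.v2 = L.f := by
  rw [I.v2, Lj.b, ha, ← two_mul, pow_mul, sq, F.ee, one_pow, one_mul]

theorem cm (x y : G) : F.c⁻¹ * (x * y) * F.c = F.c⁻¹ * x * F.c * (F.c⁻¹ * y * F.c) := by group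

theorem gam0 (ha : L.α = 0) (w : D) : F.c⁻¹ * ι w * F.c = ι (γ0 w) := by
  have k1 : F.c⁻¹ * ι D.u1 * F.c = ι D.v1 := by rw [I.u1, I.f0 ha, L.hf]
  have k2 : F.c⁻¹ * ι D.v1 * F.c = ι (D.u1 * D.P) := by
    rw [I.f0 ha, L.rel.2.2.2.1, ← I.P, ← I.u1, ← map_mul]; rfl
  have k5 : F.c⁻¹ * ι D.P * F.c = ι D.P := by rw [I.P, L.cy, ha, pow_zero, mul_one]
  refine act k1 k2 ?_ ?_ k5 ?_ w
  · rw [show D.u2 = D.u2 * D.u1 * D.u1 from rfl, map_mul, I.cm, k1, I.d, F.cr.dc, ← I.e, ← I.Z, ← map_mul, ← map_mul]; rfl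
  · rw [show D.v2 = D.v1 * D.v2 * D.v1 from rfl, map_mul, I.cm, k2, I.e, F.cr.ec, ← I.d, ← map_mul]; rfl
  · rw [show D.Q = D.P * D.Z from rfl, map_mul, I.cm, k5, I.Z, mul_assoc _ F.z, F.cr.zc.eq, inv_mul_cancel_left]

theorem gam1 (ha : L.α = 1) (w : D) : F.c⁻¹ * ι w * F.c = ι (γ1 w) := by
  have k1 : F.c⁻¹ * ι D.u1 * F.c = ι D.v2 := by rw [I.u1, I.f1 ha, L.hf]
  have k2 : F.c⁻¹ * ι D.v2 * F.c = ι (D.u1 * D.P) := by
    rw [I.f1 ha, L.rel.2.2.2.1, ← I.P, ← I.u1, ← map_mul]; rfl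
  have k5 : F.c⁻¹ * ι D.P * F.c = ι D.Q := by rw [I.P, L.cy, ha, pow_one, I.Q]
  refine act k1 ?_ ?_ k2 k5 ?_ w
  · rw [show D.v1 = D.v1 * D.v2 * D.v2 from rfl, map_mul, I.cm, k2, I.e, F.cr.ec, ← I.d, ← map_mul]; rfl
  · rw [show D.u2 = D.u2 * D.u1 * D.u1 from rfl, map_mul, I.cm, k1, I.d, F.cr.dc, ← I.e, ← I.Z, ← map_mul, ← map_mul]; rfl
  · rw [show D.Q = D.P * D.Z from rfl, map_mul, I.cm, k5, I.Z, mul_assoc _ F.z, F.cr.zc.eq, inv_mul_cancel_left, ← I.Z,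
      ← map_mul]; rfl

/-- the action of `r` -/
theorem lr (R : Lr L) : ∃ p1 q1 p2 q2 p3 q3 p4 q4, ∀ w, R.r⁻¹ * ι w * R.r =
    ι (ap (D.v1 * yy p1 q1) (D.u1 * yy p2 q2) (D.u2 * yy p3 q3) (D.v2 * yy p4 q4) D.P D.Q w) := by
  have k : ∀ {v w : D}, (ι v)⁻¹ * (R.r⁻¹ * ι w * R.r) ∈ L.Z → ∃ p q, R.r⁻¹ * ι w * R.r = ι (v * yy p q) := fun h => by
    obtain ⟨p, q, e⟩ := I.memY.1 (I.ZY ▸ h)
    exact ⟨p, q, by rw [map_mul, e, mul_inv_cancel_left]⟩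
  obtain ⟨p1, q1, e1⟩ := k (v := D.v1) (w := D.u1) (by rw [I.v1, I.u1]; exact R.rx)
  obtain ⟨p2, q2, e2⟩ := k (v := D.u1) (w := D.v1) (by rw [I.v1, I.u1]; exact R.rb1)
  obtain ⟨p3, q3, e3⟩ := k (v := D.u2) (w := D.u2) (by rw [I.u2]; exact R.rdx)
  obtain ⟨p4, q4, e4⟩ := k (v := D.v2) (w := D.v2) (by rw [I.v2]; exact R.rb)
  exact ⟨_, _, _, _, _, _, _, _, act e1 e2 e3 e4 (by rw [I.P, mul_assoc, R.ry.eq, inv_mul_cancel_left])
    (by rw [I.Q, mul_assoc, (R.ry.mul_left R.rz).eq, inv_mul_cancel_left])⟩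

end Io

end CL.H3.T4
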