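import Cfsg.Agent.INV.H3.LT4a

/-! S3140, `β = 0`, `s = 1`: transfer, the Frattini argument for `θ`. -/

set_option autoImplicit false
set_option linter.unusedSectionVars false
open Subgroup

namespace CL.H3.T4
open CL.HL CL.TwoS CL.MSS D

variable {G : Type*} [Group G] [Finite G] {F : Fr G} {L : Lj F} {ι : D →* G}

theorem two_le {A B : Subgroup G} (h : A < B) : 2 * Nat.card A ≤ Nat.card B := by
  obtain ⟨k, hk⟩ := card_dvd_of_le h.le
  have h1 : ¬ Nat.card B ≤ Nat.card A := fun e => h.ne (eq_of_le_of_card_ge h.le e)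
  have h2 : 0 < Nat.card B := Nat.card_pos
  rcases k with _ | _ | k
  · omega
  · omega
  · rw [hk]; nlinarith

theorem yY (L : Lj F) : L.y ∈ L.Y := subset_closure (by simp)
theorem zY (L : Lj F) : F.z ∈ L.Y := subset_closure (by simp)
theorem cJ (L : Lj F) {w j : G} (hw : w ∈ L.Y) (hj : j ∈ L.J) : Commute w j := L.cenZ (L.le.1 hw) hj
theorem cY (L : Lj F) {w g : G} (hw : w ∈ L.Y) (h1 : Commute L.y g) (h2 : Commute F.z g) : Commute w g := by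
  rcases L.mem_Y.1 hw with rfl | rfl | rfl | rfl
  exacts [Commute.one_left _, h1, h2, h1.mul_left h2]
theorem sqY (L : Lj F) {w : G} (hw : w ∈ L.Y) : w * w = 1 := L.el _ (L.le.2.1 (L.le.1 hw))
theorem csS (L : Lj F) : L.cs ∈ L.S := mul_mem L.cS (pow_mem L.tS _)

theorem drop (L : Lj F) {a j b : G} (hj : j ∈ L.J) (hb : b ∈ L.S) : a * j * b ∈ L.J ↔ a * b ∈ L.J := by
  rw [show a * j * b = a * b * (b⁻¹ * j * b⁻¹⁻¹) by group]
  exact mul_mem_cancel_right ((mem_normalizer_iff.1 (L.nJ (inv_mem hb)) _).1 hj)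

theorem cyi (L : Lj F) {g u : G} (h : g * u ∈ L.J) : Commute L.y g ↔ Commute L.y u :=
  have k := cJ L (yY L) h
  ⟨fun e => by simpa using e.inv_right.mul_right k, fun e => by simpa using k.mul_right e.inv_right⟩

theorem nty (L : Lj F) : ¬ Commute L.y F.t := fun h => L.toLa.nty h.symm

theorem yr' (R : Lr L) : Commute L.y (F.t * R.r * F.t) ∧ Commute F.z (F.t * R.r * F.t) := by
  refine ⟨?_, (F.tz.symm.mul_right R.rz).mul_right F.tz.symm⟩
  have := (R.ry.mul_left R.rz).conj F.t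
  rwa [inv_eq_of_mul_eq_one_right F.tt, ← L.ty, ← mul_assoc, ← mul_assoc, F.tt, one_mul, mul_assoc, F.tt,
    mul_one] at this

theorem cov0 (hs : L.Small) {g : G} (hg : g ∈ L.S) :
    (Commute L.y g ∨ Commute L.y (g * F.t)) ∧ (Commute L.y g → g ∈ L.J ∨ g * L.cs ∈ L.J) := by
  have yc := L.rel.2.2.2.2.2.2.2.2.1
  rcases hs g hg with k | k | k | k
  · exact ⟨.inl (cJ L (yY L) k), fun _ => .inl k⟩
  · exact ⟨.inr (cJ L (yY L) k), fun e => (nty L ((cyi L k).1 e)).elim⟩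
  · exact ⟨.inl ((cyi L k).2 yc), fun _ => .inr k⟩
  · exact ⟨.inr ((cyi L (mul_assoc g _ _ ▸ k)).2 yc), fun e =>
      (nty L (by simpa using ((cyi L k).1 e).mul_right yc.inv_right)).elim⟩

theorem cov1 (R : Lr L) {g : G} (hg : g ∈ L.S) :
    (Commute L.y g ∨ Commute L.y (g * F.t)) ∧ (Commute L.y g → g ∈ L.J ∨ g * L.cs ∈ L.J ∨ g * R.r ∈ L.J ∨
      g * (F.t * R.r * F.t) ∈ L.J) := by
  have yc := L.rel.2.2.2.2.2.2.2.2.1
  rcases R.dec g hg with k | k | k | k | k | k | ⟨k | k, -⟩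
  · exact ⟨.inl (cJ L (yY L) k), fun _ => .inl k⟩
  · exact ⟨.inr (cJ L (yY L) k), fun e => (nty L ((cyi L k).1 e)).elim⟩
  · exact ⟨.inl ((cyi L k).2 yc), fun _ => .inr (.inl k)⟩
  · exact ⟨.inr ((cyi L (mul_assoc g _ _ ▸ k)).2 yc), fun e =>
      (nty L (by simpa using ((cyi L k).1 e).mul_right yc.inv_right)).elim⟩
  · exact ⟨.inl ((cyi L k).2 R.ry), fun _ => .inr (.inr (.inl k))⟩
  · exact ⟨.inl ((cyi L k).2 (yr' R).1), fun _ => .inr (.inr (.inr k))⟩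
  · exact ⟨.inr ((cyi L (u := F.t * R.r * F.t) (by
      rwa [← mul_assoc, ← mul_assoc, mul_assoc g, F.tt, mul_one, mul_assoc])).2 (yr' R).1), fun e =>
      (nty L (by simpa using R.ry.inv_right.mul_right ((cyi L k).1 e))).elim⟩
  · exact ⟨.inr ((cyi L (mul_assoc g _ _ ▸ k)).2 R.ry), fun e =>
      (nty L (by simpa using ((cyi L k).1 e).mul_right R.ry.inv_right)).elim⟩

theorem Io.cmY (I : Io L ι) {a j : G} (ha : a ∈ L.J) (hj : j ∈ L.J) : a⁻¹ * (j⁻¹ * a * j) ∈ L.Y := by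
  obtain ⟨v, rfl⟩ := I.memJ.1 ha
  obtain ⟨w, rfl⟩ := I.memJ.1 hj
  have := (by decide +kernel : ∀ v w : D, yy (v⁻¹ * (w⁻¹ * v * w)).p (v⁻¹ * (w⁻¹ * v * w)).q = v⁻¹ * (w⁻¹ * v * w)) v w
  exact I.memY.2 ⟨_, _, by rw [this]; simp⟩

/-- replace `r` by `r j` -/
def Io.mulJ (I : Io L ι) (R : Lr L) {j : G} (hj : j ∈ L.J) : Lr L :=
  have mv : ∀ {a b}, b ∈ L.J → b⁻¹ * (R.r⁻¹ * a * R.r) ∈ L.Z → b⁻¹ * ((R.r * j)⁻¹ * a * (R.r * j)) ∈ L.Z :=
    fun {a b} hb h => by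
      rw [show b⁻¹ * ((R.r * j)⁻¹ * a * (R.r * j)) = b⁻¹ * j⁻¹ * b * (b⁻¹ * (R.r⁻¹ * a * R.r) * j) by group,
        (L.cenZ h hj).eq, ← mul_assoc]
      exact mul_mem (I.ZY ▸ by simpa [mul_assoc] using I.cmY hb hj) h
  have tS := L.tS
  have rS := R.rS
  have jS := L.JS hj
  have cS := csS L
  { r := R.r * j
    rS := mul_mem rS jS
    ry := R.ry.mul_right (cJ L (yY L) hj)
    rz := R.rz.mul_right (cJ L (zY L) hj)
    rx := mv (I.v1 ▸ I.mem _) R.rx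
    rb1 := mv (I.u1 ▸ I.mem _) R.rb1
    rdx := mv (I.u2 ▸ I.mem _) R.rdx
    rb := mv (I.v2 ▸ I.mem _) R.rb
    rr := by
      rw [drop L hj (mul_mem rS jS), ← mul_assoc]; exact mul_mem R.rr hj
    rc := by
      rw [mul_assoc, drop L hj (mul_mem (mul_mem (mul_mem tS (mul_mem rS jS)) tS) cS),
        show R.r * (F.t * (R.r * j) * F.t * L.cs) = R.r * F.t * R.r * j * (F.t * L.cs) by group,
        drop L hj (mul_mem tS cS)]
      simpa only [mul_assoc] using R.rc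
    tr := by
      rw [show (R.r * j)⁻¹ * F.t * (R.r * j) * (F.t * L.cs) = j⁻¹ * (R.r⁻¹ * F.t * R.r * j * (F.t * L.cs)) by group,
        mul_mem_cancel_left (inv_mem hj), drop L hj (mul_mem tS cS)]
      exact R.tr
    dec := fun g hg => by
      have a1 : g * (R.r * j) ∈ L.J ↔ g * R.r ∈ L.J := by rw [← mul_assoc, mul_mem_cancel_right hj]
      have a2 : g * (F.t * (R.r * j) * F.t) ∈ L.J ↔ g * (F.t * R.r * F.t) ∈ L.J := by
        rw [show g * (F.t * (R.r * j) * F.t) = g * F.t * R.r * j * F.t by group, drop L hj tS]; simp only [mul_assoc]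
      have a3 : g * (R.r * j * F.t) ∈ L.J ↔ g * (R.r * F.t) ∈ L.J := by
        rw [show g * (R.r * j * F.t) = g * R.r * j * F.t by group, drop L hj tS, mul_assoc]
      have a4 : g * (F.t * (R.r * j)) ∈ L.J ↔ g * (F.t * R.r) ∈ L.J := by
        rw [← mul_assoc F.t, ← mul_assoc, mul_mem_cancel_right hj]
      rw [a1, a2, a3, a4]
      exact R.dec g hg }

theorem Io.noR0 (I : Io L ι) (h1 : F.s = 1) (R : Lr L) : ¬ IsConj F.t R.r := fun hu => by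
  obtain ⟨p1, q1, p2, q2, p3, q3, p4, q4, e⟩ := I.lr R
  have uu : R.r * R.r = 1 := by
    obtain ⟨g, e⟩ := isConj_iff.1 hu
    rw [← e, conj_mul, F.tt, mul_one, mul_inv_cancel]
  have uJ : R.r ∉ L.J := fun k => by
    obtain ⟨j, k⟩ := I.memJ.1 k
    have := e D.u1
    rw [← k, ← map_inv, ← map_mul, ← map_mul] at this
    exact (by decide : ∀ b : Bool, xor (xor b true) b ≠ false) j.a (congrArg D.a (I.inj this))
  have c : ∀ {v}, v ∈ L.Y → Commute v R.r := fun k => cY L k R.ry R.rz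
  let X : Subgroup G := subOfMul {g | g ∈ L.Y ∨ R.r * g ∈ L.Y} (.inl (one_mem _)) (by
    rintro a (ha | ha) b (hb | hb)
    · exact .inl (mul_mem ha hb)
    · exact .inr (by rw [← (c ha).left_comm]; exact mul_mem ha hb)
    · exact .inr (by rw [← mul_assoc]; exact mul_mem ha hb)
    · refine .inl ?_
      have := mul_mem ha hb
      rwa [← mul_assoc, (c ha).eq, ← mul_assoc, uu, one_mul] at this)
  have rX : R.r ∈ X := .inr (uu ▸ one_mem _)
  have YJ := L.le.2.2.2.1.trans L.le.2.2.2.2.1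
  have cX : ∀ {k}, k ∈ L.J ∨ k ∈ X → Commute k R.r → ∀ x ∈ X, Commute x k := fun {k} hk h x hx => by
    have cv : ∀ {v}, v ∈ L.Y → Commute v k := fun hv => by
      rcases hk with a | a | a
      exacts [cJ L hv a, cJ L hv (YJ a), by simpa using (c hv).inv_right.mul_right (cJ L hv (YJ a))]
    exact hx.elim cv fun a => by simpa using h.symm.inv_left.mul_left (cv a)
  have Xr : ∀ x ∈ X, Commute x R.r := cX (.inr rX) (Commute.refl _)
  have c4 := L.cen.2.2.2.2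
  have c8 : Nat.card X = 8 := by
    have a := R3.card_le_two (X := L.Y) (Y := X) R.r fun _ h => h
    have b := two_le (lt_of_le_of_ne (show L.Y ≤ X from fun _ h => .inl h) fun k => uJ (YJ (k ▸ rX)))
    omega
  obtain ⟨w, hw, k⟩ := (by decide +kernel : ∀ p1 q1 p2 q2 p3 q3 p4 q4, ∃ w, w ≠ yy w.p w.q ∧
    ap (D.v1 * yy p1 q1) (D.u1 * yy p2 q2) (D.u2 * yy p3 q3) (D.v2 * yy p4 q4) D.P D.Q w = w) p1 q1 p2 q2 p3 q3 p4 q4
  have XS : X ≤ L.S := fun x hx => hx.elim (fun a => L.JS (YJ a)) fun a => (mul_mem_cancel_left R.rS).1 (L.JS (YJ a))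
  have a := c8' F h1 hu (X := X) (Y := L.S ⊓ centralizer X) (fun x hx => hx.elim (sqY L) fun a => by
    have := sqY L a
    rwa [(Xr x hx).mul_mul_mul_comm, uu, one_mul] at this) c8 rX (L.syl.pgroup.to_le inf_le_left) fun y hy => hy.2
  have b := two_le (lt_of_le_of_ne (show X ≤ L.S ⊓ centralizer X from fun x hx => ⟨XS hx, cX (.inr hx) (Xr x hx)⟩)
    fun a => by
      have : ι w ∈ X := a ▸ ⟨L.JS (I.mem w), cX (.inl (I.mem w)) (Fr.comm_of_fix ((e w).trans (congrArg ι k)))⟩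
      rcases this with b | b
      · obtain ⟨p, q, b⟩ := I.memY.1 b
        exact hw (by rw [← I.inj b]; rfl)
      · exact uJ ((mul_mem_cancel_right (I.mem w)).1 (YJ b)))
  omega

theorem tX4 (E : Ex F) (h : L.β = 0) (h1 : F.s = 1) : F.t ∉ E.X ∧ L.J ≤ E.X := by
  obtain ⟨ι, I⟩ := exists_io L h h1
  have nX := E.nX
  obtain ⟨-, dX, -, eX, -, cm, -⟩ := E.memX
  have sq : ∀ {g}, IsConj F.t g → g⁻¹ = g := fun hu => by
    obtain ⟨g, e⟩ := isConj_iff.1 hu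
    exact inv_eq_of_mul_eq_one_right (by rw [← e, conj_mul, F.tt, mul_one, mul_inv_cancel])
  have n1 : ∀ {g}, g * L.cs ∈ L.J → ¬ IsConj F.t g := fun {g} k hu => L.no_inv (I.J1 ▸ inv_mem k) (by
    rw [mul_inv_rev, mul_inv_cancel_left]
    nth_rw 1 [sq hu]
    exact mul_inv_cancel g)
  have n2 : ∀ (R : Lr L) {g}, g * R.r ∈ L.J → ¬ IsConj F.t g := fun R g k hu => I.noR0 h1 (I.mulJ R (inv_mem k)) (by
    change IsConj _ (R.r * (g * R.r)⁻¹)
    rwa [mul_inv_rev, mul_inv_cancel_left, sq hu])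
  refine ⟨E.tX L.syl (M := L.S ⊓ centralizer {L.y}) inf_le_left L.tS (fun g hg => ?_) fun g hg hu => ?_, ?_⟩
  · have : Commute L.y g ∨ Commute L.y (g * F.t) :=
      (L.small_or h).elim (fun s => (cov0 s hg).1) fun ⟨R⟩ => (cov1 R hg).1
    exact this.imp (fun a => ⟨hg, mem_centralizer_singleton_iff.2 a.symm⟩)
      fun a => ⟨mul_mem hg L.tS, mem_centralizer_singleton_iff.2 a.symm⟩
  · have hy : Commute L.y g := (mem_centralizer_singleton_iff.1 hg.2).symm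
    rcases L.small_or h with s | ⟨⟨R⟩⟩
    · exact ((cov0 s hg.1).2 hy).elim (fun k => L.noJ g k hu) fun k => n1 k hu
    · rcases (cov1 R hg.1).2 hy with k | k | k | k
      exacts [L.noJ g k hu, n1 k hu, n2 R k hu, n2 R (g := F.t * g * F.t⁻¹) (by
        have := (mem_normalizer_iff.1 (L.nJ L.tS) _).1 k
        rw [inv_eq_of_mul_eq_one_right F.tt] at this ⊢
        simpa only [mul_assoc, F.tt, mul_one] using this)
        (hu.trans (isConj_iff.2 ⟨F.t, rfl⟩))]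
  · have yX : L.y ∈ E.X := by
      have := cm F.e L.x
      rwa [inv_eq_of_mul_eq_one_right F.ee, inv_eq_of_mul_eq_one_right (L.el _ L.toLa.xA), L.ex, mul_assoc,
        L.el _ L.toLa.xA, mul_one] at this
    have xX : L.x ∈ E.X := L.ρy ▸ nX.conj_mem' _ yX _
    rw [I.J1]
    refine (closure_le _).2 ?_
    rintro _ (rfl | rfl | rfl | rfl)
    exacts [dX, xX, eX, L.hf ▸ nX.conj_mem' _ xX _]

/-- `a ^ g ∈ a' Y` -/
def Ac (L : Lj F) (g a a' : G) : Prop := a'⁻¹ * (g⁻¹ * a * g) ∈ L.Y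
def Cy (L : Lj F) (g : G) : Prop := Commute L.y g ∧ Commute F.z g

theorem Cy.mul {g h : G} (a : Cy L g) (b : Cy L h) : Cy L (g * h) := ⟨a.1.mul_right b.1, a.2.mul_right b.2⟩
theorem Cy.inv {g : G} (a : Cy L g) : Cy L g⁻¹ := ⟨a.1.inv_right, a.2.inv_right⟩
theorem Cy.cm {g w : G} (a : Cy L g) (hw : w ∈ L.Y) : Commute w g := cY L hw a.1 a.2

theorem Ac.mul {g h a a' a'' : G} (k : Ac L g a a') (k' : Ac L h a' a'') (c : Cy L h) : Ac L (g * h) a a'' := by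
  rw [Ac, show a''⁻¹ * ((g * h)⁻¹ * a * (g * h)) = a''⁻¹ * h⁻¹ * a' * (a'⁻¹ * (g⁻¹ * a * g) * h) by group,
    (c.cm k).eq, ← mul_assoc]
  exact mul_mem (by simpa only [Ac, mul_assoc] using k') k

theorem Ac.prod {g a a' b b' : G} (k : Ac L g a a') (k' : Ac L g b b') (c : Cy L b') : Ac L g (a * b) (a' * b') := by
  rw [Ac, show (a' * b')⁻¹ * (g⁻¹ * (a * b) * g) = b'⁻¹ * (a'⁻¹ * (g⁻¹ * a * g) * b') * (b'⁻¹ * (g⁻¹ * b * g)) by group,
    (c.cm k).eq, inv_mul_cancel_left]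
  exact mul_mem k k'

theorem Ac.inv {g a a' : G} (k : Ac L g a a') (c : Cy L g) : Ac L g⁻¹ a' a := by
  rw [Ac, show a⁻¹ * (g⁻¹⁻¹ * a' * g⁻¹) = g * ((a'⁻¹ * (g⁻¹ * a * g))⁻¹ * g⁻¹) by group,
    (c.inv.cm (inv_mem k)).eq, mul_inv_cancel_left]
  exact inv_mem k

theorem theta (E : Ex F) (ha : L.α = 0) {W : Subgroup G} (hW : IsPGroup 2 W)
    (cW : ∀ w ∈ W, Commute L.y w ∧ Commute F.z w ∧ (F.c ^ 2)⁻¹ * (w⁻¹ * F.c ^ 2 * w) ∈ L.Y ∧
      (F.c * F.d)⁻¹ * (w⁻¹ * (F.c * F.d) * w) ∈ L.Y)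
    (mx : ∀ a' ∈ L.S, ∀ b' ∈ L.S, Commute L.y a' → Commute L.y b' → a' * a' = F.z → b' * b' = F.z →
      a' * b' * (a' * b') = F.z → ∀ W' ≤ L.S, (∀ w ∈ W', Commute L.y w ∧
        a'⁻¹ * (w⁻¹ * a' * w) ∈ L.Y ∧ b'⁻¹ * (w⁻¹ * b' * w) ∈ L.Y) → Nat.card W' ≤ Nat.card W) :
    ∃ θ ∈ normalizer (W : Set G), θ ∈ E.X ∧ Commute L.y θ ∧ Commute F.z θ ∧
      (F.c * F.d)⁻¹ * (θ⁻¹ * F.c ^ 2 * θ) ∈ L.Y := by
  have := Fact.mk Nat.prime_two
  obtain ⟨-, -, -, -, zθ, θa, θb, -, -⟩ := E.θ_facts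
  have cc : Cy L F.c := ⟨Fr.comm_of_fix (by rw [L.cy, ha, pow_zero, mul_one]), F.cr.zc⟩
  have cd : Cy L F.d := ⟨L.toLa.cm L.toLa.yA L.toLa.dA, F.zd⟩
  have ca : Cy L (F.c ^ 2) := sq F.c ▸ cc.mul cc
  have cb := cc.mul cd
  have yy' := L.el _ L.toLa.yA
  have cθ : Cy L E.θ := ⟨(E.cθ (L.toLa.cm L.toLa.zA L.toLa.yA) (.inr (by rw [L.toLa.cj_t L.toLa.yA, L.toLa.φy]))
    ca.1.symm cb.1.symm).symm, zθ⟩
  have aa : F.c ^ 2 * F.c ^ 2 = F.z := by rw [← pow_add]; rfl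
  have bb : F.c * F.d * (F.c * F.d) = F.z := by rw [mul_assoc, ← mul_assoc F.d, F.dc, ← pow_succ']; rfl
  have ab : F.c ^ 2 * (F.c * F.d) * (F.c ^ 2 * (F.c * F.d)) = F.z := by
    have h1 : F.d * F.c * F.d⁻¹ = F.c ^ 3 := by rw [inv_eq_of_mul_eq_one_right F.dd, F.dc]
    calc _ = F.c ^ 3 * (F.d * F.c * F.d⁻¹) ^ 3 * (F.d * F.d) := by rw [conj_pow]; group
      _ = _ := by
        rw [h1, F.dd, mul_one, ← pow_mul, ← pow_add, show 3 + 3 * 3 = 8 + 4 from rfl, pow_add, F.c8, one_mul]; rfl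
  have aS : F.c ^ 2 ∈ L.S := pow_mem L.cS 2
  have bS : F.c * F.d ∈ L.S := mul_mem L.cS (L.JS (L.le.2.2.1 L.toLa.dA))
  generalize F.c ^ 2 = a at *
  generalize F.c * F.d = b at *
  have t1 : Ac L E.θ a b := by rw [Ac, θa, inv_mul_cancel]; exact one_mem _
  have t2 : Ac L E.θ b (a * b) := by rw [Ac, θb, inv_mul_cancel_left]; exact zY L
  have t3 : Ac L E.θ (a * b) a := by
    have := t1.prod t2 (ca.mul cb)
    rwa [show b * (a * b) = a by rw [← mul_right_inj a, aa, ← ab, mul_assoc a b]] at this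
  let N : Subgroup G := subOfMul {g | Cy L g ∧ Ac L g a a ∧ Ac L g b b}
    ⟨⟨Commute.one_right _, Commute.one_right _⟩, by simp [Ac, one_mem], by simp [Ac, one_mem]⟩
    fun g hg h hh => ⟨hg.1.mul hh.1, hg.2.1.mul hh.2.1 hh.1, hg.2.2.mul hh.2.2 hh.1⟩
  have WN : W ≤ N := fun w hw => ⟨⟨(cW w hw).1, (cW w hw).2.1⟩, (cW w hw).2.2⟩
  have mC : ∀ {g}, g ∈ centralizer (L.Y : Set G) ↔ Cy L g :=
    ⟨fun h => ⟨h _ (yY L), h _ (zY L)⟩, fun h _ hw => h.cm hw⟩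
  have sC : SylIn 2 (L.S ⊓ centralizer (L.Y : Set G)) (centralizer (L.Y : Set G)) :=
    (L.syl.of_le (le_normalizer_centralizer fun g hg => (L.nZ (L.nJ hg)).2) le_top).inf_normal_of_le le_rfl le_normalizer
  have sW : SylIn 2 W N := by
    obtain ⟨P, hP, le⟩ := exists_sylIn_ge hW WN
    refine hP.of_card_le hW WN ?_
    have YP : L.Y ≤ L.Y ⊔ closure {a, b} := le_sup_left
    have nP : P ≤ normalizer ((L.Y ⊔ closure {a, b} : Subgroup G) : Set G) := fun g hg => by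
      have k := hP.le (inv_mem hg)
      refine mem_normalizer_of_cj_le (cj_le_iff.2 (sup_le (fun w hw => mem_cj.2 ?_) ((closure_le _).2 ?_)))
      · rw [inv_inv, ← ((hP.le hg).1.cm hw).eq, mul_inv_cancel_right]; exact YP hw
      · rintro _ (rfl | rfl) <;> refine mem_cj.2 ((mul_mem_cancel_left (inv_mem (mem_sup_right (subset_closure ?_)))).1
          (YP (by first | exact k.2.1 | exact k.2.2))) <;> simp
    have lS : L.Y ⊔ closure {a, b} ≤ L.S ⊓ centralizer (L.Y : Set G) := sup_le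
      (fun w hw => ⟨L.JS (L.le.2.2.2.2.1 (L.le.2.2.2.1 hw)), fun v hv => cJ L hv (L.le.2.2.2.2.1 (L.le.2.2.2.1 hw))⟩)
      ((closure_le _).2 (by rintro _ (rfl | rfl); exacts [⟨aS, mC.2 ca⟩, ⟨bS, mC.2 cb⟩]))
    obtain ⟨x, hx, le⟩ := sC.exists_conj_le (IsPGroup.to_sup_of_normal_left' (sC.pgroup.to_le lS) hP.pgroup nP)
      (sup_le (lS.trans inf_le_right) fun g hg => mC.2 (hP.le hg).1)
    replace hx := mC.1 hx
    have m : ∀ {g}, g ∈ L.Y ⊔ closure {a, b} ⊔ P → x * g * x⁻¹ ∈ L.S ∧ Cy L (x * g * x⁻¹) := fun h =>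
      ⟨(le (conj_mem_cj h)).1, mC.1 (le (conj_mem_cj h)).2⟩
    have ma := m (mem_sup_left (mem_sup_right (subset_closure (show a ∈ ({a, b} : Set G) by simp))))
    have mb := m (mem_sup_left (mem_sup_right (subset_closure (show b ∈ ({a, b} : Set G) by simp))))
    have z : x * F.z * x⁻¹ = F.z := by rw [← hx.2.eq, mul_inv_cancel_right]
    have cv : ∀ {g u}, Ac L g u u → Ac L (x * g * x⁻¹) (x * u * x⁻¹) (x * u * x⁻¹) := fun {g u} k => by
      rw [Ac, show (x * u * x⁻¹)⁻¹ * ((x * g * x⁻¹)⁻¹ * (x * u * x⁻¹) * (x * g * x⁻¹)) =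
        x * (u⁻¹ * (g⁻¹ * u * g)) * x⁻¹ by group, ← (hx.cm k).eq, mul_inv_cancel_right]
      exact k
    rw [← card_cj x P]
    refine mx _ ma.1 _ mb.1 ma.2.1 mb.2.1 (by rw [conj_mul, aa, z]) (by rw [conj_mul, bb, z])
      (by rw [conj_mul, conj_mul, ab, z]) _ (cj_le_iff_forall.2 fun g hg => (m (mem_sup_right hg)).1) ?_
    rintro _ ⟨g, hg, rfl⟩
    exact ⟨(m (mem_sup_right hg)).2.1, cv (hP.le hg).2.1, cv (hP.le hg).2.2⟩
  obtain ⟨c, hc, k⟩ := HS8.frattini sW (g := E.θ) fun x hx => ⟨(cθ.mul hx.1).mul cθ.inv,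
    (t1.mul hx.2.2 hx.1).mul (t1.inv cθ) cθ.inv, (t2.mul (hx.2.1.prod hx.2.2 cb) hx.1).mul (t2.inv cθ) cθ.inv⟩
  have n : c * E.θ ∈ normalizer (W : Set G) := mem_normalizer_of_cj_le (cj_le_iff_forall.2 k)
  have c1 := hc.1.mul cθ
  have s1 := hc.2.1.mul t1 cθ
  have s2 := hc.2.2.mul t2 cθ
  have s3 := (hc.2.1.prod hc.2.2 cb).mul t3 cθ
  generalize c * E.θ = η at n c1 s1 s2 s3
  have c2 := c1.mul c1
  exact ⟨η * η * (η * η), mul_mem (mul_mem n n) (mul_mem n n), E.memX.2.2.2.2.1 _, (c2.mul c2).1, (c2.mul c2).2,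
    (s1.mul s2 c1).mul (s3.mul s1 c1) c2⟩

/-- a model of `S1 = C_S(y)` with classes modulo `Y` -/
structure Cm (L : Lj F) {M K : Type} (mul : M → M → M) (ev : M → G) (rp : K → M) (cl : M → K) : Prop where
  md : Md mul ev
  cov : ∀ g ∈ L.S, Commute L.y g → ∃ x, ev x = g
  evS : ∀ x, ev x ∈ L.S
  evc : ∀ x, Cy L (ev x)
  rep : ∀ x, ∃ v ∈ L.Y, ev x = ev (rp (cl x)) * v
  eq : ∀ x y, ∀ v ∈ L.Y, ev x = ev y * v → cl x = cl y
  crp : ∀ k, cl (rp k) = k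

theorem Cm.theta {M K : Type} [Fintype K] [DecidableEq K] {mul : M → M → M} {ev : M → G} {rp : K → M} {cl : M → K}
    (C : Cm L mul ev rp cl) (E : Ex F) (ha : L.α = 0) (w : K → Prop) [DecidablePred w] {o ca cb zc : M}
    (eo : ev o = 1) (ea : ev ca = F.c ^ 2) (eb : ev cb = F.c * F.d) (ez : ev zc = F.z) (w1 : w (cl o))
    (wm : ∀ k k', w k → w k' → w (cl (mul (rp k) (rp k'))))
    (wa : ∀ k, w k → cl (mul ca (rp k)) = cl (mul (rp k) ca) ∧ cl (mul cb (rp k)) = cl (mul (rp k) cb))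
    (mx : ∀ A, mul (rp A) (rp A) = zc → ∀ B, mul (rp B) (rp B) = zc → mul (mul (rp A) (rp B)) (mul (rp A) (rp B)) = zc →
      (Finset.univ.filter fun k => cl (mul (rp A) (rp k)) = cl (mul (rp k) (rp A)) ∧
        cl (mul (rp B) (rp k)) = cl (mul (rp k) (rp B))).card ≤ (Finset.univ.filter w).card) :
    ∃ T : M → K, (∀ x, w (cl x) → w (T x) ∧ (∀ v, ev v ∈ L.Y → mul x x = v → mul (rp (T x)) (rp (T x)) = v) ∧
      (ev x ∈ E.X → ev (rp (T x)) ∈ E.X ⊔ L.Y) ∧ ∀ y, w (cl y) → T (mul x y) = cl (mul (rp (T x)) (rp (T y)))) ∧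
      (w (cl ca) → T ca = cl cb) := by
  have m := C.md.mul
  have sw : ∀ (x y) {v v'}, v ∈ L.Y → ev x * v * (ev y * v') = ev (mul x y) * (v * v') := fun x y v v' hv => by
    rw [m, ((C.evc y).cm hv).mul_mul_mul_comm]
  let W : Subgroup G := subOfMul {g | ∃ k, w k ∧ ∃ v ∈ L.Y, g = ev (rp k) * v}
    ⟨_, w1, (C.rep o).imp fun v h => ⟨h.1, eo ▸ h.2⟩⟩ (by
      rintro _ ⟨k, hk, v, hv, rfl⟩ _ ⟨k', hk', v', hv', rfl⟩
      obtain ⟨u, hu, e⟩ := C.rep (mul (rp k) (rp k'))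
      exact ⟨_, wm k k' hk hk', u * (v * v'), mul_mem hu (mul_mem hv hv'), by rw [sw _ _ hv, e, mul_assoc]⟩)
  have YS : L.Y ≤ L.S := (L.le.2.2.2.1.trans L.le.2.2.2.2.1).trans L.JS
  have cy : ∀ {v}, v ∈ L.Y → Cy L v := fun h => ⟨cJ L (yY L) (L.le.2.2.2.2.1 (L.le.2.2.2.1 h)),
    cJ L (zY L) (L.le.2.2.2.2.1 (L.le.2.2.2.1 h))⟩
  have ac : ∀ (x y) {v v'}, v ∈ L.Y → v' ∈ L.Y →
      (Ac L (ev y * v') (ev x * v) (ev x * v) ↔ cl (mul x y) = cl (mul y x)) := fun x y v v' hv hv' => by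
    have e : (ev x * v)⁻¹ * ((ev y * v')⁻¹ * (ev x * v) * (ev y * v')) = (ev (mul y x))⁻¹ * ev (mul x y) := by
      rw [show (ev x * v)⁻¹ * ((ev y * v')⁻¹ * (ev x * v) * (ev y * v')) =
        (ev y * v' * (ev x * v))⁻¹ * (ev x * v * (ev y * v')) by group, sw _ _ hv, sw _ _ hv', mul_inv_rev,
        ((cy hv').cm hv).eq, mul_assoc, ← mul_assoc (ev _)⁻¹,
        ← (((C.evc _).inv.mul (C.evc _)).cm (mul_mem hv' hv)).eq, inv_mul_cancel_left]
    rw [Ac, e]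
    refine ⟨fun h => C.eq _ _ _ h (by rw [mul_inv_cancel_left]), fun h => ?_⟩
    obtain ⟨u, hu, e1⟩ := C.rep (mul x y)
    obtain ⟨u', hu', e2⟩ := C.rep (mul y x)
    rw [e1, e2, h, mul_inv_rev, mul_assoc, inv_mul_cancel_left]
    exact mul_mem (inv_mem hu') hu
  have sq : ∀ (x) {v}, v ∈ L.Y → ev x * v * (ev x * v) = ev (mul x x) := fun x v hv => by
    rw [sw _ _ hv, sqY L hv, mul_one]
  obtain ⟨θ, n, θX, θy, θz, θa⟩ := T4.theta E ha (W := W) (L.syl.pgroup.to_le (by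
    rintro _ ⟨k, -, v, hv, rfl⟩; exact mul_mem (C.evS _) (YS hv))) (by
    rintro _ ⟨k, hk, v, hv, rfl⟩
    have := (C.evc (rp k)).mul (cy hv)
    exact ⟨this.1, this.2, by simpa only [mul_one, ea, Ac] using (ac ca _ (one_mem _) hv).2 (wa k hk).1,
      by simpa only [mul_one, eb, Ac] using (ac cb _ (one_mem _) hv).2 (wa k hk).2⟩) fun a aS b bS ya yb aa bb ab W' le h => by
    obtain ⟨A, rfl⟩ := C.cov a aS ya
    obtain ⟨B, rfl⟩ := C.cov b bS yb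
    obtain ⟨u, hu, e1⟩ := C.rep A
    obtain ⟨v, hv, e2⟩ := C.rep B
    rw [e1, e2] at ab h
    rw [e1, sq _ hu, ← ez] at aa
    rw [e2, sq _ hv, ← ez] at bb
    rw [sw _ _ hu, sq _ (mul_mem hu hv), ← ez] at ab
    have := mx _ (C.md.inj aa) _ (C.md.inj bb) (C.md.inj ab)
    rw [← Fintype.card_coe, ← Fintype.card_coe, ← Nat.card_eq_fintype_card, ← Nat.card_eq_fintype_card] at this
    refine le_trans ?_ ((Nat.mul_le_mul_right (Nat.card L.Y) this).trans ?_) <;> rw [← Nat.card_prod]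
    · have : ∀ g : W', ∃ k : (Finset.univ.filter fun k => cl (mul (rp (cl A)) (rp k)) = cl (mul (rp k) (rp (cl A))) ∧
          cl (mul (rp (cl B)) (rp k)) = cl (mul (rp k) (rp (cl B)))) × L.Y, (g : G) = ev (rp k.1) * k.2 := fun g => by
        obtain ⟨x, e⟩ := C.cov _ (le g.2) (h _ g.2).1
        obtain ⟨v', hv', e'⟩ := C.rep x
        have k := (h _ g.2).2
        rw [← e, e'] at k
        exact ⟨⟨⟨_, Finset.mem_filter.2 ⟨Finset.mem_univ _, (ac _ _ hu hv').1 k.1, (ac _ _ hv hv').1 k.2⟩⟩, ⟨_, hv'⟩⟩,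
          e.symm.trans e'⟩
      choose f hf using this
      exact Nat.card_le_card_of_injective f fun g g' e => Subtype.ext (by rw [hf, hf, e])
    · refine Nat.card_le_card_of_injective (fun k => (⟨ev (rp k.1) * k.2, _, (Finset.mem_filter.1 k.1.2).2, _, k.2.2,
        rfl⟩ : W)) ?_
      rintro ⟨⟨k, hk⟩, v, hv⟩ ⟨⟨k', hk'⟩, v', hv'⟩ e
      replace e : ev (rp k) * v = ev (rp k') * v' := congrArg Subtype.val e
      obtain rfl : k = k' := by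
        rw [← C.crp k, ← C.crp k']
        exact C.eq _ _ _ (mul_mem hv' (inv_mem hv)) (by rw [← mul_assoc, ← e, mul_inv_cancel_right])
      obtain rfl := mul_left_cancel e
      rfl
  have cθ : Cy L θ := ⟨θy, θz⟩
  have : ∀ x, ∃ k, w (cl x) → w k ∧ ∃ v ∈ L.Y, θ⁻¹ * ev x * θ = ev (rp k) * v := fun x => by
    by_cases h : w (cl x)
    · have := (mem_normalizer_iff.1 (inv_mem n) (ev x)).1 ⟨_, h, C.rep x⟩
      rw [inv_inv] at this
      exact this.imp fun _ a _ => a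
    · exact ⟨cl x, fun a => (h a).elim⟩
  choose T hT using this
  have cj : ∀ x y, θ⁻¹ * ev (mul x y) * θ = θ⁻¹ * ev x * θ * (θ⁻¹ * ev y * θ) := fun x y => by rw [m]; group
  refine ⟨T, fun x hx => ?_, fun h => ?_⟩
  · obtain ⟨h1, v, hv, e⟩ := hT x hx
    refine ⟨h1, fun u hu k => C.md.inj ?_, fun k => ?_, fun y hy => ?_⟩
    · rw [← sq _ hv, ← e, ← cj, k, mul_assoc, (cθ.cm hu).eq, inv_mul_cancel_left]
    · exact (mul_mem_cancel_right (mem_sup_right hv)).1 (e ▸ mem_sup_left (E.nX.conj_mem' _ k _))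
    · obtain ⟨h2, v', hv', e'⟩ := hT y hy
      obtain ⟨a, ha, ea⟩ := C.rep x
      obtain ⟨b, hb, eb⟩ := C.rep y
      obtain ⟨-, u, hu, e''⟩ := hT (mul x y) (by
        rw [C.eq _ (mul (rp (cl x)) (rp (cl y))) _ (mul_mem ha hb) (by rw [← sw _ _ ha, ← ea, ← eb, m])]
        exact wm _ _ hx hy)
      rw [← C.crp (T _)]
      refine C.eq _ _ _ (mul_mem (mul_mem hv hv') (inv_mem hu)) ?_
      rw [← mul_assoc, ← sw _ _ hv, ← e, ← e', ← cj, e'', mul_inv_cancel_right]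
  · obtain ⟨-, v, hv, e⟩ := hT ca h
    rw [← C.crp (T _)]
    refine C.eq _ _ _ (mul_mem θa (inv_mem hv)) ?_
    rw [← mul_assoc, eb, mul_inv_cancel_left, ← ea, e, mul_inv_cancel_right]

end CL.H3.T4
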