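import Cfsg.Agent.INV.H3.LT4b

/-! S3140, `β = 0`, `s = 1`: the models of `C_S(y)`. -/

set_option autoImplicit false
set_option linter.unusedSectionVars false
set_option synthInstance.maxSize 4096
open Subgroup

namespace CL.H3.T4
open CL.HL CL.TwoS CL.MSS D

variable {G : Type*} [Group G] [Finite G] {F : Fr G} {L : Lj F} {ι : D →* G}

abbrev B4 := Bool × Bool × Bool × Bool
def r4 (k : B4) : D := ⟨k.1, k.2.1, k.2.2.1, k.2.2.2, false, false⟩
def c4 (w : D) : B4 := (w.a, w.b, w.c, w.d)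

theorem Io.cm' (I : Io L ι) {M B : Type} (χ : B → G) (hχ : ∀ b, χ b ∈ L.S ∧ Cy L (χ b)) (mk : D → B → M) (π : M → D)
    (ρ : M → B) {mul : M → M → M} {ev : M → G} (md : Md mul ev) (hev : ∀ x, ev x = ι (π x) * χ (ρ x))
    (h1 : ∀ w b, π (mk w b) = w) (h2 : ∀ w b, ρ (mk w b) = b) (cov : ∀ g ∈ L.S, Commute L.y g → ∃ x, ev x = g) :
    Cm L mul ev (fun k : B4 × B => mk (r4 k.1) k.2) fun x => (c4 (π x), ρ x) := by
  have yy' : ∀ p q, ι (yy p q) ∈ L.Y := fun p q => I.memY.2 ⟨p, q, rfl⟩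
  have k : ∀ w b p q, ev (mk (w * yy p q) b) = ι w * χ b * ι (yy p q) := fun w b p q => by
    rw [hev, h1, h2, map_mul, mul_assoc, ((hχ b).2.cm (yy' p q)).eq, mul_assoc]
  refine ⟨md, cov, fun x => hev x ▸ mul_mem (L.JS (I.mem _)) (hχ _).1, fun x => hev x ▸
    Cy.mul ⟨cJ L (yY L) (I.mem _), cJ L (zY L) (I.mem _)⟩ (hχ _).2, fun x => ⟨_, yy' (π x).p (π x).q, ?_⟩,
    fun x y v hv e => ?_, fun k => by simp only [h1, h2]; rfl⟩
  · rw [hev (mk _ _), h1, h2, ← k, ← (by decide : ∀ w : D, w = r4 (c4 w) * yy w.p w.q), hev, hev, h1, h2]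
  · obtain ⟨p, q, rfl⟩ := I.memY.1 hv
    rw [hev y, ← k] at e
    rw [md.inj e, h1, h2, (by decide : ∀ (w : D) p q, c4 (w * yy p q) = c4 w)]

def aa : D := u2 * u1 * (v1 * v2)
def dd : D := u2 * u1

def mul1 : D × Bool → D × Bool → D × Bool := mulE (· * ·) γ0 aa⁻¹
def rp1 (k : B4 × Bool) : D × Bool := (r4 k.1, k.2)
def cl1 (x : D × Bool) : B4 × Bool := (c4 x.1, x.2)
def w1 (k : B4 × Bool) : Prop := xor k.1.1 k.1.2.1 = k.2 ∧ xor k.1.2.2.1 k.1.2.2.2 = k.2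
instance : DecidablePred w1 := fun _ => inferInstanceAs (Decidable (_ ∧ _))

theorem mx1 : ∀ A, mul1 (rp1 A) (rp1 A) = (Z, false) → ∀ B, mul1 (rp1 B) (rp1 B) = (Z, false) →
    mul1 (mul1 (rp1 A) (rp1 B)) (mul1 (rp1 A) (rp1 B)) = (Z, false) →
      (Finset.univ.filter fun k => cl1 (mul1 (rp1 A) (rp1 k)) = cl1 (mul1 (rp1 k) (rp1 A)) ∧
        cl1 (mul1 (rp1 B) (rp1 k)) = cl1 (mul1 (rp1 k) (rp1 B))).card ≤ (Finset.univ.filter w1).card := by
  decide +kernel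

theorem sm0 (E : Ex F) (h : L.β = 0) (h1 : F.s = 1) (ha : L.α = 0) (hs : L.Small) : False := by
  obtain ⟨ι, I⟩ := exists_io L h h1
  have cs : L.cs = F.c := by rw [Lj.cs, ha, pow_zero, mul_one]
  have ea : ι aa = F.c * F.c := I.cc
  have md : Md mul1 (evE ι F.c⁻¹) := I.md.step (fun x => by rw [← I.gam0 ha, mul_inv_cancel_right])
    (by rw [map_inv, ea, mul_inv_rev]) (by decide +kernel)
  have cc : Cy L F.c := cs ▸ ⟨L.rel.2.2.2.2.2.2.2.2.1, L.rel.2.2.2.2.2.2.2.2.2.1⟩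
  have e0 : ∀ w, evE ι F.c⁻¹ (w, false) = ι w := fun w => mul_one _
  have C : Cm L mul1 (evE ι F.c⁻¹) rp1 cl1 := I.cm' (bp F.c⁻¹) (by
    rintro (_ | _)
    exacts [⟨one_mem _, Commute.one_right _, Commute.one_right _⟩, ⟨inv_mem L.cS, cc.inv⟩]) Prod.mk Prod.fst Prod.snd md
    (fun _ => rfl) (fun _ _ => rfl) (fun _ _ => rfl) fun g hg hy => by
      rcases (cov0 hs hg).2 hy with k | k <;> obtain ⟨w, e⟩ := I.memJ.1 k
      exacts [⟨(w, false), (e0 w).trans e⟩, ⟨(w, true), by rw [evE, e, cs]; exact mul_inv_cancel_right _ _⟩]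
  obtain ⟨T, hT, ha⟩ := C.theta E ha w1 (o := (1, false)) (ca := (aa, false)) (cb := mul1 (aa, true) (dd, false))
    (zc := (Z, false)) ((e0 _).trans (map_one ι)) (by rw [e0, ea, sq])
    (by rw [md.mul, e0, evE, ea, bp_true, mul_inv_cancel_right, ← I.d]; rfl) ((e0 _).trans I.Z) (by decide)
    (by decide +kernel) (by decide +kernel) mx1
  obtain ⟨a1, a2, -, a3⟩ := hT (u1 * v1, false) (by decide)
  obtain ⟨b1, b2, -⟩ := hT (u2 * v2, false) (by decide)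
  refine (by decide +kernel : ∀ A, w1 A → mul1 (rp1 A) (rp1 A) = (P, false) → ∀ B, w1 B →
    mul1 (rp1 B) (rp1 B) = (Q, false) → cl1 (mul1 (rp1 A) (rp1 B)) ≠ cl1 (mul1 (aa, true) (dd, false))) _ a1
    (a2 _ (by rw [e0, I.P]; exact yY L) (by decide)) _ b1
    (b2 _ (by rw [e0, I.Q]; exact mul_mem (yY L) (zY L)) (by decide)) ?_
  rw [← a3 _ (by decide), ← ha (by decide)]
  rfl

/-- explicit forms of the actions of `t`, `c`, `r` -/
def τe (w : D) : D := ⟨w.c, w.d, w.a, w.b, xor (xor w.q w.b) w.d, xor (xor w.p w.b) w.d⟩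
def γe (w : D) : D :=
  ⟨w.b, w.a, w.d, w.c, xor (xor (xor (xor w.p (w.a && w.b)) w.b) w.c) w.d, xor (xor w.q (w.c && w.d)) w.c⟩
def fg (p1 q1 p2 q2 p3 q3 p4 q4 : Bool) (w : D) : D :=
  ⟨w.b, w.a, w.c, w.d, xor (xor (xor (xor (xor w.p (w.a && w.b)) (w.a && p1)) (w.b && p2)) (w.c && p3)) (w.d && p4),
    xor (xor (xor (xor w.q (w.a && q1)) (w.b && q2)) (w.c && q3)) (w.d && q4)⟩
theorem τ_eq : ∀ w, τ w = τe w := by decide +kernel
theorem γ_eq : ∀ w, γ0 w = γe w := by decide +kernel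
theorem fg_eq (p1 q1 p2 q2 p3 q3 p4 q4 : Bool) (w : D) :
    ap (v1 * yy p1 q1) (u1 * yy p2 q2) (u2 * yy p3 q3) (v2 * yy p4 q4) P Q w = fg p1 q1 p2 q2 p3 q3 p4 q4 w :=
  D.ext (by rcases w with ⟨_ | _, _ | _, _ | _, _ | _, _ | _, _ | _⟩ <;> rfl)
    (by rcases w with ⟨_ | _, _ | _, _ | _, _ | _, _ | _, _ | _⟩ <;> rfl)
    (by rcases w with ⟨_ | _, _ | _, _ | _, _ | _, _ | _, _ | _⟩ <;> rfl)
    (by rcases w with ⟨_ | _, _ | _, _ | _, _ | _, _ | _, _ | _⟩ <;> rfl)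
    ((by decide +kernel : ∀ p1 p2 p3 p4 w, (ap (v1 * yy p1 false) (u1 * yy p2 false) (u2 * yy p3 false)
      (v2 * yy p4 false) P Q w).p = (fg p1 false p2 false p3 false p4 false w).p) p1 p2 p3 p4 w ▸
      by rcases w with ⟨_ | _, _ | _, _ | _, _ | _, _ | _, _ | _⟩ <;> rfl)
    ((by decide +kernel : ∀ p1 p2 p3 p4 w, (ap (v1 * yy false p1) (u1 * yy false p2) (u2 * yy false p3)
      (v2 * yy false p4) P Q w).q = (fg false p1 false p2 false p3 false p4 w).q) q1 q2 q3 q4 w ▸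
      by rcases w with ⟨_ | _, _ | _, _ | _, _ | _, _ | _, _ | _⟩ <;> rfl)

/-- the normal forms -/
def fn (A B : Bool) : D → D := fg false A false A A B A B
def jn (B C : Bool) : D := ⟨B, !B, B, !B, false, !C⟩
def G4 (P : D → Prop) : Prop := P u1 ∧ P v1 ∧ P u2 ∧ P v2
instance (P : D → Prop) [DecidablePred P] : Decidable (G4 P) := inferInstanceAs (Decidable (_ ∧ _))

theorem nf : ∀ p1 q1 p2 q2 p3 q3 p4 q4 j1, (G4 fun g => γe (τe (fg p1 q1 p2 q2 p3 q3 p4 q4 (τe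
      (fg p1 q1 p2 q2 p3 q3 p4 q4 g)))) = j1⁻¹ * g * j1) →
    ∀ j0, (G4 fun g => fg p1 q1 p2 q2 p3 q3 p4 q4 (fg p1 q1 p2 q2 p3 q3 p4 q4 g) = j0⁻¹ * g * j0) →
    j1 * γe (τe j1) * aa⁻¹ = j0 * fg p1 q1 p2 q2 p3 q3 p4 q4 (τe j0) →
    ∃ A B j, (G4 fun g => j⁻¹ * fg p1 q1 p2 q2 p3 q3 p4 q4 g * j = fn A B g) ∧
      ∃ C, j0 * fg p1 q1 p2 q2 p3 q3 p4 q4 j * j = yy C false ∧
      j1 * γe (τe (fg p1 q1 p2 q2 p3 q3 p4 q4 (τe j)) * τe j) = jn B C := by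
  decide +kernel

abbrev M2 := (D × Bool) × Bool
def gn (A B : Bool) (w : D) : D :=
  ⟨w.a, w.b, w.d, w.c, xor (xor w.p ((!A) && xor w.c w.d)) (B && xor w.a w.b),
    xor (xor (xor w.q (w.c && w.d)) (A && xor w.a w.b)) (xor w.c w.d)⟩
theorem fn_eq : ∀ A B w, fn A B (fn A B w) = w ∧ τe (fn A B (τe w)) = gn A B w := by decide +kernel
def mul2 (A B C : Bool) : M2 → M2 → M2 := mulE (mulE (· * ·) (fn A B) (yy C false))
  (fun x => (gn A B x.1 * bp (yy (!C) (!C)) x.2, x.2)) (yy false C, false)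
def rp2 (k : B4 × Bool × Bool) : M2 := ((r4 k.1, k.2.1), k.2.2)
def cl2 (x : M2) : B4 × Bool × Bool := (c4 x.1.1, x.1.2, x.2)
def w2 (k : B4 × Bool × Bool) : Prop := k.1.1 = k.1.2.1 ∧ k.1.2.2.1 = k.1.2.2.2
instance : DecidablePred w2 := fun _ => inferInstanceAs (Decidable (_ ∧ _))
def i2 (w : D) : M2 := ((w, false), false)
/-- the code of `c d` -/
def cb2 (A B C : Bool) : M2 := mul2 A B C (mul2 A B C (i2 aa) (((jn B C)⁻¹, true), true)) (i2 dd)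

def cm2 (A k : B4 × Bool × Bool) : Bool :=
  ((A.2.1 && xor k.1.1 k.1.2.1) == (k.2.1 && xor A.1.1 A.1.2.1)) &&
    ((A.2.2 && xor k.1.2.2.1 k.1.2.2.2) == (k.2.2 && xor A.1.2.2.1 A.1.2.2.2))

theorem cm2_of {a b c : Bool} {A k : B4 × Bool × Bool}
    (h : cl2 (mul2 a b c (rp2 A) (rp2 k)) = cl2 (mul2 a b c (rp2 k) (rp2 A))) : cm2 A k = true := by
  have h1 := congrArg (·.1.1) h
  have h2 := congrArg (·.1.2.2.1) h
  obtain ⟨⟨a1, a2, a3, a4⟩, i, j⟩ := A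
  obtain ⟨⟨b1, b2, b3, b4⟩, i', j'⟩ := k
  have k1 : ∀ i j i' j' a1 a2 b1 b2 : Bool, (∀ a3 a4 b3 b4, (cl2 (mul2 a b c (rp2 ((a1, a2, a3, a4), i, j))
      (rp2 ((b1, b2, b3, b4), i', j')))).1.1 = xor a1 (cond i b2 b1)) ∧ ∀ a3 a4 b3 b4,
      (cl2 (mul2 a b c (rp2 ((a3, a4, a1, a2), i, j)) (rp2 ((b3, b4, b1, b2), i', j')))).1.2.2.1 =
        xor a1 (cond j b2 b1) := by
    rintro (_ | _) (_ | _) (_ | _) (_ | _) (_ | _) (_ | _) (_ | _) (_ | _) <;> cases c <;>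
      exact ⟨fun _ _ _ _ => rfl, fun _ _ _ _ => rfl⟩
  simp only [(k1 _ _ _ _ _ _ _ _).1, (k1 _ _ _ _ _ _ _ _).2] at h1 h2
  have k2 : ∀ i i' a1 a2 b1 b2 : Bool, xor a1 (cond i b2 b1) = xor b1 (cond i' a2 a1) →
    ((i && xor b1 b2) == (i' && xor a1 a2)) = true := by decide
  exact Bool.and_eq_true_iff.2 ⟨k2 _ _ _ _ _ _ h1, k2 _ _ _ _ _ _ h2⟩

theorem mx2' : ∀ a b c A, mul2 a b c (rp2 A) (rp2 A) = i2 Z → ∀ B, mul2 a b c (rp2 B) (rp2 B) = i2 Z →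
    mul2 a b c (mul2 a b c (rp2 A) (rp2 B)) (mul2 a b c (rp2 A) (rp2 B)) = i2 Z →
      (Finset.univ.filter fun k => (cm2 A k && cm2 B k) = true).card ≤ 16 := by
  decide +kernel

theorem mx2 (a b c : Bool) (A) (h1 : mul2 a b c (rp2 A) (rp2 A) = i2 Z) (B) (h2 : mul2 a b c (rp2 B) (rp2 B) = i2 Z)
    (h3 : mul2 a b c (mul2 a b c (rp2 A) (rp2 B)) (mul2 a b c (rp2 A) (rp2 B)) = i2 Z) :
      (Finset.univ.filter fun k => cl2 (mul2 a b c (rp2 A) (rp2 k)) = cl2 (mul2 a b c (rp2 k) (rp2 A)) ∧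
        cl2 (mul2 a b c (rp2 B) (rp2 k)) = cl2 (mul2 a b c (rp2 k) (rp2 B))).card ≤ (Finset.univ.filter w2).card :=
  (Finset.card_le_card (Finset.monotone_filter_right _ fun _ _ h =>
    Bool.and_eq_true_iff.2 ⟨cm2_of h.1, cm2_of h.2⟩)).trans ((mx2' a b c A h1 B h2 h3).trans_eq (by decide +kernel))

theorem o1 : ∀ A B m, ∃ x, m * x ≠ fn A B x * m := by decide +kernel
theorem o2 (A B C : Bool) (m : D × Bool) : ∃ x, mulE (· * ·) (fn A B) (yy C false) m x ≠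
    mulE (· * ·) (fn A B) (yy C false) (gn A B x.1 * bp (yy (!C) (!C)) x.2, x.2) m :=
  ⟨(u2, false), by obtain ⟨w, i⟩ := m; revert A B C i w; decide +kernel⟩
theorem o3 : ∀ A B C k, w2 k → (∀ k', w2 k' → w2 (cl2 (mul2 A B C (rp2 k) (rp2 k')))) ∧
    cl2 (mul2 A B C (i2 aa) (rp2 k)) = cl2 (mul2 A B C (rp2 k) (i2 aa)) ∧
      cl2 (mul2 A B C (cb2 A B C) (rp2 k)) = cl2 (mul2 A B C (rp2 k) (cb2 A B C)) := by decide +kernel
theorem o4 : ∀ A B C, mul2 A B C (i2 (u1 * v1)) (i2 (u1 * v1)) = i2 P ∧ mul2 A B C (i2 (u2 * v2)) (i2 (u2 * v2)) = i2 Q ∧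
    mul2 A B C (i2 (u1 * v1)) (i2 (u2 * v2)) = i2 aa ∧
    mul2 A B false ((u1 * v1, false), true) ((u1 * v1, false), true) = i2 P ∧
    mul2 A B false ((u1 * v1, false), true) (i2 (u2 * v2)) = ((u1 * v1 * gn A B (u2 * v2), false), true) ∧
    mul2 A B false ((u1 * v1 * gn A B (u2 * v2), false), true) ((u1 * v1 * gn A B (u2 * v2), false), true) = i2 P ∧
    w2 (cl2 ((u1 * v1 * gn A B (u2 * v2), false), true)) := by decide +kernel

theorem e2a : ∀ a b A, w2 A → mul2 a b false (rp2 A) (rp2 A) = i2 P → ∀ B, w2 B → mul2 a b false (rp2 B) (rp2 B) = i2 Q →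
    cl2 (mul2 a b false (rp2 A) (rp2 B)) = cl2 (cb2 a b false) → ∀ A', w2 A' → mul2 a b false (rp2 A') (rp2 A') = i2 P →
    mul2 a b false (rp2 (cl2 (mul2 a b false (rp2 A') (rp2 B)))) (rp2 (cl2 (mul2 a b false (rp2 A') (rp2 B)))) ≠ i2 P := by
  decide +kernel

theorem e2b : ∀ a b A, w2 A → mul2 a b true (rp2 A) (rp2 A) = i2 P → ∀ B, w2 B → mul2 a b true (rp2 B) (rp2 B) = i2 Q →
    cl2 (mul2 a b true (rp2 A) (rp2 B)) = cl2 (cb2 a b true) → A.2 = (true, false) := by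
  decide +kernel

theorem last {r : G} (I : Io L ι) (E : Ex F) (ha : L.α = 0) (R : Lr L) (hr : R.r = r) (JX : L.J ≤ E.X) {A B C : Bool}
    (e : ∀ w, r⁻¹ * ι w * r = ι (fn A B w)) (rr : r * r = ι (yy C false))
    (rc : r * (F.t * r * F.t) * F.c = ι (jn B C)) : C = true ∧ r ∈ E.X ∧ Commute r (F.t * r * F.t) := by
  have cs : L.cs = F.c := by rw [Lj.cs, ha, pow_zero, mul_one]
  have ea : ι aa = F.c * F.c := I.cc
  have t2 : ∀ x, F.t * (F.t * x) = x := fun x => by rw [← mul_assoc, F.tt, one_mul]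
  have a1 : ∀ w, r * ι w = ι (fn A B w) * r := fun w => by
    have := e (fn A B w)
    rw [(fn_eq _ _ _).1] at this
    rw [← this, mul_assoc, mul_inv_cancel_left]
  have tw : ∀ w, F.t * ι w = ι (τe w) * F.t := fun w => by rw [← τ_eq, ← I.tau, mul_assoc, F.tt, mul_one]
  have a2 : ∀ w, F.t * r * F.t * ι w = ι (gn A B w) * (F.t * r * F.t) := fun w => by
    rw [mul_assoc, tw, mul_assoc, ← mul_assoc r, a1, mul_assoc, ← mul_assoc F.t, tw, (fn_eq _ _ _).2]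
    simp only [mul_assoc]
  have r2 : F.t * r * F.t * r = ι (yy (!C) (!C)) * (r * (F.t * r * F.t)) := by
    rw [eq_mul_inv_of_mul_eq rc, (by decide : ∀ B C, yy (!C) (!C) = τ (jn B C) * (jn B C)⁻¹) B C, map_mul, map_inv,
      mul_assoc (ι _), inv_mul_cancel_left, ← I.tau, ← rc, ← mul_assoc F.t, mul_assoc _ F.c, ← F.tc.eq]
    simp only [mul_assoc, t2, mul_inv_cancel, mul_one]
  have yr := yr' R
  have cov := fun g (hg : g ∈ L.S) => (cov1 R hg).2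
  have rS := R.rS
  have ry : Cy L R.r := ⟨R.ry, R.rz⟩
  rw [hr] at yr cov rS ry
  have r'r : F.t * r * F.t * (F.t * r * F.t) = ι (yy false C) := by
    rw [(by decide : ∀ C, yy false C = τ (yy C false)), ← I.tau, ← rr]
    simp only [mul_assoc, t2]
  have r'S : F.t * r * F.t ∈ L.S := mul_mem (mul_mem L.tS rS) L.tS
  generalize F.t * r * F.t = s at *
  have md : Md (mul2 A B C) (evE (evE ι r) s) := (I.md.step a1 rr (o1 A B)).step (by
    rintro ⟨w, _ | _⟩ <;> simp only [evE, bp_true, bp_false, mul_one, map_mul, a2]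
    rw [← mul_assoc, a2, mul_assoc, r2]; simp only [mul_assoc]) (by simp only [evE, bp_false, mul_one, r'r])
    (o2 A B C)
  have e0 : ∀ w, evE (evE ι r) s (i2 w) = ι w := fun w => by simp only [evE, i2, bp_false, mul_one]
  have ci : evE (evE ι r) s (((jn B C)⁻¹, true), true) = F.c⁻¹ := by
    simp only [evE, bp_true]
    rw [map_inv, ← rc]; group
  have C2 : Cm L (mul2 A B C) (evE (evE ι r) s) rp2 cl2 := I.cm' (fun k : Bool × Bool => bp r k.1 * bp s k.2) (by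
    have one : Cy L 1 := ⟨Commute.one_right _, Commute.one_right _⟩
    rintro ⟨_ | _, _ | _⟩
    exacts [⟨mul_mem (one_mem _) (one_mem _), one.mul one⟩, ⟨mul_mem (one_mem _) r'S, one.mul yr⟩,
      ⟨mul_mem rS (one_mem _), ry.mul one⟩, ⟨mul_mem rS r'S, ry.mul yr⟩])
    (fun w k => ((w, k.1), k.2)) (fun x => x.1.1) (fun x => (x.1.2, x.2)) md
    (fun _ => mul_assoc _ _ _) (fun _ _ => rfl) (fun _ _ => rfl) fun g hg hy => by
      have J : L.J ≤ md.sub := fun g k => (I.memJ.1 k).elim fun w e => ⟨_, (e0 w).trans e⟩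
      change g ∈ md.sub
      rcases cov g hg hy with k | k | k | k
      · exact J k
      · exact (mul_mem_cancel_right (cs ▸ inv_mem_iff.1 ⟨_, ci⟩)).1 (J k)
      · exact (mul_mem_cancel_right (show r ∈ md.sub from ⟨((1, true), false), by simp [evE]⟩)).1 (J k)
      · exact (mul_mem_cancel_right (show s ∈ md.sub from ⟨((1, false), true), by simp [evE]⟩)).1 (J k)
  obtain ⟨T, hT, ha⟩ := C2.theta E ha w2 (o := i2 1) (ca := i2 aa) (cb := cb2 A B C)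
    (zc := i2 Z) ((e0 _).trans (map_one ι)) (by rw [e0, ea, sq])
    (by rw [cb2, md.mul, md.mul, e0, e0, ci, ea, mul_inv_cancel_right, ← I.d]; rfl) ((e0 _).trans I.Z) (by decide)
    (fun k k' h => (o3 A B C k h).1 k') (fun k h => (o3 A B C k h).2) (mx2 A B C)
  have pY : evE (evE ι r) s (i2 P) ∈ L.Y := by rw [e0, I.P]; exact yY L
  obtain ⟨b1, b2, b4, b3⟩ := hT (i2 (u1 * v1)) (by decide)
  obtain ⟨c1, c2, -⟩ := hT (i2 (u2 * v2)) (by decide)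
  replace b2 := b2 _ pY (o4 A B C).1
  replace c2 := c2 (i2 Q) (by rw [e0, I.Q]; exact mul_mem (yY L) (zY L)) (o4 A B C).2.1
  have b5 := ((b3 (i2 (u2 * v2)) (by decide)).symm.trans (congrArg T (o4 A B C).2.2.1)).trans (ha (by decide))
  cases C
  · obtain ⟨d1, d2, -, d3⟩ := hT ((u1 * v1, false), true) (by decide)
    refine (e2a A B _ b1 b2 _ c1 c2 b5 _ d1 (d2 _ pY (o4 A B false).2.2.2.1) ?_).elim
    rw [← d3 _ (by decide), (o4 A B false).2.2.2.2.1]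
    exact (hT _ (o4 A B false).2.2.2.2.2.2).2.1 _ pY (o4 A B false).2.2.2.2.2.1
  · refine ⟨rfl, ?_, by rw [commute_iff_eq, r2]; exact ((congrArg (· * _) (map_one ι)).trans (one_mul _)).symm⟩
    have := b4 (by rw [e0]; exact JX (I.mem _))
    rw [sup_of_le_left ((L.le.2.2.2.1.trans L.le.2.2.2.2.1).trans JX), rp2, e2b A B _ b1 b2 _ c1 c2 b5] at this
    simp only [evE, bp_true, bp_false, mul_one] at this
    exact (mul_mem_cancel_left (JX (I.mem _))).1 this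

end CL.H3.T4
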