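import Cfsg.Agent.INV.H3.Defs
import Cfsg.Agent.CHAR.Burnside
import Cfsg.Agent.SOLV.OddOrderCor

/-! S3140: the block group `GL₂(3)` inside `SL₃(3)`, as a computable model. -/

set_option autoImplicit false
open Subgroup

namespace CL.H3.L1
open CL.HL Matrix

@[ext] structure B4 where
  a : ZMod 3
  b : ZMod 3
  c : ZMod 3
  d : ZMod 3
  deriving DecidableEq, Fintype

namespace B4
def det (m : B4) : ZMod 3 := m.a * m.d - m.b * m.c
def mul (x y : B4) : B4 :=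
  ⟨x.a * y.a + x.b * y.c, x.a * y.b + x.b * y.d, x.c * y.a + x.d * y.c, x.c * y.b + x.d * y.d⟩
def inv (m : B4) : B4 := ⟨m.det * m.d, -(m.det * m.b), -(m.det * m.c), m.det * m.a⟩
def tr (m : B4) : B4 := ⟨m.a, m.c, m.b, m.d⟩
theorem det_mul (x y : B4) : (x.mul y).det = x.det * y.det := by simp only [det, mul]; ring
theorem mul_assoc' (x y w : B4) : (x.mul y).mul w = x.mul (y.mul w) := by
  ext <;> simp only [mul] <;> ring
end B4

/-- `GL₂(3)` -/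
def GB : Type := {m : B4 // m.det * m.det = 1}

instance : DecidableEq GB := inferInstanceAs (DecidableEq {m : B4 // m.det * m.det = 1})
instance : Fintype GB := inferInstanceAs (Fintype {m : B4 // m.det * m.det = 1})

instance : Mul GB := ⟨fun x y => ⟨x.1.mul y.1, by
  rw [B4.det_mul, mul_mul_mul_comm, x.2, y.2, one_mul]⟩⟩
instance : One GB := ⟨⟨⟨1, 0, 0, 1⟩, by decide⟩⟩
instance : Inv GB := ⟨fun x => ⟨x.1.inv,
  (by decide +kernel : ∀ m : B4, m.det * m.det = 1 → m.inv.det * m.inv.det = 1) x.1 x.2⟩⟩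

instance : Group GB := Group.ofLeftAxioms (fun x y w => Subtype.ext (B4.mul_assoc' x.1 y.1 w.1))
  (by decide +kernel) (by decide +kernel)

def GB.tr (x : GB) : GB := ⟨x.1.tr, by
  have : x.1.tr.det = x.1.det := by simp only [B4.det, B4.tr]; ring
  rw [this]; exact x.2⟩

def ι0 (x : GB) : SL33 := ⟨!![x.1.a, x.1.b, 0; x.1.c, x.1.d, 0; 0, 0, x.1.det], by
  rw [det_fin_three]
  have := x.2
  simp only [B4.det] at this ⊢
  simp
  linear_combination this⟩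

def ι : GB →* SL33 := MonoidHom.mk' ι0 fun x y => Subtype.ext (by
  show (ι0 (x * y)).1 = (ι0 x).1 * (ι0 y).1
  have h := B4.det_mul x.1 y.1
  show !![(x.1.mul y.1).a, (x.1.mul y.1).b, 0; (x.1.mul y.1).c, (x.1.mul y.1).d, 0; 0, 0, (x.1.mul y.1).det] = _
  rw [h]
  simp only [ι0, B4.mul, Matrix.mul_fin_three]
  simp)

theorem ι_val (x : GB) : (ι x).1 = !![x.1.a, x.1.b, 0; x.1.c, x.1.d, 0; 0, 0, x.1.det] := rfl

theorem ι_inj : Function.Injective ι := fun x y h => by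
  have h' := congrArg Subtype.val h
  rw [ι_val, ι_val] at h'
  exact Subtype.ext (B4.ext (congrFun (congrFun h' 0) 0) (congrFun (congrFun h' 0) 1)
    (congrFun (congrFun h' 1) 0) (congrFun (congrFun h' 1) 1))

def cB : GB := ⟨⟨-1, -1, 1, -1⟩, by decide⟩
def dB : GB := ⟨⟨1, 0, 0, -1⟩, by decide⟩
def θB : GB := ⟨⟨1, 1, 0, 1⟩, by decide⟩

theorem ι_c : ι cB = RA.c := Subtype.ext (by rw [ι_val]; rfl)
theorem ι_d : ι dB = RA.d := Subtype.ext (by rw [ι_val]; rfl)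
theorem ι_θ : ι θB = θ0 := Subtype.ext (by rw [ι_val]; rfl)

theorem σ_ι (x : GB) : RA.σ (ι x) = ι (x.tr⁻¹) := by
  rw [map_inv]
  show (ι x).transpose⁻¹ = _
  congr 1
  refine Subtype.ext ?_
  show (ι x).1ᵀ = _
  rw [ι_val, ι_val]
  have : x.tr.1.det = x.1.det := by simp only [B4.det, B4.tr, GB.tr]; ring
  rw [this]
  ext i j; fin_cases i <;> fin_cases j <;> rfl

theorem blk {x : SL33} (h : Commute (RA.c ^ 4) x) : ∃ m, ι m = x := by
  have e : (RA.c ^ 4).1 = !![-1, 0, 0; 0, -1, 0; 0, 0, 1] := by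
    rw [← ι_c, ← map_pow, ι_val]; decide +kernel
  have h' : (RA.c ^ 4).1 * x.1 = x.1 * (RA.c ^ 4).1 := congrArg Subtype.val h.eq
  have hd := x.2
  rw [e, Matrix.eta_fin_three x.1, Matrix.mul_fin_three, Matrix.mul_fin_three] at h'
  have z : ∀ u : ZMod 3, -u = u → u = 0 := by decide
  have h02 : x.1 0 2 = 0 := z _ (by simpa using congrFun (congrFun h' 0) 2)
  have h12 : x.1 1 2 = 0 := z _ (by simpa using congrFun (congrFun h' 1) 2)
  have h20 : x.1 2 0 = 0 := z _ (by simpa using (congrFun (congrFun h' 2) 0).symm)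
  have h21 : x.1 2 1 = 0 := z _ (by simpa using (congrFun (congrFun h' 2) 1).symm)
  rw [det_fin_three, h02, h12, h20, h21] at hd
  have k : ∀ u v : ZMod 3, u * v = 1 → u * u = 1 ∧ u = v := by decide
  obtain ⟨k1, k2⟩ := k (x.1 0 0 * x.1 1 1 - x.1 0 1 * x.1 1 0) (x.1 2 2) (by linear_combination hd)
  refine ⟨⟨⟨x.1 0 0, x.1 0 1, x.1 1 0, x.1 1 1⟩, k1⟩, Subtype.ext ((ι_val _).trans ?_)⟩
  conv_rhs => rw [Matrix.eta_fin_three x.1, h02, h12, h20, h21, ← k2]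
  rfl

theorem card_GB : Nat.card GB = 48 := by rw [Nat.card_eq_fintype_card]; decide +kernel

theorem solv_GB : Group.IsSolvable GB :=
  CL.Char.isSolvable_of_card_dvd_pow_mul_pow (p := 2) (q := 3) (a := 4) (b := 1) Nat.prime_two Nat.prime_three
    (by rw [card_GB]; norm_num)

theorem exp24 : ∀ m : GB, (m ^ 3) ^ 2 ^ 3 = 1 := by decide +kernel
theorem cV : ∀ m : GB, dB * m = m * dB → m * m = 1 := by decide +kernel
theorem qa : ∀ m : GB, (m⁻¹ * ((cB ^ 2)⁻¹ * m * cB ^ 2)) ^ 4 = 1 ∧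
    (m⁻¹ * ((cB * dB)⁻¹ * m * (cB * dB))) ^ 4 = 1 := by decide +kernel
theorem cQ : ∀ m : GB, m ^ 3 = 1 → cB ^ 2 * m = m * cB ^ 2 → cB * dB * m = m * (cB * dB) → m = 1 := by
  decide +kernel
theorem cD : ∀ m : GB, dB * m = m * dB → dB * cB ^ 2 * m = m * (dB * cB ^ 2) → m = 1 ∨ m = cB ^ 4 := by
  decide +kernel
theorem pa : ∃ m n : GB, m ^ 3 = 1 ∧ n ^ 3 = 1 ∧ m * n = cB ^ 2 := by decide +kernel
theorem pb : ∃ m n : GB, m ^ 3 = 1 ∧ n ^ 3 = 1 ∧ m * n = cB * dB := by decide +kernel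
theorem inQ : ∀ m n : GB, m ^ 3 = 1 → n ^ 3 = 1 → (m * n) ^ 4 = 1 →
    ∃ (i : Fin 4) (j : Fin 2), m * n = (cB ^ 2) ^ i.val * (cB * dB) ^ j.val := by decide +kernel
theorem eqθ : ∀ m : GB, m ^ 3 = 1 → m⁻¹ * cB ^ 2 * m = cB * dB →
    m⁻¹ * (cB * dB) * m = cB ^ 2 * (cB * dB) * cB ^ 4 → m = θB := by decide +kernel
theorem noγ : ∀ m : GB, m⁻¹ * cB ^ 2 * m = cB * dB → m⁻¹ * (cB * dB) * m = cB ^ 2 →
    (cB ^ 2 * m * (cB ^ 2)⁻¹).tr⁻¹ ≠ m := by decide +kernel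
theorem θf : θB ^ 3 = 1 ∧ θB ≠ 1 ∧ cB ^ 4 * θB = θB * cB ^ 4 ∧ θB⁻¹ * cB ^ 2 * θB = cB * dB ∧
    θB⁻¹ * (cB * dB) * θB = cB ^ 2 * (cB * dB) * cB ^ 4 ∧ dB * θB * dB = θB⁻¹ ∧
    (cB ^ 2 * θB * (cB ^ 2)⁻¹).tr⁻¹ = θB := by decide +kernel
theorem zc : ∀ m : GB, cB ^ 4 * m = m * cB ^ 4 := by decide +kernel
theorem misc : (cB ^ 2) ^ 4 = 1 ∧ (cB * dB) ^ 4 = 1 ∧ (cB * dB) ^ 2 = cB ^ 4 ∧
    (dB * (dB * cB ^ 2)) ^ 2 = cB ^ 4 ∧ (cB ^ 2 * (cB * dB) * (cB ^ 2)⁻¹).tr⁻¹ = cB * dB ∧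
    (cB ^ 2).tr⁻¹ = cB ^ 2 := by decide +kernel

end CL.H3.L1
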