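import Cfsg.Agent.INV.H3.Loc1
import Cfsg.Agent.INV.HS8.PC

/-! S3140: the case `N8` does not occur. `x ^ g = g⁻¹ * x * g`. -/

set_option autoImplicit false
set_option maxHeartbeats 400000
set_option linter.unusedSectionVars false
open Subgroup

namespace CL.H3
open CL.HL

namespace N8y
open CL.HS8 CL.K CL.TwoS

/-- generators `z s t d e m n c` -/
def P : PC := ⟨8, 0x7d07c07e07f07907807a07b06c06d06f06e06806906b06a07507407607707107007207306506406606706106006206303e03f03d03c03a03b03903802f02e02c02d02b02a02802903603703503403203303103002602702502402202302102005d05c05e05f05905805a05b04c04d04f04e04804904b04a05505405605705105005205304504404604704104004204301e01f01d01c01a01b01901800f00e00c00d00b00a00800901601701501401201301101000600700500400200300100003f03e03d03c03803903a03b03403503603703303203103002f02e02d02c02802902a02b02402502602702302202102001f01e01d01c01801901a01b01401501601701301201101000f00e00d00c00800900a00b00400500600700300200100001f01e01d01c01901801b01a01701601501401101001301200d00c00f00e00b00a00900800500400700600300200100000e00f00c00d00a00b008009007006005004003002001000007006005004003002001000003002001000001000000000,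 0x18003002000000000000000, 0xe50e40e60e70e00e10e30e20f70f60f40f50f20f30f10f00ee0ef0ed0ec0eb0ea0e80e90fc0fd0ff0fe0f90f80fa0fb0a50a40a60a70a30a20a00a10b70b60b40b50b10b00b20b30ad0ac0ae0af0ab0aa0a80a90bf0be0bc0bd0b90b80ba0bb0c70c60c40c50c00c10c30c20d70d60d40d50d00d10d30d20cc0cd0cf0ce0cb0ca0c80c90dc0dd0df0de0db0da0d80d908708608408508308208008109709609409509309209009108f08e08c08d08b08a08808909f09e09c09d09b09a09809907f07e07d07c07a07b07807907507407707607007107207306c06d06e06f06906806b06a06706606506406206306006105d05c05f05e05a05b05805905705605505405005105205304c04d04e04f04b04a04904804704604504404004104204303c03d03e03f03a03b03803903503403703603303203103002f02e02d02c02902802b02a02702602502402102002302201e01f01c01d01a01b01801901701601501401301201101000f00e00d00c00b00a009008007006005004003002001000⟩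

/-- conjugation by `θ` on the codes of `Q` -/
def T : ℕ := 0x7d07c0f50f40790780f10f00ef0ee0660670eb0ea06206300000000000000000000000000000000000000000000000000000000000000000000000000000000000000000000000000000000000000000000000000000000000000000000000000000000000000000000000000000000000000000000000000000000000000000000000000000000000000000000000000600708c08d00200308808909709601c01d0930920180190000000000000000000000000ed0ec0650640e90e806106000000000000000000000000000000000000000000000000007e07f0f70f607a07b0f30f200000000000000000000000000000000000000000000000000000000000000000000000000000000000000000000000000000000000000000000000000000000000000000000000000000000000000000000000000000000000000000000000001f01e09509401b01a09109000000000000000000000000000000000000000000000000008e08f00500408a08b001000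

theorem okP : P.ok = true := by decide +kernel

variable {G : Type*} [Group G]

def gl (l : List G) (i : ℕ) : G := l.getD i 1

theorem rel_of {P : PC} {g : ℕ → G} (sq : List ℕ) (tb : List (List ℕ))
    (h1 : ∀ k < P.n, P.sq k = sq.getD k 0 ∧ ∀ j < k, P.th k (2 ^ j) = (tb.getD k []).getD j 0)
    (h2 : ∀ k < P.n, g k * g k = PC.evk g P.n (sq.getD k 0) ∧
      ∀ j < k, g k * g j = PC.evk g P.n ((tb.getD k []).getD j 0) * g k) : P.Rel g := fun k hk => by
  rw [(h1 k hk).1]
  exact ⟨(h2 k hk).1, fun j hj => by rw [(h1 k hk).2 j hj]; exact (h2 k hk).2 j hj⟩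

/-- the product of the members of `L` selected by the bits of `x` -/
noncomputable def pr (L : List ℕ) (x k : ℕ) : ℕ :=
  Nat.rec (motive := fun _ => ℕ) 0 (fun k ih => cond (x.testBit k) (P.mul ih (L.getD k 0)) ih) k

def LA : List ℕ := [1, 30, 4, 241, 144, 24]
def LB : List ℕ := [1, 30, 4, 241, 137, 144]

theorem tab : ∀ i < 64, PC.lk T (pr LA i 6) = pr LB i 6 := by decide +kernel

/-- the action of a word (`true` = `θ`, `false` = `m`) -/
noncomputable def act : List Bool → ℕ → ℕ
  | [], x => x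
  | true :: W, x => act W (PC.lk T x)
  | false :: W, x => act W (P.cj 34 x)

noncomputable def okW : List Bool → ℕ → Bool
  | [], _ => true
  | true :: W, x => anyLt (fun i => Nat.beq (pr LA i 6) x) 64 && okW W (PC.lk T x)
  | false :: W, x => okW W (P.cj 34 x)

def wd (θ m : G) : List Bool → G
  | [] => 1
  | true :: W => θ * wd θ m W
  | false :: W => m * wd θ m W

variable {g : ℕ → G} {θ m : G}

theorem pr_cj (h : PC.Md P g) (a : ∀ j < 6, θ⁻¹ * P.ev g (LA.getD j 0) * θ = P.ev g (LB.getD j 0)) (x : ℕ) :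
    ∀ k ≤ 6, pr LA x k < 2 ^ P.n ∧ pr LB x k < 2 ^ P.n ∧ θ⁻¹ * P.ev g (pr LA x k) * θ = P.ev g (pr LB x k) := by
  intro k hk
  induction k with
  | zero => exact ⟨Nat.two_pow_pos _, Nat.two_pow_pos _, by
      change θ⁻¹ * P.ev g 0 * θ = P.ev g 0
      rw [PC.ev_zero, mul_one, inv_mul_cancel]⟩
  | succ k ih =>
    obtain ⟨i1, i2, i3⟩ := ih (by omega)
    have e : ∀ L, pr L x (k + 1) = cond (x.testBit k) (P.mul (pr L x k) (L.getD k 0)) (pr L x k) := fun _ => rfl
    have b : ∀ j < 6, LA.getD j 0 < 2 ^ P.n ∧ LB.getD j 0 < 2 ^ P.n := by decide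
    obtain ⟨b1, b2⟩ := b k hk
    rw [e, e]
    cases x.testBit k
    · exact ⟨i1, i2, i3⟩
    · refine ⟨PC.mul_lt h.ok i1 b1, PC.mul_lt h.ok i2 b2, ?_⟩
      rw [cond_true, cond_true, h.mul i1 b1, h.mul i2 b2, ← i3, ← a k hk]; group

theorem act_cj (h : PC.Md P g) (a : ∀ j < 6, θ⁻¹ * P.ev g (LA.getD j 0) * θ = P.ev g (LB.getD j 0))
    (hm : P.ev g 34 = m⁻¹) : ∀ (W : List Bool) (x : ℕ), x < 2 ^ P.n → okW W x = true →
      (wd θ m W)⁻¹ * P.ev g x * wd θ m W = P.ev g (act W x)
  | [], x, _, _ => by simp [wd, act]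
  | true :: W, x, _, k => by
    simp only [okW, Bool.and_eq_true, anyLt_iff, Nat.beq_eq] at k
    obtain ⟨⟨i, hi, rfl⟩, k⟩ := k
    obtain ⟨-, i2, i3⟩ := pr_cj h a i 6 le_rfl
    rw [tab i hi] at k
    rw [act, tab i hi, ← act_cj h a hm W _ i2 k, ← i3, wd]; group
  | false :: W, x, hx, k => by
    have l : 34 < 2 ^ P.n := by decide
    rw [okW] at k
    rw [act, ← act_cj h a hm W _ (PC.cj_lt h.ok l hx) k, h.cj l hx, hm, wd]; group

def W0 : List Bool := [false, true, false, true, true, false, true, true, false, true, false, true, false]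

theorem fin : ∀ p ∈ [(24, 144), (144, 24), (4, 4), (30, 30)], okW W0 p.1 = true ∧ act W0 p.1 = p.2 := by
  decide +kernel

variable [Finite G] {F : Fr G}

/-- The relations of `m'`. -/
structure Rn (R : NR F) (n : G) : Prop where
  nn : n * n = F.s * F.z
  cm : Commute R.m n
  tn : n⁻¹ * F.t * n = F.t * (F.s * F.z)
  en : Commute F.e n
  dn : n⁻¹ * F.d * n = F.d * (F.s * F.z)
  zn : Commute F.z n

theorem fl {u v y : G} (h : u⁻¹ * v * u = v * y) (k : Commute y u) (k' : Commute y v) (yy : y * y = 1) :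
    u * v = y * v * u := by
  have : v * u = u * v * y := by rw [mul_assoc, ← h]; group
  rw [mul_assoc, this, ← mul_assoc, (k.mul_right k').eq, mul_assoc, yy, mul_one]

theorem md (R : NR F) {n : G} (r : Rn R n) (hn : F.c⁻¹ * R.m * F.c = n) :
    PC.Md P (gl [F.z, F.s, F.t, F.d, F.e, R.m, n, F.c]) := by
  refine ⟨okP, rel_of [0, 0, 0, 0, 0, 2, 3, 24] [[], [1], [1, 2], [1, 2, 4], [1, 2, 4, 9], [1, 2, 6, 8, 18],
    [1, 2, 7, 11, 16, 32], [1, 3, 4, 16, 9, 67, 32]] (by decide +kernel) fun k hk => ?_⟩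
  have sm : Commute F.s R.m := R.mm ▸ (Commute.refl _).mul_left (Commute.refl _)
  have sn : Commute F.s n := R.mm ▸ r.cm.mul_left r.cm
  have yy : F.z * F.s * (F.z * F.s) = 1 := by
    rw [← F.sz.eq, mul_assoc, ← mul_assoc F.z, ← F.sz.eq, mul_assoc, F.zz, mul_one, F.ss]
  have zc : Commute F.z F.c := F.cr.zc
  have tn := r.tn
  have dn := r.dn
  rw [F.sz.eq] at tn dn
  have dn' := fl dn (r.zn.mul_left sn) (F.zd.mul_left F.sd) yy
  change k < 8 at hk
  change _ = PC.evk _ 8 _ ∧ ∀ j < k, _ = PC.evk _ 8 _ * _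
  interval_cases k <;> refine ⟨?_, fun j hj => ?_⟩ <;> (try interval_cases j) <;>
    simp [gl, PC.evk, Nat.testBit, -mul_left_inj, -mul_right_inj]
  · exact F.zz
  · exact F.ss
  · exact F.sz.eq
  · exact F.tt
  · exact F.tz.eq
  · exact F.ts.eq
  · exact F.dd
  · exact F.zd.symm.eq
  · exact F.sd.symm.eq
  · exact F.td.symm.eq
  · exact F.ee
  · exact F.ze.symm.eq
  · exact F.se.symm.eq
  · exact F.te.symm.eq
  · exact fl (u := F.e) (by rw [F.e_inv, F.ede]) F.ze F.zd F.zz
  · exact R.mm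
  · exact R.zm.symm.eq
  · exact sm.symm.eq
  · exact fl R.tm sm F.ts.symm F.ss
  · exact R.dm.symm.eq
  · exact fl R.em sm F.se F.ss
  · rw [r.nn, F.sz.eq]
  · exact r.zn.symm.eq
  · exact sn.symm.eq
  · exact fl tn (r.zn.mul_left sn) (F.tz.symm.mul_left F.ts.symm) yy
  · exact dn'
  · exact r.en.symm.eq
  · exact r.cm.symm.eq
  · exact F.cr.cc
  · exact zc.symm.eq
  · exact fl (F.cr.sc R.two) zc F.sz.symm F.zz
  · exact F.tc.symm.eq
  · rw [← F.cr.ec]; group
  · have := F.cr.dc
    calc F.c * F.e = F.c * (F.e * F.z) * F.z := by rw [mul_assoc, mul_assoc, F.zz, mul_one]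
      _ = _ := by rw [← this, mul_assoc F.z, (F.zd.mul_right zc).eq]; group
  · calc F.c * R.m = F.c * F.c * n * (F.c * F.c)⁻¹ * F.c := by rw [← hn]; group
      _ = F.d * n * F.d⁻¹ * F.c := by
        rw [F.cr.cc, mul_assoc F.d, r.en.eq]; group
      _ = _ := by
        congr 1
        have c : Commute (F.z * F.s) F.d := F.zd.mul_left F.sd
        calc F.d * n * F.d⁻¹ = F.d * (F.z * F.s * (F.z * F.s)) * n * F.d⁻¹ := by rw [yy, mul_one]
          _ = F.z * F.s * (F.z * F.s * F.d * n) * F.d⁻¹ := by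
            rw [← (c.mul_left c).eq]; group
          _ = _ := by rw [← dn']; group
  · rw [← hn]; group

theorem exn (E : Ex F) (R : NR F) : Rn R (F.c⁻¹ * R.m * F.c) := by
  have r0 : Rn R R.m' := ⟨R.mm', R.cm, R.tm', R.em', R.dm', R.zm'⟩
  have hc : R.c' ∈ F.T := by
    refine E.Tu (Y := F.T0 ⊔ zpowers R.c') (R.p2.to_le (sup_le_sup_right ((closure_le _).2 ?_) _)) ?_
      le_sup_left (mem_sup_right (mem_zpowers _))
    · have m : R.m ∈ closure ({F.t, F.d, F.e, R.m, R.m'} : Set G) := subset_closure (by simp)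
      rintro x (rfl | rfl | rfl | rfl)
      exacts [subset_closure (by simp), R.mm ▸ mul_mem m m, subset_closure (by simp), subset_closure (by simp)]
    · intro y hy
      have : F.T0 ⊔ zpowers R.c' ≤ centralizer {F.t} := sup_le
        (fun x hx => mem_centralizer_singleton_iff.2 (F.t_T (F.T0_T hx)).symm.eq)
        (zpowers_le_of_mem (mem_centralizer_singleton_iff.2 R.cr.tc.symm.eq))
      exact (mem_centralizer_singleton_iff.1 (this hy) : Commute y F.t).symm
  obtain ⟨x, hx, -, e⟩ := F.mem_T'.1 hc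
  have ok := F.ok2 R.two
  have k : ∀ x : Md, x * x = Md.md * Md.me → x⁻¹ * Md.md * x = Md.me * Md.mz → x⁻¹ * Md.me * x = Md.md →
      x = Md.mc ∨ x = Md.mc * Md.mz ∨ x = Md.mc * Md.mtt ∨ x = Md.mc * (Md.mtt * Md.mz) := by decide +kernel
  have h1 := R.cr.cc
  have h2 := R.cr.dc
  have h3 := R.cr.ec
  rw [← e, ← F.w_d, ← F.w_e] at h1 h3
  rw [← e, ← F.w_d, ← F.w_e, ← F.w_z] at h2
  simp only [F.wm2 R.two, F.wi2 R.two] at h1 h2 h3
  have mc := R.mc
  have sm : Commute F.s R.m := R.mm ▸ (Commute.refl _).mul_left (Commute.refl _)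
  have sn : Commute F.s R.m' := R.mm ▸ R.cm.mul_left R.cm
  have yy : F.s * F.z * (F.s * F.z) = 1 := by
    rw [mul_assoc, ← mul_assoc F.z, ← F.sz.eq, mul_assoc, F.zz, mul_one, F.ss]
  have yn : Commute (F.s * F.z) R.m' := sn.mul_left R.zm'
  have tm : F.t * R.m' * F.t⁻¹ = R.m' * (F.s * F.z) := by
    have : F.t * R.m' = R.m' * (F.t * (F.s * F.z)) := by rw [← R.tm']; group
    rw [this, (F.ts.mul_right F.tz).eq]; group
  have r1 : Rn R (R.m' * (F.s * F.z)) := by
    have cj : ∀ v, Commute v (F.s * F.z) → R.m'⁻¹ * v * R.m' = v * (F.s * F.z) →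
        (R.m' * (F.s * F.z))⁻¹ * v * (R.m' * (F.s * F.z)) = v * (F.s * F.z) := fun v a b => by
      calc _ = (F.s * F.z)⁻¹ * (R.m'⁻¹ * v * R.m') * (F.s * F.z) := by group
        _ = _ := by rw [b, a.eq, inv_mul_cancel_left, a.eq]
    refine ⟨?_, R.cm.mul_right (sm.symm.mul_right R.zm.symm), cj _ (F.ts.mul_right F.tz) R.tm',
      R.em'.mul_right (F.se.symm.mul_right F.ze.symm), cj _ (F.sd.symm.mul_right F.zd.symm) R.dm',
      R.zm'.mul_right (F.sz.symm.mul_right (Commute.refl _))⟩
    rw [mul_assoc, ← mul_assoc (F.s * F.z), yn.eq, mul_assoc, yy, mul_one, R.mm']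
  have fin : ∀ w, R.c' = F.c * w → F.c⁻¹ * R.m * F.c = w * R.m' * w⁻¹ := fun w a => by
    rw [← mc, a]; group
  have zz : F.z * R.m' * F.z⁻¹ = R.m' := by rw [R.zm'.eq]; group
  rcases k x (F.w_inj (ok _) (ok _) h1) (F.w_inj (ok _) (ok _) h2) (F.w_inj (ok _) (ok _) h3) with
    rfl | rfl | rfl | rfl
  · rw [fin 1 (by rw [← e, F.w_c, mul_one])]; simpa using r0
  · rw [fin F.z (by rw [← e, ← F.wm2 R.two, F.w_c, F.w_z]), zz]; exact r0
  · rw [fin F.t (by rw [← e, ← F.wm2 R.two, F.w_c, F.w_t]), tm]; exact r1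
  · rw [fin (F.t * F.z) (by rw [← e, ← F.wm2 R.two, ← F.wm2 R.two, F.w_c, F.w_t, F.w_z]),
      show F.t * F.z * R.m' * (F.t * F.z)⁻¹ = F.t * (F.z * R.m' * F.z⁻¹) * F.t⁻¹ by group, zz, tm]
    exact r1

end N8y

variable {G : Type*} [Group G] [Finite G] {F : Fr G}

open N8y CL.HS8 in
/-- The group `⟨z, s, t, d, e, m, n, c⟩`, `n = m ^ c`, is modelled by `N8y.P`; a word in `m` and `θ`
centralises `t`, `s c²` and swaps `c²`, `c d`. -/
theorem n8 (E : Ex F) (R : NR F) : False := by
  have h := md R (exn E R) rfl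
  set g := gl [F.z, F.s, F.t, F.d, F.e, R.m, F.c⁻¹ * R.m * F.c, F.c] with hg
  have ez : P.ev g 1 = F.z := PC.ev_gen _ _ (j := 0) (by decide)
  have es : P.ev g 2 = F.s := PC.ev_gen _ _ (j := 1) (by decide)
  have et : P.ev g 4 = F.t := PC.ev_gen _ _ (j := 2) (by decide)
  have ed : P.ev g 8 = F.d := PC.ev_gen _ _ (j := 3) (by decide)
  have em : P.ev g 32 = R.m := PC.ev_gen _ _ (j := 5) (by decide)
  have ec : P.ev g 128 = F.c := PC.ev_gen _ _ (j := 7) (by decide)
  have mul : ∀ x y w, x < 256 ∧ y < 256 ∧ P.mul x y = w → P.ev g w = P.ev g x * P.ev g y :=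
    fun x y w k => by rw [← k.2.2, h.mul k.1 k.2.1]
  have cm : ∀ x y, x < 256 ∧ y < 256 ∧ P.mul x y = P.mul y x → Commute (P.ev g x) (P.ev g y) :=
    fun x y k => (mul x y _ ⟨k.1, k.2.1, rfl⟩).symm.trans (mul y x _ ⟨k.2.1, k.1, k.2.2.symm⟩)
  have ea : P.ev g 24 = F.c ^ 2 := by rw [mul 128 128 24 (by decide +kernel), ec, sq]
  have eb : P.ev g 144 = F.c * F.d := by rw [mul 128 8 144 (by decide +kernel), ec, ed]
  have eγ : P.ev g 26 = F.s * F.c ^ 2 := by rw [mul 2 24 26 (by decide +kernel), es, ea]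
  have eζ : P.ev g 30 = F.t * (F.s * F.c ^ 2) := by rw [mul 4 26 30 (by decide +kernel), et, eγ]
  have eab : P.ev g 137 = F.c ^ 2 * (F.c * F.d) * F.z := by
    rw [mul (P.mul 24 144) 1 137 (by decide +kernel), h.mul (by decide) (by decide), ea, eb, ez]
  have emi : P.ev g 34 = R.m⁻¹ := by rw [show 34 = P.iv 32 by decide +kernel, h.iv (by decide), em]
  obtain ⟨-, -, -, θt, θz, θa, θb, -, θγ⟩ := E.θ_facts
  have θu : Commute E.θ (P.ev g 241) := by
    refine E.cθ (ez ▸ cm 1 241 (by decide +kernel)) (Or.inr ?_) (ea ▸ cm 24 241 (by decide +kernel))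
      (eb ▸ cm 144 241 (by decide +kernel))
    rw [← et, ← ez, ← mul 4 1 5 (by decide +kernel), mul_assoc, inv_mul_eq_iff_eq_mul,
      ← h.mul (by decide) (by decide), ← h.mul (by decide) (by decide)]
    exact congrArg _ (by decide +kernel)
  have a : ∀ j < 6, E.θ⁻¹ * P.ev g (LA.getD j 0) * E.θ = P.ev g (LB.getD j 0) := fun j hj => by
    interval_cases j
    · exact Fr.cj_fix (ez ▸ θz)
    · exact Fr.cj_fix (x := P.ev g 30) (eζ ▸ θt.mul_left (θγ R.two))
    · exact Fr.cj_fix (x := P.ev g 4) (et ▸ θt)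
    · exact Fr.cj_fix θu.symm
    · change _ * P.ev g 144 * _ = P.ev g 137
      rw [eb, eab, θb]
    · change _ * P.ev g 24 * _ = P.ev g 144
      rw [ea, eb, θa]
  have k : ∀ p ∈ [(24, 144), (144, 24), (4, 4), (30, 30)], p.1 < 256 →
      (wd E.θ R.m W0)⁻¹ * P.ev g p.1 * wd E.θ R.m W0 = P.ev g p.2 := fun p hp l => by
    rw [act_cj h a emi W0 _ l (N8y.fin p hp).1, (N8y.fin p hp).2]
  have k1 := k (24, 144) (by simp) (by decide)
  have k2 := k (144, 24) (by simp) (by decide)
  have k3 := k (4, 4) (by simp) (by decide)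
  have k4 := k (30, 30) (by simp) (by decide)
  simp only [ea, eb, et, eζ] at k1 k2 k3 k4
  have c3 := Fr.comm_of_fix k3
  have c4 := c3.mul_left (Fr.comm_of_fix k4)
  rw [← mul_assoc, F.tt, one_mul] at c4
  exact E.cγ R.two c3 c4 k1 k2

end CL.H3
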