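import Cfsg.Agent.INV.H3.Nc1

/-! S3140: `Fo.nc2` with `Fo.syl` as a hypothesis. `x ^ g = g⁻¹ * x * g`. -/

set_option autoImplicit false
set_option linter.style.haveILetI false
set_option linter.unusedSectionVars false
open Subgroup CL.MSS CL.HL CL.HL.Od CL.HL.Ob CL.HL.Iv CL.HL.Ks

namespace CL.H3.Ncx
universe u
variable {G : Type u} [Group G]

theorem tmul {x n m v w : G} (h1 : n⁻¹ * x * n = x * v) (h2 : m⁻¹ * x * m = x * w) :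
    (n * m)⁻¹ * x * (n * m) = x * (w * (m⁻¹ * v * m)) := by rw [cc, h1, cm, h2, mul_assoc]

theorem tcj {x n v h : G} (h1 : n⁻¹ * x * n = x * v) (hx : Commute x h) :
    (h⁻¹ * n * h)⁻¹ * x * (h⁻¹ * n * h) = x * (h⁻¹ * v * h) := by
  rw [cc, cc, fx hx.inv_right, h1, cm, fx hx]

theorem tdiv {x n m : G} (h : n⁻¹ * x * n = m⁻¹ * x * m) : Commute x (n * m⁻¹) :=
  xf (by rw [cc, h]; group)

variable [Finite G] {F : Fr G} {D : K4 F}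

/-- The Sylow 2-subgroup `R` of `N(U) ∩ C(V)`. -/
structure Rs (D : K4 F) where
  r : G
  R : Subgroup G
  S : Subgroup G
  hr : F.Rr r
  rU : r ∈ normalizer (D.U : Set G)
  p2 : IsPGroup 2 R
  UR : D.U ≤ R
  RU : R ≤ normalizer (D.U : Set G)
  cV : ∀ n ∈ R, ∀ v ∈ F.V, Commute v n
  eR : F.e ∈ normalizer (R : Set G)
  rR : r ∈ normalizer (R : Set G)
  syl : SylIn 2 S ⊤
  RS : R ≤ S
  eS : F.e ∈ S
  dec : ∀ p ∈ S, p ∈ R ∨ p * F.e ∈ R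
  cs : ∀ n ∈ R, Commute F.s n → n ∈ D.U

theorem tau0 (Q : Fo D) (h2 : F.s ≠ 1) {n : G} (hn : n ∈ normalizer (D.U : Set G))
    (hV : ∀ v ∈ F.V, Commute v n) : ∃ v ∈ F.V, n⁻¹ * F.s * n = F.s * v := by
  obtain ⟨v, hv, e | e⟩ := F.mem_B.1 (nB Q hn _ F.s_B)
  · exact absurd (inj (e.trans (fx (hV v hv)).symm) ▸ hv) (F.s_nV h2)
  · exact ⟨v, hv, e⟩

theorem exists_Rs (Q : Fo D) (H : SylH D) (h2 : F.s ≠ 1) : Nonempty (Rs D) := by
  haveI := Fact.mk Nat.prime_two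
  set O1 := F.O ⊓ normalizer (D.U : Set G) with hO1
  set M := normalizer (D.U : Set G) ⊓ centralizer (F.V : Set G) with hM
  have cO : ∀ o ∈ O1, ∀ y ∈ D.U, Commute o y := fun o ho => F.odd_cent D.p2 D.EU D.cU ho.1 ho.2
  have nO : normalizer (D.U : Set G) ≤ normalizer (O1 : Set G) := fun h hh => nm_of fun o ho =>
    ⟨F.mem_O.2 ⟨fun x hx => xf (by
        calc _ = h * (o⁻¹ * (h⁻¹ * x * h) * o) * h⁻¹ := by group
          _ = x := by rw [fx (cO o ho _ (cj' hh (D.EU hx))).symm]; group),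
      by rw [← MulAut.conj_apply, MulEquiv.orderOf_eq]; exact (F.mem_O.1 ho.1).2⟩,
      Subgroup.mul_mem _ (Subgroup.mul_mem _ hh ho.2) (Subgroup.inv_mem _ hh)⟩
  have nM : ∀ h ∈ normalizer (D.U : Set G), h ∈ normalizer (M : Set G) := fun h hh => nm_of fun k hk =>
    ⟨Subgroup.mul_mem _ (Subgroup.mul_mem _ hh hk.1) (Subgroup.inv_mem _ hh), fun b hb => xf (by
      calc _ = h * (k⁻¹ * (h⁻¹ * b * h) * k) * h⁻¹ := by group
        _ = b := by rw [fx (hk.2 _ (nV Q hh b hb))]; group)⟩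
  obtain ⟨R, pR, UR, RM, eR, dec, o, ho, rR⟩ := F.lift (Q := M) (O1 := O1) (Y := D.U) (ρ' := F.ρ) inf_le_left
    (fun o ho => ⟨ho.2, fun v hv => (F.mem_O.1 ho.1).1 v (F.B_E (F.V_B hv))⟩)
    (fun q hq => nO hq.1) (nO D.eU) (nO D.ρU) (nM _ D.eU) (nM _ D.ρU)
    (fun q hq => by
      obtain ⟨k, n, hn, e⟩ := Nat.exists_eq_two_pow_mul_odd (orderOf_pos (q ^ 2)).ne'
      have oo : Odd (orderOf ((q ^ 2) ^ 2 ^ k)) := hn.of_dvd_nat (orderOf_dvd_of_pow_eq_one (by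
        rw [← pow_mul, ← e, pow_orderOf_eq_one]))
      obtain ⟨v, hv, sv⟩ := tau0 Q h2 hq.1 hq.2
      have cs : Commute F.s (q ^ 2) := xf (by rw [sq, tmul sv sv, fx (hq.2 v hv), vv hv, mul_one])
      have cB := cB_of F (cs.pow_right (2 ^ k)) (((Commute.pow_right (hq.2 _ F.z_V)) 2).pow_right (2 ^ k))
        (((Commute.pow_right (hq.2 _ F.d_V)) 2).pow_right (2 ^ k))
      have nU : (q ^ 2) ^ 2 ^ k ∈ normalizer (D.U : Set G) := pow_mem (pow_mem hq.1 2) _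
      refine ⟨k + 1, ?_⟩
      rw [pow_succ', pow_mul]
      generalize (q ^ 2) ^ 2 ^ k = o at oo cB nU
      have cA' : ∀ a ∈ Q.A, Commute a o := fun a ha => by
        obtain ⟨b, hb, e⟩ := sameB Q ha (nA Q nU a ha) (by rw [← cm, fx (cB _ (F.V_B (Q.hs a ha)))])
        rw [odd_fix oo e (cB b hb) (by
          rw [show b ^ 4 = b * b * (b * b) by simp [pow_succ, mul_assoc], F.el_E (F.B_E hb), mul_one]),
          mul_one] at e
        exact xf e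
      have k1 := (Q.hd _ (cj' nU (D.EU F.t_E))).resolve_left fun k => tA Q (by
        simpa [mul_assoc] using nA Q (inv_mem nU) _ k)
      have e : o⁻¹ * F.t * o = F.t * (F.t * (o⁻¹ * F.t * o)) := by rw [← mul_assoc, F.tt, one_mul]
      rw [odd_fix oo e (cA' _ k1) (by rw [← a4 Q k1]; simp [pow_succ, mul_assoc]), mul_one] at e
      exact ⟨F.mem_O.2 ⟨cE_of F (xf e) cB, oo⟩, nU⟩)
    D.p2 (fun u hu => ⟨le_normalizer hu, fun v hv => D.cB u hu v (F.V_B hv)⟩) D.eU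
  obtain ⟨S, hS, RS, eS, SB, dc, h4⟩ := exists_S H pR UR (fun n hn => Fr.norm_of (nB Q (RM hn).1)) eR
  replace h4 := h4 h2
  have SU : ∀ p ∈ S, p ∈ normalizer (D.U : Set G) := fun p hp => Fr.norm_of fun u hu => by
    rw [← h4]
    refine ⟨S.mul_mem (S.mul_mem (S.inv_mem hp) (RS (UR hu))) hp, fun b hb => xf ?_⟩
    rw [cc, cc, fx (D.cB u hu _ (cj' (Subgroup.inv_mem _ (SB hp)) hb))]; group
  have key : ∀ p ∈ S, (∀ v ∈ F.V, Commute v p) → p ∈ R := fun p hp h => by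
    obtain ⟨y, hy, o', ho', e⟩ := dec p ⟨SU p hp, h⟩
    rw [e, odd_p2 hS.pgroup ((S.mul_mem_cancel_right (RS hy)).1 (e ▸ hp)) (F.mem_O.1 ho'.1).2, one_mul]
    exact hy
  exact ⟨⟨o * F.ρ, R, S, F.rr.mul ho.1, Subgroup.mul_mem _ ho.2 D.ρU, pR, UR, fun n hn => (RM hn).1,
    fun n hn => (RM hn).2, eR, rR, hS, RS, eS,
    fun p hp => (dc p hp).imp (key p hp) (key _ (mul_mem hp eS)),
    fun n hn h => h4.le ⟨RS hn, cB_of F h ((RM hn).2 _ F.z_V) ((RM hn).2 _ F.d_V)⟩⟩⟩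

namespace Rs
variable (X : Rs D) (Q : Fo D)

theorem ER : F.E ≤ X.R := D.EU.trans X.UR

theorem hc : ∀ y ∈ X.R, Commute F.t y → y ∈ F.E := fun y hy ht =>
  F.memE X.p2 X.ER hy ht (X.cV y hy _ F.z_V) (X.cV y hy _ F.d_V)

/-- `A1 = ⁅A, r⁆`. -/
def A1 : Subgroup G where
  carrier := {a | a ∈ Q.A ∧ pi X.r a = 1}
  one_mem' := ⟨one_mem _, by simp [pi]⟩
  mul_mem' := fun {a b} ha hb => ⟨mul_mem ha.1 hb.1, by
    rw [pi_mul (cA Q) (nA' Q X.rU) ha.1 hb.1, ha.2, hb.2, mul_one]⟩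
  inv_mem' := fun {a} ha => ⟨inv_mem ha.1, by
    have := pi_mul (cA Q) (nA' Q X.rU) (inv_mem ha.1) ha.1
    rw [inv_mul_cancel, ha.2, mul_one] at this
    rw [← this]; simp [pi]⟩

theorem VA : F.V ≤ X.A1 Q := fun _ hv => ⟨Q.hB (F.V_B hv), pi_V X.hr hv⟩

theorem A1r {a : G} : X.r⁻¹ * a * X.r ∈ X.A1 Q ↔ a ∈ X.A1 Q :=
  ⟨fun h => ⟨by simpa [mul_assoc] using nA Q (inv_mem X.rU) _ h.1, by
    have := h.2; rwa [pi_cj, cj_eq_one] at this⟩,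
    fun h => ⟨nA Q X.rU a h.1, by rw [pi_cj, cj_eq_one]; exact h.2⟩⟩

theorem pi_e {n : G} (hn : n ∈ X.R) : pi X.r (F.e⁻¹ * n * F.e) =
    F.e⁻¹ * (n * (X.r⁻¹ * (X.r⁻¹ * n * X.r) * X.r) * (X.r⁻¹ * n * X.r)) * F.e := by
  rw [pi, ← c2' X.p2 X.ER X.hc X.hr X.rR X.eR hn, ← c2'' X.p2 X.ER X.hc X.hr X.rR X.eR hn, ← cm, ← cm]

theorem A1e {a : G} (h : a ∈ X.A1 Q) : F.e⁻¹ * a * F.e ∈ X.A1 Q := ⟨nA Q D.eU a h.1, by
  have k := nA Q X.rU a h.1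
  rw [X.pi_e (X.UR (Q.hU h.1)), cj_eq_one, mul_assoc, ← (cA Q _ k _ (nA Q X.rU _ k)).eq, ← mul_assoc]
  exact h.2⟩

theorem sA1 {a : G} (ha : a ∈ Q.A) : a ∈ X.A1 Q ∨ F.s * a ∈ X.A1 Q :=
  (pi_A Q X.hr X.rU ha).imp (fun e => ⟨ha, e⟩) fun e => ⟨mul_mem (Q.hB F.s_B) ha, by
    rw [pi_mul (cA Q) (nA' Q X.rU) (Q.hB F.s_B) ha, e, pi_fix X.hr.sρ F.ss, F.ss]⟩

variable (h2 : F.s ≠ 1)
include h2

theorem s1 : F.s ∉ X.A1 Q := fun h => h2 (by have := h.2; rwa [pi_fix X.hr.sρ F.ss] at this)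

theorem BV {b : G} (hb : b ∈ F.B) (h : b ∈ X.A1 Q) : b ∈ F.V := by
  obtain ⟨v, hv, rfl | rfl⟩ := F.mem_B.1 hb
  exacts [hv, absurd (((X.A1 Q).mul_mem_cancel_right (X.VA Q hv)).1 h) (X.s1 Q h2)]

include Q in
theorem tau {n : G} (hn : n ∈ X.R) : ∃ v ∈ F.V, n⁻¹ * F.s * n = F.s * v :=
  tau0 Q h2 (X.RU hn) (X.cV n hn)

include Q in
theorem sqU {n : G} (hn : n ∈ X.R) : n * n ∈ D.U := by
  obtain ⟨v, hv, e⟩ := X.tau Q h2 hn
  exact X.cs _ (mul_mem hn hn) (xf (by rw [tmul e e, fx (X.cV n hn v hv), vv hv, mul_one]))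

include Q in
/-- Induction over the classes of `R / U`. -/
theorem ind {p : G → Prop} (hU : ∀ u ∈ D.U, p u)
    (hz : ∀ g ∈ X.R, g⁻¹ * F.s * g = F.s * F.z → p g)
    (hr : ∀ n ∈ X.R, p (X.r⁻¹ * n * X.r) → p n) : ∀ n ∈ X.R, p n := by
  have a : ∀ g ∈ X.R, g⁻¹ * F.s * g = F.s * (F.d * F.z) → p g := fun g hg e =>
    hr g hg (hz _ (cj' X.rR hg) (by rw [tcj e X.hr.sρ, X.hr.dzρ]))
  intro n hn
  obtain ⟨v, hv, e⟩ := X.tau Q h2 hn
  rcases F.mem_V.1 hv with rfl | rfl | rfl | rfl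
  · exact hU n (X.cs n hn (xf (by rw [e, mul_one])))
  · exact hz n hn e
  · exact hr n hn (a _ (cj' X.rR hn) (by rw [tcj e X.hr.sρ, X.hr.dρ]))
  · exact a n hn e

/-- (ψ) `R` acts trivially on `A / V`. -/
theorem psi : ∀ n ∈ X.R, ∀ a ∈ Q.A, ∃ v ∈ F.V, n⁻¹ * a * n = a * v := by
  have hU : ∀ u ∈ D.U, ∀ a ∈ Q.A, u⁻¹ * a * u = a ∨ u⁻¹ * a * u = a⁻¹ := fun u hu a ha => by
    by_cases h : u ∈ Q.A
    exacts [Or.inl (fx (cA Q _ ha _ h)), Or.inr ((invU Q u hu h).2 a ha)]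
  refine X.ind Q h2 (fun u hu a ha => ?_) (fun g hg sg => ?_) fun n hn h a ha => ?_
  · rcases hU u hu a ha with e | e <;> rw [e]
    exacts [⟨1, one_mem _, by rw [mul_one]⟩, ⟨_, inv_mem (Q.hs a ha), by group⟩]
  · obtain ⟨y, hy, yy, ey, py⟩ := exists_y Q X.hr X.rU
    obtain ⟨xx, rx⟩ := yx_rel Q X.hr X.rU hy yy py
    have hx := nA Q X.rU y hy
    have ex := c2' X.p2 X.ER X.hc X.hr X.rR X.eR (X.UR (Q.hU hy))
    rw [fx ey.symm, rx] at ex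
    generalize X.r⁻¹ * y * X.r = x at xx hx ex
    have nAg := nA Q (X.RU hg)
    have same : ∀ a ∈ Q.A, ∃ b ∈ F.B, g⁻¹ * a * g = a * b := fun a ha =>
      sameB Q ha (nAg a ha) (by rw [← cm, fx (X.cV g hg _ (Q.hs a ha))])
    have gB : ∀ b ∈ F.B, ∃ v ∈ F.V, g⁻¹ * b * g = b * v := fun b hb => by
      obtain ⟨v, hv, rfl | rfl⟩ := F.mem_B.1 hb
      · exact ⟨1, one_mem _, by rw [fx (X.cV g hg _ hv), mul_one]⟩
      · exact ⟨F.z, F.z_V, by rw [cm, sg, fx (X.cV g hg _ hv), mul_assoc, mul_assoc,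
          (cBB F (z_B F) (F.V_B hv)).eq]⟩
    obtain ⟨β, hβ, gx⟩ := same x hx
    have βV : β ∈ F.V := by
      obtain ⟨v, hv, rfl | rfl⟩ := F.mem_B.1 hβ
      · exact hv
      · have e : (g * g)⁻¹ * x * (g * g) = x * F.z := by
          rw [tmul gx gx, cm, sg, fx (X.cV g hg _ hv), mul_assoc F.s v, ← mul_assoc v, ← mul_assoc v,
            ← (cBB F F.s_B (F.V_B hv)).eq, mul_assoc (F.s * v), (cBB F (z_B F) (F.V_B hv)).eq,
            mul_assoc F.s v, ← mul_assoc v, vv hv, one_mul, ← mul_assoc F.s, F.ss, one_mul]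
        rcases hU _ (X.sqU Q h2 hg) x hx with k | k <;> rw [k] at e
        · exact absurd (left_eq_mul.1 e) F.z1
        · refine absurd ?_ F.d_ne_z
          rw [← xx, ← mul_inv_eq_one, inv_eq_of_mul_eq_one_right F.zz, mul_assoc, ← e, mul_inv_cancel]
    obtain ⟨γ, hγ, gy⟩ := same y hy
    have γV : γ ∈ F.V := by
      have hu : F.e⁻¹ * g * F.e * g⁻¹ ∈ D.U := X.cs _ (mul_mem (cj' X.eR hg) (inv_mem hg))
        (tdiv (by rw [tcj sg F.se, fx F.ze, sg]))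
      have e : g⁻¹ * ((F.e⁻¹ * g * F.e * g⁻¹)⁻¹ * (y⁻¹ * x⁻¹) * (F.e⁻¹ * g * F.e * g⁻¹)) * g =
          y⁻¹ * x⁻¹ * (F.e⁻¹ * β * F.e) := by
        rw [← ex, ← cm, ← gx]; group
      have k1 := nV Q D.eU β βV
      have xy := mul_mem hx hy
      have k2 : (x * y)⁻¹ * (g⁻¹ * (x * y) * g) ∈ F.V := by
        rw [← mul_inv_rev] at e
        rcases hU _ hu _ (inv_mem xy) with k | k <;> rw [k] at e
        · have : g⁻¹ * (x * y) * g = (F.e⁻¹ * β * F.e)⁻¹ * (x * y) := by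
            rw [← inv_inj, mul_inv_rev _ (x * y), inv_inv, ← e]; group
          rw [this, ← mul_assoc, fx (cA Q _ (Q.hB (F.V_B (inv_mem k1))) _ xy)]
          exact inv_mem k1
        · rw [inv_inv] at e
          rw [e, ← mul_assoc, ← mul_inv_rev]
          exact mul_mem (inv_mem (Q.hs _ xy)) k1
      rw [cm, gx, gy, show (x * y)⁻¹ * (x * β * (y * γ)) = y⁻¹ * β * y * γ by group,
        fx (cA Q _ (Q.hB hβ) _ hy)] at k2
      exact (F.V.mul_mem_cancel_left βV).1 k2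
    have pm : ∀ a, ∀ b ∈ Q.A, (∃ v ∈ F.V, g⁻¹ * a * g = a * v) → (∃ v ∈ F.V, g⁻¹ * b * g = b * v) →
        ∃ v ∈ F.V, g⁻¹ * (a * b) * g = a * b * v := by
      rintro a b hb ⟨v, hv, e⟩ ⟨w, hw, e'⟩
      exact ⟨v * w, mul_mem hv hw, by
        rw [cm, e, e', mul_assoc, ← mul_assoc v, (cA Q _ (Q.hB (F.V_B hv)) _ hb).eq]; group⟩
    intro a ha
    have fin : ∀ c ∈ Q.A, c * c = a * a → (∃ v ∈ F.V, g⁻¹ * c * g = c * v) →
        ∃ v ∈ F.V, g⁻¹ * a * g = a * v := fun c hc e h => by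
      obtain ⟨b, hb, rfl⟩ := sameB Q hc ha e
      exact pm _ _ (Q.hB hb) h (gB b hb)
    rcases F.mem_V.1 (Q.hs a ha) with e | e | e | e
    · exact gB a (iB Q a ha e)
    · exact fin y hy (yy.trans e.symm) ⟨γ, γV, gy⟩
    · exact fin x hx (xx.trans e.symm) ⟨β, βV, gx⟩
    · exact fin _ (mul_mem hx hy) (by rw [(cA Q _ hy _ hx).mul_mul_mul_comm, xx, yy, e])
        (pm _ _ hy ⟨β, βV, gx⟩ ⟨γ, γV, gy⟩)
  · obtain ⟨v, hv, e⟩ := h _ (nA Q X.rU a ha)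
    refine ⟨X.r⁻¹⁻¹ * v * X.r⁻¹, nV Q (inv_mem X.rU) v hv, ?_⟩
    calc _ = X.r * ((X.r⁻¹ * n * X.r)⁻¹ * (X.r⁻¹ * a * X.r) * (X.r⁻¹ * n * X.r)) * X.r⁻¹ := by group
      _ = _ := by rw [e]; group

theorem sqA {n : G} (hn : n ∈ X.R) : n * n ∈ Q.A := by
  obtain ⟨y, hy, yy⟩ := Q.hs' _ F.z_V
  obtain ⟨v, hv, e⟩ := X.psi Q h2 n hn y hy
  exact memA Q (X.sqU Q h2 hn) hy (xf (by rw [tmul e e, fx (X.cV n hn v hv), vv hv, mul_one]))
    (yy ▸ F.z1)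

theorem nA1 {n a : G} (hn : n ∈ X.R) (ha : a ∈ X.A1 Q) : n⁻¹ * a * n ∈ X.A1 Q := by
  obtain ⟨v, hv, e⟩ := X.psi Q h2 n hn a ha.1
  exact e ▸ mul_mem ha (X.VA Q hv)

include Q in
theorem piU {n : G} (hn : n ∈ X.R) : pi X.r n ∈ D.U := by
  obtain ⟨v, hv, e⟩ := X.tau Q h2 hn
  have e1 := tcj e X.hr.sρ
  have e2 := tcj e1 X.hr.sρ
  have n1 := cj' X.rR hn
  have n2 := cj' X.rR n1
  have v1 := X.hr.nV hv
  have v2 := X.hr.nV v1
  refine X.cs _ (pi_mem X.rR hn) (xf ?_)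
  rw [pi, tmul (tmul e e1) e2, fx (X.cV _ n1 v hv), fx (X.cV _ n2 _ (mul_mem v1 hv)),
    (cBB F (F.V_B v1) (F.V_B hv)).eq, (cBB F (F.V_B v2) (F.V_B (mul_mem hv v1))).eq, ← pi,
    pi_V X.hr hv, mul_one]

/-- (δ) `t ^ n ∈ t A1`. -/
theorem del {n : G} (hn : n ∈ X.R) : ∃ a ∈ X.A1 Q, n⁻¹ * F.t * n = F.t * a := by
  have ha := (Q.hd _ (cj' (X.RU hn) (D.EU F.t_E))).resolve_left fun k => tA Q (by
    simpa [mul_assoc] using nA Q (inv_mem (X.RU hn)) _ k)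
  have e : n⁻¹ * F.t * n = F.t * (F.t * (n⁻¹ * F.t * n)) := by rw [← mul_assoc, F.tt, one_mul]
  generalize F.t * (n⁻¹ * F.t * n) = a at ha e
  refine ⟨a, ⟨ha, (pi_A Q X.hr X.rU ha).resolve_right fun k => F.s_nV h2 ?_⟩, e⟩
  have e1 := tcj e X.hr.tρ
  have e2 := tcj e1 X.hr.tρ
  have n1 := cj' X.rR hn
  have n2 := cj' X.rR n1
  have a1 := nA Q X.rU _ ha
  have a2 := nA Q X.rU _ a1
  obtain ⟨w, hw, ew⟩ := hv D (X.piU Q h2 hn)
  obtain ⟨v, hv, f⟩ := X.psi Q h2 _ n1 a ha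
  obtain ⟨v', hv', f'⟩ := X.psi Q h2 _ n2 _ (mul_mem a1 (mul_mem ha (Q.hB (F.V_B hv))))
  rw [pi, tmul (tmul e e1) e2, f, f', mul_right_inj, ← mul_assoc, ← mul_assoc _ a, (cA Q _ a1 _ ha).eq,
    ← mul_assoc, (cA Q _ a2 _ (mul_mem ha a1)).eq, ← pi, k, mul_assoc] at ew
  exact (F.V.mul_mem_cancel_right (mul_mem hv hv')).1 (ew ▸ hw)

theorem comU {u m : G} (hu : u ∈ D.U) (hm : m ∈ X.R) : u * (m⁻¹ * u * m) ∈ X.A1 Q := by
  rcases Q.hd u hu with h | h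
  · obtain ⟨v, hv, e⟩ := X.psi Q h2 m hm u h
    rw [e, ← mul_assoc]
    exact X.VA Q (mul_mem (Q.hs u h) hv)
  · have e : u = F.t * (F.t * u) := by rw [← mul_assoc, F.tt, one_mul]
    generalize F.t * u = a at h e
    obtain ⟨v, hv, f⟩ := X.psi Q h2 m hm a h
    obtain ⟨b, hb, f'⟩ := X.del Q h2 hm
    rw [e, cm, f, f', show F.t * a * (F.t * b * (a * v)) = F.t * a * F.t * b * a * v by group, Q.hi a h,
      fx (cA Q _ hb.1 _ h)]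
    exact mul_mem hb (X.VA Q hv)

/-- The element `g`. -/
theorem exists_g {y : G} (hy : y ∈ X.A1 Q) (yy : y * y = F.z) :
    ∃ g ∈ X.R, g ∉ D.U ∧ g⁻¹ * F.t * g = F.t * y := by
  have fin : ∀ g ∈ X.R, g ∉ D.U → ∀ a ∈ X.A1 Q, g⁻¹ * F.t * g = F.t * a → a * a = F.z →
      ∃ g ∈ X.R, g ∉ D.U ∧ g⁻¹ * F.t * g = F.t * y := fun g hg gU a ha e aa => by
    obtain ⟨c, hc, rfl⟩ := sameB Q hy.1 ha.1 (yy.trans aa.symm)
    have cV := X.BV Q h2 hc (((X.A1 Q).mul_mem_cancel_left hy).1 ha)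
    obtain ⟨b, hb, bb⟩ := Q.hs' c cV
    have tb : b⁻¹ * F.t * b = F.t * c := by
      rw [← bb, ← Q.hi b hb, mul_assoc _ F.t F.t, F.tt]; group
    refine ⟨g * b, mul_mem hg (X.UR (Q.hU hb)), fun k => gU ((D.U.mul_mem_cancel_right (Q.hU hb)).1 k), ?_⟩
    rw [tmul e tb, fx (cA Q _ ha.1 _ hb), (cA Q _ (Q.hB hc) _ ha.1).eq, mul_assoc y, vv cV, mul_one]
  have stp : ∀ g ∈ X.R, g ∉ D.U → X.r⁻¹ * g * X.r ∉ D.U := fun g hg gU k => gU (by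
    simpa [mul_assoc] using cj X.rU k)
  obtain ⟨g, hg, gU⟩ : ∃ g ∈ X.R, g ∉ D.U := by
    by_contra k
    push Not at k
    exact lemK Q X.syl fun p hp => (X.dec p hp).imp (k _) (k _)
  obtain ⟨a, ha, e⟩ := X.del Q h2 hg
  have e1 := tcj e X.hr.tρ
  have g1 := cj' X.rR hg
  rcases F.mem_V.1 (Q.hs a ha.1) with k | k | k | k
  · obtain ⟨u, hu, f⟩ := D.tr a (X.BV Q h2 (iB Q a ha.1 k) ha)
    exact absurd ((D.U.mul_mem_cancel_right (inv_mem hu)).1 (D.EU (X.hc _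
      (mul_mem hg (inv_mem (X.UR hu))) (tdiv (e.trans f.symm))))) gU
  · exact fin g hg gU a ha e k
  · exact fin _ (cj' X.rR g1) (stp _ g1 (stp g hg gU)) _ ((X.A1r Q).2 ((X.A1r Q).2 ha)) (tcj e1 X.hr.tρ)
      (by rw [← cm, ← cm, k, X.hr.dρ, X.hr.dzρ])
  · exact fin _ g1 (stp g hg gU) _ ((X.A1r Q).2 ha) e1 (by rw [← cm, k, X.hr.dzρ])

/-- (κ) -/
theorem kap : ∃ g ∈ X.R, g⁻¹ * F.s * g = F.s * F.z ∧ g * g ∈ X.A1 Q := by
  obtain ⟨y, hy, yy, ey, py⟩ := exists_y Q X.hr X.rU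
  obtain ⟨g, hg, gU, tg⟩ := X.exists_g Q h2 ⟨hy, py⟩ yy
  have ge := cj' X.eR hg
  have hε := X.hc _ (mul_mem ge (inv_mem hg)) (tdiv (by rw [tcj tg F.te, fx ey.symm, tg]))
  have e : F.e⁻¹ * g * F.e = F.e⁻¹ * g * F.e * g⁻¹ * g := by group
  generalize F.e⁻¹ * g * F.e * g⁻¹ = ε at hε e
  have sg : g⁻¹ * F.s * g = F.s * F.z := by
    obtain ⟨v, hv, f⟩ := X.tau Q h2 hg
    have := tcj f F.se
    rw [e, cc, fx (F.comm_E (F.B_E F.s_B) hε), f, mul_right_inj] at this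
    rcases fixV hv this.symm with rfl | rfl
    exacts [absurd (X.cs g hg (xf (by rw [f, mul_one]))) gU, f]
  have εB : ε ∈ F.B := by
    obtain ⟨b, hb, rfl | rfl⟩ := F.mem_E.1 hε
    · exact hb
    obtain ⟨Z, _, f, fm, f1, f2⟩ := exists_f (fun n hn => X.sqA Q h2 hn) fun n hn => nA Q (X.RU hn)
    have g1 := cj' X.rR hg
    have g2 := cj' X.rR g1
    have tR := X.ER F.t_E
    have pU := X.piU Q h2 hg
    have a1 : f (pi X.r (F.e⁻¹ * g * F.e)) = f (F.e⁻¹ * pi X.r g * F.e) := by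
      rw [X.pi_e hg, pi, cm F.e (g * _), cm F.e (g * _), cm F.e g, cm F.e g, fm _ (mul_mem ge (cj' X.eR g2)) _ (cj' X.eR g1),
        fm _ (mul_mem ge (cj' X.eR g1)) _ (cj' X.eR g2), fm _ ge _ (cj' X.eR g1), fm _ ge _ (cj' X.eR g2),
        mul_right_comm]
    have a2 : f (F.e⁻¹ * pi X.r g * F.e) = f (pi X.r g) := by
      refine mul_left_cancel (a := f (pi X.r g)) ?_
      rw [f2 _ (X.UR pU), ← fm _ (X.UR pU) _ (X.UR (cj' D.eU pU)), f1 _ (X.UR (mul_mem pU (cj' D.eU pU)))]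
      by_cases k : pi X.r g ∈ Q.A
      · exact mul_mem k (nA Q D.eU _ k)
      · exact mulA Q pU (cj' D.eU pU) k fun k' => k (by
          simpa [mul_assoc] using nA Q (inv_mem D.eU) _ k')
    rw [a2, e, pi_mul_f fm X.rR (X.ER hε) hg, mul_eq_right, pi_mul_f fm X.rR tR (X.ER (F.B_E hb)),
      pi_fix X.hr.tρ F.tt, (f1 _ (pi_mem X.rR (X.ER (F.B_E hb)))).2 (pi_mem (nA' Q X.rU) (Q.hB hb)),
      mul_one, f1 _ tR] at a1
    exact absurd a1 (tA Q)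
  refine ⟨g, hg, sg, ?_⟩
  obtain ⟨v, hv, gy⟩ := X.psi Q h2 g hg y hy
  have ev := tcj gy ey.symm
  rw [e, cc, fx (cA Q _ hy _ (Q.hB εB)), gy, mul_right_inj] at ev
  have cA' := X.sqA Q h2 hg
  have cg : g⁻¹ * (g * g) * g = g * g := by group
  have c2 : g * g * (g * g) = F.z * v := by
    have a := tmul tg tg
    rw [gy, ← mul_assoc y, yy] at a
    rw [← mul_right_inj F.t, ← a, ← Q.hi _ cA', mul_assoc _ F.t F.t, F.tt]; group
  have gV : ∀ b ∈ F.B, g⁻¹ * b * g = b → b ∈ F.V := fun b hb k => by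
    obtain ⟨w, hw, rfl | rfl⟩ := F.mem_B.1 hb
    · exact hw
    · rw [cm, sg, fx (X.cV g hg w hw), mul_left_inj] at k
      exact absurd (mul_eq_left.1 k) F.z1
  generalize g * g = c at cA' cg c2
  rcases fixV hv ev.symm with rfl | rfl
  · obtain ⟨b, hb, rfl⟩ := sameB Q hy cA' (by rw [c2, yy, mul_one])
    rw [cm, gy, mul_one, mul_right_inj] at cg
    exact mul_mem ⟨hy, py⟩ (X.VA Q (gV b hb cg))
  · exact X.VA Q (gV c (iB Q c cA' (c2.trans F.zz)) cg)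

theorem sq1 : ∀ n ∈ X.R, n * n ∈ X.A1 Q := by
  obtain ⟨g, hg, sg, gg⟩ := X.kap Q h2
  refine X.ind Q h2 (fun u hu => by simpa using X.comU Q h2 hu (one_mem _)) (fun n hn e => ?_)
    fun n _ h => (X.A1r Q).1 (cm X.r n n ▸ h)
  have := mul_mem (X.comU Q h2 (X.cs _ (mul_mem hn (inv_mem hg)) (tdiv (e.trans sg.symm))) (inv_mem hg)) gg
  simpa [mul_assoc] using this

theorem cardA1 : Nat.card (X.A1 Q) = 16 := by
  rw [card_orb (F := F) (x := F.t) (X.VA Q) (fun a ha => ⟨fun h => X.BV Q h2 (iB Q a ha.1 (by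
      nth_rewrite 2 [← inv_inv a]
      rw [← Q.hi a ha.1, h.eq, mul_assoc a, F.tt, mul_one, mul_inv_cancel])) ha,
      fun h => F.comm_E F.t_E (F.B_E (F.V_B h))⟩)
    (fun a ha => ⟨_, Q.hs a ha.1, by rw [← Q.hi a ha.1, mul_assoc _ F.t F.t, F.tt]; group⟩)
    (fun v hv => ?_), F.card_V]
  obtain ⟨a, ha, e⟩ : ∃ a ∈ X.A1 Q, a * a = v := by
    obtain ⟨a, ha, e⟩ := Q.hs' v hv
    rcases X.sA1 Q ha with k | k
    exacts [⟨a, k, e⟩, ⟨_, k, by rw [(cA Q _ ha _ (Q.hB F.s_B)).mul_mul_mul_comm, F.ss, one_mul, e]⟩]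
  exact ⟨a, ha, by rw [← e, ← Q.hi a ha.1, mul_assoc _ F.t F.t, F.tt]; group⟩

include X Q in
theorem nc : Nonempty (Nc F) := by
  obtain ⟨Z, _, f, fm, f1, f2⟩ := exists_f (X.sq1 Q h2) fun n hn k => X.nA1 Q h2 hn
  have pm := fun a b => pi_mul_f (a := a) (b := b) fm X.rR
  have p1 : f (pi X.r 1) = 1 := (f1 _ (pi_mem X.rR (one_mem _))).2 (by simp [pi])
  have pin : ∀ n ∈ X.R, f (pi X.r n⁻¹) * f (pi X.r n) = 1 := fun n hn => by
    rw [← pm _ _ (inv_mem hn) hn, inv_mul_cancel, p1]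
  let N : Subgroup G :=
    { carrier := {n | n ∈ X.R ∧ f (pi X.r n) = 1}
      one_mem' := ⟨one_mem _, p1⟩
      mul_mem' := fun {a b} ha hb => ⟨mul_mem ha.1 hb.1, by rw [pm _ _ ha.1 hb.1, ha.2, hb.2, mul_one]⟩
      inv_mem' := fun {a} ha => ⟨inv_mem ha.1, by have := pin a ha.1; rwa [ha.2, mul_one] at this⟩ }
  have mN : ∀ n ∈ X.R, n ∈ N ↔ pi X.r n ∈ X.A1 Q := fun n hn =>
    ⟨fun h => (f1 _ (pi_mem X.rR hn)).1 h.2, fun h => ⟨hn, (f1 _ (pi_mem X.rR hn)).2 h⟩⟩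
  have NR : N ≤ X.R := fun n hn => hn.1
  have AN : X.A1 Q ≤ N := fun a ha => (mN a (X.UR (Q.hU ha.1))).2 (ha.2 ▸ one_mem _)
  have NU : ∀ n ∈ N, n ∈ D.U → n ∈ X.A1 Q := fun n hn hu => by
    have k := (mN n hn.1).1 hn
    have hA : n ∈ Q.A := by
      by_contra h
      have st : ∀ m, m ∉ Q.A → X.r⁻¹ * m * X.r ∉ Q.A := fun m hm k => hm (by
        simpa [mul_assoc] using nA Q (inv_mem X.rU) _ k)
      exact st _ (st n h) ((Q.A.mul_mem_cancel_left (mulA Q hu (cj' X.rU hu) h (st n h))).1 k.1)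
    exact ⟨hA, (pi_A Q X.hr X.rU hA).resolve_right fun e => X.s1 Q h2 (e ▸ k)⟩
  have nN : ∀ m ∈ X.R, m ∈ normalizer (N : Set G) := fun m hm => Fr.norm_of fun n hn =>
    ⟨mul_mem (mul_mem (inv_mem hm) hn.1) hm, by
      rw [pm _ _ (mul_mem (inv_mem hm) hn.1) hm, pm _ _ (inv_mem hm) hn.1, hn.2, mul_one, pin m hm]⟩
  have rN : X.r ∈ normalizer (N : Set G) := Fr.norm_of fun n hn =>
    (mN _ (cj' X.rR hn.1)).2 (by rw [pi_cj]; exact (X.A1r Q).2 ((mN n hn.1).1 hn))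
  have eN : F.e ∈ normalizer (N : Set G) := Fr.norm_of fun n hn => (mN _ (cj' X.eR hn.1)).2 (by
    have n1 := cj' X.rR hn.1
    have n2 := cj' X.rR n1
    rw [X.pi_e hn.1]
    refine X.A1e Q ((f1 _ (mul_mem (mul_mem hn.1 n2) n1)).1 ?_)
    rw [fm _ (mul_mem hn.1 n2) _ n1, fm _ hn.1 _ n2, mul_right_comm, ← pi_f fm X.rR hn.1]
    exact hn.2)
  have tE := F.t_E
  have sE := F.B_E F.s_B
  have dec : ∀ n ∈ X.R, ∃ w, (w = 1 ∨ w = F.t ∨ w = F.s ∨ w = F.s * F.t) ∧ w * n ∈ N := fun n hn => by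
    have hu := X.piU Q h2 hn
    obtain ⟨w, hw, k⟩ : ∃ w, (w = 1 ∨ w = F.t ∨ w = F.s ∨ w = F.s * F.t) ∧ w * pi X.r n ∈ X.A1 Q := by
      rcases Q.hd _ hu with h | h <;> rcases X.sA1 Q h with k | k
      exacts [⟨1, by simp, by rwa [one_mul]⟩, ⟨F.s, by simp, k⟩, ⟨F.t, by simp, k⟩,
        ⟨F.s * F.t, by simp, by rwa [mul_assoc]⟩]
    have a : w ∈ F.E ∧ Commute w X.r := by
      rcases hw with rfl | rfl | rfl | rfl
      exacts [⟨one_mem _, Commute.one_left _⟩, ⟨tE, X.hr.tρ⟩, ⟨sE, X.hr.sρ⟩,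
        ⟨mul_mem sE tE, X.hr.sρ.mul_left X.hr.tρ⟩]
    have wR := X.ER a.1
    exact ⟨w, hw, mul_mem wR hn, by
      rw [pm _ _ wR hn, pi_fix a.2 (F.el_E a.1), ← fm _ wR _ (X.UR hu)]
      exact (f1 _ (mul_mem wR (X.UR hu))).2 k⟩
  obtain ⟨g, hg, sg⟩ : ∃ g ∈ N, g⁻¹ * F.s * g = F.s * F.z := by
    obtain ⟨g, hg, sg, -⟩ := X.kap Q h2
    obtain ⟨w, hw, k⟩ := dec g hg
    have : Commute F.s w := by
      rcases hw with rfl | rfl | rfl | rfl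
      exacts [Commute.one_right _, F.ts.symm, Commute.refl _, (Commute.refl _).mul_right F.ts.symm]
    exact ⟨_, k, by rw [cc, fx this, sg]⟩
  have cN : Nat.card N = 64 := by
    rw [card_orb (F := F) (x := F.s) AN (fun n hn => ⟨fun h => NU n hn (X.cs n hn.1 h),
      fun h => cA Q _ (Q.hB F.s_B) _ h.1⟩) (fun n hn => X.tau Q h2 hn.1) (fun v hv => ?_), X.cardA1 Q h2]
    have e1 := tcj sg X.hr.sρ
    rw [X.hr.zρ] at e1
    have e2 := tcj e1 X.hr.sρ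
    rw [X.hr.dρ] at e2
    rcases F.mem_V.1 hv with rfl | rfl | rfl | rfl
    exacts [⟨1, one_mem _, by simp⟩, ⟨g, hg, sg⟩, ⟨_, cj' rN hg, e1⟩, ⟨_, cj' rN (cj' rN hg), e2⟩]
  have cO : ∀ o ∈ F.O, o ∈ normalizer (X.R : Set G) → ∀ n ∈ N, Commute o n := fun o ho hn n k =>
    F.odd_cent X.p2 X.ER X.hc ho hn n (NR k)
  obtain ⟨y, hy, yy, ey, py⟩ := exists_y Q X.hr X.rU
  obtain ⟨xx, rx⟩ := yx_rel Q X.hr X.rU hy yy py
  have hx := nA Q X.rU y hy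
  have yN : y ∈ N := AN ⟨hy, py⟩
  refine ⟨⟨X.r, N, y, X.r⁻¹ * y * X.r, X.hr, X.p2.to_le NR, cN, yN, cj' rN yN, yy, xx, cA Q _ hy _ hx,
    Q.hi _ hy, Q.hi _ hx, ey, rfl, rx, cA Q _ (Q.hB F.s_B) _ hy, cA Q _ (Q.hB F.s_B) _ hx,
    nN _ (X.ER tE), eN, rN, cO _ X.hr.cube (pow_mem X.rR 3), cO _ X.hr.sq (pow_mem (mul_mem X.eR X.rR) 2),
    fun n hn h => ?_, fun n hn => ⟨X.cV n hn.1 _ F.z_V, X.cV n hn.1 _ F.d_V⟩, fun n hn h => ?_,
    fun _ => ⟨fun n hn => X.tau Q h2 hn.1, g, hg, fun h => F.z1 (by rwa [fx h, left_eq_mul] at sg)⟩,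
    ?_, D.nB, nts D⟩⟩
  · obtain ⟨v, hv, e⟩ := X.tau Q h2 hn.1
    have := tcj e X.hr.sρ
    rw [fx h.symm, e, mul_right_inj] at this
    have v1 : v = 1 := (F.fix_ρ X.hr (F.V_B hv) (xf this.symm).symm).resolve_right
      fun k => F.s_nV h2 (k ▸ hv)
    have k := NU n hn (X.cs n hn.1 (xf (by rw [e, v1, mul_one])))
    have k2 := k.2
    rw [pi, fx h.symm, fx h.symm] at k2
    have k3 := a4 Q k.1
    rwa [← mul_assoc, k2, one_mul] at k3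
  · have k := X.hc n hn.1 h
    have k1 := NU n hn (D.EU k)
    exact X.BV Q h2 (iB Q n k1.1 (F.el_E k)) k1
  · have e : X.S = N ⊔ closure {F.t, F.e, F.s} := by
      have m1 : F.t ∈ N ⊔ closure {F.t, F.e, F.s} := mem_sup_right (subset_closure (by simp))
      have m2 : F.e ∈ N ⊔ closure {F.t, F.e, F.s} := mem_sup_right (subset_closure (by simp))
      have m4 : F.s ∈ N ⊔ closure {F.t, F.e, F.s} := mem_sup_right (subset_closure (by simp))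
      have m3 : ∀ n ∈ X.R, n ∈ N ⊔ closure {F.t, F.e, F.s} := fun n hn => by
        obtain ⟨w, hw, k⟩ := dec n hn
        refine (Subgroup.mul_mem_cancel_left _ (?_ : w ∈ _)).1 (mem_sup_left k)
        rcases hw with rfl | rfl | rfl | rfl
        exacts [one_mem _, m1, m4, mul_mem m4 m1]
      refine le_antisymm (fun p hp => (X.dec p hp).elim (m3 p) fun k =>
        (Subgroup.mul_mem_cancel_right _ m2).1 (m3 _ k)) (sup_le (NR.trans X.RS) ((closure_le _).2 ?_))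
      rintro _ (rfl | rfl | rfl)
      exacts [X.RS (X.ER tE), X.eS, X.RS (X.ER sE)]
    exact e ▸ X.syl

end Rs

theorem nc2 (Q : Fo D) (H : SylH D) (h2 : F.s ≠ 1) : Nonempty (Nc F) :=
  (exists_Rs Q H h2).elim fun X => X.nc Q h2

end CL.H3.Ncx
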