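import Cfsg.Agent.INV.H3.Def2

/-! S3140: from `Nc` to `Nd` (generators and relations of the group `N` of order 64). -/

set_option autoImplicit false
set_option linter.unusedSectionVars false
open Subgroup

namespace CL.H3.Nc3
open CL.HL
variable {G : Type*} [Group G] [Finite G]

theorem cosets {A K : Subgroup G} (hA : A ≤ K) (l : List G) (hl : ∀ u ∈ l, u ∈ K)
    (hd : l.Pairwise fun u v => u⁻¹ * v ∉ A) : l.length * Nat.card A ≤ Nat.card K := by
  have key : ∀ i j : Fin l.length, ∀ a ∈ A, ∀ b ∈ A, l.get i * a = l.get j * b → ¬ i < j :=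
    fun i j a ha b hb h hij => List.pairwise_iff_get.1 hd i j hij (by
      have : (l.get i)⁻¹ * l.get j = a * b⁻¹ := by
        rw [eq_mul_inv_of_mul_eq h.symm]; group
      rw [this]; exact mul_mem ha (inv_mem hb))
  have := Nat.card_le_card_of_injective
    (fun p : Fin l.length × A => (⟨l.get p.1 * p.2, mul_mem (hl _ (List.get_mem _ _)) (hA p.2.2)⟩ : K))
    (fun p q h => by
      have h' : l.get p.1 * p.2 = l.get q.1 * q.2 := congrArg Subtype.val h
      have e : p.1 = q.1 := le_antisymm (not_lt.1 (key _ _ _ q.2.2 _ p.2.2 h'.symm))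
        (not_lt.1 (key _ _ _ p.2.2 _ q.2.2 h'))
      rw [e] at h'
      exact Prod.ext e (Subtype.ext (mul_left_cancel h')))
  simpa using this

/-- `A ∪ t A` -/
def ext2 (A : Subgroup G) (t : G) (tt : t * t = 1) (h : ∀ a ∈ A, t * a * t ∈ A) : Subgroup G where
  carrier := {p | p ∈ A ∨ t * p ∈ A}
  one_mem' := Or.inl (one_mem _)
  mul_mem' := by
    rintro a b (ha | ha) (hb | hb)
    · exact Or.inl (mul_mem ha hb)
    · right
      have := mul_mem (h a ha) hb
      rwa [mul_assoc, ← mul_assoc t t, tt, one_mul, mul_assoc] at this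
    · right; rw [← mul_assoc]; exact mul_mem ha hb
    · left
      have := mul_mem (h _ ha) hb
      rwa [← mul_assoc t t, tt, one_mul, mul_assoc, ← mul_assoc t t, tt, one_mul] at this
  inv_mem' := by
    rintro a (ha | ha)
    · exact Or.inl (inv_mem ha)
    · right
      have := h _ (inv_mem ha)
      rwa [mul_inv_rev, mul_assoc, mul_assoc, inv_mul_cancel, mul_one] at this

theorem pw {u : G} (h : u ^ 4 = 1) (i j : ZMod 4) : u ^ (i + j).val = u ^ i.val * u ^ j.val := by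
  rw [ZMod.val_add, ← pow_eq_pow_mod _ h, pow_add]

variable {F : Fr G} (C : Nc F)

def w (i j : ZMod 4) : G := C.y ^ i.val * C.x ^ j.val

theorem y4 : C.y ^ 4 = 1 := by rw [show 4 = 2 * 2 from rfl, pow_mul, pow_two, pow_two, C.yy, F.zz]
theorem x4 : C.x ^ 4 = 1 := by rw [show 4 = 2 * 2 from rfl, pow_mul, pow_two, pow_two, C.xx, F.dd]

theorem w_add (i j k l : ZMod 4) : w C i j * w C k l = w C (i + k) (j + l) := by
  rw [w, w, w, pw (y4 C), pw (x4 C)]
  exact ((C.yx.symm.pow_pow _ _).mul_mul_mul_comm _ _)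
theorem w00 : w C 0 0 = 1 := by simp [w]
theorem w10 : w C 1 0 = C.y := by rw [w, show (1 : ZMod 4).val = 1 from rfl]; simp
theorem w01 : w C 0 1 = C.x := by rw [w, show (1 : ZMod 4).val = 1 from rfl]; simp
theorem w20 : w C 2 0 = F.z := by rw [← C.yy, ← w10, w_add]; rfl
theorem w02 : w C 0 2 = F.d := by rw [← C.xx, ← w01, w_add]; rfl
theorem w_inv (i j : ZMod 4) : (w C i j)⁻¹ = w C (-i) (-j) :=
  inv_eq_of_mul_eq_one_right (by rw [w_add, add_neg_cancel, add_neg_cancel, w00])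
theorem w_pow (i j : ZMod 4) (n : ℕ) : w C i j ^ n = w C (n * i) (n * j) := by
  induction n with
  | zero => simp [w00]
  | succ n ih => rw [pow_succ, ih, w_add]; push_cast; ring_nf
theorem w_ne : w C 2 0 ≠ 1 ∧ w C 0 2 ≠ 1 ∧ w C 2 2 ≠ 1 := by
  refine ⟨by rw [w20]; exact F.z1, by rw [w02]; exact F.d1, fun h => F.d_ne_z ?_⟩
  have : w C 0 2 * w C 2 0 = 1 := by rw [w_add]; exact h
  rw [w02, w20] at this
  rw [eq_inv_of_mul_eq_one_left this, inv_eq_of_mul_eq_one_right F.zz]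
theorem w_one {i j : ZMod 4} (h : w C i j = 1) : i = 0 ∧ j = 0 := by
  obtain ⟨h1, h2, h3⟩ := w_ne C
  have h' : w C (i + i) (j + j) = 1 := by rw [← w_add, h, mul_one]
  have k : ∀ i j : ZMod 4, (i = 0 ∧ j = 0) ∨ ((i = 2 ∧ j = 0) ∨ (i = 0 ∧ j = 2) ∨ (i = 2 ∧ j = 2)) ∨
      ((i + i = 2 ∧ j + j = 0) ∨ (i + i = 0 ∧ j + j = 2) ∨ (i + i = 2 ∧ j + j = 2)) := by decide
  rcases k i j with k | (⟨a, b⟩ | ⟨a, b⟩ | ⟨a, b⟩) | (⟨a, b⟩ | ⟨a, b⟩ | ⟨a, b⟩)
  · exact k
  all_goals first | (rw [a, b] at h'; contradiction) | (rw [a, b] at h; contradiction)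
theorem w_inj {i j k l : ZMod 4} (h : w C i j = w C k l) : i = k ∧ j = l := by
  have := w_one C (i := i + -k) (j := j + -l) (by rw [← w_add, ← w_inv, h, mul_inv_cancel])
  exact ⟨add_neg_eq_zero.1 this.1, add_neg_eq_zero.1 this.2⟩
theorem cjp (g u : G) (n : ℕ) : g⁻¹ * u ^ n * g = (g⁻¹ * u * g) ^ n := by
  simpa using (conj_pow (a := g⁻¹) (b := u) (i := n)).symm
theorem w_act {g : G} {a b c d : ZMod 4} (h1 : g⁻¹ * C.y * g = w C a b) (h2 : g⁻¹ * C.x * g = w C c d)
    (i j : ZMod 4) : g⁻¹ * w C i j * g = w C (i * a + j * c) (i * b + j * d) := by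
  conv_lhs => rw [w, Fr.cj_mul, cjp, cjp, h1, h2, w_pow, w_pow, w_add]
  simp
theorem t_inv : F.t⁻¹ = F.t := inv_eq_of_mul_eq_one_right F.tt
theorem w_t (i j : ZMod 4) : F.t * w C i j * F.t = w C (-i) (-j) := by
  have := w_act C (g := F.t) (a := -1) (b := 0) (c := 0) (d := -1)
    (by rw [t_inv, C.ty, ← w10, w_inv]; rfl) (by rw [t_inv, C.tx, ← w01, w_inv]; rfl) i j
  rw [t_inv] at this; rw [this]; simp
theorem w_r (i j : ZMod 4) : C.r⁻¹ * w C i j * C.r = w C (-j) (i - j) := by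
  rw [w_act C (a := 0) (b := 1) (c := -1) (d := -1) (by rw [C.ry, w01])
    (by rw [C.rx, ← w10, ← w01, w_inv, w_inv, w_add]; rfl)]
  congr 1 <;> ring

theorem rrr {n : G} (hn : n ∈ C.N) : C.r⁻¹ * (C.r⁻¹ * (C.r⁻¹ * n * C.r) * C.r) * C.r = n := by
  calc _ = (C.r ^ 3)⁻¹ * n * C.r ^ 3 := by simp only [pow_succ, pow_zero, one_mul, mul_inv_rev, mul_assoc]
    _ = _ := Fr.cj_fix (C.r3 n hn).symm
theorem e_r {n : G} (hn : n ∈ C.N) (he : Commute F.e n) :
    F.e * (C.r⁻¹ * n * C.r) * F.e = C.r⁻¹ * (C.r⁻¹ * n * C.r) * C.r := by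
  have h1 := Fr.cj_fix (C.er _ (norm_cj C.rN (norm_cj C.rN (norm_cj C.rN hn)))).symm
  have h2 : F.e * n * F.e = n := by rw [he.eq, mul_assoc, F.ee, mul_one]
  have h3 : C.r⁻¹ * (F.e * (C.r⁻¹ * n * C.r) * F.e) * C.r =
      C.r⁻¹ * (C.r⁻¹ * (C.r⁻¹ * n * C.r) * C.r) * C.r := by
    rw [← h1, rrr C hn]
    conv_lhs => rw [← h2]
    rw [pow_two]; simp only [mul_inv_rev, F.e_inv, mul_assoc]
  calc _ = C.r * (C.r⁻¹ * (F.e * (C.r⁻¹ * n * C.r) * F.e) * C.r) * C.r⁻¹ := by group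
    _ = _ := by rw [h3]; group
theorem ex : F.e * C.x * F.e = C.y⁻¹ * C.x⁻¹ := by
  have := e_r C C.yN C.ey
  rwa [C.ry, C.rx] at this
theorem w_e (i j : ZMod 4) : F.e * w C i j * F.e = w C (i - j) (-j) := by
  have := w_act C (g := F.e) (a := 1) (b := 0) (c := -1) (d := -1)
    (by rw [Fr.cj_fix C.ey.symm, w10])
    (by rw [F.e_inv, ex, ← w10, ← w01, w_inv, w_inv, w_add]; rfl) i j
  rw [F.e_inv] at this; rw [this]; congr 1 <;> ring

def A : Subgroup G where
  carrier := {g | ∃ i j, w C i j = g}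
  one_mem' := ⟨0, 0, w00 C⟩
  mul_mem' := by rintro _ _ ⟨i, j, rfl⟩ ⟨k, l, rfl⟩; exact ⟨_, _, (w_add C _ _ _ _).symm⟩
  inv_mem' := by rintro _ ⟨i, j, rfl⟩; exact ⟨_, _, (w_inv C _ _).symm⟩

theorem wA (i j : ZMod 4) : w C i j ∈ A C := ⟨i, j, rfl⟩
theorem w_mem {H : Subgroup G} (hy : C.y ∈ H) (hx : C.x ∈ H) : A C ≤ H := by
  rintro _ ⟨i, j, rfl⟩; exact mul_mem (pow_mem hy _) (pow_mem hx _)
theorem AN : A C ≤ C.N := w_mem C C.yN C.xN
theorem cardA : Nat.card (A C) = 16 := by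
  have : Nat.card (ZMod 4 × ZMod 4) = Nat.card (A C) :=
    Nat.card_eq_of_bijective (fun p => ⟨w C p.1 p.2, wA C _ _⟩)
      ⟨fun p q h => Prod.ext (w_inj C (congrArg Subtype.val h)).1 (w_inj C (congrArg Subtype.val h)).2,
        by rintro ⟨_, i, j, rfl⟩; exact ⟨(i, j), rfl⟩⟩
  rw [← this]; simp
theorem tA : ∀ a ∈ A C, F.t * a * F.t ∈ A C := by
  rintro _ ⟨i, j, rfl⟩; rw [w_t]; exact wA C _ _
theorem rA : C.r ∈ normalizer (A C : Set G) := Fr.norm_of (by
  rintro _ ⟨i, j, rfl⟩; rw [w_r]; exact wA C _ _)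
theorem eA : ∀ a ∈ A C, F.e * a * F.e ∈ A C := by
  rintro _ ⟨i, j, rfl⟩; rw [w_e]; exact wA C _ _
theorem rA' {n : G} (h : C.r⁻¹ * n * C.r ∈ A C) : n ∈ A C := by
  have := norm_cj (inv_mem (rA C)) h
  convert this using 1; group
theorem tN' : ∀ a ∈ C.N, F.t * a * F.t ∈ C.N := fun a ha => by
  have := norm_cj C.tN ha
  rwa [t_inv] at this
theorem t_nN : F.t ∉ C.N := fun h => F.t_nB (F.V_B (C.ct _ h (Commute.refl _)))
theorem n64 {n : G} (hn : n ∈ C.N) : n ^ 64 = 1 := by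
  have : (⟨n, hn⟩ : C.N) ^ Nat.card C.N = 1 := pow_card_eq_one'
  rw [C.card] at this
  exact congrArg Subtype.val this

theorem prod3 {n : G} (hn : n ∈ C.N) :
    n * (C.r⁻¹ * n * C.r) * (C.r⁻¹ * (C.r⁻¹ * n * C.r) * C.r) = 1 := by
  let f : C.N → C.N := fun m => ⟨(m : G)⁻¹ * (C.r⁻¹ * m * C.r), mul_mem (inv_mem m.2) (norm_cj C.rN m.2)⟩
  have hf : Function.Injective f := fun a b h => by
    have h' : (a : G)⁻¹ * (C.r⁻¹ * a * C.r) = (b : G)⁻¹ * (C.r⁻¹ * b * C.r) := congrArg Subtype.val h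
    have := C.fpf _ (mul_mem b.2 (inv_mem a.2)) (Fr.comm_of_fix (by
      calc _ = b * ((b : G)⁻¹ * (C.r⁻¹ * b * C.r)) * (C.r⁻¹ * a * C.r)⁻¹ := by group
        _ = _ := by rw [← h']; group)).symm
    exact Subtype.ext (mul_inv_eq_one.1 this).symm
  obtain ⟨m, hm⟩ := Finite.injective_iff_surjective.1 hf ⟨n, hn⟩
  have e : (m : G)⁻¹ * (C.r⁻¹ * m * C.r) = n := congrArg Subtype.val hm
  rw [← e]
  calc _ = (m : G)⁻¹ * (C.r⁻¹ * (C.r⁻¹ * (C.r⁻¹ * m * C.r) * C.r) * C.r) := by group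
    _ = _ := by rw [rrr C m.2, inv_mul_cancel]

theorem quot {n : G} (hn : n ∈ C.N) (hA : ∀ a ∈ A C, n⁻¹ * a * n ∈ A C)
    (h : n⁻¹ * (C.r⁻¹ * n * C.r) ∈ A C) : n ∈ A C := by
  have h3 : n ^ 3 ∈ A C := by
    have := inv_mem (mul_mem (mul_mem (hA _ h) h) (norm_cj (rA C) h))
    convert this using 1
    refine eq_inv_of_mul_eq_one_left ?_
    rw [← prod3 C hn]; group
  have : n = ((n ^ 3) ^ 21)⁻¹ := eq_inv_of_mul_eq_one_left (by rw [← n64 C hn]; group)
  rw [this]; exact inv_mem (pow_mem h3 _)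

/-- `N` normalises `A ⟨t⟩`. -/
theorem nrm {n : G} (hn : n ∈ C.N) :
    (∀ a ∈ A C, n⁻¹ * a * n ∈ A C) ∧ F.t * (n⁻¹ * F.t * n) ∈ A C := by
  set P := ext2 (A C) F.t F.tt (tA C)
  have tP : F.t ∈ P := Or.inr (by rw [F.tt]; exact one_mem _)
  have PN : ∀ p ∈ P, p ∈ C.N → p ∈ A C := by
    rintro p (h | h) hp
    exacts [h, absurd ((mul_mem_cancel_right hp).1 (AN C h)) (t_nN C)]
  have KA : ∀ n ∈ C.N ⊓ normalizer (P : Set G), ∀ a ∈ A C, n⁻¹ * a * n ∈ A C := fun n hn a ha =>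
    PN _ (norm_cj hn.2 (Or.inl ha)) (mul_mem (mul_mem (inv_mem hn.1) (AN C ha)) hn.1)
  have rP : C.r ∈ normalizer (P : Set G) := Fr.norm_of (by
    rintro p (h | h)
    · exact Or.inl (norm_cj (rA C) h)
    · right
      have := norm_cj (rA C) h
      rwa [Fr.cj_mul, Fr.cj_fix C.hr.tρ] at this)
  have hK : C.N ⊓ normalizer (P : Set G) = C.N := by
    by_contra hne
    have h1 := card_two_mul_le (lt_of_le_of_ne inf_le_left hne)
    have hS : IsPGroup 2 (ext2 C.N F.t F.tt (tN' C)) := fun g => ⟨7, Subtype.ext (by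
      have : (g : G) * g ∈ C.N := by
        rcases g.2 with h | h
        · exact mul_mem h h
        · have := mul_mem (tN' C _ h) h
          rwa [← mul_assoc F.t F.t, F.tt, one_mul, mul_assoc, ← mul_assoc F.t F.t, F.tt, one_mul] at this
      show (g : G) ^ 2 ^ 7 = 1
      rw [← n64 C this, ← pow_two, ← pow_mul]; rfl)⟩
    have hlt : P < ext2 C.N F.t F.tt (tN' C) := by
      refine lt_of_le_of_ne (fun p hp => hp.imp (fun h => AN C h) fun h => AN C h) fun h => ?_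
      have := card_le_of_le (show C.N ≤ A C from fun p hp => PN p (h ▸ Or.inl hp) hp)
      rw [C.card, cardA] at this; omega
    obtain ⟨n, hn, hn1, hn2⟩ : ∃ n ∈ C.N, n ∉ P ∧ n ∈ normalizer (P : Set G) := by
      obtain ⟨n, hn | hn, hn1, hn2⟩ := exists_norm hS hlt
      · exact ⟨n, hn, hn1, hn2⟩
      · exact ⟨_, hn, fun h => hn1 ((mul_mem_cancel_left tP).1 h), mul_mem (le_normalizer tP) hn2⟩
    have nA : n ∉ A C := fun h => hn1 (Or.inl h)
    have := cosets (A := A C) (K := C.N ⊓ normalizer (P : Set G))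
      (le_inf (AN C) fun a ha => le_normalizer (show a ∈ P from Or.inl ha)) [1, n, C.r⁻¹ * n * C.r]
      (by
        simp only [List.mem_cons, List.not_mem_nil, or_false]
        rintro _ (rfl | rfl | rfl)
        exacts [one_mem _, ⟨hn, hn2⟩,
          mem_inf.2 ⟨norm_cj C.rN hn, mul_mem (mul_mem (inv_mem rP) hn2) rP⟩])
      (by
        simp only [List.pairwise_cons, List.mem_cons, List.not_mem_nil, or_false, forall_eq_or_imp,
          forall_eq, inv_one, one_mul, false_imp_iff, implies_true, List.Pairwise.nil, and_true]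
        exact ⟨⟨nA, fun h => nA (rA' C h)⟩, fun h => nA (quot C hn (KA n ⟨hn, hn2⟩) h)⟩)
    rw [cardA] at this
    rw [C.card] at h1
    simp only [List.length_cons, List.length_nil] at this; omega
  have hn' : n ∈ C.N ⊓ normalizer (P : Set G) := hK.symm ▸ hn
  refine ⟨KA n hn', ?_⟩
  rcases norm_cj hn'.2 tP with h | h
  · have := mul_mem (mul_mem hn (AN C h)) (inv_mem hn)
    exact absurd (by simpa [mul_assoc] using this) (t_nN C)
  · exact h

theorem cV' {v n : G} (hv : v ∈ F.V) (hn : n ∈ C.N) : Commute v n := by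
  obtain ⟨h1, h2⟩ := C.cV n hn
  rcases F.mem_V.1 hv with rfl | rfl | rfl | rfl
  exacts [Commute.one_left _, h1, h2, h2.mul_left h1]

theorem exists_g0 : ∃ g ∈ C.N, g⁻¹ * F.t * g = F.t * C.y := by
  classical
  by_contra hne
  push Not at hne
  have := Fintype.ofFinite G
  have h := Finset.card_le_mul_card_image_of_maps_to (f := fun n => F.t * (n⁻¹ * F.t * n))
    (s := Finset.univ.filter (· ∈ C.N))
    (t := (Finset.univ.erase ((1 : ZMod 4), (0 : ZMod 4))).image fun p => w C p.1 p.2)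
    (fun n hn => by
      have hn := (Finset.mem_filter.1 hn).2
      obtain ⟨i, j, e⟩ := (nrm C hn).2
      refine Finset.mem_image.2 ⟨(i, j), Finset.mem_erase.2 ⟨fun h => hne n hn ?_, Finset.mem_univ _⟩, e⟩
      obtain ⟨rfl, rfl⟩ := Prod.mk.inj h
      rw [← w10, e, ← mul_assoc, F.tt, one_mul]) 4
    (fun b _ => by
      rcases Finset.eq_empty_or_nonempty
        ((Finset.univ.filter (· ∈ C.N)).filter fun n => F.t * (n⁻¹ * F.t * n) = b) with h | ⟨a, ha⟩
      · rw [h]; simp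
      · refine le_trans (Finset.card_le_card (t := {a, F.z * a, F.d * a, F.d * F.z * a}) fun n hn => ?_)
          Finset.card_le_four
        simp only [Finset.mem_filter, Finset.mem_univ, true_and] at ha hn
        have e := mul_left_cancel (hn.2.trans ha.2.symm)
        have := C.ct _ (mul_mem hn.1 (inv_mem ha.1)) (Fr.comm_of_fix (by
          calc _ = a * (n⁻¹ * F.t * n) * a⁻¹ := by group
            _ = _ := by rw [e]; group))
        simp only [Finset.mem_insert, Finset.mem_singleton]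
        rcases F.mem_V.1 this with h | h | h | h <;> rw [mul_inv_eq_iff_eq_mul] at h
        exacts [Or.inl (by rwa [one_mul] at h), Or.inr (Or.inl h), Or.inr (Or.inr (Or.inl h)),
          Or.inr (Or.inr (Or.inr h))])
  have h1 : (Finset.univ.filter (· ∈ C.N)).card = 64 := by
    rw [← C.card, Nat.card_eq_fintype_card, Fintype.card_subtype]
  have h2 := Finset.card_image_le (s := Finset.univ.erase ((1 : ZMod 4), (0 : ZMod 4)))
    (f := fun p => w C p.1 p.2)
  have h3 : (Finset.univ.erase ((1 : ZMod 4), (0 : ZMod 4))).card = 15 := by decide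
  omega

theorem fixV {v : G} (hv : v ∈ F.V) (h : F.e * v * F.e = v) : v = 1 ∨ v = F.z := by
  rcases F.mem_V.1 hv with rfl | rfl | rfl | rfl
  · exact Or.inl rfl
  · exact Or.inr rfl
  · rw [F.ede] at h; exact absurd (mul_eq_left.1 h) F.z1
  · have : F.e * (F.d * F.z) * F.e = F.d := by
      rw [mul_assoc, mul_assoc, F.ze.eq, ← mul_assoc, ← mul_assoc, F.ede, mul_assoc, F.zz, mul_one]
    rw [this] at h; exact absurd (mul_eq_left.1 h.symm) F.z1

theorem ecj (a b : G) : F.e * (a * b) * F.e = F.e * a * F.e * (F.e * b * F.e) := by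
  calc _ = F.e * a * (F.e * F.e) * b * F.e := by rw [F.ee]; group
    _ = _ := by group

theorem efix {a : G} (h : Commute F.e a) : F.e * a * F.e = a := by
  rw [h.eq, mul_assoc, F.ee, mul_one]

theorem ecomm {a : G} (h : F.e * a * F.e = a) : Commute F.e a :=
  (Fr.comm_of_fix (by rw [F.e_inv]; exact h)).symm

theorem exists_g : ∃ g ∈ C.N, g⁻¹ * F.t * g = F.t * C.y ∧ Commute F.e g := by
  obtain ⟨g, hg, h⟩ := exists_g0 C
  have hg' : F.e * g * F.e ∈ C.N := by have := norm_cj C.eN hg; rwa [F.e_inv] at this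
  have h' : (F.e * g * F.e)⁻¹ * F.t * (F.e * g * F.e) = F.t * C.y := by
    calc _ = F.e⁻¹ * (g⁻¹ * (F.e⁻¹ * F.t * F.e) * g) * F.e := by group
      _ = _ := by rw [Fr.cj_fix F.te, h, Fr.cj_fix (F.te.mul_left C.ey.symm)]
  have hv := C.ct _ (mul_mem hg' (inv_mem hg)) (Fr.comm_of_fix (by
    calc _ = g * ((F.e * g * F.e)⁻¹ * F.t * (F.e * g * F.e)) * g⁻¹ := by group
      _ = _ := by rw [h', ← h]; group))
  generalize hv' : F.e * g * F.e * g⁻¹ = v at hv
  have e1 : F.e * g * F.e = v * g := by rw [← hv']; group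
  have e2 : F.e * v * F.e = v := by
    have : F.e * (F.e * g * F.e) * F.e = g := by
      calc _ = (F.e * F.e) * g * (F.e * F.e) := by group
        _ = _ := by rw [F.ee]; group
    rw [e1, ecj, e1, ← mul_assoc] at this
    rw [eq_inv_of_mul_eq_one_left (mul_eq_right.1 this),
      inv_eq_of_mul_eq_one_right (F.el_E (F.B_E (F.V_B hv)))]
  rcases fixV hv e2 with rfl | rfl
  · exact ⟨g, hg, h, ecomm (by rw [e1, one_mul])⟩
  · refine ⟨F.d * g, mul_mem (C.xx ▸ mul_mem C.xN C.xN) hg, ?_, ecomm ?_⟩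
    · calc _ = g⁻¹ * (F.d⁻¹ * F.t * F.d) * g := by group
        _ = _ := by rw [Fr.cj_fix F.td, h]
    · rw [ecj, F.ede, e1, mul_assoc, ← mul_assoc F.z, F.zz, one_mul]

theorem nd (C : Nc F) : Nonempty (Nd F) := by
  obtain ⟨g, hg, tg, eg⟩ := exists_g C
  obtain ⟨h, hh⟩ : ∃ h, h = C.r⁻¹ * g * C.r := ⟨_, rfl⟩
  obtain ⟨k, hk⟩ : ∃ k, k = C.r⁻¹ * h * C.r := ⟨_, rfl⟩
  have hN : h ∈ C.N := hh ▸ norm_cj C.rN hg
  have kN : k ∈ C.N := hk ▸ norm_cj C.rN hN
  have kg : C.r⁻¹ * k * C.r = g := by rw [hk, hh, rrr C hg]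
  have p1 : g * h * k = 1 := by rw [hk, hh]; exact prod3 C hg
  have p2 : g⁻¹ * h⁻¹ * k⁻¹ = 1 := by
    rw [← prod3 C (inv_mem hg), hk, hh]; simp only [mul_inv_rev, inv_inv, mul_assoc]
  have k1 : k = g⁻¹ * h⁻¹ := (mul_inv_eq_one.1 p2).symm
  have gh : Commute g h := by
    show g * h = h * g
    rw [eq_inv_of_mul_eq_one_left p1, k1]; group
  have eh : F.e * h * F.e = k := by rw [hk, hh]; exact e_r C hg eg
  have ek : F.e * k * F.e = h := by
    rw [← eh]
    calc _ = (F.e * F.e) * h * (F.e * F.e) := by group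
      _ = _ := by rw [F.ee]; group
  have tw : ∀ i j, (w C i j)⁻¹ * F.t * w C i j = F.t * w C (i + i) (j + j) := fun i j => by
    rw [← w_add, w_inv, ← w_t]
    calc _ = F.t * w C i j * (F.t * F.t) * w C i j := by group
      _ = _ := by rw [F.tt]; group
  have gA : g ∉ A C := by
    rintro ⟨i, j, rfl⟩
    rw [tw, ← w10] at tg
    exact (by decide : ∀ i : ZMod 4, i + i ≠ 1) i (w_inj C (mul_left_cancel tg)).1
  have hA : h ∉ A C := fun h1 => gA (rA' C (hh ▸ h1))
  have kA : k ∉ A C := fun h1 => hA (rA' C (hk ▸ h1))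
  have q1 : g⁻¹ * h ∉ A C := fun h1 => gA (quot C hg (nrm C hg).1 (hh ▸ h1))
  have q2 : h⁻¹ * k ∉ A C := fun h1 => hA (quot C hN (nrm C hN).1 (hk ▸ h1))
  have q3 : g⁻¹ * k ∉ A C := fun h1 => kA (quot C kN (nrm C kN).1 (by
    rw [kg]; simpa using inv_mem h1))
  have dec : ∀ n ∈ C.N, n ∈ A C ∨ g⁻¹ * n ∈ A C ∨ h⁻¹ * n ∈ A C ∨ k⁻¹ * n ∈ A C := fun n hn => by
    by_contra hne
    push Not at hne
    have := cosets (AN C) [1, g, h, k, n]
      (by
        simp only [List.mem_cons, List.not_mem_nil, or_false]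
        rintro _ (rfl | rfl | rfl | rfl | rfl)
        exacts [one_mem _, hg, hN, kN, hn])
      (by
        simp only [List.pairwise_cons, List.mem_cons, List.not_mem_nil, or_false, forall_eq_or_imp,
          forall_eq, inv_one, one_mul, false_imp_iff, implies_true, List.Pairwise.nil, and_true]
        exact ⟨⟨gA, hA, kA, hne.1⟩, ⟨q1, q3, hne.2.1⟩, ⟨q2, hne.2.2.1⟩, hne.2.2.2⟩)
    rw [cardA, C.card] at this
    simp at this
  have gen : ∀ H : Subgroup G, C.y ∈ H → C.x ∈ H → g ∈ H → h ∈ H → C.N ≤ H :=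
    fun H h1 h2 h3 h4 n hn => by
      have h5 : k ∈ H := k1 ▸ mul_mem (inv_mem h3) (inv_mem h4)
      rcases dec n hn with e | e | e | e <;> have := w_mem C h1 h2 e
      exacts [this, (mul_mem_cancel_left (inv_mem h3)).1 this,
        (mul_mem_cancel_left (inv_mem h4)).1 this, (mul_mem_cancel_left (inv_mem h5)).1 this]
  have einv : ∀ a, F.e * a⁻¹ * F.e = (F.e * a * F.e)⁻¹ := fun a => by
    simp only [mul_inv_rev, F.e_inv, mul_assoc]
  have egg := efix (eg.mul_right eg)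
  have ggA : g * g ∈ A C := by
    have both : h⁻¹ * (g * g) ∈ A C → k⁻¹ * (g * g) ∈ A C → False := fun a b => q2 (by
      have := mul_mem a (inv_mem b)
      simpa [mul_assoc] using this)
    rcases dec _ (mul_mem hg hg) with e | e | e | e
    · exact e
    · exact absurd (by simpa using e) gA
    · have := eA C _ e
      rw [ecj, einv, eh, egg] at this
      exact (both e this).elim
    · have := eA C _ e
      rw [ecj, einv, ek, egg] at this
      exact (both this e).elim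
  have ecg : ∀ a, F.e * (g⁻¹ * a * g) * F.e = g⁻¹ * (F.e * a * F.e) * g := fun a => by
    rw [ecj, ecj, einv, efix eg]
  obtain ⟨p, q, hp⟩ := ggA
  obtain ⟨a, b, ha⟩ := (nrm C hg).1 _ (w10 C ▸ wA C 1 0)
  obtain ⟨c, d, hc⟩ := (nrm C hg).1 _ (w01 C ▸ wA C 0 1)
  have hq : q = 0 := by
    rw [← hp, w_e] at egg
    exact sub_eq_self.1 (w_inj C egg).1
  have hb : b = 0 := by
    have := ecg C.y
    rw [efix C.ey, ← ha, w_e] at this
    exact sub_eq_self.1 (w_inj C this).1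
  subst hq hb
  have hpa : 1 + a = p + p := by
    have := tw p 0
    rw [hp] at this
    have h2 : (g * g)⁻¹ * F.t * (g * g) = F.t * w C (1 + a) (0 + 0) := by
      calc _ = g⁻¹ * (g⁻¹ * F.t * g) * g := by group
        _ = _ := by rw [tg, Fr.cj_mul, tg, ← ha, ← w10, mul_assoc, w_add]
    exact (w_inj C (mul_left_cancel (h2.symm.trans this))).1
  have rcj : ∀ u v, C.r⁻¹ * (u⁻¹ * v * u) * C.r =
      (C.r⁻¹ * u * C.r)⁻¹ * (C.r⁻¹ * v * C.r) * (C.r⁻¹ * u * C.r) := fun u v => by group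
  have hhh : h * h = w C 0 p := by
    rw [hh, ← Fr.cj_mul, ← hp, w_r]; simp
  have hcd : c + c = 0 ∧ d + d = 2 := by
    refine w_inj C ?_
    rw [← w_add, hc, ← Fr.cj_mul, C.xx, Fr.cj_fix (C.cV g hg).2, w02]
  have act := w_act C ha.symm hc.symm
  have hcd2 : c - d = -a + -c := by
    have := ecg C.x
    rw [← hc, w_e, ← w01, w_e, act] at this
    have := (w_inj C this).1
    rw [this]; ring
  have acth : ∀ i j, h⁻¹ * w C (-j) (i - j) * h =
      w C (-(i * 0 + j * d)) (i * a + j * c - (i * 0 + j * d)) := fun i j => by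
    rw [← w_r, hh, ← rcj, act, w_r]
  have th : h⁻¹ * F.t * h = F.t * C.x := by
    have := rcj g F.t
    rw [tg, Fr.cj_mul, Fr.cj_fix C.hr.tρ, C.ry, ← hh] at this
    exact this.symm
  have sg : F.s ≠ 1 → g⁻¹ * F.s * g = F.s * F.z := fun hs => by
    obtain ⟨h1, n, hn, h2⟩ := C.sN hs
    obtain ⟨v, hv, e⟩ := h1 g hg
    have := ecg F.s
    rw [efix F.se.symm, e, ecj, efix F.se.symm] at this
    rcases fixV hv (mul_left_cancel this) with rfl | rfl
    · have c1 : Commute F.s g := Fr.comm_of_fix (by rw [e, mul_one])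
      have c2 : Commute F.s h := hh ▸ (C.hr.sρ.inv_right.mul_right c1).mul_right C.hr.sρ
      have m : ∀ {u}, Commute F.s u → u ∈ centralizer {F.s} := fun h =>
        mem_centralizer_singleton_iff.2 h.symm.eq
      exact (h2 (mem_centralizer_singleton_iff.1
        (gen _ (m C.sy) (m C.sx) (m c1) (m c2) hn)).symm).elim
    · exact e
  refine ⟨⟨C.y, C.x, g, h, C.yy, C.xx, C.yx, C.ty, C.tx, C.ey, ex C, C.sy, C.sx, tg, th, gh,
    Fr.icj C.r hh.symm, eg, eh.trans k1, sg, fun hs => ?_, ?_, ?_, C.nB, C.nts⟩⟩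
  · have := rcj g F.s
    rw [sg hs, Fr.cj_mul, Fr.cj_fix C.hr.sρ, C.hr.zρ, ← hh] at this
    exact this.symm
  · have cs : ∀ p a c d : ZMod 4, 1 + a = p + p → c + c = 0 ∧ d + d = 2 → c - d = -a + -c →
        p = 1 ∨ p = -1 ∨ ((p = 0 ∨ p = 2) ∧ a = -1 ∧ d = -1 ∧ (c = 0 ∨ c = 2)) := by decide
    rcases cs p a c d hpa hcd hcd2 with rfl | rfl | ⟨hp0, rfl, rfl, rfl | rfl⟩
    · exact Or.inl (Or.inl ⟨by rw [← hp, w10], by rw [hhh, w01]⟩)
    · exact Or.inl (Or.inr ⟨by rw [← hp, ← w10, w_inv]; rfl, by rw [hhh, ← w01, w_inv]; rfl⟩)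
    · exfalso
      have up : ∀ u, (∀ i j, u⁻¹ * w C i j * u = w C (-i) (-j)) →
          ∀ i j, (C.r⁻¹ * u * C.r)⁻¹ * w C i j * (C.r⁻¹ * u * C.r) = w C (-i) (-j) := fun u hu i j => by
        have := rcj u (w C (j - i) (-i))
        rw [hu, w_r, w_r] at this
        convert this.symm using 3 <;> ring_nf
      have i1 : ∀ i j, g⁻¹ * w C i j * g = w C (-i) (-j) := fun i j => by
        rw [act]; congr 1 <;> ring
      have i2 := up g i1
      rw [← hh] at i2
      have i3 := up h i2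
      rw [← hk] at i3
      have : (g * h * k)⁻¹ * w C 1 0 * (g * h * k) = w C (- - -1) (- - -0) := by
        rw [← i3, ← i2, ← i1]; group
      rw [p1, inv_one, one_mul, mul_one] at this
      exact absurd (w_inj C this).1 (by decide)
    · refine Or.inr ⟨?_, ?_, ?_, ?_, ?_⟩
      · rcases hp0 with rfl | rfl
        exacts [Or.inl ⟨by rw [← hp, w00], by rw [hhh, w00]⟩,
          Or.inr ⟨by rw [← hp, w20], by rw [hhh, w02]⟩]
      · rw [← ha, ← w10, w_inv]; rfl
      · rw [← hc, ← w01, w_inv, ← w20 C, w_add]; rfl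
      · have := acth 1 0
        rw [← w01, w_inv]; exact this
      · have := acth (-1) (-1)
        rw [← w10, ← w20 C, ← w02 C, w_add, w_add]; exact this
  · have : closure {C.y, C.x, g, h, F.t, F.e, F.s} = C.N ⊔ closure {F.t, F.e, F.s} := by
      refine le_antisymm ((closure_le _).2 ?_) (sup_le (gen _ ?_ ?_ ?_ ?_) (closure_mono ?_))
      · rintro _ (rfl | rfl | rfl | rfl | hu)
        exacts [mem_sup_left C.yN, mem_sup_left C.xN, mem_sup_left hg, mem_sup_left hN,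
          mem_sup_right (subset_closure hu)]
      iterate 4 exact subset_closure (by simp)
      intro u hu; simp only [Set.mem_insert_iff] at hu ⊢; tauto
    rw [this]; exact C.syl

end CL.H3.Nc3
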