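import Cfsg.Agent.INV.H3.Def2
import Cfsg.Agent.INV.H3.Loc2
import Cfsg.Agent.INV.H3.Split
import Cfsg.Agent.INV.H3.Nc2
import Cfsg.Agent.INV.H3.Nc3

/-! S3140 (proofs in `Nc0.lean`, `Nc1.lean`, `Nc2.lean`, `Nc3.lean`). `x ^ g = g⁻¹ * x * g`.
Basics on `Fo` (see the start of the proof of `K4.four`, `HL/K4f.lean`): `A` is abelian of exponent
4, `t ∉ A`, `U = A ∪ t A`, `|U| = 8 |B|` (`Ks.cardU`), involutions of `A` lie in `B`, `A` and `B`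
are normalised by `N(U)`.
Choice of `y, x`, for `r` with `Rr r` normalising `U` (`r³`, `(e r)²` centralise `U`: `Rr.cube`,
`Rr.sq`, `odd_cent`): take `y0 ∈ A`, `y0² = z`. `y0 · y0 ^ r · y0 ^ r²` commutes with `r`, has
square `z d (d z) = 1`, so lies in `{1, s}`; replace `y0` by `y0 s` to make it `1`.
`y0 ^ e = y0 b`, `b ∈ B` commutes with `e` and has product 1 over its `r`-orbit, so `b ∈ {1, z}`;
replace `y0` by `y0 d` if `b = z`. `x = y ^ r`.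
Lemma (K): `S = U ⟨e⟩` is not Sylow in `G`. Otherwise `T* = T ^ g ≤ S` (`extr`); `S / A` is
elementary of order 4, so `T* ∩ A` has index `≤ 4` in `T*` and contains `(c²) ^ g`; it is
abelian of exponent 4; the elements `w` of `T` commuting with `c²` with `w⁴ = 1` form the group
`⟨t, s, c²⟩` of index 4 in `T` (`Md`, `decide`); so `t ^ g ∈ A`, `t ^ g ∈ B`, against `nB`. -/

set_option autoImplicit false
open Subgroup

namespace CL.H3
open CL.HL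
variable {G : Type*} [Group G] [Finite G] {F : Fr G}

/-- `s = 1`, `B = V`. `r, W` from `K4.invSyl`; `|W| ≤ 128` (proof of `K4.cenB`, or Sylow: `W` is
maximal among the 2-subgroups of `C(B)`, as is the `W` of `cenB`). `P = W ⟨e⟩` is Sylow in
`N(V)` (`N(V) / C(V) ≤ S₃`), so in `G` (`Fo.syl`). `C_W(r) = ⟨t⟩` (`K4.fix_rho`), `C_W(t) = E`
(`memE`), `exists_half` gives `N` of index 2 in `W`, `t ∉ N`, `r`-invariant, so `r` is
fixed-point-free on `N` and `N = {w⁻¹ w ^ r | w ∈ W}` (`Fpf.surj`), which is `e`-invariant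
(`e r e ≡ r⁻¹` on `W`) and contains `A`. `|N| ≡ 1 (3)`, `16 ≤ |N| ≤ 64`. `|N| = 16` gives
`W = U`, against (K). -/
theorem Fo.nc1 {D : K4 F} (Q : Fo D) (h1 : F.s = 1) : Nonempty (Nc F) :=
  Ncx.nc1 Q (fun _ hP hU he => Q.syl hP hU he) h1

/-- `s ≠ 1`. `M = N(U) ∩ C(V)`, `O1 = F.O ∩ N(U)` centralises `U` (`odd_cent`). An element of odd
order of `N(U) ∩ C(B)` centralises `A` (it is trivial on `B` and on `A / B ≅ V`), and `U`, so
lies in `O1`; `U` is Sylow in `C(B)` (`Fo.syl`); `q ∈ M` has `s ^ q ∈ s V`, `q² ∈ C(B)`. So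
`Fr.lift` (`Q = M`, `Y = U`) gives `R ≥ U` Sylow in `M`, normalised by `e` and `r = o ρ`.
`P = R ⟨e⟩` is Sylow in `N(B)`, hence in `G` (a bigger `P'` normalises `V` and `U` by `Fo.syl`,
`C_P'(V) = R` has index 2). `τ : R → V`, `s ^ n = s τ(n)` is a homomorphism with kernel `U`,
with `r`-invariant image; `R = U` contradicts (K). So `τ` is onto, `|R| = 256`. `C_R(t) = E`
(`memE`). `A1 = ⟨y, x⟩`, `A = A1 × ⟨s⟩`. For `n ∈ R`, `a ∈ A`: `a ^ n ∈ a B` (same square).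
(ψ) `a ^ n ∈ a V`. Let `τ(g) = z`; the class `g U` is fixed by `e`. `ψ(a) = 1` iff `a ^ g ∈ a s V`
is a homomorphism `A / B → Z₂`, `e`-invariant, so `ψ(y) = ψ(x) + ψ(x ^ e) = 0`
(`x ^ e ∈ x y B`). If `ψ(x) = 1`, `x ^ g = x s v`, `x ^ (g²) = x z`, but `g² ∈ U` centralises or
inverts `x`. So `g`, `g ^ r`, and `U` act trivially on `A / V`. Also `g²` centralises `A1`, so
`g² ∈ A`. (δ) `t ^ n ∈ t A1`: `t ^ n ∈ U \ A = t A`; `n ↦` the `s`-component is a homomorphism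
`R → Z₂`, trivial on `U`, `r`-invariant, so trivial. Hence `t ^ R = t A1` (orders), choose `g ∈ R`
with `t ^ g = t y`; `g ∉ U`, `g ^ e = g ε`, `ε ∈ E` commutes with `e`; `τ(g) = z`.
(κ) `g² ∈ A1`. Otherwise `g² = s a`, `a ∈ A1`; in `R̄ = R / A1` (order 16, `⟨t̄, s̄⟩` central)
all of `ḡ, ḡ ^ r, ḡ ^ r²` have square `s̄`; replace `g` by `g w`, `w ∈ ⟨t, s⟩`, so that
`ḡ ḡ ^ r ḡ ^ r²= 1` or use `⁅R̄, r⁆ ≅ Q₈`; `e` inverts `r`, so inverts `ḡ`: `ε ∈ s ⟨z⟩`. Then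
`(g²) ^ e = g² ε ^ g ε = g² z`, so `a ^ e = a z`, `a = yⁱ d`. `y ^ g = y v`, `v ∈ ⟨z⟩` (it is fixed
by `e`); `g` fixes `s a`, so `a ^ g = a z`, `v = z`, `i` odd, `a² = z`; but
`t a² = t ^ (g²) = t y y ^ g = t z v = t`. So `R̄` is elementary abelian (generated by `t̄, s̄, ḡ,
ḡ ^ r`, all squares trivial), `N = {w⁻¹ w ^ r | w ∈ R}· A1` = preimage of `⁅R̄, r⁆` has order 64. -/
theorem Fo.nc2 {D : K4 F} (Q : Fo D) (h2 : F.s ≠ 1) : Nonempty (Nc F) :=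
  Ncx.nc2 Q (fun _ hP hU he => Q.syl hP hU he) h2

/-- `A1 = ⟨y, x⟩ ≅ 4²`; `N_N(A1) > A1` is `r`-invariant, `r` is fixed-point-free on the quotient,
so `A1` is normal in `N`, `N / A1` is a four-group; `t` commutes with `r`, so acts trivially on it.
So `t ^ n ∈ t A1`, and `|t ^ N| = 64 / 4`: there is `g ∈ N`, `t ^ g = t y`. `g ^ e = g v`, `v ∈ V`
(`ct`), `v ∈ ⟨z⟩`; replace `g` by `g d` if `v = z`. `h = g ^ r`, `k = h ^ r`. For a
fixed-point-free automorphism of order 3, `n n ^ r n ^ r² = 1 = n ^ r² n ^ r n` (`Fpf.surj`: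
`n = m⁻¹ m ^ r`, resp. `m ^ r m⁻¹`), so `g, h` commute, `k = g⁻¹ h⁻¹`, `e h e = (g ^ e) ^ r² = k`;
in the same way `e x e = y⁻¹ x⁻¹`. `C_A1(e) = ⟨y⟩ ∋ g², y ^ g`; `t ^ (g²)` gives
`y y ^ g = g⁴`. If `y ^ g = y`: `g² = y ^ ±1`. If `y ^ g = y⁻¹`: `g² ∈ {1, z}`; `ξ = x ^ g` has
`ξ² = d`, `ξ ξ ^ e = y`, so `ξ ∈ {x⁻¹, x⁻¹ z}`; `ξ = x⁻¹` would make `g, h, k = (g h)⁻¹` all invert
`A1`. Apply `r` for the relations of `h`. `s`: `τ : N → V` has kernel `≥ A1`, is `r`-equivariant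
and non-trivial, so `τ(g) ≠ 1` is fixed by `e`. `N = ⟨y, x, g, h⟩` by orders. -/
theorem Nc.nd (C : Nc F) : Nonempty (Nd F) := Nc3.nd C

end CL.H3
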