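import Cfsg.Agent.INV.ABG.Main
import Cfsg.Agent.INV.U3Ch.Arith
import Cfsg.Agent.KSG.SpUUnitary
import Cfsg.Agent.CLAS.UniGen

/-! S3140: wreathed Sylow 2-subgroups of order 128. -/

set_option autoImplicit false
open Subgroup

namespace CL.H3

namespace Wr9x
open Matrix

section
variable {K A : Type*} [Field K] [Ring A] [Algebra K A]

def M (Z D : A) (a b c d : K) : A := a • (1 : A) + b • Z + c • D + d • (Z * D)

/-- `x p₁ + y p₂ + u p₃` -/
def T (Z D : A) (x y u : K) : A :=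
  M Z D ((x + y + 2 * u) / 4) ((2 * u - x - y) / 4) ((x - y) / 4) ((y - x) / 4)

variable {Z D : A} (zz : Z * Z = 1) (dd : D * D = 1) (zd : D * Z = Z * D)
include zz dd zd

theorem M_mul (a b c d a' b' c' d' : K) : M Z D a b c d * M Z D a' b' c' d' =
    M Z D (a * a' + b * b' + c * c' + d * d') (a * b' + b * a' + c * d' + d * c')
      (a * c' + c * a' + b * d' + d * b') (a * d' + d * a' + b * c' + c * b') := by
  have h1 : Z * (Z * D) = D := by rw [← mul_assoc, zz, one_mul]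
  have h2 : D * (Z * D) = Z := by rw [← mul_assoc, zd, mul_assoc, dd, mul_one]
  have h3 : Z * D * Z = D := by rw [mul_assoc, zd, h1]
  have h4 : Z * D * D = Z := by rw [mul_assoc, dd, mul_one]
  have h5 : Z * D * (Z * D) = 1 := by rw [mul_assoc, h2, zz]
  simp only [M, mul_add, add_mul, smul_mul_assoc, mul_smul_comm, one_mul, mul_one, zz, dd, zd, h1,
    h2, h3, h4, h5]
  module

theorem T_mul (h2 : (2 : K) ≠ 0) (x y u x' y' u' : K) :
    T Z D x y u * T Z D x' y' u' = T Z D (x * x') (y * y') (u * u') := by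
  have h4 : (4 : K) ≠ 0 := by rw [show (4 : K) = 2 * 2 by norm_num]; exact mul_ne_zero h2 h2
  rw [T, T, M_mul zz dd zd, T]
  congr 1 <;> field_simp <;> ring

omit zz dd zd in
theorem T_one (h2 : (2 : K) ≠ 0) : T Z D (1 : K) 1 1 = 1 := by
  have h4 : (4 : K) ≠ 0 := by rw [show (4 : K) = 2 * 2 by norm_num]; exact mul_ne_zero h2 h2
  rw [T, show ((1 : K) + 1 + 2 * 1) / 4 = 1 by field_simp; ring,
    show ((2 : K) * 1 - 1 - 1) / 4 = 0 by ring]
  simp [M]

theorem T_pow (h2 : (2 : K) ≠ 0) (x y u : K) (n : ℕ) :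
    T Z D x y u ^ n = T Z D (x ^ n) (y ^ n) (u ^ n) := by
  induction n with
  | zero => simp [T_one h2]
  | succ n ih => rw [pow_succ, ih, T_mul zz dd zd h2, pow_succ, pow_succ, pow_succ]

theorem Z_T (x y u : K) : Z * T Z D x y u = T Z D x y u * Z := by
  have : Z = M Z D (0 : K) 1 0 0 := by simp [M]
  rw [T]
  generalize (x + y + 2 * u) / 4 = a
  generalize (2 * u - x - y) / 4 = b
  generalize (x - y) / 4 = c
  generalize (y - x) / 4 = d
  have h := M_mul zz dd zd (0 : K) 1 0 0 a b c d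
  have h' := M_mul zz dd zd a b c d (0 : K) 1 0 0
  rw [← this] at h h'
  rw [h, h']; congr 1 <;> ring

theorem D_T (x y u : K) : D * T Z D x y u = T Z D x y u * D := by
  have : D = M Z D (0 : K) 0 1 0 := by simp [M]
  rw [T]
  generalize (x + y + 2 * u) / 4 = a
  generalize (2 * u - x - y) / 4 = b
  generalize (x - y) / 4 = c
  generalize (y - x) / 4 = d
  have h := M_mul zz dd zd (0 : K) 0 1 0 a b c d
  have h' := M_mul zz dd zd a b c d (0 : K) 0 1 0
  rw [← this] at h h'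
  rw [h, h']; congr 1 <;> ring

omit zz dd zd in
theorem T_conj {W W' : A} (w : W' * W = 1) (wz : W' * Z * W = Z) (wd : W' * D * W = Z * D)
    (wzd : W' * (Z * D) * W = D) (x y u : K) : W' * T Z D x y u * W = T Z D y x u := by
  simp only [T, M, mul_add, add_mul, smul_mul_assoc, mul_smul_comm, mul_one, w, wz, wd, wzd]
  module

omit zz dd zd in
theorem Z_eq (h2 : (2 : K) ≠ 0) (h : T Z D (1 : K) 0 0 = 0) (h' : T Z D (0 : K) 1 0 = 0) : Z = 1 := by
  have h4 : (4 : K) ≠ 0 := by rw [show (4 : K) = 2 * 2 by norm_num]; exact mul_ne_zero h2 h2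
  have : (1 : A) - Z = (2 : K) • (T Z D (1 : K) 0 0 + T Z D (0 : K) 1 0) := by
    simp only [T, M]
    match_scalars <;> field_simp <;> ring
  rw [h, h', add_zero, smul_zero] at this
  exact (sub_eq_zero.1 this).symm

omit zz dd zd in
theorem T_sub (a : K) : T Z D a 0 0 - T Z D (1 : K) 0 0 = (a - 1) • T Z D (1 : K) 0 0 := by
  simp only [T, M]
  module

end

theorem key {H X K : Type*} [Group H] [Group X] [Field K] (h2 : (2 : K) ≠ 0)
    (π : H →* X) (sj : Function.Surjective π)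
    (kc : ∀ x, π x = 1 → x ^ 3 = 1 ∧ ∀ y, y * x = x * y)
    (ρ : H →* Matrix (Fin 3) (Fin 3) K) (inj : Function.Injective ρ) {a : K} {n : ℕ} (hn : Odd n)
    (ha : a ^ n = 1)
    (mem : ∀ z d : H, z * z = 1 → d * d = 1 → d * z = z * d → (T (ρ z) (ρ d) a a⁻¹ 1).det = 1 →
      ∃ g, ρ g = T (ρ z) (ρ d) a a⁻¹ 1)
    {z d e : X} (zz : z * z = 1) (dd : d * d = 1) (z1 : z ≠ 1)
    (zd : Commute z d) (ez : Commute z e) (ed : e⁻¹ * d * e = d * z)
    (hc : ∀ g, Odd (orderOf g) → Commute z g → Commute d g → Commute e g) : a = 1 := by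
  have a0 : a ≠ 0 := fun h => by
    rw [h, zero_pow hn.pos.ne'] at ha; exact zero_ne_one ha
  have lift : ∀ x : X, x * x = 1 → ∃ y, π y = x ∧ y * y = 1 := fun x hx => by
    obtain ⟨y, rfl⟩ := sj x
    refine ⟨y * y * y, by rw [map_mul, map_mul, hx, one_mul], ?_⟩
    rw [← (kc (y * y) (by rw [map_mul, hx])).1]
    simp only [pow_succ, pow_zero, one_mul, mul_assoc]
  have uq : ∀ x y : H, x * x = 1 → y * y = 1 → π x = π y → x = y := fun x y hx hy h => by
    obtain ⟨h1, h3⟩ := kc (x * y) (by rw [map_mul, h, ← map_mul, hy, map_one])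
    have h4 : x * y * (x * y) = 1 := by
      calc _ = x * (y * (x * y)) := by group
        _ = 1 := by rw [h3 y, mul_assoc x y y, hy, mul_one, hx]
    rw [pow_succ, pow_two, h4, one_mul] at h1
    calc x = x * (y * y) := by rw [hy, mul_one]
      _ = y := by rw [← mul_assoc, h1, one_mul]
  have cj : ∀ x w : H, x * x = 1 → w⁻¹ * x * w * (w⁻¹ * x * w) = 1 := fun x w hx => by
    calc _ = w⁻¹ * (x * x) * w := by group
      _ = 1 := by rw [hx]; group
  obtain ⟨Z, rfl, ZZ⟩ := lift z zz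
  obtain ⟨D, rfl, DD⟩ := lift d dd
  obtain ⟨W, rfl⟩ := sj e
  have ZD : D * Z = Z * D := by
    have := uq _ _ (cj Z D ZZ) ZZ (by
      rw [map_mul, map_mul, map_inv, mul_assoc, zd.eq, inv_mul_cancel_left])
    rw [mul_assoc, inv_mul_eq_iff_eq_mul] at this
    exact this.symm
  have WZ : W⁻¹ * Z * W = Z := uq _ _ (cj Z W ZZ) ZZ (by
    rw [map_mul, map_mul, map_inv, mul_assoc, ez.eq, inv_mul_cancel_left])
  have WD : W⁻¹ * D * W = Z * D := uq _ _ (cj D W DD) (by
    rw [mul_assoc, ← mul_assoc D, ZD, mul_assoc, DD, mul_one, ZZ]) (by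
    rw [map_mul, map_mul, map_inv, ed, map_mul, zd.eq])
  have WZD : W⁻¹ * (Z * D) * W = D := by
    calc _ = W⁻¹ * Z * W * (W⁻¹ * D * W) := by group
      _ = D := by rw [WZ, WD, ← mul_assoc, ZZ, one_mul]
  have zz' : ρ Z * ρ Z = 1 := by rw [← map_mul, ZZ, map_one]
  have dd' : ρ D * ρ D = 1 := by rw [← map_mul, DD, map_one]
  have zd' : ρ D * ρ Z = ρ Z * ρ D := by rw [← map_mul, ZD, map_mul]
  have ww : ρ W⁻¹ * ρ W = 1 := by rw [← map_mul, inv_mul_cancel, map_one]
  have tc := T_conj (K := K) ww (by rw [← map_mul, ← map_mul, WZ])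
    (by rw [← map_mul, ← map_mul, WD, map_mul]) (by rw [← map_mul, ← map_mul, ← map_mul, WZD])
  have tm := T_mul zz' dd' zd' h2
  obtain ⟨g, hg⟩ := mem Z D ZZ DD ZD (by
    have e1 : T (ρ Z) (ρ D) a a⁻¹ 1 = T (ρ Z) (ρ D) a 1 1 * (ρ W⁻¹ * T (ρ Z) (ρ D) a⁻¹ 1 1 * ρ W) := by
      rw [tc, tm]; simp
    have e2 := congrArg det (tm a 1 1 a⁻¹ 1 1)
    have e3 := congrArg det ww
    rw [mul_inv_cancel₀ a0, mul_one, T_one h2, det_mul, det_one] at e2
    rw [det_mul, det_one] at e3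
    rw [e1, det_mul, det_mul, det_mul]
    linear_combination (ρ W⁻¹).det * (ρ W).det * e2 + e3)
  have gn : g ^ n = 1 := inj (by
    rw [map_pow, hg, T_pow zz' dd' zd' h2, ha, inv_pow, ha, inv_one, one_pow, T_one h2, map_one])
  have gi : W⁻¹ * g * W * g = 1 := inj (by
    rw [map_mul, map_mul, map_mul, hg, tc, tm, mul_inv_cancel₀ a0, inv_mul_cancel₀ a0, mul_one,
      T_one h2, map_one])
  have c1 : Commute Z g := inj (by rw [map_mul, map_mul, hg, Z_T zz' dd' zd'])
  have c2 : Commute D g := inj (by rw [map_mul, map_mul, hg, D_T zz' dd' zd'])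
  have c3 := hc (π g) (hn.of_dvd_nat (orderOf_dvd_of_pow_eq_one (by rw [← map_pow, gn, map_one])))
    (c1.map π) (c2.map π)
  have g2 : π (g * g) = 1 := by
    have := congrArg π gi
    rwa [map_mul, map_mul, map_mul, map_inv, mul_assoc _ (π g) (π W), ← c3.eq, inv_mul_cancel_left,
      ← map_mul, map_one] at this
  have g4 : g ^ 4 = 1 := by
    have h1 : W⁻¹ * g * W = g⁻¹ := eq_inv_of_mul_eq_one_left gi
    have h3 : W⁻¹ * (g * g) * W = g * g := by
      rw [mul_assoc, ← (kc _ g2).2 W, inv_mul_cancel_left]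
    calc g ^ 4 = g * g * (g * g) := by simp only [pow_succ, pow_zero, one_mul, mul_assoc]
      _ = W⁻¹ * (g * g) * W * (g * g) := by rw [h3]
      _ = W⁻¹ * g * W * (W⁻¹ * g * W) * (g * g) := by group
      _ = 1 := by rw [h1]; group
  have g1 : g = 1 := by
    have h1 := Nat.dvd_gcd (orderOf_dvd_of_pow_eq_one g4) (orderOf_dvd_of_pow_eq_one gn)
    rw [show Nat.gcd 4 n = 1 from (Nat.Coprime.pow_left 2 (Nat.coprime_two_left.2 hn))] at h1
    exact orderOf_eq_one_iff.1 (Nat.dvd_one.1 h1)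
  rw [g1, map_one] at hg
  by_contra a1
  have h1 := tm a a⁻¹ 1 1 0 0
  rw [← hg, one_mul, mul_one, mul_zero, mul_zero] at h1
  have h3 := T_sub (Z := ρ Z) (D := ρ D) a
  rw [← h1, sub_self] at h3
  have h4 := (smul_eq_zero.1 h3.symm).resolve_left (sub_ne_zero.2 a1)
  have h5 := tc 1 0 0
  rw [h4, mul_zero, zero_mul] at h5
  exact z1 (by rw [inj ((Z_eq h2 h4 h5.symm).trans ρ.map_one.symm), map_one])

theorem two_pow {K : Type*} [Field K] [Fintype K] {r : ℕ} (r0 : r ≠ 0) (hr : r ∣ Fintype.card K - 1)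
    (h : ∀ (a : K) (n : ℕ), Odd n → a ^ n = 1 → a ^ r = 1 → a = 1) : ∃ k, r = 2 ^ k := by
  refine ⟨_, Nat.eq_prime_pow_of_unique_prime_dvd r0 fun {p} hp hd => ?_⟩
  by_contra p2
  have := Fact.mk hp
  obtain ⟨u, hu⟩ := exists_prime_orderOf_dvd_card' (G := Kˣ) p (by
    rw [Nat.card_units, Nat.card_eq_fintype_card]; exact hd.trans hr)
  have h1 : (u : K) ^ p = 1 := by rw [← Units.val_pow_eq_pow_val, ← hu, pow_orderOf_eq_one]; rfl
  obtain ⟨c, rfl⟩ := hd
  have h3 := h u p (hp.odd_of_ne_two p2) h1 (by rw [pow_mul, h1, one_pow])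
  rw [Units.val_eq_one.1 h3, orderOf_one] at hu
  exact hp.one_lt.ne hu

theorem two_ne {K : Type*} [Field K] [Fintype K] (h : Fintype.card K % 2 = 1) : (2 : K) ≠ 0 := by
  refine Ring.two_ne_zero fun e => ?_
  rw [FiniteField.even_card_iff_char_two.1 e] at h
  omega

end Wr9x

/-- `ABG.exists_ctx_of_simple`, `Ctx.wr_class`: `X ≅ L₃(q)`, `q ≡ 1 (4)`, or `U₃(q)`,
`q ≡ 3 (4)`. Put `r = q - 1` resp. `q + 1`; the order formula and `|X|₂ = 128` give `r₂ = 8`.
Lift `z, d` to commuting involutions of `SL₃` resp. `SU₃` (the centre has odd order), `e` to a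
matrix `w` with `w z w⁻¹ = z`, `w d w⁻¹ = d z`. The projections `p₁ = (1 - z)(1 + d) / 4`,
`p₂ = (1 - z)(1 - d) / 4 = w p₁ w⁻¹`, `p₃ = (1 + z) / 2` are orthogonal idempotents with sum 1,
non-zero (self-adjoint in the unitary case). For `a` of odd order with `a ^ r = 1`,
`g = a p₁ + a⁻¹ p₂ + p₃` has determinant 1 (it is `h w h⁻¹ w⁻¹`, `h = a p₁ + p₂ + p₃`), commutes
with `z, d`, has odd order, and `w g w⁻¹ = g⁻¹`. `hc` gives `g² = λ` scalar, so `λ = 1` (`p₃`) and
`a² = 1`, `a = 1`. So `r` is a power of 2, `r = 8`: `q = 9`, or `q = 7` and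
`|U₃(7)| = 5663616` is prime to 13. (Alternatively: the diagonal subgroup `8²` is conjugate to the
unique abelian subgroup of order 64 of `S`, `S1196`.) -/
theorem wr9 {X : Type*} [Group X] [Finite X] [IsSimpleGroup X] (S : Sylow 2 X)
    (hS : Cfsg.IsWreathed (S : Subgroup X)) (h128 : Nat.card (S : Subgroup X) = 128)
    (h13 : 13 ∣ Nat.card X) {z d e : X} (zz : z * z = 1) (dd : d * d = 1) (z1 : z ≠ 1) (d1 : d ≠ 1)
    (zd : Commute z d) (ez : Commute z e) (ed : e⁻¹ * d * e = d * z)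
    (hc : ∀ g, Odd (orderOf g) → Commute z g → Commute d g → Commute e g) :
    ∃ (K : Type) (_ : Field K) (_ : Fintype K), Fintype.card K = 9 ∧
      Nonempty (X ≃* Matrix.ProjectiveSpecialLinearGroup (Fin 3) K) := by
  have h256 : ¬ 2 ^ 8 ∣ Nat.card X := fun h => by
    have h1 := (Nat.prime_two.pow_dvd_iff_le_factorization Nat.card_pos.ne').1 h
    have h2 := Nat.pow_le_pow_right (show 0 < 2 by norm_num) h1
    rw [← S.card_eq_multiplicity, h128] at h2
    omega
  have big : ∀ {g y k R : ℕ}, g ∣ 3 → y = 2 ^ k → 4 ≤ k → y ^ 2 ∣ R → g * Nat.card X ≠ R :=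
    fun {g y k R} hg hy hk hR e => by
    refine h256 ((Nat.Coprime.coprime_dvd_right hg (by norm_num)).dvd_of_dvd_mul_left ?_)
    rw [e]
    refine Dvd.dvd.trans ?_ hR
    rw [hy, ← pow_mul]
    exact pow_dvd_pow 2 (by omega)
  obtain ⟨F, _, _, Λ, rfl⟩ := ABG.exists_ctx_of_simple S (Or.inr hS)
  rcases Λ.wr_class hS with ⟨h4, ⟨φ⟩⟩ | ⟨h4, hU⟩
  · refine ⟨F, inferInstance, inferInstance, ?_, ⟨φ⟩⟩
    have h2 := Wr9x.two_ne (K := F) (by omega)
    have hq : 1 < Fintype.card F := Fintype.one_lt_card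
    obtain ⟨k, hk⟩ := Wr9x.two_pow (K := F) (by omega) dvd_rfl fun a n hn ha _ =>
      Wr9x.key h2 (φ.symm.toMonoidHom.comp (QuotientGroup.mk' _))
        (φ.symm.surjective.comp (QuotientGroup.mk'_surjective _)) (fun x hx => by
          have h1 : x ∈ center _ := (QuotientGroup.eq_one_iff x).1 (φ.symm.map_eq_one_iff.1 hx)
          have h3 := orderOf_dvd_natCard _ h1
          rw [SL.card_center_SL] at h3
          exact ⟨orderOf_dvd_iff_pow_eq_one.1 (h3.trans (Nat.gcd_dvd_left _ _)),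
            mem_center_iff.1 h1⟩)
        (Cfsg.slToMat 3 F) (fun x y h => Subtype.ext h) hn ha (fun z d _ _ _ h => ⟨⟨_, h⟩, rfl⟩)
        zz dd z1 zd ez ed hc
    have h5 := U3Ch.card_L3 (F := F) (x := 2 ^ k) (by omega)
    rw [← Nat.card_congr φ.toEquiv] at h5
    by_cases k4 : 4 ≤ k
    · exact (big (Nat.gcd_dvd_left _ _) rfl k4
        (((dvd_mul_right _ _).mul_right _).mul_left _) h5).elim
    have k4 : k < 4 := by omega
    interval_cases k <;> simp at h5 hk <;> omega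
  · exfalso
    obtain ⟨E, _, _, hE⟩ := ABG.exists_sq_field F Λ.hF
    obtain ⟨φ⟩ := hU E hE
    obtain ⟨x, hx⟩ : ∃ x, Fintype.card F = x + 1 := ⟨Fintype.card F - 1, by omega⟩
    generalize Fintype.card F = q at *
    have h2 := Wr9x.two_ne (K := E) (by rw [hE, Nat.pow_mod, show q % 2 = 1 by omega])
    obtain ⟨k, hk⟩ := Wr9x.two_pow (K := E) (r := q + 1) (by omega)
      ⟨x, by rw [hE, hx]; exact Nat.sub_eq_of_eq_add (by ring)⟩ fun a n hn ha hr =>
      Wr9x.key h2 (φ.symm.toMonoidHom.comp (QuotientGroup.mk' _))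
        (φ.symm.surjective.comp (QuotientGroup.mk'_surjective _)) (fun x hx => by
          have h1 : x ∈ center _ := (QuotientGroup.eq_one_iff x).1 (φ.symm.map_eq_one_iff.1 hx)
          have h3 := orderOf_dvd_natCard _ h1
          rw [Uni.card_center_SU hE (by norm_num)] at h3
          exact ⟨orderOf_dvd_iff_pow_eq_one.1 (h3.trans (Nat.gcd_dvd_left _ _)),
            mem_center_iff.1 h1⟩)
        ((Cfsg.slToMat 3 E).comp (Cfsg.SU 3 E q).subtype)
        (fun x y h => Subtype.ext (Subtype.ext h)) hn ha (fun z d zz dd zd h => by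
          refine ⟨⟨⟨_, h⟩, (SpU.mem_SU_iff hE).2 ?_⟩, rfl⟩
          set ρ := (Cfsg.slToMat 3 E).comp (Cfsg.SU 3 E q).subtype
          have sa : ∀ y, y * y = 1 → ρ y * ρ y = 1 ∧ SpU.ct hE (ρ y) = ρ y := fun y hy => by
            have h1 : ρ y * ρ y = 1 := by rw [← map_mul, hy, map_one]
            have h3 : SpU.ct hE (ρ y) * ρ y = 1 := (SpU.mem_SU_iff hE).1 y.2
            exact ⟨h1, by rw [← mul_one (SpU.ct hE _), ← h1, ← mul_assoc, h3, one_mul]⟩
          obtain ⟨zz', cz⟩ := sa z zz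
          obtain ⟨dd', cd⟩ := sa d dd
          have zd' : ρ d * ρ z = ρ z * ρ d := by rw [← map_mul, zd, map_mul]
          have a0 : a ≠ 0 := fun h => by
            rw [h, zero_pow hn.pos.ne'] at ha; exact zero_ne_one ha
          have h3 : SpU.ct hE (Wr9x.T (ρ z) (ρ d) a a⁻¹ 1) =
              Wr9x.T (ρ z) (ρ d) (a ^ q) (a⁻¹ ^ q) 1 := by
            simp only [Wr9x.T, Wr9x.M, map_add, SpU.ct_smul, SpU.ct_mul, SpU.ct_one, cz, cd, zd',
              ← SqField.conj_apply hE, map_div₀, map_sub, map_mul, map_ofNat, map_one]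
          change SpU.ct hE (Wr9x.T (ρ z) (ρ d) a a⁻¹ 1) * Wr9x.T (ρ z) (ρ d) a a⁻¹ 1 = 1
          rw [h3, Wr9x.T_mul zz' dd' zd' h2, ← pow_succ, ← pow_succ, inv_pow, hr, inv_one, mul_one,
            Wr9x.T_one h2])
        zz dd z1 zd ez ed hc
    subst hx
    have h5 := U3Ch.card_U3 hE
    rw [← Nat.card_congr φ.toEquiv] at h5
    by_cases k4 : 4 ≤ k
    · exact big (Nat.gcd_dvd_left _ _) hk k4 (((dvd_mul_right _ _).mul_right _).mul_left _) h5
    have k4 : k < 4 := by omega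
    interval_cases k
    · omega
    · omega
    · obtain rfl : x = 2 := by omega
      simp at h5; omega
    · obtain rfl : x = 6 := by omega
      simp at h5; omega

end CL.H3
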