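import Cfsg.Agent.INV.H3.NdM
import Cfsg.Agent.INV.H3.Loc1
import Cfsg.Agent.INV.H3.Wr9
import Cfsg.Agent.SIG.Std

/-! S3140, the wreathed case. Model API in `NdM`: `R.mo0 h : R.Mo 0`, `R.mo1 h : R.Mo 1`; `M.m6` (`N`), `M.m7` (`S0 = N ⟨e⟩`,
`M.sub7`), `M.m8` (`S`, `M.syl8 h1`), `M.i6 .. i8`, `or7`, `or8`, `X7`; words `NM.wd`; `Md.card_cen` (`C_S(t e)`, code `192`, has order 32). -/

set_option autoImplicit false
open Subgroup

namespace CL.H3
open CL.HL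
variable {G : Type*} [Group G] [Finite G] {F : Fr G}

namespace NdW
open CL.MSS CL.HS8 CL.HS8.PC NM

omit [Finite G] in
theorem zp8 {a u : G} (h8 : orderOf a = 8) (hu : u ∈ zpowers a) : ∃ i < 8, u = a ^ i := by
  classical
  have hf : IsOfFinOrder a := orderOf_pos_iff.1 (by omega)
  obtain ⟨i, hi, e⟩ := Finset.mem_image.1 (hf.mem_zpowers_iff_mem_range_orderOf.1 hu)
  exact ⟨i, h8 ▸ Finset.mem_range.1 hi, e.symm⟩

omit [Finite G] in
theorem disj {a b : G} (ha : orderOf a = 8) (hb : orderOf b = 8) (h : a ^ 4 ≠ b ^ 4) :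
    zpowers a ⊓ zpowers b = ⊥ := by
  refine eq_bot_iff.2 fun u hu => by_contra fun h1 => ?_
  have a8 : a ^ 8 = 1 := ha ▸ pow_orderOf_eq_one a
  have k : a ^ 4 ∈ zpowers u := by
    obtain ⟨i, hi, rfl⟩ := zp8 ha hu.1
    obtain ⟨n, hn⟩ := (by decide : ∀ i < 8, i ≠ 0 → ∃ n < 8, i * n % 8 = 4) i hi
      (by rintro rfl; exact h1 (by simp))
    rw [← hn.2, ← pow_eq_pow_mod _ a8, pow_mul]
    exact pow_mem (mem_zpowers _) n
  obtain ⟨j, hj, e⟩ := zp8 hb (zpowers_le.2 hu.2 k)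
  have h2 : 8 ∣ j * 2 := by rw [← hb, orderOf_dvd_iff_pow_eq_one, pow_mul, ← e, ← pow_mul, a8]
  have : j = 0 ∨ j = 4 := by omega
  rcases this with rfl | rfl
  · have := orderOf_dvd_of_pow_eq_one (e.trans (pow_zero b))
    rw [ha] at this; omega
  · exact h e

omit [Finite G] in
theorem ord8 {a : G} (h8 : a ^ 4 * a ^ 4 = 1) (h4 : a ^ 4 ≠ 1) : orderOf a = 8 :=
  haveI : Fact (Nat.Prime 2) := ⟨Nat.prime_two⟩
  orderOf_eq_prime_pow (p := 2) (n := 2) h4 (by rw [← h8, ← pow_add]; rfl)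

omit [Finite G] in
theorem wr_of {S : Type*} [Group S] (f : S →* G) (hf : Function.Injective f) (hc : Nat.card S = 128)
    (a e : S) (ha : orderOf (f a) = 8) (he : orderOf (f e) = 2)
    (hb : Commute (f a) (f e * f a * (f e)⁻¹)) (h : f a ^ 4 ≠ (f e * f a * (f e)⁻¹) ^ 4) :
    Cfsg.IsWreathed S := by
  rw [orderOf_injective f hf] at ha he
  refine ⟨3, by decide, hc, a, e * a * e⁻¹, e, ha, hf (by simpa using hb.eq),
    disj ha ?_ fun k => h (by simpa using congrArg f k), he, rfl⟩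
  rw [← ha]; exact (MulAut.conj e).orderOf_eq a

/-- Burnside: the elements of odd order form a subgroup. -/
theorem burn {N H : Subgroup G} (hN : SylIn 2 N H)
    (h : ∀ n ∈ H, n ∈ normalizer (N : Set G) → ∀ u ∈ N, Commute u n) :
    ∃ W : Subgroup G, Odd (Nat.card W) ∧ ∀ g, g ∈ W ↔ g ∈ H ∧ Odd (orderOf g) := by
  have : Fact (Nat.Prime 2) := ⟨Nat.prime_two⟩
  have hP : normalizer (hN.toSylow : Set H) ≤ centralizer (hN.toSylow : Set H) := fun n hn u hu =>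
    Subtype.ext (h n n.2 (Fr.norm_of fun x hx =>
      norm_cj (H := (hN.toSylow : Subgroup H)) (x := ⟨x, hN.le hx⟩) hn hx) u hu).eq
  have ho : Odd (Nat.card ((MonoidHom.transferSylow _ hP).ker.map H.subtype)) := by
    rw [card_map_of_injective H.subtype_injective, ← Nat.not_even_iff_odd, even_iff_two_dvd]
    exact MonoidHom.not_dvd_card_ker_transferSylow _ hP
  refine ⟨_, ho, fun g => ⟨fun hg => ⟨map_subtype_le _ hg,
    Odd.of_dvd_nat ho (orderOf_dvd_natCard _ hg)⟩, fun ⟨h1, h2⟩ => ⟨⟨g, h1⟩, ?_, rfl⟩⟩⟩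
  obtain ⟨k, hk⟩ := hN.toSylow.isPGroup' (MonoidHom.transferSylow _ hP ⟨g, h1⟩)
  exact RB.eq_one_of_odd (Odd.of_dvd_nat (by rwa [orderOf_mk]) (orderOf_map_dvd _ _)) hk

/-- An element normalising the abelian Sylow subgroup `N` of exponent 8 and fixing its involutions
centralises it. -/
theorem triv {N H : Subgroup G} (hN : SylIn 2 N H) (ab : ∀ u ∈ N, ∀ v ∈ N, Commute u v)
    (e8 : ∀ u ∈ N, u ^ 8 = 1) {n : G} (hn : n ∈ H) (nN : n ∈ normalizer (N : Set G))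
    (hv : ∀ v ∈ N, v * v = 1 → Commute v n) : ∀ u ∈ N, Commute u n := by
  have cp : ∀ (u : G) (k : ℕ), n⁻¹ * u ^ k * n = (n⁻¹ * u * n) ^ k := fun u k =>
    (Ex.pow_cj' n u k).symm
  have δ : ∀ u ∈ N, ∀ k : ℕ, u ^ k * u ^ k = 1 → ∃ a ∈ N, a ^ k = 1 ∧ n⁻¹ * u * n = u * a :=
    fun u hu k hk => ⟨u⁻¹ * (n⁻¹ * u * n), mul_mem (inv_mem hu) (norm_cj nN hu), by
      rw [(ab _ (inv_mem hu) _ (norm_cj nN hu)).mul_pow, ← cp, Fr.cj_fix (hv _ (pow_mem hu k) hk)]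
      simp, by group⟩
  have h4 : ∀ u ∈ N, Commute u (n ^ 4) := fun u hu => by
    obtain ⟨a, ha, a4, e1⟩ := δ u hu 4 (by rw [← pow_add]; exact e8 u hu)
    obtain ⟨v, hv', v2, e2⟩ := δ a ha 2 (by rw [← pow_add]; exact a4)
    have e3 := Fr.cj_fix (hv v hv' (by rw [← pow_two]; exact v2))
    have av := ab a ha v hv'
    have s2 : n⁻¹ * (u * a) * n = u * a ^ 2 * v := by rw [Fr.cj_mul, e1, e2, pow_two]; group
    have s3 : n⁻¹ * (u * a ^ 2 * v) * n = u * a ^ 3 * v := by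
      rw [Fr.cj_mul, Fr.cj_mul, cp, e1, e2, e3, av.mul_pow, v2]; group
    have s4 : n⁻¹ * (u * a ^ 3 * v) * n = u := by
      rw [Fr.cj_mul, Fr.cj_mul, cp, e1, e2, e3, av.mul_pow]
      calc _ = u * a ^ 4 * (v ^ 2) ^ 2 := by group
        _ = _ := by rw [a4, v2]; group
    refine Fr.comm_of_fix ?_
    calc _ = n⁻¹ * (n⁻¹ * (n⁻¹ * (n⁻¹ * u * n) * n) * n) * n := by
          simp only [pow_succ, pow_zero, one_mul, mul_inv_rev, mul_assoc]
      _ = _ := by rw [e1, s2, s3, s4]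
  obtain ⟨m, k, hm, hk⟩ := exists_odd_pow n
  have hmN : n ^ m ∈ N := hN.le_of_normalizes (p2_zpowers hk) (zpowers_le.2 (pow_mem hn m))
    (zpowers_le.2 (pow_mem nN m)) (mem_zpowers _)
  intro u hu
  obtain ⟨j, rfl⟩ := hm
  have := ((ab u hu _ hmN).pow_right (2 * j + 1)).mul_right ((h4 u hu).pow_right (j * j + j)).inv_right
  rwa [← pow_mul, ← pow_mul, show (2 * j + 1) * (2 * j + 1) = 1 + 4 * (j * j + j) by ring, pow_add,
    pow_one, mul_inv_cancel_right] at this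

theorem main (E : Ex F) (R : Nd F) (h1 : F.s = 1) {c : ℕ} (M : R.Mo c) (hc : c < 2)
    (hS : SylIn 2 M.m7.sub E.X) (gy : R.y ∈ zpowers R.g) (hx : R.x ∈ zpowers R.h)
    (g4 : R.g ^ 4 = F.z) (h4 : R.h ^ 4 = F.d) : Goal E.X := by
  have := E.nX
  have := E.simple
  obtain ⟨-, dX, zX, eX, -⟩ := E.memX
  have zi : F.z⁻¹ = F.z := inv_eq_of_mul_eq_one_right F.zz
  have di : F.d⁻¹ = F.d := inv_eq_of_mul_eq_one_right F.dd
  set N := M.m6.sub with hN
  have gen : ∀ K : Subgroup G, R.g ∈ K → R.h ∈ K → N ≤ K := fun K a b => M.m6.sub_le fun j hj => by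
    change j < 6 at hj
    interval_cases j
    exacts [(g4 ▸ pow_mem a 4 : F.z ∈ K), (h4 ▸ pow_mem b 4 : F.d ∈ K), zpowers_le.2 a gy,
      zpowers_le.2 b hx, a, b]
  have mc : ∀ {u v : G}, v ∈ centralizer {u} ↔ Commute u v := fun {u v} =>
    mem_centralizer_singleton_iff.trans eq_comm
  have ab : ∀ u ∈ N, ∀ v ∈ N, Commute u v := fun u hu v hv =>
    mc.1 (gen _ (mc.2 (mc.1 (gen _ (mc.2 (Commute.refl _)) (mc.2 R.gh) hu)).symm)
      (mc.2 (mc.1 (gen _ (mc.2 R.gh.symm) (mc.2 (Commute.refl _)) hu)).symm) hv)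
  have zN : F.z ∈ N := M.m6.gmem (by decide : 0 < 6)
  have dN : F.d ∈ N := M.m6.gmem (by decide : 1 < 6)
  have hhN : R.h ∈ N := M.m6.gmem (by decide : 5 < 6)
  have e8 : ∀ u ∈ N, u ^ 8 = 1 := by
    rintro _ ⟨x, hx, rfl⟩
    have l1 := mul_lt M.m6.ok hx hx
    have l2 := mul_lt M.m6.ok l1 l1
    have := M.m6.mul l2 l2
    rw [M.m6.mul l1 l1, M.m6.mul hx hx, (by decide +kernel : ∀ c < 2, ∀ x < 64,
      ((PN c).lev 6).mul (((PN c).lev 6).mul (((PN c).lev 6).mul x x) (((PN c).lev 6).mul x x))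
      (((PN c).lev 6).mul (((PN c).lev 6).mul x x) (((PN c).lev 6).mul x x)) = 0) c hc x hx,
      ev_zero] at this
    rw [this]; simp only [pow_succ, pow_zero, one_mul, mul_assoc]
  have om : ∀ v ∈ N, v * v = 1 → ∀ n, Commute F.z n → Commute F.d n → Commute v n := by
    rintro _ ⟨x, hx, rfl⟩ h n a b
    rw [← M.m6.mul hx hx, M.m6.eq_one M.i6 (mul_lt M.m6.ok hx hx)] at h
    rcases (by decide +kernel : ∀ c < 2, ∀ x < 64, ((PN c).lev 6).mul x x = 0 →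
      x = 0 ∨ x = 2 ^ 0 ∨ x = 2 ^ 1 ∨ x = ((PN c).lev 6).mul (2 ^ 0) (2 ^ 1)) c hc x hx h
      with rfl | rfl | rfl | rfl
    · rw [ev_zero]; exact Commute.one_left _
    · rw [ev_gen _ _ (by decide : 0 < 6)]; exact a
    · rw [ev_gen _ _ (by decide : 1 < 6)]; exact b
    · rw [M.m6.mul (by decide : 2 ^ 0 < 2 ^ 6) (by decide : 2 ^ 1 < 2 ^ 6),
        ev_gen _ _ (by decide : 0 < 6), ev_gen _ _ (by decide : 1 < 6)]
      exact a.mul_left b
  set H := E.X ⊓ (centralizer {F.z} ⊓ centralizer {F.d}) with hH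
  have mH : ∀ {u}, u ∈ H ↔ u ∈ E.X ∧ Commute F.z u ∧ Commute F.d u := fun {u} => by
    rw [hH, mem_inf, mem_inf, mc, mc]
  have NH : N ≤ H := fun u hu => mH.2 ⟨hS.le (M.le67 hu), ab _ zN _ hu, ab _ dN _ hu⟩
  have nX : ∀ g u, u ∈ E.X → g⁻¹ * u * g ∈ E.X := fun g u hu => by
    simpa using E.nX.conj_mem u hu g⁻¹
  have eH : F.e ∈ normalizer (H : Set G) := Fr.norm_of fun u hu => by
    obtain ⟨a, b, c⟩ := mH.1 hu
    refine mH.2 ⟨nX _ _ a, (F.ze.inv_right.mul_right b).mul_right F.ze, ?_⟩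
    have := comm_cj (c.mul_left b) F.e
    rwa [show F.e⁻¹ * (F.d * F.z) * F.e = F.d by
      rw [Fr.cj_mul, Fr.cj_fix F.ze, F.e_inv, F.ede, mul_assoc, F.zz, mul_one]] at this
  have tH : F.t ∈ normalizer (H : Set G) := Fr.norm_of fun u hu => by
    obtain ⟨a, b, c⟩ := mH.1 hu
    exact mH.2 ⟨nX _ _ a, (F.tz.symm.inv_right.mul_right b).mul_right F.tz.symm,
      (F.td.symm.inv_right.mul_right c).mul_right F.td.symm⟩
  have up : ∀ K : Subgroup G, N ≤ K → F.e ∈ K → F.t ∈ K → M.m8.sub ≤ K := fun K a b c u hu => by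
    have k7 : ∀ u ∈ M.m7.sub, u ∈ K := fun u hu =>
      (M.or7 u hu).elim (fun h => a h) fun h => (mul_mem_cancel_right b).1 (a h)
    exact (M.or8 u hu).elim (k7 u) fun h => (mul_mem_cancel_right c).1 (k7 _ h)
  have SH : M.m8.sub ≤ normalizer (H : Set G) := up _ (NH.trans le_normalizer) eH tH
  have Sz : ∀ u ∈ M.m8.sub, Commute F.z u := fun u hu =>
    mc.1 (up _ (fun v hv => mc.2 (ab _ zN _ hv)) (mc.2 F.ze) (mc.2 F.tz.symm) hu)
  have sylN : SylIn 2 N H := by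
    have := (hS.of_le (K := E.X ⊓ normalizer (H : Set G)) (le_inf hS.le (M.le78.trans SH))
      inf_le_left).inf_normal_of_le inf_le_right (le_inf inf_le_left le_normalizer)
    rwa [show M.m7.sub ⊓ H = N from le_antisymm (fun u hu => (M.or7 u hu.1).resolve_right fun h =>
      F.not_de (by
          simpa using (mH.1 hu.2).2.2.inv_right.mul_right (ab _ dN _ h))) (le_inf M.le67 NH)] at this
  obtain ⟨W, Wo, mW⟩ := burn sylN fun n hn nN =>
    triv sylN ab e8 hn nN fun v hv h => om v hv h n (mH.1 hn).2.1 (mH.1 hn).2.2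
  have oc : ∀ g u : G, Odd (orderOf u) → Odd (orderOf (g⁻¹ * u * g)) := fun g u hu =>
    Odd.of_dvd_nat hu (orderOf_dvd_of_pow_eq_one (by rw [Ex.pow_cj', pow_orderOf_eq_one]; group))
  have nW : ∀ g ∈ normalizer (H : Set G), g ∈ normalizer (W : Set G) := fun g hg =>
    Fr.norm_of fun u hu => (mW _).2 ⟨norm_cj hg ((mW u).1 hu).1, oc _ _ ((mW u).1 hu).2⟩
  have : Fact (Nat.Prime 2) := ⟨Nat.prime_two⟩
  have e1 : F.e ≠ 1 := fun h => F.e_notE (h ▸ one_mem _)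
  have t1 : F.t ≠ 1 := fun h => F.t_nB (h ▸ one_mem _)
  have oe : orderOf F.e = 2 := orderOf_eq_prime (by rw [pow_two, F.ee]) e1
  have ttz : IsConj F.t (F.t * F.z) := Fr.icj R.y (by
    rw [← R.yy]
    calc _ = F.t * (F.t * R.y * F.t)⁻¹ * R.y := by rw [mul_inv_rev, mul_inv_rev, Ex.t_inv']; rw [← mul_assoc, ← mul_assoc, F.tt]; group
      _ = _ := by rw [R.ty]; group)
  have key : W ≤ centralizer {F.e} := by
    refine CL.Std.le_of_four_cent oe (orderOf_eq_prime (by rw [pow_two, F.tt]) t1) F.te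
      (fun h => F.e_notE (h ▸ F.t_E)) (Nat.coprime_two_right.2 Wo) (nW _ eH) (nW _ tH)
      (fun w hw => ?_) inf_le_right fun w hw => ?_
    · obtain ⟨a, b⟩ := (mW w).1 hw.1
      exact mc.2 (E.ψe ▸ (E.Oψ (E.oddV (mc.1 hw.2) (mH.1 a).2.1 (mH.1 a).2.2 b) _).symm)
    · obtain ⟨k0, hk0⟩ := isConj_iff.1 (ttz.trans F.cj_te).symm
      set Q := M.m8.sub ⊓ centralizer {F.t * F.e} with hQ
      have cQ : Nat.card Q = 32 := by
        have := M.m8.card_cen M.i8 (x := ((PN c).lev 8).mul (2 ^ 7) (2 ^ 6))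
          (mul_lt M.m8.ok (by decide : 2 ^ 7 < 2 ^ 8) (by decide : 2 ^ 6 < 2 ^ 8))
        rw [M.m8.mul (by decide : 2 ^ 7 < 2 ^ 8) (by decide : 2 ^ 6 < 2 ^ 8),
          ev_gen _ _ (by decide : 7 < 8), ev_gen _ _ (by decide : 6 < 8)] at this
        exact this.trans ((by decide +kernel : ∀ c < 2, ((PN c).lev 8).cenN
          (((PN c).lev 8).mul (2 ^ 7) (2 ^ 6)) = 32) c hc)
      have tr : ∀ {j u : G}, j⁻¹ * (F.t * F.e) * j = F.t → Commute (F.t * F.e) u →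
          Commute F.t (j⁻¹ * u * j) := fun {j u} a b => a ▸ comm_cj b j
      have hk1 : k0⁻¹⁻¹ * (F.t * F.e) * k0⁻¹ = F.t := by rw [inv_inv, hk0]
      obtain ⟨k1, tk, hk⟩ := F.syl' (p2_cjs ((M.m8.pg_sub M.i8).to_inf_left (K := centralizer {F.t * F.e})) k0⁻¹)
        (cjs_ind fun u hu => tr hk1 (mc.1 hu.2))
      obtain ⟨j, hj⟩ : ∃ j, j = k0⁻¹ * k1 := ⟨_, rfl⟩
      have jt : j⁻¹ * (F.t * F.e) * j = F.t := by
        calc _ = k1⁻¹ * (k0⁻¹⁻¹ * (F.t * F.e) * k0⁻¹) * k1 := by rw [hj]; group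
          _ = _ := by rw [hk1, Fr.cj_fix tk]
      have QT : cjs Q j = F.T := eq_of_le_of_card_ge (cjs_ind fun u hu => by
          have := hk (cj_cjs k1 (cj_cjs k0⁻¹ hu))
          convert this using 1; rw [hj]; group)
        (by rw [card_cjs, cQ, F.card_T, F.B_eq h1, F.card_V])
      have zQ : F.z ∈ Q := ⟨M.le78 (M.le67 zN), mc.2 (F.tz.mul_left F.ze.symm)⟩
      have cz : ∀ u ∈ F.T, Commute (j⁻¹ * F.z * j) u := by
        rw [← QT]; exact cjs_ind fun u hu => comm_cj (Sz u hu.1) j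
      have dT : F.d ∈ F.T := F.T0_T (F.E_T0 (F.B_E (F.V_B F.d_V)))
      have jz : j⁻¹ * F.z * j = F.z := by
        rcases F.cen_T (QT ▸ cj_cjs j zQ) (cz _ dT).symm (cz _ F.c_T).symm with e | e | e | e
        · exact absurd (cj_eq_one.1 e) F.z1
        · exact e
        · exact absurd (Fr.icj j e).symm F.nc_z
        · exact absurd (ttz.trans (Fr.icj j e).symm) F.nc_z
      have nT : F.T ≤ normalizer (cjs (W ⊓ centralizer {F.t * F.e}) j : Set G) := by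
        rw [← QT]
        exact cjs_ind fun u hu => norm_cjs (Fr.norm_of fun v hv => mem_inf.2 ⟨norm_cj (nW _ (SH hu.1)) hv.1,
          mc.2 (((mc.1 hu.2).inv_right.mul_right (mc.1 hv.2)).mul_right (mc.1 hu.2))⟩) j
      have WO := E.oddP (W := cjs (W ⊓ centralizer {F.t * F.e}) j)
        (by rw [card_cjs]; exact Odd.of_dvd_nat Wo (card_dvd_of_le inf_le_left))
        (cjs_ind fun u hu => tr jt (mc.1 hu.2))
        (cjs_ind fun u hu => jz ▸ comm_cj (mH.1 ((mW u).1 hu.1).1).2.1 j)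
        (nT (pow_mem F.c_T 2)) (nT (mul_mem F.c_T dT))
      exact mc.2 (comm_of_cj (E.two_O h1 (tr jt (F.te.mul_left (Commute.refl _))) (k := 1)
        (by rw [pow_one, pow_two]; exact sq_cj F.ee j) _ (WO (cj_cjs j hw))))
  have c128 : Nat.card (hS.toSylow : Subgroup E.X) = 128 :=
    (Nat.card_congr (subgroupOfEquivOfLe hS.le).toEquiv).trans (M.m7.card_sub M.i7)
  have hS7 : R.h ∈ M.m7.sub := M.le67 hhN
  have eS7 : F.e ∈ M.m7.sub := M.m7.gmem (by decide : 6 < 7)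
  have eh : F.e * R.h * F.e⁻¹ = R.g⁻¹ * R.h⁻¹ := by rw [F.e_inv, R.eh]
  refine Or.inl (wr9 hS.toSylow (wr_of (E.X.subtype.comp (hS.toSylow : Subgroup E.X).subtype)
    (E.X.subtype_injective.comp (Subgroup.subtype_injective _)) c128 ⟨⟨R.h, hS.le hS7⟩, hS7⟩
    ⟨⟨F.e, eX⟩, eS7⟩ (ord8 (a := R.h) (by rw [h4, F.dd]) (by rw [h4]; exact F.d1)) oe ?_ ?_) c128 E.dvd13
    (z := ⟨F.z, zX⟩) (d := ⟨F.d, dX⟩) (e := ⟨F.e, eX⟩) (Subtype.ext F.zz) (Subtype.ext F.dd)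
    (fun h => F.z1 (congrArg Subtype.val h)) (fun h => F.d1 (congrArg Subtype.val h))
    (Subtype.ext F.zd.eq) (Subtype.ext F.ze.eq) (Subtype.ext ?_) fun g ho a b => Subtype.ext ?_)
  · show Commute R.h (F.e * R.h * F.e⁻¹)
    rw [eh]; exact R.gh.symm.inv_right.mul_right (Commute.refl _).inv_right
  · show R.h ^ 4 ≠ (F.e * R.h * F.e⁻¹) ^ 4
    rw [eh, R.gh.inv_inv.mul_pow, inv_pow, inv_pow, g4, h4, zi, di]
    exact fun h => F.z1 (mul_eq_right.1 h.symm)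
  · show F.e⁻¹ * F.d * F.e = F.d * F.z
    rw [F.e_inv, F.ede]
  · exact (mc.1 (key ((mW _).2 ⟨mH.2 ⟨g.2, congrArg Subtype.val a.eq, congrArg Subtype.val b.eq⟩,
      by rwa [orderOf_coe]⟩))).eq

end NdW

/-- = `Nd.e8` of the stub `NdE` (proof in its docstring), with the Sylow subgroup of `X` as a hypothesis. -/
theorem Nd.e8w (E : Ex F) (R : Nd F) (h1 : F.s = 1) (hS : MSS.SylIn 2 (closure {R.y, R.x, R.g, R.h, F.e}) E.X)
    (h : (R.g * R.g = R.y ∧ R.h * R.h = R.x) ∨ (R.g * R.g = R.y⁻¹ ∧ R.h * R.h = R.x⁻¹)) :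
    Goal E.X := by
  have p4 : ∀ a : G, a ^ 4 = a * a * (a * a) := fun a => by
    simp only [pow_succ, pow_zero, one_mul, mul_assoc]
  have sq : ∀ a : G, a * a ∈ zpowers a := fun a => mul_mem (mem_zpowers a) (mem_zpowers a)
  rcases h with h | h
  · exact NdW.main E R h1 (R.mo0 h) (by decide) ((R.mo0 h).sub7 ▸ hS) (h.1 ▸ sq _) (h.2 ▸ sq _)
      (by rw [p4, h.1, R.yy]) (by rw [p4, h.2, R.xx])
  · exact NdW.main E R h1 (R.mo1 h) (by decide) ((R.mo1 h).sub7 ▸ hS) (inv_mem_iff.1 (h.1 ▸ sq _))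
      (inv_mem_iff.1 (h.2 ▸ sq _))
      (by rw [p4, h.1, ← mul_inv_rev, R.yy, inv_eq_of_mul_eq_one_right F.zz])
      (by rw [p4, h.2, ← mul_inv_rev, R.xx, inv_eq_of_mul_eq_one_right F.dd])

end CL.H3
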