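import Cfsg.Agent.INV.H3.Defs
import Cfsg.Agent.INV.HL.RedB

/-! S3140. Facts on `SL₃(3)` and its
automorphism group `A`, `|A| = 11232` (`RA.card_aut`), `Inn = conj.range` of index 2.
`P = ⟨σ, d, c⟩ ≅ Hol(Z₈)` (order 32, elements `σ ^ i d ^ j c ^ k`) is Sylow in `A`, `⟨d, c⟩` is
Sylow in `Inn` (`exists_mo` and its proof, `RB.sylP`, `RB.sylD`). Conjugate a 2-subgroup into `P`
and compute in a model (a homomorphism from an explicit group of order 32, or
`HL.Md`, or `HS8.PC`); injectivity of the model follows from `c ^ 4 ≠ 1`. -/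

set_option autoImplicit false
set_option maxHeartbeats 400000
open Subgroup

namespace CL.H3.RAut
open CL.HL

open CL.MSS

/-- `σ ^ a d ^ f c ^ j` -/
structure Mq where
  a : Bool
  f : Bool
  j : Fin 8
  deriving DecidableEq, Fintype

namespace Mq

/-- the multiplier -/
def k (x : Mq) : Fin 8 := (bif x.a then 5 else 1) * (bif x.f then 3 else 1)
instance : Mul Mq := ⟨fun x y => ⟨xor x.a y.a, xor x.f y.f, x.j * y.k + y.j⟩⟩
instance : One Mq := ⟨⟨false, false, 0⟩⟩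
instance : Inv Mq := ⟨fun x => ⟨x.a, x.f, -(x.j * x.k)⟩⟩
instance : Group Mq := Group.ofLeftAxioms (by decide +kernel) (by decide +kernel) (by decide +kernel)
theorem mul_def (x y : Mq) : x * y = ⟨xor x.a y.a, xor x.f y.f, x.j * y.k + y.j⟩ := rfl

theorem ker : ∀ m : Mq, m = 1 ∨ m = ⟨false, false, 4⟩ ∨ ∃ y w, m * y * m⁻¹ * y⁻¹ = ⟨false, false, 4⟩ ∨
    m * y * m⁻¹ * y⁻¹ * w * (m * y * m⁻¹ * y⁻¹)⁻¹ * w⁻¹ = ⟨false, false, 4⟩ := by decide +kernel
theorem inv : ∀ m : Mq, m * m = 1 → m = 1 ∨ ∃ w, ∃ u, m = w * u * w⁻¹ ∧ (u = ⟨false, false, 4⟩ ∨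
    u = ⟨false, true, 0⟩ ∨ u = ⟨true, false, 0⟩ ∨ u = ⟨true, true, 0⟩ ∨ u = ⟨true, true, 1⟩) := by decide +kernel
theorem sd : ∀ C : Mq, C * C * (C * C) ≠ 1 → ∀ D, D * D = 1 → D * C * D = C * C * C → ∀ α, α * C = C * α →
    α * D = D * α → α = 1 ∨ α = C * C * (C * C) := by decide +kernel
set_option synthInstance.maxSize 2000 in
theorem four : ∀ a : Mq, a.a = false → a * a = 1 → a ≠ 1 → ∀ b : Mq, b.a = false → b * b = 1 → b ≠ 1 → a ≠ b →
    a * b = b * a → ∀ r, r * a = a * r → r * b = b * r → ∀ s, s * a = a * s → s * b = b * s →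
      ∃ v, (v = r ∨ v = s ∨ v = r * s⁻¹) ∧ (v = 1 ∨ v = a ∨ v = b ∨ v = a * b) := by decide +kernel
theorem q : ∀ a : Mq, a * a ≠ 1 → a * a * (a * a) = 1 → ∀ b, b * b = a * a → a * b * (a * b) = a * a →
    ∀ δ, δ * δ = 1 → δ * a = a * δ → δ * b = b * δ → δ = 1 ∨ δ = a * a := by decide +kernel

end Mq

section Ev

variable {A : Type*} [Group A] {I : Subgroup A} (M : Mo A I)

theorem pw {u : A} (hu : u * u = 1) {n : ℕ} (h : u * M.c * u = M.c ^ n) (j : ℕ) (z : A) :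
    M.c ^ j * (u * z) = u * (M.c ^ (j * n) * z) := by
  have hi : u⁻¹ = u := inv_eq_of_mul_eq_one_right hu
  have : u * M.c ^ j * u⁻¹ = M.c ^ (j * n) := by rw [← conj_pow, hi, h, ← pow_mul, mul_comm]
  rw [← this, hi, ← mul_assoc u, ← mul_assoc u, ← mul_assoc u, hu, one_mul, mul_assoc]

/-- evaluation -/
def ev : Mq →* A := MonoidHom.mk' (fun x => (bif x.a then M.σ else 1) * ((bif x.f then M.d else 1) * M.c ^ x.j.val))
  fun ⟨a, f, i⟩ ⟨a', f', j⟩ => by
    have h1 := pw M M.σσ M.σc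
    have h2 := pw M M.dd M.dc
    have h3 : ∀ z, M.d * (M.σ * z) = M.σ * (M.d * z) := fun z => by rw [← mul_assoc, ← M.σd.eq, mul_assoc]
    have h4 : ∀ z, M.d * (M.d * z) = z := fun z => by rw [← mul_assoc, M.dd, one_mul]
    have h5 : ∀ z, M.σ * (M.σ * z) = z := fun z => by rw [← mul_assoc, M.σσ, one_mul]
    have h6 : ∀ n, M.c ^ (n % 8) = M.c ^ n := fun n => (pow_eq_pow_mod n M.c8).symm
    have h7 : ∀ n : ℕ, M.c ^ (n * 15) = M.c ^ (n * 7) := fun n => by rw [← h6, ← h6 (n * 7)]; congr 1; omega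
    cases a <;> cases f <;> cases a' <;> cases f' <;>
      simp [Mq.mul_def, Mq.k, Fin.val_add, Fin.val_mul, h6, h7, pow_add, mul_assoc, h1, h2, h3, h4, h5]

theorem ev_def (x : Mq) :
    ev M x = (bif x.a then M.σ else 1) * ((bif x.f then M.d else 1) * M.c ^ x.j.val) := rfl

theorem ev_z : ev M ⟨false, false, 4⟩ = M.c ^ 4 := by simp [ev_def]

theorem ev_inj : Function.Injective (ev M) := (injective_iff_map_eq_one _).2 fun m h => by
  rcases Mq.ker m with e | rfl | ⟨y, w, e | e⟩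
  · exact e
  · exact absurd (ev_z M ▸ h) M.c4
  all_goals exact absurd (by rw [← ev_z, ← e]; simp [h]) M.c4

theorem ev_a {m : Mq} (h : ev M m ∈ I) : m.a = false := by
  obtain ⟨_ | _, f, j⟩ := m
  · rfl
  refine absurd ((mul_mem_cancel_right (mul_mem ?_ (pow_mem M.cI _))).1 h) M.σI
  cases f
  exacts [one_mem _, M.dI]

theorem into [Finite A] {Q : Subgroup A} (hQ : IsPGroup 2 Q) : ∃ φ : A ≃* A, (∃ g, φ = MulAut.conj g) ∧
    ∀ x ∈ Q, ∃ m, ev M m = φ x := by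
  obtain ⟨g, -, h⟩ := (RB.sylP M).exists_conj_le hQ le_top
  refine ⟨_, ⟨g, rfl⟩, fun x hx => (closure_le (K := (ev M).range)).2 ?_ (h (conj_mem_cj hx))⟩
  rintro _ (rfl | rfl | rfl)
  exacts [⟨⟨true, false, 0⟩, by simp [ev_def]⟩, ⟨⟨false, true, 0⟩, by simp [ev_def]⟩,
    ⟨⟨false, false, 1⟩, by simp [ev_def]⟩]

omit M in
theorem pg3 [Finite A] {a b δ : A} {i j k : ℕ} (ha : a ^ 2 ^ i = 1) (hb : b ^ 2 ^ j = 1) {n : ℕ}
    (h : b * a * b⁻¹ = a ^ n) (hδ : δ ^ 2 ^ k = 1) (h1 : Commute δ a) (h2 : Commute δ b) :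
    IsPGroup 2 (zpowers a ⊔ zpowers b ⊔ zpowers δ : Subgroup A) := by
  have c : ∀ {x : A}, Commute δ x → δ ∈ normalizer (zpowers x : Set A) := fun hx => RB.norm_of (by
    rintro _ ⟨n, rfl⟩
    rw [(hx.zpow_right n).eq, mul_inv_cancel_right]
    exact ⟨n, rfl⟩)
  refine isPGroup_sup_of_normalizes' (isPGroup_sup_of_normalizes' (isPGroup_zpowers ha) (isPGroup_zpowers hb)
    (zpowers_le.2 (RB.norm_of ?_))) (isPGroup_zpowers hδ)
    (le_normalizer_sup (zpowers_le.2 (c h1)) (zpowers_le.2 (c h2)))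
  rintro _ ⟨m, rfl⟩
  rw [← conj_zpow, h]
  exact zpow_mem (pow_mem (mem_zpowers _) n) m

end Ev

open RA in
theorem σI : σ ∉ (MulAut.conj : SL33 →* MulAut SL33).range := by
  rintro ⟨g, e⟩
  have h1 : g * c * g⁻¹ = c ^ 5 := (DFunLike.congr_fun e c).trans (inv_eq_of_mul_eq_one_right (by decide +kernel))
  have h2 := congrArg (fun x : SL33 => x.1.trace) h1
  simp only [Matrix.SpecialLinearGroup.coe_mul] at h2
  rw [Matrix.trace_mul_cycle, show (g⁻¹).1 * g.1 = 1 from congrArg Subtype.val (inv_mul_cancel g), one_mul] at h2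
  exact absurd h2 (by decide +kernel)

open RA in
/-- the explicit model -/
def mo0 : Mo (MulAut SL33) (MulAut.conj : SL33 →* MulAut SL33).range where
  c := MulAut.conj c
  d := MulAut.conj d
  ρ := MulAut.conj ρ
  σ := σ
  cI := ⟨_, rfl⟩
  dI := ⟨_, rfl⟩
  ρI := ⟨_, rfl⟩
  σI := σI
  idx := exists_mo.elim fun M => M.idx
  dd := by rw [← map_mul, show d * d = 1 by decide +kernel, map_one]
  c8 := by rw [← map_pow, show c ^ 8 = 1 by decide +kernel, map_one]
  c4 := by rw [← map_pow, ← map_one MulAut.conj, conj_inj.ne_iff]; decide +kernel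
  dc := by rw [← map_pow, ← map_mul, ← map_mul, show d * c * d = c ^ 3 by decide +kernel]
  σσ := MulEquiv.ext σ.left_inv
  σc := by rw [σ_conj (h := c ^ 5) (by decide +kernel), mul_assoc, show σ * σ = 1 from MulEquiv.ext σ.left_inv, mul_one, map_pow]
  σd := σ_conj (by decide +kernel)
  σρ := σ_conj (by decide +kernel)
  zρ := by rw [mul_assoc, inv_mul_eq_iff_eq_mul, ← map_pow, ← map_mul, ← map_mul, show c ^ 4 * ρ = ρ * d by decide +kernel]
  dρ := by rw [mul_assoc, inv_mul_eq_iff_eq_mul, ← map_pow, ← map_mul, ← map_mul, ← map_mul,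
      show d * ρ = ρ * (d * c ^ 4) by decide +kernel]
  ρ3 := by rw [← map_pow, show ρ ^ 3 = 1 by decide +kernel, map_one]
  eρ := by rw [← map_pow, ← map_mul, ← map_mul, ← map_pow, show (d * c ^ 2 * ρ) ^ 2 = 1 by decide +kernel, map_one]
  card := exists_mo.elim fun M => M.card

theorem mo : ∃ M : Mo (MulAut SL33) (MulAut.conj : SL33 →* MulAut SL33).range,
    M.c = MulAut.conj RA.c ∧ M.d = MulAut.conj RA.d ∧ M.σ = RA.σ := ⟨mo0, rfl, rfl, rfl⟩

/-- `x xᵀ = (d c)⁻ᵀ` -/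
def x0 : SL33 := ⟨!![0, 0, 1; 0, 1, 1; 2, 0, 0], by rw [Matrix.det_fin_three]; decide⟩
/-- `x⁻¹` -/
def y0 : SL33 := ⟨!![0, 0, 2; 2, 1, 0; 1, 0, 0], by rw [Matrix.det_fin_three]; decide⟩
/-- `xᵀ` -/
def v0 : SL33 := ⟨!![0, 0, 2; 0, 1, 0; 1, 1, 0], by rw [Matrix.det_fin_three]; decide⟩

instance : Finite (MulAut SL33) := Nat.finite_of_card_ne_zero (by rw [RA.card_aut]; decide)

theorem nI : (MulAut.conj : SL33 →* MulAut SL33).range.Normal :=
  normal_of_index_eq_two (exists_mo.elim fun M => M.idx)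

theorem cls {α : MulAut SL33} (h : α * α = 1) (h1 : α ≠ 1) :
    IsConj (MulAut.conj (RA.c ^ 4)) α ∨ IsConj RA.σ α := by
  obtain ⟨M, e1, e2, e3⟩ := mo
  obtain ⟨_, ⟨g, rfl⟩, H⟩ := into M (RB.pg_inv h)
  obtain ⟨m, e⟩ := H α (mem_zpowers α)
  have mm : m * m = 1 := ev_inj M (by rw [map_mul, e, ← map_mul, h, map_one, map_one])
  obtain ⟨w, u, rfl, hu⟩ := (Mq.inv m mm).resolve_left (by
    rintro rfl; exact h1 ((MulAut.conj g).injective (by rw [← e, map_one, map_one])))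
  have k : IsConj (ev M u) α := isConj_iff.2 ⟨g⁻¹ * ev M w, by
    rw [map_mul, map_mul, map_inv, MulAut.conj_apply] at e
    calc _ = g⁻¹ * (ev M w * ev M u * (ev M w)⁻¹) * g := by group
      _ = _ := by rw [e]; group⟩
  have z : IsConj (M.c ^ 4) M.d := isConj_iff.2 ⟨M.ρ⁻¹, by rw [inv_inv, M.zρ]⟩
  have s1 : IsConj M.σ (M.σ * M.d) := isConj_iff.2 ⟨M.ρ⁻¹ * M.c, by
    have := pw M M.σσ M.σc 1 M.c⁻¹
    rw [pow_one] at this
    calc _ = M.ρ⁻¹ * (M.c * (M.σ * M.c⁻¹)) * M.ρ := by group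
      _ = M.ρ⁻¹ * M.σ * M.ρ * (M.ρ⁻¹ * M.c ^ 4 * M.ρ) := by rw [this]; group
      _ = _ := by rw [M.zρ, mul_assoc M.ρ⁻¹, M.σρ.eq, inv_mul_cancel_left]⟩
  have s2 : IsConj M.σ (M.σ * (M.d * M.c)) := by
    refine isConj_iff.2 ⟨MulAut.conj x0, ?_⟩
    rw [e1, e2, e3, ← map_mul, ← map_inv, inv_eq_of_mul_eq_one_right (show x0 * y0 = 1 by decide), mul_assoc,
      RA.σ_conj (h := v0) (by decide), RA.σ_conj (h := x0 * v0) (by decide), ← mul_assoc, ← map_mul]
  rw [map_pow, ← e1, ← e3]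
  rcases hu with rfl | rfl | rfl | rfl | rfl <;> simp only [ev_def, cond, one_mul, Fin.val_zero, pow_zero, mul_one,
    Fin.val_one, pow_one] at k
  exacts [.inl k, .inl (z.trans k), .inr k, .inr (s1.trans k), .inr (s2.trans k)]

theorem dec (g : MulAut SL33) : ∃ x, g = MulAut.conj x ∨ g = MulAut.conj x * RA.σ := by
  obtain ⟨M, -, -, e3⟩ := mo
  by_cases h : g ∈ (MulAut.conj : SL33 →* MulAut SL33).range
  · exact h.imp fun _ e => .inl e.symm
  obtain ⟨x, e⟩ := (mul_mem_iff_of_index_two M.idx (a := g) (b := M.σ)).2 (iff_of_false h M.σI)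
  exact ⟨x, .inr (by rw [e, ← e3, mul_assoc, M.σσ, mul_one])⟩

/-- An involution of `⟨d, c⟩` is `c⁴`, `d c ^ (2 k)`; `z ^ ρ = d`, explicit conjugations. -/
theorem inv_conj {x : SL33} (h : x * x = 1) (h1 : x ≠ 1) : IsConj (RA.c ^ 4) x := by
  obtain ⟨M, -, -, e3⟩ := mo
  rcases cls (α := MulAut.conj x) (by rw [← map_mul, h, map_one]) (fun e => h1 (RA.conj_inj (e.trans (map_one _).symm)))
    with k | k <;> obtain ⟨g, e⟩ := isConj_iff.1 k
  · have s : RA.σ * MulAut.conj (RA.c ^ 4) * RA.σ⁻¹ = MulAut.conj (RA.c ^ 4) :=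
      mul_inv_eq_iff_eq_mul.2 (RA.σ_conj (by decide))
    obtain ⟨y, rfl | rfl⟩ := dec g
    · exact isConj_iff.2 ⟨y, RA.conj_inj (by rw [map_mul, map_mul, map_inv, e])⟩
    · exact isConj_iff.2 ⟨y, RA.conj_inj (by rw [map_mul, map_mul, map_inv, ← e]; nth_rw 1 [← s]; group)⟩
  · exact absurd (by simpa [← e, mul_assoc, e3] using nI.conj_mem _ ⟨x, rfl⟩ g⁻¹) M.σI

/-- The outer involutions of `P` are `σ, σ c⁴, σ d c ^ k`; `σ ^ c = σ c⁴`, `σ d ~ σ c⁴` by `ρ`,
`σ d c² ~ σ d` by `c`; `σ d c`: use `RA.σ_conj` with an explicit matrix. -/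
theorem out_conj {α : MulAut SL33} (h : α * α = 1)
    (h1 : α ∉ (MulAut.conj : SL33 →* MulAut SL33).range) :
    ∃ x : SL33, α = MulAut.conj x * RA.σ * (MulAut.conj x)⁻¹ := by
  rcases cls h (by rintro rfl; exact h1 (one_mem _)) with k | k <;> obtain ⟨g, rfl⟩ := isConj_iff.1 k
  · exact absurd (nI.conj_mem _ ⟨_, rfl⟩ g) h1
  · obtain ⟨y, rfl | rfl⟩ := dec g
    exacts [⟨y, rfl⟩, ⟨y, by group⟩]

/-- `⟨C, D, α⟩` is a 2-group; in `P` the centraliser of a semidihedral subgroup of order 16 is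
its centre. -/
theorem cen_sd {C D α : MulAut SL33} (h8 : C ^ 8 = 1) (h4 : C ^ 4 ≠ 1) (hD : D * D = 1)
    (hd : D * C * D = C ^ 3) {k : ℕ} (hk : α ^ 2 ^ k = 1) (h1 : Commute α C) (h2 : Commute α D) :
    α = 1 ∨ α = C ^ 4 := by
  obtain ⟨M⟩ := exists_mo
  obtain ⟨φ, -, H⟩ := into M (pg3 (i := 3) (j := 1) h8 (by rw [pow_one, pow_two, hD])
    (by rw [inv_eq_of_mul_eq_one_right hD, hd]) hk h1 h2)
  obtain ⟨C', e1⟩ := H C (mem_sup_left (mem_sup_left (mem_zpowers _)))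
  obtain ⟨D', e2⟩ := H D (mem_sup_left (mem_sup_right (mem_zpowers _)))
  obtain ⟨α', e3⟩ := H α (mem_sup_right (mem_zpowers _))
  have c4 : C ^ 4 = C * C * (C * C) := by rw [show 4 = 2 + 2 from rfl, pow_add, pow_two]
  have := Mq.sd C' (fun e => h4 (φ.injective (by simpa [c4, e1] using congrArg (ev M) e))) D'
    (ev_inj M (by simpa [e2] using congrArg φ hD)) (ev_inj M (by simpa [e1, e2, pow_succ] using congrArg φ hd)) α'
    (ev_inj M (by simpa [e1, e3] using congrArg φ h1.eq)) (ev_inj M (by simpa [e2, e3] using congrArg φ h2.eq))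
  exact this.imp (fun e => φ.injective (by rw [← e3, e, map_one, map_one]))
    fun e => φ.injective (by simp [← e3, e, c4, e1])

/-- `⟨a, b⟩` is conjugate to `V = ⟨z, d⟩` or `⟨z, e⟩`, whose centraliser in `P` is elementary of
order 8 (`⟨σ, V⟩`); so `R ⟨a, b⟩` is elementary of order `≤ 8`, and `R ∩ ⟨a, b⟩ = 1` as `θ`
centralises `R`. -/
theorem cen_four {a b θ : MulAut SL33} (ha : a ∈ (MulAut.conj : SL33 →* MulAut SL33).range)
    (hb : b ∈ (MulAut.conj : SL33 →* MulAut SL33).range) (aa : a * a = 1) (bb : b * b = 1)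
    (a1 : a ≠ 1) (ab : Commute a b) (h1 : θ⁻¹ * a * θ = b) (h2 : θ⁻¹ * b * θ = a * b)
    {R : Subgroup (MulAut SL33)} (hR : IsPGroup 2 R)
    (h : ∀ r ∈ R, Commute r a ∧ Commute r b ∧ Commute r θ) : Nat.card R ≤ 2 := by
  obtain ⟨M⟩ := exists_mo
  have b1 : b ≠ 1 := fun e => a1 (by rw [e] at h1; simpa [mul_assoc, inv_mul_eq_one, eq_comm (a := θ)] using h1)
  have ne : a ≠ b := fun e => b1 (by rw [e, bb] at h2; simpa [mul_assoc, inv_mul_eq_one, eq_comm (a := θ)] using h2)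
  have c : ∀ {x}, (∀ r ∈ R, Commute r x) → R ≤ normalizer (zpowers x : Set (MulAut SL33)) := fun hx r hr =>
    RB.norm_of (by
      rintro _ ⟨n, rfl⟩
      rw [((hx r hr).zpow_right n).eq, mul_inv_cancel_right]
      exact ⟨n, rfl⟩)
  obtain ⟨_, ⟨g, rfl⟩, H⟩ := into M (isPGroup_sup_of_normalizes' (isPGroup_sup_of_normalizes' (RB.pg_inv aa)
    (RB.pg_inv bb) (zpowers_le.2 (RB.norm_of (by
      rintro _ ⟨n, rfl⟩
      rw [(ab.symm.zpow_right n).eq, mul_inv_cancel_right]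
      exact ⟨n, rfl⟩)))) hR (le_normalizer_sup (c fun r hr => (h r hr).1) (c fun r hr => (h r hr).2.1)))
  obtain ⟨a', e1⟩ := H a (mem_sup_left (mem_sup_left (mem_zpowers _)))
  obtain ⟨b', e2⟩ := H b (mem_sup_left (mem_sup_right (mem_zpowers _)))
  have ia := ev_a M (e1.symm ▸ nI.conj_mem _ ha g : ev M a' ∈ _)
  have ib := ev_a M (e2.symm ▸ nI.conj_mem _ hb g : ev M b' ∈ _)
  generalize MulAut.conj g = φ at H e1 e2
  have one : ∀ v ∈ R, v = 1 ∨ v = a ∨ v = b ∨ v = a * b → v = 1 := fun v hv k => by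
    have f : θ⁻¹ * v * θ = v := by rw [mul_assoc, (h v hv).2.2.eq, inv_mul_cancel_left]
    rcases k with k | rfl | rfl | rfl
    · exact k
    · exact absurd (f.symm.trans h1) ne
    · exact absurd (left_eq_mul.1 ((f.symm.trans h2).trans ab.eq)) a1
    · refine absurd ((left_eq_mul (a := a)).1 ?_) b1
      calc a = b * (a * b) := by rw [ab.eq, ← mul_assoc, bb, one_mul]
        _ = θ⁻¹ * a * θ * (θ⁻¹ * b * θ) := by rw [h1, h2]
        _ = θ⁻¹ * (a * b) * θ := by group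
        _ = _ := f
  have key : ∀ r ∈ R, ∀ s ∈ R, r = 1 ∨ s = 1 ∨ r = s := fun r hr s hs => by
    obtain ⟨r', e3⟩ := H r (mem_sup_right hr)
    obtain ⟨s', e4⟩ := H s (mem_sup_right hs)
    obtain ⟨v, k1, k2⟩ := Mq.four a' ia (ev_inj M (by simpa [e1] using congrArg φ aa))
      (fun e => a1 (φ.injective (by rw [← e1, e, map_one, map_one]))) b' ib
      (ev_inj M (by simpa [e2] using congrArg φ bb)) (fun e => b1 (φ.injective (by rw [← e2, e, map_one, map_one])))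
      (fun e => ne (φ.injective (by rw [← e1, e, e2]))) (ev_inj M (by simpa [e1, e2] using congrArg φ ab.eq)) r'
      (ev_inj M (by simpa [e1, e3] using congrArg φ (h r hr).1.eq))
      (ev_inj M (by simpa [e2, e3] using congrArg φ (h r hr).2.1.eq)) s'
      (ev_inj M (by simpa [e1, e4] using congrArg φ (h s hs).1.eq))
      (ev_inj M (by simpa [e2, e4] using congrArg φ (h s hs).2.1.eq))
    have k3 : ∀ u, φ u = ev M v → u = 1 ∨ u = a ∨ u = b ∨ u = a * b := fun u e => by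
      simp only [← φ.injective.eq_iff (a := u), e, map_mul, map_one, ← e1, ← e2]
      rcases k2 with k | k | k | k <;> simp [k]
    rcases k1 with rfl | rfl | rfl
    · exact .inl (one r hr (k3 _ e3.symm))
    · exact .inr (.inl (one s hs (k3 _ e4.symm)))
    · exact .inr (.inr (mul_inv_eq_one.1 (one _ (mul_mem hr (inv_mem hs)) (k3 _ (by simp [e3, e4])))))
  by_contra hc
  have := Fintype.ofFinite R
  rw [not_le, Nat.card_eq_fintype_card, Fintype.two_lt_card_iff] at hc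
  obtain ⟨x, y, w, n1, n2, n3⟩ := hc
  rw [Ne, Subtype.ext_iff] at n1 n2 n3
  have k1 := key x x.2 y y.2
  have k2 := key x x.2 w w.2
  have k3 := key y y.2 w w.2
  grind

/-- The only quaternion subgroup of `P` is `⟨c², c d⟩`, with centraliser `⟨σ c²⟩ ≅ Z₄`. -/
theorem cen_q {a b j δ : MulAut SL33} (aa : a * a = j) (bb : b * b = j) (ab : a * b * (a * b) = j)
    (j1 : j ≠ 1) (jj : j * j = 1) (hδ : δ * δ = 1) (h1 : Commute δ a) (h2 : Commute δ b) :
    δ = 1 ∨ δ = j := by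
  obtain ⟨M⟩ := exists_mo
  subst aa
  have a4 : a ^ 4 = 1 := by rw [show 4 = 2 + 2 from rfl, pow_add, pow_two, jj]
  obtain ⟨φ, -, H⟩ := into M (pg3 (i := 2) (j := 2) (k := 1) (n := 3) a4
    (by rw [show 2 ^ 2 = 2 + 2 from rfl, pow_add, pow_two, bb, jj]) (by
      calc _ = a⁻¹ * (a * b * (a * b)) * (b * b)⁻¹ := by group
        _ = a ^ 3 * (a ^ 4)⁻¹ := by rw [ab, bb]; group
        _ = _ := by rw [a4, inv_one, mul_one]) (by rw [pow_one, pow_two, hδ]) h1 h2)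
  obtain ⟨a', e1⟩ := H a (mem_sup_left (mem_sup_left (mem_zpowers _)))
  obtain ⟨b', e2⟩ := H b (mem_sup_left (mem_sup_right (mem_zpowers _)))
  obtain ⟨δ', e3⟩ := H δ (mem_sup_right (mem_zpowers _))
  have := Mq.q a' (fun e => j1 (φ.injective (by simpa [e1] using congrArg (ev M) e)))
    (ev_inj M (by simpa [e1] using congrArg φ jj)) b'
    (ev_inj M (by simpa [e1, e2] using congrArg φ bb)) (ev_inj M (by simpa [e1, e2] using congrArg φ ab)) δ'
    (ev_inj M (by simpa [e3] using congrArg φ hδ))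
    (ev_inj M (by simpa [e1, e3] using congrArg φ h1.eq)) (ev_inj M (by simpa [e2, e3] using congrArg φ h2.eq))
  exact this.imp (fun e => φ.injective (by rw [← e3, e, map_one, map_one]))
    fun e => φ.injective (by simp [← e3, e, e1])

/-- The three blocks `GL₂(3)` contain all elementary transvections and generate (search for a
landed generation lemma for `SL`, or `Matrix.Pivot`). -/
theorem gen {H : Subgroup SL33} (h1 : centralizer {RA.c ^ 4} ≤ H) (h2 : centralizer {RA.d} ≤ H)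
    (h3 : centralizer {RA.d * RA.c ^ 4} ≤ H) : H = ⊤ := by
  have : ∀ (i j : Fin 3) (hij : i ≠ j) (r : ZMod 3) (x : SL33), x = Matrix.SpecialLinearGroup.transvection hij r →
      x * RA.c ^ 4 = RA.c ^ 4 * x ∨ x * RA.d = RA.d * x ∨ x * (RA.d * RA.c ^ 4) = RA.d * RA.c ^ 4 * x := by
    simp only [forall_eq]
    decide +kernel
  exact CL.SL.eq_top_of_transvection_mem H fun i j hij r => (this i j hij r _ rfl).elim
    (fun e => h1 (mem_centralizer_singleton_iff.2 e)) fun e => e.elim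
      (fun e => h2 (mem_centralizer_singleton_iff.2 e)) fun e => h3 (mem_centralizer_singleton_iff.2 e)

end CL.H3.RAut
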