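import Cfsg.Agent.INV.H3.Def2

/-! S3140: basics on `Fo` for `H3/Nc`. `x ^ g = g⁻¹ * x * g`. -/

set_option autoImplicit false
set_option linter.style.haveILetI false
set_option linter.unusedSectionVars false
open Subgroup CL.MSS CL.HL CL.HL.Od CL.HL.Ob CL.HL.Iv CL.HL.Ks

namespace CL.H3.Ncx
universe u
variable {G : Type u} [Group G]

theorem cm (g x y : G) : g⁻¹ * (x * y) * g = g⁻¹ * x * g * (g⁻¹ * y * g) := Ob.cm g x y

/-- The map to an elementary abelian quotient `R / K`. -/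
theorem exists_f {R K : Subgroup G} (hK : ∀ a ∈ R, a * a ∈ K)
    (hn : ∀ n ∈ R, ∀ k ∈ K, n⁻¹ * k * n ∈ K) :
    ∃ (Q : Type u) (_ : CommGroup Q) (f : G → Q), (∀ a ∈ R, ∀ b ∈ R, f (a * b) = f a * f b) ∧
      (∀ a ∈ R, f a = 1 ↔ a ∈ K) ∧ ∀ a ∈ R, f a * f a = 1 := by
  classical
  haveI : (K.subgroupOf R).Normal := ⟨fun x hx g => mem_subgroupOf.2
    (by simpa using hn _ (inv_mem g.2) _ (mem_subgroupOf.1 hx))⟩
  have sq : ∀ q : R ⧸ K.subgroupOf R, q * q = 1 := fun q => by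
    obtain ⟨x, rfl⟩ := QuotientGroup.mk_surjective q
    rw [← QuotientGroup.mk_mul]; exact (QuotientGroup.eq_one_iff _).2 (hK x x.2)
  refine ⟨R ⧸ K.subgroupOf R, { (inferInstance : Group (R ⧸ K.subgroupOf R)) with
    mul_comm := fun a b => (comm_of_el (X := ⊤) (fun x _ => sq x) trivial trivial).eq },
    fun g => if h : g ∈ R then ((⟨g, h⟩ : R) : R ⧸ K.subgroupOf R) else 1, fun a ha b hb => ?_,
    fun a ha => ?_, fun a _ => sq _⟩
  · simp only [dif_pos ha, dif_pos hb, dif_pos (mul_mem ha hb)]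
    rfl
  · simp only [dif_pos ha]
    exact (QuotientGroup.eq_one_iff _).trans mem_subgroupOf

/-- The product over the `r`-orbit. -/
def pi (r u : G) : G := u * (r⁻¹ * u * r) * (r⁻¹ * (r⁻¹ * u * r) * r)

theorem pi_mem {H : Subgroup G} {r u : G} (hr : r ∈ normalizer (H : Set G)) (hu : u ∈ H) :
    pi r u ∈ H := mul_mem (mul_mem hu (cj' hr hu)) (cj' hr (cj' hr hu))

theorem pi_fix {r u : G} (h : Commute u r) (uu : u * u = 1) : pi r u = u := by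
  rw [pi, fx h, fx h, uu, one_mul]

theorem pi_cj (r u : G) : pi r (r⁻¹ * u * r) = r⁻¹ * pi r u * r := by
  simp only [pi, cm]

theorem pi_f {Q : Type*} [CommGroup Q] {f : G → Q} {R : Subgroup G} {r : G}
    (hf : ∀ a ∈ R, ∀ b ∈ R, f (a * b) = f a * f b) (hr : r ∈ normalizer (R : Set G)) {a : G}
    (ha : a ∈ R) : f (pi r a) = f a * f (r⁻¹ * a * r) * f (r⁻¹ * (r⁻¹ * a * r) * r) := by
  rw [pi, hf _ (mul_mem ha (cj' hr ha)) _ (cj' hr (cj' hr ha)), hf _ ha _ (cj' hr ha)]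

theorem pi_mul_f {Q : Type*} [CommGroup Q] {f : G → Q} {R : Subgroup G} {r : G}
    (hf : ∀ a ∈ R, ∀ b ∈ R, f (a * b) = f a * f b) (hr : r ∈ normalizer (R : Set G)) {a b : G}
    (ha : a ∈ R) (hb : b ∈ R) : f (pi r (a * b)) = f (pi r a) * f (pi r b) := by
  rw [pi_f hf hr (mul_mem ha hb), pi_f hf hr ha, pi_f hf hr hb, cm r a b, cm r, hf _ ha _ hb,
    hf _ (cj' hr ha) _ (cj' hr hb), hf _ (cj' hr (cj' hr ha)) _ (cj' hr (cj' hr hb))]
  ac_rfl

theorem pi_mul {A : Subgroup G} {r : G} (hA : ∀ a ∈ A, ∀ b ∈ A, Commute a b)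
    (hr : r ∈ normalizer (A : Set G)) {a b : G} (ha : a ∈ A) (hb : b ∈ A) :
    pi r (a * b) = pi r a * pi r b := by
  have h1 := cj' hr ha
  have h2 := cj' hr h1
  have k1 := cj' hr hb
  rw [pi, pi, pi, cm r a b, cm r]
  generalize r⁻¹ * (r⁻¹ * a * r) * r = a2 at *
  generalize r⁻¹ * a * r = a1 at *
  generalize r⁻¹ * (r⁻¹ * b * r) * r = b2 at *
  generalize r⁻¹ * b * r = b1 at *
  calc _ = a * (b * a1) * (b1 * a2) * b2 := by group
    _ = a * a1 * (b * a2) * b1 * b2 := by rw [(hA _ hb _ h1).eq, (hA _ k1 _ h2).eq]; group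
    _ = _ := by rw [(hA _ hb _ h2).eq]; group

variable [Finite G] {F : Fr G}

omit [Finite G] in
theorem pi_V {r v : G} (hr : F.Rr r) (hv : v ∈ F.V) : pi r v = 1 := by
  rcases F.mem_V.1 hv with rfl | rfl | rfl | rfl
  · simp [pi]
  · rw [pi, hr.zρ, hr.dρ, ← F.w_one]; hl_w
  · rw [pi, hr.dρ, hr.dzρ, ← F.w_one]; hl_w
  · rw [pi, hr.dzρ, hr.zρ, ← F.w_one]; hl_w

omit [Finite G] in
theorem vv {v : G} (hv : v ∈ F.V) : v * v = 1 := F.el_E (F.B_E (F.V_B hv))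

omit [Finite G] in
theorem fixV {v : G} (hv : v ∈ F.V) (h : F.e⁻¹ * v * F.e = v) : v = 1 ∨ v = F.z := by
  rcases F.mem_V.1 hv with rfl | rfl | rfl | rfl
  · exact Or.inl rfl
  · exact Or.inr rfl
  · rw [de] at h; exact absurd (mul_eq_left.1 h) F.z1
  · rw [dze] at h; exact absurd (mul_eq_left.1 h.symm) F.z1

omit [Finite G] in
/-- Orbits of length 4. -/
theorem card_orb {P K : Subgroup G} {x : G} (hK : K ≤ P) (h1 : ∀ p ∈ P, Commute x p ↔ p ∈ K)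
    (h2 : ∀ p ∈ P, ∃ v ∈ F.V, p⁻¹ * x * p = x * v) (h3 : ∀ v ∈ F.V, ∃ p ∈ P, p⁻¹ * x * p = x * v) :
    Nat.card P = Nat.card K * 4 := by
  have h := CL.JR.card_inf_mul_ncard_conj P x
  have e1 : P ⊓ centralizer {x} = K := le_antisymm
    (fun u hu => (h1 u hu.1).1 (mem_centralizer_singleton_iff.1 hu.2).symm)
    fun y hy => ⟨hK hy, mem_centralizer_singleton_iff.2 ((h1 y (hK hy)).2 hy).symm⟩
  have e2 : {y | ∃ a ∈ P, a * x * a⁻¹ = y} = (fun v => x * v) '' (F.V : Set G) := by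
    ext y
    constructor
    · rintro ⟨a, ha, rfl⟩
      obtain ⟨v, hv, e⟩ := h2 _ (inv_mem ha)
      exact ⟨v, hv, by simpa using e.symm⟩
    · rintro ⟨v, hv, rfl⟩
      obtain ⟨u, hu, e⟩ := h3 v hv
      exact ⟨u⁻¹, inv_mem hu, by simpa using e⟩
  rw [e1, e2, Set.ncard_image_of_injective _ (mul_right_injective _), ← Nat.card_coe_set_eq] at h
  erw [F.card_V] at h
  exact h.symm

theorem odd_fix {o x v : G} (ho : Odd (orderOf o)) (h : o⁻¹ * x * o = x * v) (hv : Commute v o)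
    (h4 : v ^ 4 = 1) : v = 1 := by
  have := pow_cj h hv (orderOf o)
  rw [pow_orderOf_eq_one, inv_one, one_mul, mul_one, left_eq_mul] at this
  exact orderOf_eq_one_iff.1 (Nat.eq_one_of_dvd_coprimes
    ((Nat.coprime_two_right.2 ho).pow_right 2) (orderOf_dvd_of_pow_eq_one this)
    (orderOf_dvd_of_pow_eq_one h4))

theorem odd_p2 {P : Subgroup G} (hP : IsPGroup 2 P) {o : G} (h : o ∈ P) (ho : Odd (orderOf o)) :
    o = 1 := by
  obtain ⟨j, hj⟩ := isPGroup_iff_forall_mem.1 hP o h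
  exact orderOf_eq_one_iff.1 (Nat.eq_one_of_dvd_coprimes
    ((Nat.coprime_two_right.2 ho).pow_right j) dvd_rfl (orderOf_dvd_of_pow_eq_one hj))

section
variable {Y : Subgroup G} {r : G} (hY : IsPGroup 2 Y) (hE : F.E ≤ Y)
  (hc : ∀ y ∈ Y, Commute F.t y → y ∈ F.E) (hr : F.Rr r) (rY : r ∈ normalizer (Y : Set G))
include hY hE hc hr rY

theorem c3' {u : G} (hu : u ∈ Y) : r⁻¹ * (r⁻¹ * (r⁻¹ * u * r) * r) * r = u := by
  have := fx (F.odd_cent hY hE hc hr.cube (pow_mem rY 3) u hu).symm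
  rwa [pow_three', cc, cc] at this

theorem c2' (eY : F.e ∈ normalizer (Y : Set G)) {u : G} (hu : u ∈ Y) :
    F.e⁻¹ * (r⁻¹ * u * r) * F.e = r⁻¹ * (r⁻¹ * (F.e⁻¹ * u * F.e) * r) * r := by
  have := fx (F.odd_cent hY hE hc hr.sq (pow_mem (mul_mem eY rY) 2) _ (cj' eY hu)).symm
  rw [sq, cc, cc, cc, ← cc F.e F.e u, F.ee, inv_one, one_mul, mul_one] at this
  rw [← this, c3' hY hE hc hr rY (cj' eY (cj' rY hu))]

theorem c2'' (eY : F.e ∈ normalizer (Y : Set G)) {u : G} (hu : u ∈ Y) :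
    F.e⁻¹ * (r⁻¹ * (r⁻¹ * u * r) * r) * F.e = r⁻¹ * (F.e⁻¹ * u * F.e) * r := by
  rw [c2' hY hE hc hr rY eY (cj' rY hu), c2' hY hE hc hr rY eY hu,
    c3' hY hE hc hr rY (cj' rY (cj' eY hu))]

end

variable {D : K4 F} (Q : Fo D)

omit [Finite G] in
theorem cA : ∀ a ∈ Q.A, ∀ b ∈ Q.A, Commute a b := fun a ha b hb => by
  have : (a * b)⁻¹ = (b * a)⁻¹ := by
    calc _ = F.t * a * (F.t * F.t) * b * F.t := by rw [← Q.hi _ (mul_mem ha hb), F.tt]; group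
      _ = F.t * a * F.t * (F.t * b * F.t) := by group
      _ = _ := by rw [Q.hi a ha, Q.hi b hb, mul_inv_rev]
  exact inv_injective this

omit [Finite G] in
theorem ti : F.t⁻¹ = F.t := inv_eq_of_mul_eq_one_right F.tt

omit [Finite G] in
theorem invU : ∀ f ∈ D.U, f ∉ Q.A → f * f = 1 ∧ ∀ a ∈ Q.A, f⁻¹ * a * f = a⁻¹ := fun f hf hfA => by
  have k := (Q.hd f hf).resolve_left hfA
  have e : f = F.t * (F.t * f) := by rw [← mul_assoc, F.tt, one_mul]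
  generalize F.t * f = u at k e
  subst e
  refine ⟨by rw [← mul_assoc, Q.hi u k, inv_mul_cancel], fun a ha => ?_⟩
  rw [cc, ti, Q.hi a ha, fx (cA Q _ (inv_mem ha) _ k)]

omit [Finite G] in
/-- An element of `U` commuting with an element of order 4 of `A` lies in `A`. -/
theorem memA {f a : G} (hf : f ∈ D.U) (ha : a ∈ Q.A) (h : Commute a f) (h1 : a * a ≠ 1) : f ∈ Q.A := by
  by_contra k
  refine h1 ?_
  nth_rewrite 1 [← fx h]
  rw [(invU Q f hf k).2 a ha, inv_mul_cancel]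

omit [Finite G] in
theorem tA : F.t ∉ Q.A := fun h => by
  obtain ⟨a, ha, e⟩ := Q.hs' _ F.z_V
  refine F.z1 ?_
  rw [← e]; nth_rewrite 1 [← inv_inv a, ← Q.hi a ha, (cA Q _ h _ ha).eq, mul_assoc, F.tt, mul_one]
  exact inv_mul_cancel _

omit [Finite G] in
theorem iB : ∀ a ∈ Q.A, a * a = 1 → a ∈ F.B := fun a ha h => by
  have := Q.hi a ha
  rw [inv_eq_of_mul_eq_one_right h] at this
  obtain ⟨b, hb, rfl | rfl⟩ := F.mem_E.1 (D.cU a (Q.hU ha) (xf (by rwa [ti])).symm)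
  exacts [hb, absurd ((Q.A.mul_mem_cancel_right (Q.hB hb)).1 ha) (tA Q)]

omit [Finite G] in
theorem a4 {a : G} (ha : a ∈ Q.A) : a * a * (a * a) = 1 := vv (Q.hs a ha)

omit [Finite G] in
/-- `U \ A` times `U \ A` is in `A`. -/
theorem mulA {f g : G} (hf : f ∈ D.U) (hg : g ∈ D.U) (h1 : f ∉ Q.A) (h2 : g ∉ Q.A) : f * g ∈ Q.A := by
  have := mul_mem (inv_mem ((Q.hd _ (inv_mem hf)).resolve_left (mt inv_mem_iff.1 h1)))
    ((Q.hd _ hg).resolve_left h2)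
  simpa [mul_assoc] using this

omit [Finite G] in
theorem nA {g : G} (hg : g ∈ normalizer (D.U : Set G)) : ∀ a ∈ Q.A, g⁻¹ * a * g ∈ Q.A := fun a ha => by
  by_contra k
  have h1 := (invU Q _ (cj' hg (Q.hU ha)) k).1
  rw [← cm, cj_eq_one] at h1
  obtain ⟨y, hy, e⟩ := Q.hs' _ F.z_V
  refine k (memA Q (cj' hg (Q.hU ha)) hy ?_ (e ▸ F.z1))
  have := comm_cj (D.cB _ (cj hg (Q.hU hy)) a (iB Q a ha h1)).symm g
  simpa [mul_assoc] using this

theorem nA' {g : G} (hg : g ∈ normalizer (D.U : Set G)) : g ∈ normalizer (Q.A : Set G) :=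
  Fr.norm_of (nA Q hg)

omit [Finite G] in
include Q in
theorem nB {g : G} (hg : g ∈ normalizer (D.U : Set G)) : ∀ b ∈ F.B, g⁻¹ * b * g ∈ F.B := fun b hb =>
  iB Q _ (nA Q hg b (Q.hB hb)) (sq_cj (F.el_E (F.B_E hb)) g)

omit [Finite G] in
include Q in
theorem nV {g : G} (hg : g ∈ normalizer (D.U : Set G)) : ∀ v ∈ F.V, g⁻¹ * v * g ∈ F.V := fun v hv => by
  obtain ⟨a, ha, rfl⟩ := Q.hs' v hv
  rw [cm]; exact Q.hs _ (nA Q hg a ha)

omit [Finite G] in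
/-- Elements of `A` with the same square differ by an element of `B`. -/
theorem sameB {a b : G} (ha : a ∈ Q.A) (hb : b ∈ Q.A) (h : a * a = b * b) : ∃ c ∈ F.B, b = a * c := by
  refine ⟨a⁻¹ * b, iB Q _ (mul_mem (inv_mem ha) hb) ?_, by group⟩
  rw [(cA Q _ (inv_mem ha) _ hb).symm.mul_mul_mul_comm, ← h]; group

theorem pi_A {r a : G} (hr : F.Rr r) (rU : r ∈ normalizer (D.U : Set G)) (ha : a ∈ Q.A) :
    pi r a = 1 ∨ pi r a = F.s := by
  have rA := nA' Q rU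
  refine F.fix_ρ hr (iB Q _ (pi_mem rA ha) ?_) (xf ?_).symm
  · rw [← pi_mul (cA Q) rA ha ha, pi_V hr (Q.hs a ha)]
  · rw [← pi_cj, pi, pi, c3' D.p2 D.EU D.cU hr rU (Q.hU ha),
      ← (cA Q _ ha _ (mul_mem (cj' rA ha) (cj' rA (cj' rA ha)))).eq, mul_assoc a]

/-- The choice of `y`. -/
theorem exists_y {r : G} (hr : F.Rr r) (rU : r ∈ normalizer (D.U : Set G)) :
    ∃ y ∈ Q.A, y * y = F.z ∧ Commute F.e y ∧ pi r y = 1 := by
  have rA := nA' Q rU
  have sA := Q.hB F.s_B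
  obtain ⟨y, hy, yy, py⟩ : ∃ y ∈ Q.A, y * y = F.z ∧ pi r y = 1 := by
    obtain ⟨y, hy, yy⟩ := Q.hs' _ F.z_V
    rcases pi_A Q hr rU hy with e | e
    · exact ⟨y, hy, yy, e⟩
    · exact ⟨y * F.s, mul_mem hy sA, by rw [(cA Q _ sA _ hy).mul_mul_mul_comm, yy, F.ss, mul_one],
        by rw [pi_mul (cA Q) rA hy sA, e, pi_fix hr.sρ F.ss, F.ss]⟩
  have eA := nA' Q D.eU
  obtain ⟨b, hb, e⟩ := sameB Q hy (cj' eA hy) (by rw [← cm, yy, fx F.ze])
  have eb : Commute F.e b := by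
    have := congrArg (fun x => F.e⁻¹ * x * F.e) e
    rw [← cc, F.ee, inv_one, one_mul, mul_one, cm, e, mul_assoc, left_eq_mul] at this
    exact (xf ((eq_inv_of_mul_eq_one_right this).trans
      (inv_eq_of_mul_eq_one_right (F.el_E (F.B_E hb))))).symm
  have pb : pi r b = 1 := by
    have : pi r (y * b) = 1 := by
      rw [← e, pi, ← c2' D.p2 D.EU D.cU hr rU D.eU (Q.hU hy), ← c2'' D.p2 D.EU D.cU hr rU D.eU (Q.hU hy),
        ← cm, ← cm, cj_eq_one, mul_assoc, ← (cA Q _ (cj' rA hy) _ (cj' rA (cj' rA hy))).eq, ← mul_assoc]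
      exact py
    rwa [pi_mul (cA Q) rA hy (Q.hB hb), py, one_mul] at this
  have zA := Q.hB (z_B F)
  have dA := Q.hB (d_B F)
  have hb' : b = 1 ∨ b = F.z := by
    rcases F.fix_e hb eb with k | k | k | k
    · exact Or.inl k
    · exact Or.inr k
    · rw [k, pi_fix hr.sρ F.ss] at pb; exact Or.inl (k.trans pb)
    · rw [k, pi_mul (cA Q) rA sA zA, pi_fix hr.sρ F.ss, pi_V hr F.z_V, mul_one] at pb
      exact Or.inr (by rw [k, pb, one_mul])
  rcases hb' with rfl | rfl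
  · exact ⟨y, hy, yy, (xf (by rw [e, mul_one])).symm, py⟩
  · refine ⟨y * F.d, mul_mem hy dA, by rw [(cA Q _ dA _ hy).mul_mul_mul_comm, yy, F.dd, mul_one],
      (xf ?_).symm, by rw [pi_mul (cA Q) rA hy dA, py, pi_V hr F.d_V, mul_one]⟩
    rw [cm, e, de, mul_assoc, ← mul_assoc F.z, F.zd.eq, mul_assoc F.d, F.zz, mul_one]

include Q in
/-- Lemma (K): `U ⟨e⟩` is not a Sylow 2-subgroup of `G`. -/
theorem lemK {S : Subgroup G} (hS : SylIn 2 S ⊤) (h : ∀ p ∈ S, p ∈ D.U ∨ p * F.e ∈ D.U) : False := by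
  haveI := Fact.mk Nat.prime_two
  obtain ⟨g, -, le⟩ := hS.exists_conj_le F.p2_T le_top
  have m : ∀ x ∈ F.T, g⁻¹⁻¹ * x * g⁻¹ ∈ S := fun x hx => le (by simpa using conj_mem_cj (g := g) hx)
  have tS := m _ (F.T0_T (F.E_T0 F.t_E))
  have cS := m _ F.c_T
  generalize g⁻¹ = k at tS cS
  have u4 : ∀ u ∈ D.U, u ^ 4 = 1 := fun u hu => by
    have := F.el_E (F.B_E (sqB D hu))
    rw [← this]; simp [pow_succ, mul_assoc]
  have pw : ∀ x : G, (k⁻¹ * x * k) ^ 4 = k⁻¹ * x ^ 4 * k := fun x => by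
    simp [pow_succ, mul_assoc]
  have cU := (h _ cS).resolve_left fun hu => F.c4 (by simpa [pw, cj_eq_one] using u4 _ hu)
  have tU : k⁻¹ * F.t * k ∈ D.U := (h _ tS).resolve_right fun hu => F.c4 (by
    have := u4 _ (mul_mem hu (cj' D.eU cU))
    rw [show k⁻¹ * F.t * k * F.e * (F.e⁻¹ * (k⁻¹ * F.c * k * F.e) * F.e) =
      k⁻¹ * (F.t * F.c) * k * (F.e * F.e) by group, F.ee, mul_one, pw, cj_eq_one, F.tc.mul_pow,
      show F.t ^ 4 = F.t * F.t * (F.t * F.t) by simp [pow_succ, mul_assoc], F.tt] at this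
    simpa using this)
  have c2 : k⁻¹ * (F.c * F.c) * k ∈ Q.A := by
    have e : k⁻¹ * (F.c * F.c) * k = k⁻¹ * F.c * k * F.e * (F.e⁻¹ * (k⁻¹ * F.c * k * F.e) * F.e) := by
      rw [show k⁻¹ * F.c * k * F.e * (F.e⁻¹ * (k⁻¹ * F.c * k * F.e) * F.e) =
        k⁻¹ * (F.c * F.c) * k * (F.e * F.e) by group, F.ee, mul_one]
    rw [e]
    by_cases hA : k⁻¹ * F.c * k * F.e ∈ Q.A
    · exact mul_mem hA (nA Q D.eU _ hA)
    · refine mulA Q cU (cj' D.eU cU) hA fun k' => hA ?_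
      simpa [mul_assoc] using nA Q (inv_mem D.eU) _ k'
  refine D.nB _ (iB Q _ (memA Q tU c2 (comm_cj (F.tc.mul_right F.tc).symm k) ?_) (sq_cj F.tt k)) (icj k _)
  rw [← cm, Ne, cj_eq_one]
  exact fun e => F.c4 (by rw [← e]; simp [pow_succ, mul_assoc])

end CL.H3.Ncx
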