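import Cfsg.Agent.INV.H3.Nc0

/-! S3140: `Fo.nc1` with `Fo.syl` as a hypothesis. `x ^ g = g⁻¹ * x * g`. -/

set_option autoImplicit false
set_option linter.style.haveILetI false
set_option linter.unusedSectionVars false
open Subgroup CL.MSS CL.HL CL.HL.Od CL.HL.Ob CL.HL.Iv CL.HL.Ks

namespace CL.H3.Ncx
universe u
variable {G : Type u} [Group G] [Finite G] {F : Fr G}

/-- The statement of `Fo.syl`. -/
def SylH (D : K4 F) : Prop := ∀ P : Subgroup G, SylIn 2 P (normalizer (F.B : Set G)) → D.U ≤ P →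
  F.e ∈ P → SylIn 2 P ⊤ ∧ P ≤ normalizer (F.V : Set G) ∧
    (∀ p ∈ P, Commute F.z p) ∧ (F.s ≠ 1 → P ⊓ centralizer (F.B : Set G) = D.U)

variable {D : K4 F}

theorem exists_S (H : SylH D) {R : Subgroup G} (pR : IsPGroup 2 R) (UR : D.U ≤ R)
    (RB : R ≤ normalizer (F.B : Set G)) (eR : F.e ∈ normalizer (R : Set G)) :
    ∃ S : Subgroup G, SylIn 2 S ⊤ ∧ R ≤ S ∧ F.e ∈ S ∧ S ≤ normalizer (F.B : Set G) ∧
      (∀ p ∈ S, (∀ v ∈ F.V, Commute v p) ∨ ∀ v ∈ F.V, Commute v (p * F.e)) ∧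
      (F.s ≠ 1 → S ⊓ centralizer (F.B : Set G) = D.U) := by
  haveI := Fact.mk Nat.prime_two
  have pe : IsPGroup 2 (zpowers F.e) := isPGroup_zpowers (k := 1) (by rw [pow_one, sq, F.ee])
  obtain ⟨P, hP, le⟩ := exists_sylIn_ge (H := normalizer (F.B : Set G))
    (isPGroup_sup_of_normalizes' pR pe (zpowers_le.2 eR))
    (sup_le RB (zpowers_le.2 (nm_of (stB' F F.e_nE F.te))))
  have eP : F.e ∈ P := le (mem_sup_right (mem_zpowers _))
  obtain ⟨h1, h2, h3, h4⟩ := H P hP (UR.trans (le_sup_left.trans le)) eP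
  refine ⟨P, h1, le_sup_left.trans le, eP, hP.le, fun p hp => ?_, h4⟩
  rcases F.mem_V.1 (cj' (h2 hp) F.d_V) with e | e | e | e
  · exact absurd (cj_eq_one.1 e) F.d1
  · exact absurd (inj (e.trans (fx (h3 p hp)).symm)) F.d_ne_z
  · exact Or.inl (cV_of F (h3 p hp) (xf e))
  · exact Or.inr (cV_of F ((h3 p hp).mul_right F.ze) (xf (by rw [cc, e, dze])))

theorem card_mod3 {N : Subgroup G} {r : G} (rN : r ∈ normalizer (N : Set G))
    (h3 : ∀ n ∈ N, r⁻¹ * (r⁻¹ * (r⁻¹ * n * r) * r) * r = n) (hf : ∀ n ∈ N, Commute r n → n = 1) :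
    Nat.card N % 3 = 1 := by
  classical
  haveI := Fact.mk Nat.prime_three
  haveI : Fintype N := Fintype.ofFinite _
  let f : Function.End N := fun u => ⟨r⁻¹ * u * r, cj' rN u.2⟩
  have h : f ^ 3 ^ 1 = 1 := by
    funext u
    exact Subtype.ext (h3 u u.2)
  have h1 := Equiv.Perm.card_fixedPoints_modEq h
  have h2 : Fintype.card f.fixedPoints = 1 := Fintype.card_eq_one_iff.2
    ⟨⟨1, Subtype.ext (by simp [f])⟩, fun ⟨u, hu⟩ => Subtype.ext (Subtype.ext
      (hf u u.2 (xf (congrArg Subtype.val hu)).symm))⟩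
  rw [h2, ← Nat.card_eq_fintype_card] at h1
  exact h1

/-- The relations of `y` and `x = y ^ r`. -/
theorem yx_rel (Q : Fo D) {r y : G} (hr : F.Rr r) (rU : r ∈ normalizer (D.U : Set G)) (hy : y ∈ Q.A)
    (yy : y * y = F.z) (py : pi r y = 1) :
    r⁻¹ * y * r * (r⁻¹ * y * r) = F.d ∧ r⁻¹ * (r⁻¹ * y * r) * r = y⁻¹ * (r⁻¹ * y * r)⁻¹ :=
  ⟨by rw [← cm, yy, hr.zρ], by
    rw [← mul_inv_rev, ← (cA Q _ hy _ (nA Q rU y hy)).eq]; exact eq_inv_of_mul_eq_one_right py⟩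

theorem nc1 (Q : Fo D) (H : SylH D) (h1 : F.s = 1) : Nonempty (Nc F) := by
  haveI := Fact.mk Nat.prime_two
  obtain ⟨r, W, hr, pW, UW, cW, eW, rW, mx⟩ := D.invSyl
  have EW : F.E ≤ W := D.EU.trans UW
  have hc : ∀ y ∈ W, Commute F.t y → y ∈ F.E := fun y hy ht =>
    F.memE pW EW hy ht (cW y hy _ (z_B F)) (cW y hy _ (d_B F))
  obtain ⟨S, hS, WS, eS, -, dec, -⟩ := exists_S H pW UW (fun w hw => norm_of_comm (cW w hw)) eW
  have CW : S ⊓ centralizer (F.B : Set G) = W :=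
    mx _ hS.pgroup.to_inf_left (le_inf WS fun w hw => cW w hw) fun y hy => hy.2
  have dec' : ∀ p ∈ S, p ∈ W ∨ p * F.e ∈ W := fun p hp => by
    rw [← CW, F.B_eq h1]
    exact (dec p hp).imp (fun h => ⟨hp, h⟩) fun h => ⟨mul_mem hp eS, h⟩
  have rU : r ∈ normalizer (D.U : Set G) := Fr.norm_of fun u hu => by
    have k := cj' rW (UW hu)
    refine (D.syl (S ⊓ normalizer (F.E : Set G)) hS.pgroup.to_inf_left inf_le_right
      (le_inf (UW.trans WS) D.UN) ⟨eS, F.e_nE⟩ _ ⟨WS k, Subgroup.mul_mem _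
        (Subgroup.mul_mem _ (Subgroup.inv_mem _ hr.nE) (D.UN hu)) hr.nE⟩).resolve_right
      fun k' => F.not_de ?_
    have := (cW _ k _ (d_B F)).inv_right.mul_right (D.cB _ k' _ (d_B F))
    rwa [inv_mul_cancel_left] at this
  have c3 : ∀ w ∈ W, r⁻¹ * (r⁻¹ * (r⁻¹ * w * r) * r) * r = w := fun w hw => c3' pW EW hc hr rW hw
  let φ : MulAut W := W.normalizerMonoidHom ⟨r⁻¹, inv_mem rW⟩
  have hφ : ∀ w : W, (φ w : G) = r⁻¹ * w * r := fun w => by
    change r⁻¹ * w * r⁻¹⁻¹ = _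
    rw [inv_inv]
  have fix : ∀ w ∈ W, Commute r w → w = 1 ∨ w = F.t := fun w hw h => by
    rcases D.fix_rho hr pW EW cW hw h with e | e | e | e
    exacts [Or.inl e, Or.inr e, Or.inl (e.trans h1), Or.inr (by rw [e, h1, mul_one])]
  have cE : Nat.card F.E = 8 := by rw [F.card_E, F.B_eq h1, F.card_V]
  obtain ⟨N0, i0, t0, r0⟩ := exists_half pW φ
    (by ext w; rw [pow_three, MulAut.mul_apply, MulAut.mul_apply, hφ, hφ, hφ, c3 w w.2]; rfl)
    ⟨F.t, EW F.t_E⟩ (fun e => F.t_nB (by rw [show F.t = 1 from congrArg Subtype.val e]; exact one_mem _))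
    (fun w => ⟨fun h => (fix w w.2 (xf ((hφ w).symm.trans (congrArg Subtype.val h))).symm).imp
        Subtype.ext Subtype.ext,
      by rintro (rfl | rfl); exacts [map_one _, Subtype.ext ((hφ _).trans (fx hr.tρ))]⟩)
    (fun w h => Subtype.ext (F.el_E (hc w w.2 (congrArg Subtype.val h.eq))))
    (by
      rw [← cE]
      exact Nat.card_le_card_of_injective (fun w => (⟨w.1.1, hc _ w.1.2
        (congrArg Subtype.val (mem_centralizer_singleton_iff.1 w.2)).symm⟩ : F.E))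
        fun a b e => Subtype.ext (Subtype.ext (congrArg (fun k : F.E => (k : G)) e)))
  set N := N0.map W.subtype with hN
  have mN : ∀ {w} (hw : w ∈ W), w ∈ N ↔ (⟨w, hw⟩ : W) ∈ N0 := fun hw =>
    ⟨fun ⟨a, ha, e⟩ => by rwa [show (⟨_, hw⟩ : W) = a from Subtype.ext e.symm], fun h => ⟨_, h, rfl⟩⟩
  have NW : N ≤ W := map_subtype_le _
  have mul : ∀ a ∈ W, ∀ b ∈ W, a * b ∈ N ↔ (a ∈ N ↔ b ∈ N) := fun a ha b hb => by
    rw [mN ha, mN hb, mN (mul_mem ha hb)]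
    exact mul_mem_iff_of_index_two i0 (a := ⟨a, ha⟩) (b := ⟨b, hb⟩)
  have tN : F.t ∉ N := fun h => t0 ((mN _).1 h)
  have rN : r ∈ normalizer (N : Set G) := Fr.norm_of fun n hn =>
    (mN (cj' rW (NW hn))).2 (by
      have := r0 _ ((mN (NW hn)).1 hn)
      rwa [show φ ⟨n, NW hn⟩ = ⟨_, cj' rW (NW hn)⟩ from Subtype.ext (hφ _)] at this)
  have ri : ∀ w, r⁻¹ * w * r ∈ N ↔ w ∈ N := fun w =>
    ⟨fun h => by simpa [mul_assoc] using cj rN h, cj' rN⟩
  have fp : ∀ n ∈ N, Commute r n → n = 1 := fun n hn h =>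
    (fix n (NW hn) h).resolve_right fun e => tN (e ▸ hn)
  have eN : F.e ∈ normalizer (N : Set G) := Fr.norm_of fun n hn => by
    obtain ⟨m, hm⟩ := Fp.surj (ρ := N.normalizerMonoidHom ⟨r⁻¹, inv_mem rN⟩)
      (fun x hx => Subtype.ext (fp x x.2 (xf (by simpa using congrArg Subtype.val hx)).symm)) ⟨n, hn⟩
    have e : (m : G)⁻¹ * (r⁻¹ * m * r) = n := by simpa using congrArg Subtype.val hm
    have k := cj' eW (NW m.2)
    rw [← e, cm, c2' pW EW hc hr rW eW (NW m.2), mul _ (cj' eW (inv_mem (NW m.2))) _ (cj' rW (cj' rW k)),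
      ri, ri, ← inv_mem_iff (x := F.e⁻¹ * m * F.e)]
    simp [mul_assoc]
  have piN : ∀ w ∈ W, pi r w = 1 → w ∈ N := fun w hw h => by
    have : pi r w ∈ N := h ▸ one_mem _
    rw [pi, mul _ (mul_mem hw (cj' rW hw)) _ (cj' rW (cj' rW hw)), mul _ hw _ (cj' rW hw), ri, ri, ri] at this
    exact this.1 Iff.rfl
  obtain ⟨y, hy, yy, ey, py⟩ := exists_y Q hr rU
  obtain ⟨xx, rx⟩ := yx_rel Q hr rU hy yy py
  have hx := nA Q rU y hy
  have yN := piN y (UW (Q.hU hy)) py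
  have VN : F.V ≤ N := fun v hv => piN v (EW (F.B_E (F.V_B hv))) (pi_V hr hv)
  have cN : Nat.card N = 64 := by
    have a1 : 2 * Nat.card N = Nat.card W := by
      rw [← N0.index_mul_card, i0, hN, card_map_of_injective W.subtype_injective]
    have a2 : Nat.card W ≤ 128 := by
      obtain ⟨W', pW', -, cW', -, mx', w1, -⟩ := D.cenB
      exact (SylIn.card_le (H := centralizer (F.B : Set G)) ⟨fun w hw => cW' w hw, pW', fun Y a b c =>
        mx' Y a b fun y hy => c hy⟩ pW fun w hw => cW w hw).trans w1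
    have a3 := two_le (lt_of_le_of_ne UW fun e => lemK Q hS (e ▸ dec'))
    rw [cardU D, F.B_eq h1, F.card_V] at a3
    have a4 := card_mod3 rN (fun n hn => c3 n (NW hn)) fp
    obtain ⟨k, hk⟩ := (pW.to_le NW).exists_card_eq
    rw [hk] at a1 a4 ⊢
    have : k ≤ 6 := (Nat.pow_le_pow_iff_right one_lt_two).1 (by omega)
    interval_cases k <;> omega
  have cO : ∀ o ∈ F.O, o ∈ normalizer (W : Set G) → ∀ n ∈ N, Commute o n := fun o ho hn n k =>
    F.odd_cent pW EW hc ho hn n (NW k)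
  have tW := EW F.t_E
  refine ⟨⟨r, N, y, r⁻¹ * y * r, hr, pW.to_le NW, cN, yN, cj' rN yN, yy, xx, cA Q _ hy _ hx, Q.hi _ hy,
    Q.hi _ hx, ey, rfl, rx, h1 ▸ Commute.one_left _, h1 ▸ Commute.one_left _,
    Fr.norm_of fun n hn => ?_, eN, rN, cO _ hr.cube (pow_mem rW 3), cO _ hr.sq (pow_mem (mul_mem eW rW) 2),
    fp, fun n hn => ⟨cW n (NW hn) _ (z_B F), cW n (NW hn) _ (d_B F)⟩, fun n hn h => ?_,
    fun h => absurd h1 h, ?_, D.nB, nts D⟩⟩
  · rw [mul _ (mul_mem (inv_mem tW) (NW hn)) _ tW, mul _ (inv_mem tW) _ (NW hn), inv_mem_iff]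
    tauto
  · obtain ⟨b, hb, rfl | rfl⟩ := F.mem_E.1 (hc n (NW hn) h) <;> rw [F.B_eq h1] at hb
    exacts [hb, absurd ((N.mul_mem_cancel_right (VN hb)).1 hn) tN]
  · have e : S = N ⊔ closure {F.t, F.e, F.s} := by
      have m1 : F.t ∈ N ⊔ closure {F.t, F.e, F.s} := mem_sup_right (subset_closure (by simp))
      have m2 : F.e ∈ N ⊔ closure {F.t, F.e, F.s} := mem_sup_right (subset_closure (by simp))
      have m3 : ∀ w ∈ W, w ∈ N ⊔ closure {F.t, F.e, F.s} := fun w hw => by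
        by_cases k : w ∈ N
        · exact mem_sup_left k
        · exact (Subgroup.mul_mem_cancel_right _ m1).1
            (mem_sup_left ((mul _ hw _ tW).2 (iff_of_false k tN)))
      refine le_antisymm (fun p hp => (dec' p hp).elim (m3 p) fun k =>
        (Subgroup.mul_mem_cancel_right _ m2).1 (m3 _ k)) (sup_le (NW.trans WS) ((closure_le _).2 ?_))
      rintro _ (rfl | rfl | rfl)
      exacts [WS tW, eS, WS (EW (F.B_E F.s_B))]
    exact e ▸ hS

end CL.H3.Ncx
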